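import Mathlib
import Cfsg.Agent.Lib.Helper83.GSDefs

/-! K-GS pack (S4840), leaf B2 `card_eq` (orbit–stabiliser). -/

set_option autoImplicit false

namespace Cfsg.Agent.Lib.Helper50.GS

universe u

variable {Γ V : Type u} [Group Γ] [Finite Γ] [CommGroup V] [Finite V]

/-- B2: orbit–stabiliser: `|Γ| = (|V| - 1) p^a`. -/
theorem card_eq (p : ℕ) [Fact p.Prime] [Nontrivial V]
    (ρ : Γ →* MulAut V)
    (htrans : ∀ v w : V, v ≠ 1 → w ≠ 1 → ∃ g : Γ, ρ g v = w)
    (hstab : ∀ (g : Γ) (v : V), v ≠ 1 → ρ g v = v → ∃ k : ℕ, g ^ (p ^ k) = 1) :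
    ∃ a : ℕ, Nat.card Γ = (Nat.card V - 1) * p ^ a := by
  classical
  obtain ⟨v₀, hv₀⟩ := exists_ne (1 : V)
  let S : Subgroup Γ :=
    { carrier := {g | ρ g v₀ = v₀}
      mul_mem' := by
        intro a b ha hb
        change ρ a v₀ = v₀ at ha; change ρ b v₀ = v₀ at hb; change ρ (a * b) v₀ = v₀
        rw [map_mul, MulAut.mul_apply, hb, ha]
      one_mem' := by simp
      inv_mem' := by
        intro a ha
        change ρ a v₀ = v₀ at ha; change ρ a⁻¹ v₀ = v₀
        rw [map_inv]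
        conv_lhs => rw [← ha]
        exact MulAut.inv_apply_self _ _ _ }
  have hSmem : ∀ g : Γ, g ∈ S ↔ ρ g v₀ = v₀ := fun g => Iff.rfl
  have hSp : IsPGroup p S := by
    intro g
    obtain ⟨k, hk⟩ := hstab g.1 v₀ hv₀ ((hSmem g.1).mp g.2)
    exact ⟨k, Subtype.ext (by simpa using hk)⟩
  obtain ⟨a, ha⟩ := IsPGroup.iff_card.mp hSp
  refine ⟨a, ?_⟩
  have h1 : Nat.card Γ = Nat.card (Γ ⧸ S) * Nat.card S :=
    Subgroup.card_eq_card_quotient_mul_card_subgroup S
  have hne : ∀ g : Γ, ρ g v₀ ≠ 1 := by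
    intro g h
    exact hv₀ ((EmbeddingLike.map_eq_one_iff (f := ρ g)).mp h)
  have h2 : Nat.card (Γ ⧸ S) = Nat.card {w : V // w ≠ 1} := by
    apply Nat.card_congr
    refine Equiv.ofBijective (fun q => Quotient.liftOn' q
      (fun g => (⟨ρ g v₀, hne g⟩ : {w : V // w ≠ 1})) ?_) ⟨?_, ?_⟩
    · intro g h hgh
      rw [QuotientGroup.leftRel_apply] at hgh
      have h3 : ρ (g⁻¹ * h) v₀ = v₀ := (hSmem _).mp hgh
      apply Subtype.ext
      show ρ g v₀ = ρ h v₀
      rw [map_mul, MulAut.mul_apply, map_inv] at h3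
      have h4 := congrArg (ρ g) h3
      rw [MulAut.apply_inv_self] at h4
      exact h4.symm
    · intro q₁ q₂
      induction q₁ using Quotient.inductionOn' with
      | h g =>
        induction q₂ using Quotient.inductionOn' with
        | h h' =>
          intro heq
          apply Quotient.sound'
          rw [QuotientGroup.leftRel_apply, hSmem]
          have h5 : ρ g v₀ = ρ h' v₀ := congrArg Subtype.val heq
          rw [map_mul, MulAut.mul_apply, map_inv, ← h5]
          exact MulAut.inv_apply_self _ _ _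
    · rintro ⟨w, hw⟩
      obtain ⟨g, hg⟩ := htrans v₀ w hv₀ hw
      exact ⟨Quotient.mk'' g, Subtype.ext hg⟩
  have h3 : Nat.card {w : V // w ≠ 1} = Nat.card V - 1 := by
    have : Fintype V := Fintype.ofFinite V
    rw [Nat.card_eq_fintype_card, Nat.card_eq_fintype_card]
    exact Set.card_ne_eq (1 : V)
  rw [h1, h2, h3, ha]

end Cfsg.Agent.Lib.Helper50.GS
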