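import Mathlib

/-!
# S4463 pack K-IP, case A, leaf 446324 IPA-BETW: a subgroup of index `r` between `K` and `N`
-/

set_option autoImplicit false

namespace Cfsg.Agent.Lib.Helper50.IPA

universe u

/-- 446324 IPA-BETW -/
theorem exists_between_index {G : Type u} [Group G] [Finite G] (K N : Subgroup G) [K.Normal] (hKN : K ≤ N)
    {r : ℕ} (hr : r.Prime) (hidx : ∃ a : ℕ, 0 < a ∧ K.relIndex N = r ^ a) :
    ∃ H : Subgroup G, K ≤ H ∧ H ≤ N ∧ H.relIndex N = r := by
  obtain ⟨a, ha, hKa⟩ := hidx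
  have : Fact r.Prime := ⟨hr⟩
  have hnorm : (K.subgroupOf N).Normal := inferInstance
  have hcardQ : Nat.card (↥N ⧸ K.subgroupOf N) = r ^ a := by
    rw [← Subgroup.index_eq_card]
    exact hKa
  obtain ⟨M, hM⟩ := Sylow.exists_subgroup_card_pow_prime r (n := a - 1)
    (G := ↥N ⧸ K.subgroupOf N) (by
      rw [hcardQ]
      exact pow_dvd_pow r (Nat.sub_le a 1))
  have hMidx : M.index = r := by
    have h1 := M.index_mul_card
    rw [hM, hcardQ] at h1
    have h2 : r ^ a = r * r ^ (a - 1) := by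
      rw [← pow_succ']
      congr 1
      omega
    rw [h2] at h1
    exact Nat.eq_of_mul_eq_mul_right (pow_pos hr.pos _) h1
  let H' : Subgroup ↥N := M.comap (QuotientGroup.mk' (K.subgroupOf N))
  have hH'idx : H'.index = r := by
    rw [Subgroup.index_comap_of_surjective M (QuotientGroup.mk'_surjective _)]
    exact hMidx
  refine ⟨H'.map N.subtype, ?_, Subgroup.map_subtype_le H', ?_⟩
  · intro k hk
    refine ⟨⟨k, hKN hk⟩, ?_, rfl⟩
    show QuotientGroup.mk' (K.subgroupOf N) ⟨k, hKN hk⟩ ∈ M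
    have h1 : QuotientGroup.mk' (K.subgroupOf N) ⟨k, hKN hk⟩ = 1 := by
      rw [QuotientGroup.mk'_apply, QuotientGroup.eq_one_iff]
      exact hk
    rw [h1]
    exact M.one_mem
  · unfold Subgroup.relIndex Subgroup.subgroupOf
    rw [Subgroup.comap_map_eq_self_of_injective N.subtype_injective]
    exact hH'idx

end Cfsg.Agent.Lib.Helper50.IPA
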