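import Cfsg.Agent.Lib.Helper50.OmegaTransitive

set_option autoImplicit false

/-! Elements of the stabiliser of a subspace covering `O / Ω`, and the resulting transitivity of
`Ω`. -/

namespace Cfsg.Agent.Lib.Helper50

open Matrix QuadraticMap Module Cfsg.Agent.Lib.Helper19

variable {F : Type*} [Field F] {ι : Type} [Fintype ι] [DecidableEq ι]

theorem omap_eq_of_le (Q : (ι → F) → F) (s : ↥(Cfsg.isometryGroup F Q)) (U : Submodule F (ι → F))
    (hle : omap Q s U ≤ U) : omap Q s U = U := by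
  have hinj : Function.Injective (Matrix.mulVecLin ((s : GL ι F) : Matrix ι ι F)) := by
    have : Function.Injective ((s : GL ι F) : Matrix ι ι F).mulVec :=
      Matrix.mulVec_injective_iff_isUnit.mpr (s : GL ι F).isUnit
    exact this
  apply Submodule.eq_of_le_of_finrank_eq hle
  exact (LinearEquiv.finrank_eq (Submodule.equivMapOfInjective _ hinj U)).symm

theorem reflO_mulVec (Q : QuadraticForm F (ι → F)) (v : ι → F) (hv : Q v ≠ 0) (x : ι → F) :
    (((reflO Q v : ↥(Cfsg.isometryGroup F (⇑Q))) : GL ι F) : Matrix ι ι F) *ᵥ x =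
      x - ((Q v)⁻¹ * polar (⇑Q) v x) • v := by
  rw [reflO_val Q v hv, reflectionMatrix_mulVec]

/-- a reflection in a vector orthogonal to `U` fixes `U` -/
theorem omap_reflO_of_perp (Q : QuadraticForm F (ι → F)) (U : Submodule F (ι → F)) (v : ι → F)
    (hv : Q v ≠ 0) (hperp : ∀ u ∈ U, polar (⇑Q) v u = 0) : omap (⇑Q) (reflO Q v) U = U := by
  apply omap_eq_of_le
  rintro w ⟨u, hu, rfl⟩
  rw [Matrix.mulVecLin_apply, reflO_mulVec Q v hv, hperp u hu, mul_zero, zero_smul, sub_zero]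
  exact hu

/-- a reflection in a vector of `U` stabilises `U` -/
theorem omap_reflO_of_mem (Q : QuadraticForm F (ι → F)) (U : Submodule F (ι → F)) (v : ι → F)
    (hv : Q v ≠ 0) (hvU : v ∈ U) : omap (⇑Q) (reflO Q v) U = U := by
  apply omap_eq_of_le
  rintro w ⟨u, hu, rfl⟩
  rw [Matrix.mulVecLin_apply, reflO_mulVec Q v hv]
  exact U.sub_mem hu (U.smul_mem _ hvU)

/-- the orthogonal complement of a small totally singular subspace contains a non-singular
vector -/
theorem exists_nonsingular_perp (Q : QuadraticForm F (ι → F))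
    (hQ : (QuadraticMap.polarBilin Q).Nondegenerate) (U : Submodule F (ι → F))
    (hU0 : ∀ u ∈ U, Q u = 0) (hk : 2 * finrank F U < Fintype.card ι) :
    ∃ v : ι → F, Q v ≠ 0 ∧ ∀ u ∈ U, polar (⇑Q) v u = 0 := by
  by_contra hcon
  push Not at hcon
  set X := LinearMap.BilinForm.orthogonal (polarBilin Q) U with hX
  have hXmem : ∀ v, v ∈ X ↔ ∀ u ∈ U, polar (⇑Q) v u = 0 := by
    intro v
    rw [hX, LinearMap.BilinForm.mem_orthogonal_iff]
    constructor
    · intro h u hu
      rw [polar_comm]; exact h u hu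
    · intro h u hu
      change polar (⇑Q) u v = 0
      rw [polar_comm]; exact h u hu
  have hXsing : ∀ v ∈ X, Q v = 0 := by
    intro v hv
    by_contra h
    obtain ⟨u, hu, hne⟩ := hcon v h
    exact hne ((hXmem v).mp hv u hu)
  have hXX : X ≤ LinearMap.BilinForm.orthogonal (polarBilin Q) X := by
    intro v hv
    rw [LinearMap.BilinForm.mem_orthogonal_iff]
    intro w hw
    change polar (⇑Q) w v = 0
    unfold polar
    rw [hXsing _ (X.add_mem hw hv), hXsing w hw, hXsing v hv]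
    simp
  have h1 := Submodule.finrank_mono hXX
  have h2 := LinearMap.BilinForm.finrank_orthogonal hQ X
  have h3 := LinearMap.BilinForm.finrank_orthogonal hQ U
  rw [Module.finrank_fintype_fun_eq_card] at h2 h3
  rw [← hX] at h3
  have h4 : finrank F U ≤ Fintype.card ι := by
    have := Submodule.finrank_le U
    rwa [Module.finrank_fintype_fun_eq_card] at this
  omega

/-- the hyperbolic rotation `r_{e-f} r_{e-cf}` moves a vector orthogonal to `e` along `e` -/
theorem hyp_rotation_apply (Q : QuadraticForm F (ι → F)) (e f : ι → F) (he : Q e = 0)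
    (hf : Q f = 0) (hef : polar (⇑Q) e f = 1) (c : F) (hc : c ≠ 0) (u : ι → F)
    (hu : polar (⇑Q) e u = 0) :
    (((reflO Q (e - f) * reflO Q (e - c • f) : ↥(Cfsg.isometryGroup F (⇑Q))) : GL ι F) :
      Matrix ι ι F) *ᵥ u = u + ((c - 1) * polar (⇑Q) f u) • e := by
  have hfe : polar (⇑Q) f e = 1 := by rw [polar_comm]; exact hef
  have hee : polar (⇑Q) e e = 0 := by rw [polar_self, he]; simp
  have hff : polar (⇑Q) f f = 0 := by rw [polar_self, hf]; simp
  have hQ1 : Q (e - f) = -1 := by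
    have h := QuadraticMap.map_add (⇑Q) e (-f)
    rw [← sub_eq_add_neg] at h
    rw [h, he, QuadraticMap.map_neg, hf, polar_neg_right, hef]; ring
  have hQc : Q (e - c • f) = -c := by
    have h := QuadraticMap.map_add (⇑Q) e (-(c • f))
    rw [← sub_eq_add_neg] at h
    rw [h, he, QuadraticMap.map_neg, QuadraticMap.map_smul, hf, polar_neg_right, polar_smul_right,
      hef]
    simp
  have hQ1' : Q (e - f) ≠ 0 := by rw [hQ1]; simp
  have hQc' : Q (e - c • f) ≠ 0 := by rw [hQc]; exact neg_ne_zero.mpr hc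
  rw [Subgroup.coe_mul, Units.val_mul, ← Matrix.mulVec_mulVec, reflO_mulVec Q _ hQc',
    reflO_mulVec Q _ hQ1', hQ1, hQc]
  set t := polar (⇑Q) f u with ht
  have p1 : polar (⇑Q) (e - c • f) u = -(c * t) := by
    rw [polar_sub_left, polar_smul_left, hu, smul_eq_mul]; ring
  rw [p1]
  have p2 : polar (⇑Q) (e - f) (u - ((-c)⁻¹ * -(c * t)) • (e - c • f)) = c * t := by
    have hcc : (-c)⁻¹ * -(c * t) = t := by field_simp
    rw [hcc, polar_sub_right, polar_smul_right, polar_sub_left, polar_sub_left, polar_sub_right,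
      polar_sub_right, polar_smul_right, polar_smul_right, hu, hee, hef, hfe, hff, ← ht]
    simp only [smul_eq_mul]
    ring
  rw [p2]
  have hcc : (-c)⁻¹ * -(c * t) = t := by field_simp
  rw [hcc]
  have : ((-1 : F))⁻¹ * (c * t) = -(c * t) := by
    rw [inv_neg, inv_one]; ring
  rw [this]
  module

section finite

variable [Fintype F]

/-- general principle: if the stabiliser of `U` covers `O / Ω`, then `Ω` moves `U` wherever the
full isometry group does -/
theorem exists_Omega_map (Q : QuadraticForm F (ι → F))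
    (hQ : (QuadraticMap.polarBilin Q).Nondegenerate)
    (h24 : Fintype.card F ≠ 2 ∨ Fintype.card ι ≠ 4) (U W : Submodule F (ι → F))
    (σ : ↥(Cfsg.isometryGroup F (⇑Q))) (hσ : omap (⇑Q) σ U = W)
    (hstab2 : (2 : F) = 0 → ∃ v : ι → F, Q v ≠ 0 ∧ omap (⇑Q) (reflO Q v) U = U)
    (hstabodd : (2 : F) ≠ 0 → ∀ ζ : F, ¬ IsSquare ζ →
      ∃ d₁ d₂ : ↥(Cfsg.isometryGroup F (⇑Q)), detHom (⇑Q) d₁ = -1 ∧ detHom (⇑Q) d₂ = 1 ∧
        theta (⇑Q) ζ d₂ = -1 ∧ omap (⇑Q) d₁ U = U ∧ omap (⇑Q) d₂ U = U) :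
    ∃ g : ↥(Cfsg.isometryGroup F (⇑Q)), g ∈ Cfsg.Omega F (⇑Q) ∧ omap (⇑Q) g U = W := by
  by_cases h2 : (2 : F) = 0
  · have hc : CharP F 2 := CharTwo.of_one_ne_zero_of_two_eq_zero one_ne_zero h2
    obtain ⟨v, hv, hvU⟩ := hstab2 h2
    rcases mem_or_mul_reflO_mem Q hQ h24 σ v hv with h | h
    · exact ⟨σ, h, hσ⟩
    · exact ⟨σ * reflO Q v, h, by rw [omap_mul, hvU, hσ]⟩
  · obtain ⟨ζ, hζ⟩ := exists_nonsquare_of_two_ne_zero h2
    obtain ⟨d₁, d₂, h1, h2', h3, h4, h5⟩ := hstabodd h2 ζ hζ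
    rcases exists_adjust_odd h2 Q hQ ζ hζ σ d₁ d₂ h1 h2' h3 with h | h | h | h
    · exact ⟨σ, h, hσ⟩
    · exact ⟨σ * d₂, h, by rw [omap_mul, h5, hσ]⟩
    · exact ⟨σ * d₁, h, by rw [omap_mul, h4, hσ]⟩
    · exact ⟨σ * d₁ * d₂, h, by rw [omap_mul, omap_mul, h5, h4, hσ]⟩

/-- determinant and spinor norm of the hyperbolic rotation -/
theorem hyp_rotation_char (h2 : (2 : F) ≠ 0) (Q : QuadraticForm F (ι → F)) (e f : ι → F)
    (he : Q e = 0) (hf : Q f = 0) (hef : polar (⇑Q) e f = 1) (ζ : F) (hζ : ¬ IsSquare ζ) :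
    detHom (⇑Q) (reflO Q (e - f) * reflO Q (e - ζ • f)) = 1 ∧
      theta (⇑Q) ζ (reflO Q (e - f) * reflO Q (e - ζ • f)) = -1 := by
  have hζ0 : ζ ≠ 0 := fun h => hζ (h ▸ ⟨0, by ring⟩)
  have hQ1 : Q (e - f) = -1 := by
    have h := QuadraticMap.map_add (⇑Q) e (-f)
    rw [← sub_eq_add_neg] at h
    rw [h, he, QuadraticMap.map_neg, hf, polar_neg_right, hef]; ring
  have hQc : Q (e - ζ • f) = -ζ := by
    have h := QuadraticMap.map_add (⇑Q) e (-(ζ • f))
    rw [← sub_eq_add_neg] at h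
    rw [h, he, QuadraticMap.map_neg, QuadraticMap.map_smul, hf, polar_neg_right, polar_smul_right,
      hef]
    simp
  have hQ1' : Q (e - f) ≠ 0 := by rw [hQ1]; simp
  have hQc' : Q (e - ζ • f) ≠ 0 := by rw [hQc]; exact neg_ne_zero.mpr hζ0
  constructor
  · rw [map_mul, detHom_reflO Q _ hQ1', detHom_reflO Q _ hQc']; simp
  · have hl : ∀ v ∈ [e - f, e - ζ • f], Q v ≠ 0 := by
      intro v hv
      simp only [List.mem_cons, List.not_mem_nil, or_false] at hv
      rcases hv with rfl | rfl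
      · exact hQ1'
      · exact hQc'
    have h := theta_prod_reflO h2 Q ζ hζ [e - f, e - ζ • f] hl
    simp only [List.map_cons, List.map_nil, List.prod_cons, List.prod_nil, mul_one] at h
    rw [hQ1, hQc] at h
    rcases Int.units_eq_one_or (theta (⇑Q) ζ (reflO Q (e - f) * reflO Q (e - ζ • f))) with h1 | h1
    · exfalso
      apply hζ
      have := h.mp h1
      rwa [neg_one_mul, neg_neg] at this
    · exact h1

/-- `Ω` is transitive on the totally singular subspaces of a given dimension `k`, `2k < n`. -/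
theorem omega_transitive_singular (Q : QuadraticForm F (ι → F))
    (hQ : (QuadraticMap.polarBilin Q).Nondegenerate)
    (h24 : Fintype.card F ≠ 2 ∨ Fintype.card ι ≠ 4) (U W : Submodule F (ι → F))
    (hk : 2 * finrank F U < Fintype.card ι) (hd : finrank F U = finrank F W)
    (hU0 : ∀ u ∈ U, Q u = 0) (hW0 : ∀ w ∈ W, Q w = 0) :
    ∃ g : ↥(Cfsg.isometryGroup F (⇑Q)), g ∈ Cfsg.Omega F (⇑Q) ∧ omap (⇑Q) g U = W := by
  by_cases hk0 : finrank F U = 0
  · have hUbot : U = ⊥ := Submodule.finrank_eq_zero.mp hk0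
    have hWbot : W = ⊥ := Submodule.finrank_eq_zero.mp (hd ▸ hk0)
    refine ⟨1, Subgroup.one_mem _, ?_⟩
    rw [omap_one, hUbot, hWbot]
  obtain ⟨σ, hσ⟩ := exists_O_map_singular Q hQ U W hd hU0 hW0
  obtain ⟨v, hv, hvU⟩ := exists_nonsingular_perp Q hQ U hU0 hk
  apply exists_Omega_map Q hQ h24 U W σ hσ
  · intro _
    exact ⟨v, hv, omap_reflO_of_perp Q U v hv hvU⟩
  · intro h2 ζ hζ
    have hζ0 : ζ ≠ 0 := fun h => hζ (h ▸ ⟨0, by ring⟩)
    obtain ⟨e, heU, he0⟩ : ∃ e ∈ U, e ≠ 0 := by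
      by_contra hcon
      push Not at hcon
      apply hk0
      have : U = ⊥ := by
        rw [Submodule.eq_bot_iff]
        exact hcon
      rw [this]
      exact finrank_bot F _
    obtain ⟨f, hf, hef⟩ := exists_hyperbolic_pair Q (QND_of_nondegenerate Q hQ) e he0 (hU0 e heU)
    obtain ⟨hdet, hth⟩ := hyp_rotation_char h2 Q e f (hU0 e heU) hf hef ζ hζ
    refine ⟨reflO Q v, reflO Q (e - f) * reflO Q (e - ζ • f), detHom_reflO Q v hv, hdet, hth,
      omap_reflO_of_perp Q U v hv hvU, ?_⟩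
    apply omap_eq_of_le
    rintro w ⟨u, hu, rfl⟩
    have hpu : polar (⇑Q) e u = 0 := by
      unfold polar
      rw [hU0 _ (U.add_mem heU hu), hU0 e heU, hU0 u hu]
      simp
    rw [Matrix.mulVecLin_apply, hyp_rotation_apply Q e f (hU0 e heU) hf hef ζ hζ0 u hpu]
    exact U.add_mem hu (U.smul_mem _ heU)

end finite

end Cfsg.Agent.Lib.Helper50
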