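import Cfsg.Prelude.Def_GeometricClasses
import Cfsg.Agent.Lib.Helper50.OmegaStab

set_option autoImplicit false

/-! Bridge from the function-level vocabulary `Cfsg.Geo` (quadratic forms given as functions,
`omegaGL`, `subspaceStabilizer`) to bundled quadratic forms and the isometry group. -/

namespace Cfsg.Agent.Lib.Helper50

open Matrix Module QuadraticMap Cfsg.Agent.Lib.Helper19

variable {F : Type*} [Field F] {ι : Type} [Fintype ι] [DecidableEq ι]

/-- the bundled quadratic form attached to a function satisfying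
`Cfsg.Geo.IsNondegenerateQuadraticForm` -/
def geoForm (Q : (ι → F) → F) (hQ : Cfsg.Geo.IsNondegenerateQuadraticForm Q) :
    QuadraticForm F (ι → F) where
  toFun := Q
  toFun_smul a x := by rw [hQ.smul, pow_two, smul_eq_mul]
  exists_companion' := ⟨LinearMap.mk₂ F (polar Q) hQ.polar_bilinear.add_left
      hQ.polar_bilinear.smul_left hQ.polar_bilinear.add_right hQ.polar_bilinear.smul_right,
    fun x y => by rw [LinearMap.mk₂_apply]; unfold polar; ring⟩

theorem geoForm_coe (Q : (ι → F) → F) (hQ : Cfsg.Geo.IsNondegenerateQuadraticForm Q) :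
    (⇑(geoForm Q hQ) : (ι → F) → F) = Q := rfl

theorem geoForm_nondegenerate (Q : (ι → F) → F) (hQ : Cfsg.Geo.IsNondegenerateQuadraticForm Q) :
    (polarBilin (geoForm Q hQ)).Nondegenerate := by
  constructor
  · intro x hx
    by_contra h0
    obtain ⟨-, ⟨y, hy⟩⟩ := hQ.nondegenerate x h0
    exact hy (hx y)
  · intro x hx
    by_contra h0
    obtain ⟨⟨y, hy⟩, -⟩ := hQ.nondegenerate x h0
    exact hy (hx y)

theorem mem_omegaGL_iff (Q : (ι → F) → F) (g : GL ι F) :
    g ∈ Cfsg.Geo.omegaGL Q ↔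
      ∃ h : g ∈ Cfsg.isometryGroup F Q, (⟨g, h⟩ : ↥(Cfsg.isometryGroup F Q)) ∈ Cfsg.Omega F Q := by
  unfold Cfsg.Geo.omegaGL
  rw [Subgroup.mem_map]
  constructor
  · rintro ⟨x, hx, rfl⟩
    exact ⟨x.2, hx⟩
  · rintro ⟨h, hx⟩
    exact ⟨⟨g, h⟩, hx, rfl⟩

theorem coe_mem_omegaGL (Q : (ι → F) → F) (g : ↥(Cfsg.isometryGroup F Q))
    (hg : g ∈ Cfsg.Omega F Q) : (g : GL ι F) ∈ Cfsg.Geo.omegaGL Q :=
  (mem_omegaGL_iff Q _).mpr ⟨g.2, hg⟩

theorem mem_subspaceStabilizer_iff (W : Submodule F (ι → F)) (g : GL ι F) :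
    g ∈ Cfsg.Geo.subspaceStabilizer W ↔ ∀ v, v ∈ W ↔ (g : Matrix ι ι F) *ᵥ v ∈ W := Iff.rfl

theorem mulVec_inv_mulVec (g : GL ι F) (v : ι → F) :
    (g : Matrix ι ι F) *ᵥ (((g⁻¹ : GL ι F) : Matrix ι ι F) *ᵥ v) = v := by
  rw [Matrix.mulVec_mulVec, ← Units.val_mul, mul_inv_cancel, Units.val_one, Matrix.one_mulVec]

theorem inv_mulVec_mulVec (g : GL ι F) (v : ι → F) :
    ((g⁻¹ : GL ι F) : Matrix ι ι F) *ᵥ ((g : Matrix ι ι F) *ᵥ v) = v := by
  rw [Matrix.mulVec_mulVec, ← Units.val_mul, inv_mul_cancel, Units.val_one, Matrix.one_mulVec]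

/-- stabilising a subspace in the sense of `Cfsg.Geo` means mapping it onto itself -/
theorem mem_subspaceStabilizer_iff_map (W : Submodule F (ι → F)) (g : GL ι F) :
    g ∈ Cfsg.Geo.subspaceStabilizer W ↔ W.map (Matrix.mulVecLin (g : Matrix ι ι F)) = W := by
  rw [mem_subspaceStabilizer_iff]
  constructor
  · intro h
    apply le_antisymm
    · rintro _ ⟨v, hv, rfl⟩
      rw [Matrix.mulVecLin_apply]
      exact (h v).mp hv
    · intro v hv
      refine ⟨((g⁻¹ : GL ι F) : Matrix ι ι F) *ᵥ v, ?_, ?_⟩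
      · rw [SetLike.mem_coe, h, mulVec_inv_mulVec]
        exact hv
      · rw [Matrix.mulVecLin_apply, mulVec_inv_mulVec]
  · intro h v
    constructor
    · intro hv
      rw [← h]
      exact ⟨v, hv, by rw [Matrix.mulVecLin_apply]⟩
    · intro hv
      rw [← h] at hv
      obtain ⟨w, hw, hwv⟩ := hv
      rw [Matrix.mulVecLin_apply] at hwv
      have : w = v := by
        rw [← inv_mulVec_mulVec g w, hwv, inv_mulVec_mulVec]
      rw [← this]
      exact hw

theorem coe_mem_subspaceStabilizer_iff (Q : (ι → F) → F) (W : Submodule F (ι → F))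
    (g : ↥(Cfsg.isometryGroup F Q)) :
    (g : GL ι F) ∈ Cfsg.Geo.subspaceStabilizer W ↔ omap Q g W = W :=
  mem_subspaceStabilizer_iff_map W _

end Cfsg.Agent.Lib.Helper50
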