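import Mathlib
import Cfsg.Prelude.Def_Classical

set_option autoImplicit false

namespace Cfsg.Agent.Lib.Helper50

open Matrix

/-- Gram determinant of `toBilin' M` in an arbitrary basis is `d ^ 2 * det M` with `d ≠ 0`. -/
theorem gram_det_basis {F ι κ : Type*} [Field F] [Fintype ι] [DecidableEq ι] [Fintype κ]
    [DecidableEq κ] (M : Matrix κ κ F) (b : Module.Basis ι F (κ → F)) :
    ∃ d : F, d ≠ 0 ∧
      (Matrix.of fun i j => Matrix.toBilin' M (b i) (b j)).det = d ^ 2 * M.det := by
  classical
  set B : LinearMap.BilinForm F (κ → F) := Matrix.toBilin' M with hB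
  let e : ι ≃ κ := b.indexEquiv (Pi.basisFun F κ)
  let b₂ : Module.Basis κ F (κ → F) := b.reindex e
  set P : Matrix κ κ F := (Pi.basisFun F κ).toMatrix b₂ with hP
  have h1 : P.transpose * M * P = LinearMap.BilinForm.toMatrix b₂ B := by
    have h := LinearMap.BilinForm.toMatrix_mul_basis_toMatrix (b := Pi.basisFun F κ) b₂ B
    rw [LinearMap.BilinForm.toMatrix_basisFun, hB, LinearMap.BilinForm.toMatrix'_toBilin'] at h
    exact h
  have h2 : (Matrix.of fun i j => B (b i) (b j)) =
      (LinearMap.BilinForm.toMatrix b₂ B).submatrix e e := by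
    ext i j
    simp [LinearMap.BilinForm.toMatrix_apply, b₂, Module.Basis.reindex_apply]
  have hPdet : P.det ≠ 0 := by
    have h := Module.Basis.toMatrix_mul_toMatrix_flip (Pi.basisFun F κ) b₂
    have h' := congrArg Matrix.det h
    rw [Matrix.det_mul, Matrix.det_one] at h'
    exact left_ne_zero_of_mul_eq_one h'
  refine ⟨P.det, hPdet, ?_⟩
  rw [h2, Matrix.det_submatrix_equiv_self, ← h1, Matrix.det_mul, Matrix.det_mul,
    Matrix.det_transpose]
  ring

theorem isSquare_sq_mul_iff {F : Type*} [Field F] {d x : F} (hd : d ≠ 0) :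
    IsSquare (d ^ 2 * x) ↔ IsSquare x := by
  constructor
  · rintro ⟨r, hr⟩
    refine ⟨r / d, ?_⟩
    field_simp
    linear_combination hr
  · rintro ⟨r, rfl⟩
    exact ⟨d * r, by ring⟩

/-- determinant of the hyperbolic Gram matrix -/
theorem det_hyp {F n : Type*} [Field F] [Fintype n] [DecidableEq n] :
    (Matrix.fromBlocks (0 : Matrix n n F) (1 : Matrix n n F) (1 : Matrix n n F)
      (0 : Matrix n n F)).det = (-1) ^ Fintype.card n := by
  have h : Matrix.fromBlocks (1 : Matrix n n F) (1 : Matrix n n F) (0 : Matrix n n F)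
        (1 : Matrix n n F) *
      Matrix.fromBlocks (0 : Matrix n n F) (1 : Matrix n n F) (1 : Matrix n n F) (0 : Matrix n n F)
      = Matrix.fromBlocks (1 : Matrix n n F) (1 : Matrix n n F) (1 : Matrix n n F)
        (0 : Matrix n n F) := by
    simp [Matrix.fromBlocks_multiply]
  have h' := congrArg Matrix.det h
  rw [Matrix.det_mul, Matrix.det_fromBlocks_zero₂₁, Matrix.det_one, one_mul, one_mul,
    Matrix.det_fromBlocks_one₁₁] at h'
  rw [h']
  simp [Matrix.det_neg]

/-- the polar form of the hyperbolic quadratic form -/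
theorem polar_quadFormPlus {F : Type*} [Field F] (m : ℕ) (u v : Fin m ⊕ Fin m → F) :
    QuadraticMap.polar (Cfsg.quadFormPlus m F) u v =
      Matrix.toBilin' (Matrix.fromBlocks (0 : Matrix (Fin m) (Fin m) F) (1 : Matrix (Fin m) (Fin m) F)
        (1 : Matrix (Fin m) (Fin m) F) (0 : Matrix (Fin m) (Fin m) F)) u v := by
  simp only [QuadraticMap.polar, Cfsg.quadFormPlus, Matrix.toBilin'_apply', Matrix.fromBlocks_mulVec,
    Matrix.zero_mulVec, Matrix.one_mulVec, zero_add, add_zero, dotProduct, Fintype.sum_sum_type,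
    Sum.elim_inl, Sum.elim_inr, Pi.add_apply, Function.comp_apply, ← Finset.sum_sub_distrib,
    ← Finset.sum_add_distrib]
  refine Finset.sum_congr rfl fun i _ => ?_
  ring

end Cfsg.Agent.Lib.Helper50
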