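import Mathlib
import Cfsg.Prelude.Def_Classical
import Cfsg.Agent.Lib.Helper50.Gram

set_option autoImplicit false

namespace Cfsg.Agent.Lib.Helper50

open Matrix

theorem isSquare_neg_one_pow_iff {F : Type*} [Field F] [Fintype F] {q : ℕ}
    (hF : Fintype.card F = q) (hq : Odd q) (m : ℕ) :
    IsSquare ((-1 : F) ^ m) ↔ Even (m * (q - 1) / 2) := by
  obtain ⟨r, rfl⟩ := hq
  have e1 : m * (2 * r + 1 - 1) / 2 = m * r := by
    rw [Nat.add_sub_cancel, ← mul_assoc, mul_comm m 2, mul_assoc, Nat.mul_div_cancel_left _ (by norm_num)]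
  rw [e1, Nat.even_mul]
  have hsq : IsSquare (-1 : F) ↔ Even r := by
    rw [FiniteField.isSquare_neg_one_iff, hF, Nat.even_iff]
    omega
  rcases Nat.even_or_odd m with hme | hmo
  · rw [hme.neg_one_pow]
    exact ⟨fun _ => Or.inl hme, fun _ => ⟨1, by ring⟩⟩
  · rw [hmo.neg_one_pow, hsq]
    constructor
    · exact fun h => Or.inr h
    · rintro (h | h)
      · exact absurd h (Nat.not_even_iff_odd.mpr hmo)
      · exact h

/-- In a finite field of odd order, multiplying by a non-square flips squareness. -/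
theorem isSquare_mul_nonsquare_iff {F : Type*} [Field F] [Fintype F] {x δ : F}
    (hx : x ≠ 0) (hδ : ¬ IsSquare δ) : IsSquare (x * δ) ↔ ¬ IsSquare x := by
  classical
  have hδ0 : δ ≠ 0 := fun h => hδ (h ▸ ⟨0, by ring⟩)
  have hδ' : quadraticChar F δ = -1 := quadraticChar_neg_one_iff_not_isSquare.mpr hδ
  rw [← quadraticChar_one_iff_isSquare (mul_ne_zero hx hδ0), map_mul, hδ',
    ← quadraticChar_neg_one_iff_not_isSquare]
  constructor
  · intro h; linarith
  · intro h; rw [h]; norm_num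

/-- anisotropic binary form has nonsquare discriminant (odd characteristic). -/
theorem disc_not_isSquare {F : Type*} [Field F] (h2 : (2 : F) ≠ 0) (a c : F)
    (hac : ∀ z₁ z₂ : F, z₁ ^ 2 + a * z₁ * z₂ + c * z₂ ^ 2 = 0 → z₁ = 0 ∧ z₂ = 0) :
    ¬ IsSquare (a ^ 2 - 4 * c) := by
  rintro ⟨s, hs⟩
  have h := hac ((s - a) / 2) 1 (by
    field_simp
    linear_combination (-1 : F) * hs)
  exact one_ne_zero h.2

/-- the polar form of the elliptic quadratic form -/
theorem polar_quadFormMinus {F : Type*} [Field F] (m : ℕ) (a c : F)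
    (u v : (Fin m ⊕ Fin m) ⊕ Fin 2 → F) :
    QuadraticMap.polar (Cfsg.quadFormMinus m F a c) u v =
      Matrix.toBilin' (Matrix.fromBlocks
        (Matrix.fromBlocks (0 : Matrix (Fin m) (Fin m) F) (1 : Matrix (Fin m) (Fin m) F)
        (1 : Matrix (Fin m) (Fin m) F) (0 : Matrix (Fin m) (Fin m) F))
        (0 : Matrix (Fin m ⊕ Fin m) (Fin 2) F) (0 : Matrix (Fin 2) (Fin m ⊕ Fin m) F)
        (!![2, a; a, 2 * c] : Matrix (Fin 2) (Fin 2) F)) u v := by
  simp only [QuadraticMap.polar, Cfsg.quadFormMinus, Matrix.toBilin'_apply', Matrix.fromBlocks_mulVec,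
    Matrix.zero_mulVec, Matrix.one_mulVec, zero_add, add_zero, dotProduct, Fintype.sum_sum_type,
    Sum.elim_inl, Sum.elim_inr, Pi.add_apply, Function.comp_apply, Fin.sum_univ_two]
  simp only [Matrix.mulVec, dotProduct, Fin.sum_univ_two, Matrix.of_apply, Matrix.cons_val',
    Matrix.cons_val_zero, Matrix.cons_val_one, Matrix.cons_val_fin_one, Function.comp_apply]
  have e : ∀ (f g h : Fin m → F), (∑ i, f i) - (∑ i, g i) - (∑ i, h i) = ∑ i, (f i - g i - h i) := by
    intro f g h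
    rw [Finset.sum_sub_distrib, Finset.sum_sub_distrib]
  have e2 : ∑ i : Fin m, ((u (Sum.inl (Sum.inl i)) + v (Sum.inl (Sum.inl i))) *
      (u (Sum.inl (Sum.inr i)) + v (Sum.inl (Sum.inr i))) -
      u (Sum.inl (Sum.inl i)) * u (Sum.inl (Sum.inr i)) -
      v (Sum.inl (Sum.inl i)) * v (Sum.inl (Sum.inr i))) =
      ∑ i : Fin m, u (Sum.inl (Sum.inl i)) * v (Sum.inl (Sum.inr i)) +
      ∑ i : Fin m, u (Sum.inl (Sum.inr i)) * v (Sum.inl (Sum.inl i)) := by
    rw [← Finset.sum_add_distrib]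
    refine Finset.sum_congr rfl fun i _ => ?_
    ring
  have e3 := e (fun i => (u (Sum.inl (Sum.inl i)) + v (Sum.inl (Sum.inl i))) *
      (u (Sum.inl (Sum.inr i)) + v (Sum.inl (Sum.inr i))))
      (fun i => u (Sum.inl (Sum.inl i)) * u (Sum.inl (Sum.inr i)))
      (fun i => v (Sum.inl (Sum.inl i)) * v (Sum.inl (Sum.inr i)))
  linear_combination e3 + e2

theorem det_minus_gram {F : Type*} [Field F] (m : ℕ) (a c : F) :
    (Matrix.fromBlocks
        (Matrix.fromBlocks (0 : Matrix (Fin m) (Fin m) F) (1 : Matrix (Fin m) (Fin m) F)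
        (1 : Matrix (Fin m) (Fin m) F) (0 : Matrix (Fin m) (Fin m) F))
        (0 : Matrix (Fin m ⊕ Fin m) (Fin 2) F) (0 : Matrix (Fin 2) (Fin m ⊕ Fin m) F)
        (!![2, a; a, 2 * c] : Matrix (Fin 2) (Fin 2) F)).det = (-1) ^ (m + 1) * (a ^ 2 - 4 * c) := by
  rw [Matrix.det_fromBlocks_zero₂₁, det_hyp, Matrix.det_fin_two_of, Fintype.card_fin]
  ring

end Cfsg.Agent.Lib.Helper50
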