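import Mathlib

set_option autoImplicit false

namespace Cfsg.Agent.Lib.Helper50

open Module

universe u v

/-- Chevalley-Warning: a quadratic form in at least three variables over a finite field has a
nontrivial zero. -/
theorem exists_isotropic {F : Type u} {V : Type v} [Field F] [Finite F] [AddCommGroup V]
    [Module F V] [FiniteDimensional F V] (Q : QuadraticForm F V) (h : 3 ≤ Module.finrank F V) :
    ∃ v : V, v ≠ 0 ∧ Q v = 0 := by
  classical
  have : Fintype F := Fintype.ofFinite F
  set n := Module.finrank F V with hn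
  let b : Basis (Fin n) F V := Module.finBasis F V
  let T := Q.toBilin b
  let P : MvPolynomial (Fin n) F :=
    ∑ i, ∑ j, MvPolynomial.C (T (b j) (b i)) * MvPolynomial.X i * MvPolynomial.X j
  have heval : ∀ x : Fin n → F, MvPolynomial.eval x P = Q (∑ i, x i • b i) := by
    intro x
    have h1 : Q (∑ i, x i • b i) = T (∑ i, x i • b i) (∑ j, x j • b j) := by
      conv_lhs => rw [← QuadraticMap.toQuadraticMap_toBilin Q b]
      rfl
    rw [h1]
    simp only [P, map_sum, LinearMap.sum_apply, map_smul, LinearMap.smul_apply, smul_eq_mul,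
      map_mul, MvPolynomial.eval_C, MvPolynomial.eval_X, Finset.mul_sum]
    refine Finset.sum_congr rfl fun i _ => Finset.sum_congr rfl fun j _ => ?_
    ring
  have hdeg : P.totalDegree ≤ 2 := by
    refine MvPolynomial.totalDegree_finsetSum_le fun i _ => ?_
    refine MvPolynomial.totalDegree_finsetSum_le fun j _ => ?_
    refine (MvPolynomial.totalDegree_mul _ _).trans ?_
    have h1 := MvPolynomial.totalDegree_mul (MvPolynomial.C (T (b j) (b i)))
      (MvPolynomial.X i : MvPolynomial (Fin n) F)
    rw [MvPolynomial.totalDegree_C, MvPolynomial.totalDegree_X] at h1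
    rw [MvPolynomial.totalDegree_X]
    omega
  obtain ⟨p, hp⟩ := CharP.exists F
  have hpprime : p.Prime := CharP.char_is_prime F p
  have hdvd := char_dvd_card_solutions p (f := P)
    (lt_of_le_of_lt hdeg (by rw [Fintype.card_fin]; omega))
  have h0 : MvPolynomial.eval (0 : Fin n → F) P = 0 := by
    rw [heval]; simp
  have hcard : 1 < Fintype.card {x : Fin n → F // MvPolynomial.eval x P = 0} := by
    have hpos : 0 < Fintype.card {x : Fin n → F // MvPolynomial.eval x P = 0} :=
      Fintype.card_pos_iff.mpr ⟨⟨0, h0⟩⟩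
    have h1 := Nat.le_of_dvd hpos hdvd
    have h2 := hpprime.two_le
    omega
  obtain ⟨⟨x, hx⟩, hne⟩ := Fintype.exists_ne_of_one_lt_card hcard ⟨0, h0⟩
  have hx0 : x ≠ 0 := fun h => hne (Subtype.ext h)
  refine ⟨∑ i, x i • b i, ?_, ?_⟩
  · intro hv
    apply hx0
    have h1 : b.equivFun.symm x = 0 := by rw [Basis.equivFun_symm_apply]; exact hv
    exact b.equivFun.symm.map_eq_zero_iff.mp h1
  · rw [← heval]; exact hx

/-- an anisotropic binary quadratic form over a finite field represents every element -/
theorem exists_represents {F : Type u} {V : Type v} [Field F] [Finite F] [AddCommGroup V]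
    [Module F V] [FiniteDimensional F V] (Q : QuadraticForm F V) (h : 2 ≤ Module.finrank F V)
    (hanis : ∀ v : V, Q v = 0 → v = 0) (c : F) (hc : c ≠ 0) : ∃ v : V, Q v = c := by
  let Q' : QuadraticForm F (V × F) := QuadraticMap.prod Q ((-c) • QuadraticMap.sq)
  have h3 : 3 ≤ Module.finrank F (V × F) := by
    rw [Module.finrank_prod, Module.finrank_self]; omega
  obtain ⟨⟨v, z⟩, hne, hvz⟩ := exists_isotropic Q' h3
  have hvz' : Q v + (-c) * (z * z) = 0 := by
    simpa [Q', QuadraticMap.prod_apply] using hvz
  have hz : z ≠ 0 := by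
    rintro rfl
    apply hne
    have : v = 0 := hanis v (by simpa using hvz')
    rw [this]; rfl
  refine ⟨z⁻¹ • v, ?_⟩
  rw [QuadraticMap.map_smul, smul_eq_mul]
  have : Q v = c * (z * z) := by linear_combination hvz'
  rw [this]
  field_simp

end Cfsg.Agent.Lib.Helper50
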