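import Mathlib

set_option autoImplicit false

namespace Cfsg.Agent.Lib.Helper50

open Module QuadraticMap

universe u v

variable {F : Type u} {V : Type v} [Field F] [AddCommGroup V] [Module F V]

/-- left-nondegeneracy of the polar form, stated with `polar` -/
def QND (Q : QuadraticForm F V) : Prop :=
  ∀ v : V, (∀ w : V, polar Q v w = 0) → v = 0

theorem QND_of_nondegenerate (Q : QuadraticForm F V)
    (h : (QuadraticMap.polarBilin Q).Nondegenerate) : QND Q := by
  intro v hv
  exact h.1 v (fun w => by rw [polarBilin_apply_apply]; exact hv w)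

theorem exists_hyperbolic_pair (Q : QuadraticForm F V) (hQ : QND Q) (e : V) (he : e ≠ 0)
    (he0 : Q e = 0) : ∃ f : V, Q f = 0 ∧ polar Q e f = 1 := by
  have hex : ∃ f' : V, polar Q e f' ≠ 0 := by
    by_contra hcon
    push Not at hcon
    exact he (hQ e hcon)
  obtain ⟨f', hf'⟩ := hex
  obtain ⟨f'', h1⟩ : ∃ f'' : V, polar Q e f'' = 1 :=
    ⟨(polar Q e f')⁻¹ • f', by rw [polar_smul_right, smul_eq_mul, inv_mul_cancel₀ hf']⟩
  have hee : polar Q e e = 0 := by
    rw [polar_self, he0, smul_zero]
  refine ⟨f'' - Q f'' • e, ?_, ?_⟩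
  · have h2 : Q (f'' - Q f'' • e) = Q f'' + Q (-(Q f'' • e)) + polar Q f'' (-(Q f'' • e)) := by
      rw [sub_eq_add_neg]
      exact QuadraticMap.map_add (⇑Q) f'' (-(Q f'' • e))
    rw [h2, QuadraticMap.map_neg, QuadraticMap.map_smul, he0, polar_neg_right, polar_smul_right,
      polar_comm, h1]
    simp
  · rw [polar_sub_right, polar_smul_right, hee, h1]
    simp

/-- the orthogonal complement of a pair of vectors -/
def pairCompl (Q : QuadraticForm F V) (e f : V) : Submodule F V :=
  LinearMap.ker (polarBilin Q e) ⊓ LinearMap.ker (polarBilin Q f)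

theorem mem_pairCompl {Q : QuadraticForm F V} {e f w : V} :
    w ∈ pairCompl Q e f ↔ polar Q e w = 0 ∧ polar Q f w = 0 := by
  simp [pairCompl, Submodule.mem_inf, LinearMap.mem_ker, polarBilin_apply_apply]

section split

variable (Q : QuadraticForm F V) (e f : V) (he : Q e = 0) (hf : Q f = 0) (hef : polar Q e f = 1)

include he hf hef

theorem pair_proj_mem (v : V) :
    v - polar Q v f • e - polar Q v e • f ∈ pairCompl Q e f := by
  have hee : polar Q e e = 0 := by rw [polar_self, he, smul_zero]
  have hff : polar Q f f = 0 := by rw [polar_self, hf, smul_zero]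
  have hfe : polar Q f e = 1 := by rw [polar_comm]; exact hef
  rw [mem_pairCompl]
  constructor
  · rw [polar_sub_right, polar_sub_right, polar_smul_right, polar_smul_right, hee, hef,
      polar_comm Q e v]
    simp
  · rw [polar_sub_right, polar_sub_right, polar_smul_right, polar_smul_right, hff, hfe,
      polar_comm Q f v]
    simp

/-- splitting off a hyperbolic pair -/
noncomputable def hypSplit : V ≃ₗ[F] (pairCompl Q e f) × F × F where
  toFun v := (⟨v - polar Q v f • e - polar Q v e • f, pair_proj_mem Q e f he hf hef v⟩,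
    polar Q v f, polar Q v e)
  map_add' u v := by
    refine Prod.ext (Subtype.ext ?_) (Prod.ext ?_ ?_)
    · simp only [polar_add_left, add_smul, Prod.fst_add, Submodule.coe_add]
      abel
    · simp [polar_add_left]
    · simp [polar_add_left]
  map_smul' c v := by
    refine Prod.ext (Subtype.ext ?_) (Prod.ext ?_ ?_)
    · simp only [polar_smul_left, RingHom.id_apply, Prod.smul_fst, Submodule.coe_smul, smul_sub,
        smul_eq_mul, mul_smul]
    · simp [polar_smul_left]
    · simp [polar_smul_left]
  invFun p := (p.1 : V) + p.2.1 • e + p.2.2 • f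
  left_inv v := by
    simp only
    abel
  right_inv p := by
    obtain ⟨⟨w, hw⟩, x, y⟩ := p
    have hee : polar Q e e = 0 := by rw [polar_self, he, smul_zero]
    have hff : polar Q f f = 0 := by rw [polar_self, hf, smul_zero]
    have hfe : polar Q f e = 1 := by rw [polar_comm]; exact hef
    obtain ⟨hw1, hw2⟩ := mem_pairCompl.mp hw
    have hwe : polar Q w e = 0 := by rw [polar_comm]; exact hw1
    have hwf : polar Q w f = 0 := by rw [polar_comm]; exact hw2
    have h1 : polar Q (w + x • e + y • f) f = x := by
      rw [polar_add_left, polar_add_left, polar_smul_left, polar_smul_left, hwf, hef, hff]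
      simp
    have h2 : polar Q (w + x • e + y • f) e = y := by
      rw [polar_add_left, polar_add_left, polar_smul_left, polar_smul_left, hwe, hee, hfe]
      simp
    refine Prod.ext (Subtype.ext ?_) (Prod.ext ?_ ?_)
    · simp only [h1, h2]
      abel
    · exact h1
    · exact h2

theorem hypSplit_symm_apply (p : (pairCompl Q e f) × F × F) :
    (hypSplit Q e f he hf hef).symm p = (p.1 : V) + p.2.1 • e + p.2.2 • f := rfl

theorem hypSplit_form (v : V) :
    Q v = Q ((hypSplit Q e f he hf hef v).1 : V) +
      (hypSplit Q e f he hf hef v).2.1 * (hypSplit Q e f he hf hef v).2.2 := by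
  obtain ⟨p, rfl⟩ := (hypSplit Q e f he hf hef).symm.surjective v
  rw [LinearEquiv.apply_symm_apply, hypSplit_symm_apply]
  obtain ⟨⟨w, hw⟩, x, y⟩ := p
  obtain ⟨hw1, hw2⟩ := mem_pairCompl.mp hw
  have hwe : polar Q w e = 0 := by rw [polar_comm]; exact hw1
  have hwf : polar Q w f = 0 := by rw [polar_comm]; exact hw2
  simp only
  rw [QuadraticMap.map_add (⇑Q) (w + x • e) (y • f), QuadraticMap.map_add (⇑Q) w (x • e),
    polar_add_left, polar_smul_right, polar_smul_right, polar_smul_left, polar_smul_right,
    QuadraticMap.map_smul, QuadraticMap.map_smul, he, hf, hwe, hwf, hef]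
  simp only [smul_eq_mul, mul_zero, add_zero, mul_one]
  ring

theorem finrank_pairCompl [FiniteDimensional F V] :
    Module.finrank F (pairCompl Q e f) + 2 = Module.finrank F V := by
  rw [LinearEquiv.finrank_eq (hypSplit Q e f he hf hef), Module.finrank_prod, Module.finrank_prod,
    Module.finrank_self]

theorem QND_pairCompl (hQ : QND Q) : QND (Q.comp (pairCompl Q e f).subtype) := by
  intro w hw
  apply Subtype.ext
  apply hQ
  intro v
  obtain ⟨p, rfl⟩ := (hypSplit Q e f he hf hef).symm.surjective v
  rw [hypSplit_symm_apply]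
  obtain ⟨hw1, hw2⟩ := mem_pairCompl.mp w.2
  have hwe : polar Q (w : V) e = 0 := by rw [polar_comm]; exact hw1
  have hwf : polar Q (w : V) f = 0 := by rw [polar_comm]; exact hw2
  rw [polar_add_right, polar_add_right, polar_smul_right, polar_smul_right, hwe, hwf]
  have := hw p.1
  simp only [polar, comp_apply, Submodule.subtype_apply, Submodule.coe_add] at this ⊢
  rw [this]
  simp

end split

end Cfsg.Agent.Lib.Helper50
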