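import Mathlib
import Cfsg.Prelude.Def_Classical

set_option autoImplicit false

namespace Cfsg.Agent.Lib.Helper50

/-- number of zeros of a function on a finite type -/
noncomputable def zeroCount {X F : Type*} [Fintype X] [Zero F] [DecidableEq F] (R : X → F) : ℕ :=
  ∑ w, if R w = 0 then 1 else 0

theorem zeroCount_congr {X Y F : Type*} [Fintype X] [Fintype Y] [Zero F] [DecidableEq F]
    (e : Y ≃ X) (R : X → F) (R' : Y → F) (h : ∀ y, R' y = R (e y)) :
    zeroCount R' = zeroCount R := by
  unfold zeroCount
  exact Fintype.sum_equiv e _ _ (fun y => by rw [h])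

theorem sum_inner_ne {F : Type*} [Field F] [Fintype F] [DecidableEq F] (a x : F) (hx : x ≠ 0) :
    (∑ y : F, if a + x * y = 0 then 1 else 0) = 1 := by
  have hiff : ∀ y : F, a + x * y = 0 ↔ y = -a / x := by
    intro y
    rw [eq_div_iff hx]
    constructor
    · intro h; linear_combination h
    · intro h; linear_combination h
  simp_rw [hiff]
  simp

theorem sum_hyp {F : Type*} [Field F] [Fintype F] [DecidableEq F] (a : F) :
    (∑ x : F, ∑ y : F, if a + x * y = 0 then 1 else 0) =
      (if a = 0 then Fintype.card F else 0) + (Fintype.card F - 1) := by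
  rw [← Finset.add_sum_erase Finset.univ _ (Finset.mem_univ (0 : F))]
  congr 1
  · simp only [zero_mul, add_zero]
    split_ifs <;> simp
  · rw [Finset.sum_congr rfl (fun x hx => sum_inner_ne a x (Finset.ne_of_mem_erase hx))]
    simp [Finset.card_erase_of_mem]

theorem zeroCount_add_hyp {X F : Type*} [Fintype X] [Field F] [Fintype F] [DecidableEq F]
    (R : X → F) :
    zeroCount (fun p : X × F × F => R p.1 + p.2.1 * p.2.2) =
      Fintype.card F * zeroCount R + (Fintype.card F - 1) * Fintype.card X := by
  unfold zeroCount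
  rw [Fintype.sum_prod_type]
  simp_rw [Fintype.sum_prod_type, sum_hyp]
  rw [Finset.sum_add_distrib, Finset.mul_sum]
  congr 1
  · refine Finset.sum_congr rfl fun w _ => ?_
    split_ifs <;> simp
  · simp [mul_comm]

end Cfsg.Agent.Lib.Helper50
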