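import Mathlib
import Cfsg.Prelude.Def_Classical
import Cfsg.Agent.Lib.Helper50.ZeroCount

set_option autoImplicit false

namespace Cfsg.Agent.Lib.Helper50

/-- split off the first hyperbolic pair -/
def splitPlus (k : ℕ) (F : Type*) :
    (Fin (k + 1) ⊕ Fin (k + 1) → F) ≃ (Fin k ⊕ Fin k → F) × F × F where
  toFun v := (fun j => v (Sum.map Fin.succ Fin.succ j), v (Sum.inl 0), v (Sum.inr 0))
  invFun p := Sum.elim (Fin.cons p.2.1 (fun i => p.1 (Sum.inl i)) : Fin (k + 1) → F)
    (Fin.cons p.2.2 (fun i => p.1 (Sum.inr i)) : Fin (k + 1) → F)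
  left_inv v := by
    ext (i | i)
    · refine Fin.cases ?_ (fun j => ?_) i <;> simp
    · refine Fin.cases ?_ (fun j => ?_) i <;> simp
  right_inv p := by
    obtain ⟨w, x, y⟩ := p
    refine Prod.ext ?_ (Prod.ext ?_ ?_)
    · ext (j | j) <;> simp
    · simp
    · simp

theorem quadFormPlus_split {F : Type*} [Field F] (k : ℕ) (v : Fin (k + 1) ⊕ Fin (k + 1) → F) :
    Cfsg.quadFormPlus (k + 1) F v =
      Cfsg.quadFormPlus k F (splitPlus k F v).1 + (splitPlus k F v).2.1 * (splitPlus k F v).2.2 := by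
  simp only [Cfsg.quadFormPlus, splitPlus, Equiv.coe_fn_mk, Fin.sum_univ_succ, Sum.map_inl, Sum.map_inr]
  ring

/-- split off the first hyperbolic pair, elliptic form -/
def splitMinus (k : ℕ) (F : Type*) :
    ((Fin (k + 1) ⊕ Fin (k + 1)) ⊕ Fin 2 → F) ≃ ((Fin k ⊕ Fin k) ⊕ Fin 2 → F) × F × F where
  toFun v := (fun j => v (Sum.map (Sum.map Fin.succ Fin.succ) id j), v (Sum.inl (Sum.inl 0)),
    v (Sum.inl (Sum.inr 0)))
  invFun p := Sum.elim (Sum.elim
    (Fin.cons p.2.1 (fun i => p.1 (Sum.inl (Sum.inl i))) : Fin (k + 1) → F)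
    (Fin.cons p.2.2 (fun i => p.1 (Sum.inl (Sum.inr i))) : Fin (k + 1) → F))
    (fun j => p.1 (Sum.inr j))
  left_inv v := by
    ext ((i | i) | i)
    · refine Fin.cases ?_ (fun j => ?_) i <;> simp
    · refine Fin.cases ?_ (fun j => ?_) i <;> simp
    · simp
  right_inv p := by
    obtain ⟨w, x, y⟩ := p
    refine Prod.ext ?_ (Prod.ext ?_ ?_)
    · ext ((j | j) | j) <;> simp
    · simp
    · simp

theorem quadFormMinus_split {F : Type*} [Field F] (k : ℕ) (a b : F)
    (v : (Fin (k + 1) ⊕ Fin (k + 1)) ⊕ Fin 2 → F) :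
    Cfsg.quadFormMinus (k + 1) F a b v =
      Cfsg.quadFormMinus k F a b (splitMinus k F v).1 +
        (splitMinus k F v).2.1 * (splitMinus k F v).2.2 := by
  simp only [Cfsg.quadFormMinus, splitMinus, Equiv.coe_fn_mk, Fin.sum_univ_succ, Sum.map_inl,
    Sum.map_inr, id]
  ring

variable {F : Type*} [Field F] [Fintype F] [DecidableEq F]

theorem zeroCount_plus_succ (k : ℕ) :
    zeroCount (Cfsg.quadFormPlus (k + 1) F) =
      Fintype.card F * zeroCount (Cfsg.quadFormPlus k F) +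
        (Fintype.card F - 1) * Fintype.card F ^ (2 * k) := by
  rw [zeroCount_congr (splitPlus k F) (fun p => Cfsg.quadFormPlus k F p.1 + p.2.1 * p.2.2)
    (Cfsg.quadFormPlus (k + 1) F) (quadFormPlus_split k), zeroCount_add_hyp]
  simp [two_mul]

theorem zeroCount_minus_succ (k : ℕ) (a b : F) :
    zeroCount (Cfsg.quadFormMinus (k + 1) F a b) =
      Fintype.card F * zeroCount (Cfsg.quadFormMinus k F a b) +
        (Fintype.card F - 1) * Fintype.card F ^ (2 * k + 2) := by
  rw [zeroCount_congr (splitMinus k F) (fun p => Cfsg.quadFormMinus k F a b p.1 + p.2.1 * p.2.2)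
    (Cfsg.quadFormMinus (k + 1) F a b) (quadFormMinus_split k a b), zeroCount_add_hyp]
  simp [two_mul]

theorem zeroCount_plus_zero : zeroCount (Cfsg.quadFormPlus 0 F) = 1 := by
  simp [zeroCount, Cfsg.quadFormPlus]

theorem zeroCount_minus_zero (a b : F)
    (hab : ∀ z₁ z₂ : F, z₁ ^ 2 + a * z₁ * z₂ + b * z₂ ^ 2 = 0 → z₁ = 0 ∧ z₂ = 0) :
    zeroCount (Cfsg.quadFormMinus 0 F a b) = 1 := by
  unfold zeroCount
  rw [Finset.sum_eq_single (0 : (Fin 0 ⊕ Fin 0) ⊕ Fin 2 → F)]
  · simp [Cfsg.quadFormMinus]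
  · intro w _ hw
    rw [if_neg]
    intro h0
    apply hw
    simp only [Cfsg.quadFormMinus, Finset.univ_eq_empty, Finset.sum_empty, zero_add] at h0
    obtain ⟨h1, h2⟩ := hab _ _ h0
    ext ((i | i) | i)
    · exact i.elim0
    · exact i.elim0
    · fin_cases i
      · exact h1
      · exact h2
  · intro h; exact absurd (Finset.mem_univ _) h

/-- the key comparison of zero counts -/
theorem zeroCount_plus_eq_minus_add (k : ℕ) (a b : F)
    (hab : ∀ z₁ z₂ : F, z₁ ^ 2 + a * z₁ * z₂ + b * z₂ ^ 2 = 0 → z₁ = 0 ∧ z₂ = 0) :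
    zeroCount (Cfsg.quadFormPlus (k + 1) F) =
      zeroCount (Cfsg.quadFormMinus k F a b) + 2 * (Fintype.card F - 1) * Fintype.card F ^ k := by
  induction k with
  | zero =>
    rw [zeroCount_plus_succ, zeroCount_plus_zero, zeroCount_minus_zero a b hab]
    have : 1 ≤ Fintype.card F := Fintype.card_pos
    simp only [mul_one, mul_zero, pow_zero]
    omega
  | succ k ih =>
    rw [zeroCount_plus_succ (k + 1), ih, zeroCount_minus_succ]
    ring

end Cfsg.Agent.Lib.Helper50
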