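import Mathlib
import Cfsg.Prelude.Def_Classical
import Cfsg.Agent.Lib.Helper50.ZeroCountForms
import Cfsg.Agent.Lib.Helper50.WittSplit
import Cfsg.Agent.Lib.Helper50.Isotropic

set_option autoImplicit false

namespace Cfsg.Agent.Lib.Helper50

open Module QuadraticMap

universe u v w

/-- linear version of `splitPlus` -/
def splitPlusL (k : ℕ) (F : Type u) [Field F] :
    (Fin (k + 1) ⊕ Fin (k + 1) → F) ≃ₗ[F] (Fin k ⊕ Fin k → F) × F × F :=
  { splitPlus k F with
    map_add' := fun _ _ => rfl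
    map_smul' := fun _ _ => rfl }

theorem splitPlusL_apply (k : ℕ) (F : Type u) [Field F] (v : Fin (k + 1) ⊕ Fin (k + 1) → F) :
    splitPlusL k F v = splitPlus k F v := rfl

/-- linear version of `splitMinus` -/
def splitMinusL (k : ℕ) (F : Type u) [Field F] :
    ((Fin (k + 1) ⊕ Fin (k + 1)) ⊕ Fin 2 → F) ≃ₗ[F] ((Fin k ⊕ Fin k) ⊕ Fin 2 → F) × F × F :=
  { splitMinus k F with
    map_add' := fun _ _ => rfl
    map_smul' := fun _ _ => rfl }

theorem splitMinusL_apply (k : ℕ) (F : Type u) [Field F]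
    (v : (Fin (k + 1) ⊕ Fin (k + 1)) ⊕ Fin 2 → F) :
    splitMinusL k F v = splitMinus k F v := rfl

/-- the standard odd-dimensional form `c x₀² + Σ x_i y_i` -/
def oddForm (m : ℕ) {F : Type u} [Field F] (c : F) (v : Unit ⊕ (Fin m ⊕ Fin m) → F) : F :=
  c * v (Sum.inl ()) ^ 2 + ∑ i : Fin m, v (Sum.inr (Sum.inl i)) * v (Sum.inr (Sum.inr i))

/-- split off the first hyperbolic pair, odd form -/
def splitOdd (k : ℕ) (F : Type u) :
    (Unit ⊕ (Fin (k + 1) ⊕ Fin (k + 1)) → F) ≃ (Unit ⊕ (Fin k ⊕ Fin k) → F) × F × F where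
  toFun v := (fun j => v (Sum.map id (Sum.map Fin.succ Fin.succ) j), v (Sum.inr (Sum.inl 0)),
    v (Sum.inr (Sum.inr 0)))
  invFun p := Sum.elim (fun j => p.1 (Sum.inl j)) (Sum.elim
    (Fin.cons p.2.1 (fun i => p.1 (Sum.inr (Sum.inl i))) : Fin (k + 1) → F)
    (Fin.cons p.2.2 (fun i => p.1 (Sum.inr (Sum.inr i))) : Fin (k + 1) → F))
  left_inv v := by
    ext (i | (i | i))
    · simp
    · refine Fin.cases ?_ (fun j => ?_) i <;> simp
    · refine Fin.cases ?_ (fun j => ?_) i <;> simp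
  right_inv p := by
    obtain ⟨w, x, y⟩ := p
    refine Prod.ext ?_ (Prod.ext ?_ ?_)
    · ext (j | (j | j)) <;> simp
    · simp
    · simp

theorem oddForm_split {F : Type u} [Field F] (k : ℕ) (c : F)
    (v : Unit ⊕ (Fin (k + 1) ⊕ Fin (k + 1)) → F) :
    oddForm (k + 1) c v =
      oddForm k c (splitOdd k F v).1 + (splitOdd k F v).2.1 * (splitOdd k F v).2.2 := by
  simp only [oddForm, splitOdd, Equiv.coe_fn_mk, Fin.sum_univ_succ, Sum.map_inl, Sum.map_inr, id]
  ring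

/-- linear version of `splitOdd` -/
def splitOddL (k : ℕ) (F : Type u) [Field F] :
    (Unit ⊕ (Fin (k + 1) ⊕ Fin (k + 1)) → F) ≃ₗ[F] (Unit ⊕ (Fin k ⊕ Fin k) → F) × F × F :=
  { splitOdd k F with
    map_add' := fun _ _ => rfl
    map_smul' := fun _ _ => rfl }

theorem splitOddL_apply (k : ℕ) (F : Type u) [Field F]
    (v : Unit ⊕ (Fin (k + 1) ⊕ Fin (k + 1)) → F) :
    splitOddL k F v = splitOdd k F v := rfl

variable {F : Type u} {V : Type v} [Field F] [AddCommGroup V] [Module F V]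

/-- isometric to the hyperbolic form of dimension `2m` -/
def IsPlusType (Q : QuadraticForm F V) (m : ℕ) : Prop :=
  ∃ φ : V ≃ₗ[F] (Fin m ⊕ Fin m → F), ∀ v, Cfsg.quadFormPlus m F (φ v) = Q v

/-- isometric to the elliptic form of dimension `2m+2` with parameter `ζ` -/
def IsMinusType (Q : QuadraticForm F V) (m : ℕ) (ζ : F) : Prop :=
  ∃ φ : V ≃ₗ[F] ((Fin m ⊕ Fin m) ⊕ Fin 2 → F), ∀ v, Cfsg.quadFormMinus m F 1 ζ (φ v) = Q v

/-- isometric to the odd form of dimension `2m+1` with parameter `c` -/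
def IsOddType (Q : QuadraticForm F V) (m : ℕ) (c : F) : Prop :=
  ∃ φ : V ≃ₗ[F] (Unit ⊕ (Fin m ⊕ Fin m) → F), ∀ v, oddForm m c (φ v) = Q v

section step

variable (Q : QuadraticForm F V) (e f : V) (he : Q e = 0) (hf : Q f = 0) (hef : polar Q e f = 1)

include he hf hef

theorem step_generic {Y : Type w} [AddCommGroup Y] [Module F Y] (R : Y → F)
    (ψ : pairCompl Q e f ≃ₗ[F] Y) (hψ : ∀ x, R (ψ x) = Q (x : V)) :
    ∃ φ : V ≃ₗ[F] Y × F × F, ∀ v, R (φ v).1 + (φ v).2.1 * (φ v).2.2 = Q v := by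
  refine ⟨(hypSplit Q e f he hf hef).trans (LinearEquiv.prodCongr ψ (LinearEquiv.refl F (F × F))),
    fun v => ?_⟩
  rw [hypSplit_form Q e f he hf hef v]
  simp [hψ]

theorem step_plus {m : ℕ} (h : IsPlusType (Q.comp (pairCompl Q e f).subtype) m) :
    IsPlusType Q (m + 1) := by
  obtain ⟨ψ, hψ⟩ := h
  obtain ⟨φ, hφ⟩ := step_generic Q e f he hf hef (Cfsg.quadFormPlus m F) ψ
    (fun x => by rw [hψ]; rfl)
  refine ⟨φ.trans (splitPlusL m F).symm, fun v => ?_⟩
  rw [quadFormPlus_split, ← splitPlusL_apply]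
  simp only [LinearEquiv.trans_apply, LinearEquiv.apply_symm_apply]
  exact hφ v

theorem step_minus {m : ℕ} {ζ : F} (h : IsMinusType (Q.comp (pairCompl Q e f).subtype) m ζ) :
    IsMinusType Q (m + 1) ζ := by
  obtain ⟨ψ, hψ⟩ := h
  obtain ⟨φ, hφ⟩ := step_generic Q e f he hf hef (Cfsg.quadFormMinus m F 1 ζ) ψ
    (fun x => by rw [hψ]; rfl)
  refine ⟨φ.trans (splitMinusL m F).symm, fun v => ?_⟩
  rw [quadFormMinus_split, ← splitMinusL_apply]
  simp only [LinearEquiv.trans_apply, LinearEquiv.apply_symm_apply]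
  exact hφ v

theorem step_odd {m : ℕ} {c : F} (h : IsOddType (Q.comp (pairCompl Q e f).subtype) m c) :
    IsOddType Q (m + 1) c := by
  obtain ⟨ψ, hψ⟩ := h
  obtain ⟨φ, hφ⟩ := step_generic Q e f he hf hef (oddForm m c) ψ
    (fun x => by rw [hψ]; rfl)
  refine ⟨φ.trans (splitOddL m F).symm, fun v => ?_⟩
  rw [oddForm_split, ← splitOddL_apply]
  simp only [LinearEquiv.trans_apply, LinearEquiv.apply_symm_apply]
  exact hφ v

end step

end Cfsg.Agent.Lib.Helper50
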