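import Mathlib
import Cfsg.Prelude.Def_Classical
import Cfsg.Agent.Lib.Helper50.WittType

set_option autoImplicit false

namespace Cfsg.Agent.Lib.Helper50

open Module QuadraticMap

universe u v

variable {F : Type u} {V : Type v} [Field F] [AddCommGroup V] [Module F V]

theorem plusType_zero [FiniteDimensional F V] (Q : QuadraticForm F V)
    (h : Module.finrank F V = 0) : IsPlusType Q 0 := by
  have hs : Subsingleton V := Module.finrank_zero_iff.mp h
  refine ⟨LinearEquiv.ofSubsingleton V (Fin 0 ⊕ Fin 0 → F), fun v => ?_⟩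
  rw [Subsingleton.elim v 0]
  simp [Cfsg.quadFormPlus]

theorem oddType_zero [FiniteDimensional F V] (Q : QuadraticForm F V)
    (h : Module.finrank F V = 1) (hanis : ∀ v : V, Q v = 0 → v = 0) :
    ∃ c : F, c ≠ 0 ∧ IsOddType Q 0 c := by
  let b : Basis (Fin 1) F V := Module.finBasisOfFinrankEq F V h
  have hx : b 0 ≠ 0 := b.ne_zero 0
  refine ⟨Q (b 0), fun h0 => hx (hanis _ h0), ?_⟩
  let e : Unit ⊕ (Fin 0 ⊕ Fin 0) ≃ Fin 1 :=
    { toFun := fun _ => 0
      invFun := fun _ => Sum.inl ()
      left_inv := by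
        rintro (u | (i | i))
        · rfl
        · exact i.elim0
        · exact i.elim0
      right_inv := fun i => Subsingleton.elim _ _ }
  refine ⟨b.equivFun.trans (LinearEquiv.funCongrLeft F F e), fun v => ?_⟩
  have hv : v = b.repr v 0 • b 0 := by
    conv_lhs => rw [← b.sum_repr v]
    simp
  have h1 : (b.equivFun.trans (LinearEquiv.funCongrLeft F F e)) v (Sum.inl ()) = b.repr v 0 := by
    simp [LinearEquiv.funCongrLeft_apply, e]
  simp only [oddForm, h1, Finset.univ_eq_empty, Finset.sum_empty, add_zero]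
  conv_rhs => rw [hv, QuadraticMap.map_smul]
  simp only [smul_eq_mul]
  ring

theorem minusType_zero [Finite F] [FiniteDimensional F V] (Q : QuadraticForm F V) (hQ : QND Q)
    (h : Module.finrank F V = 2) (hanis : ∀ v : V, Q v = 0 → v = 0) :
    ∃ ζ : F, (∀ t : F, t ^ 2 + t + ζ ≠ 0) ∧ IsMinusType Q 0 ζ := by
  obtain ⟨x, hx1⟩ := exists_represents Q (by omega) hanis 1 one_ne_zero
  have hx : x ≠ 0 := by
    rintro rfl
    simp at hx1
  -- some y₁ with polar x y₁ = 1
  obtain ⟨y₁, hy₁⟩ : ∃ y₁ : V, polar Q x y₁ = 1 := by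
    have hex : ∃ y' : V, polar Q x y' ≠ 0 := by
      by_contra hcon
      push Not at hcon
      exact hx (hQ x hcon)
    obtain ⟨y', hy'⟩ := hex
    exact ⟨(polar Q x y')⁻¹ • y', by rw [polar_smul_right, smul_eq_mul, inv_mul_cancel₀ hy']⟩
  -- a nonzero vector orthogonal to x
  obtain ⟨u, hu0, hu⟩ : ∃ u : V, u ≠ 0 ∧ polar Q x u = 0 := by
    let l : V →ₗ[F] F := polarBilin Q x
    have h1 := LinearMap.finrank_range_add_finrank_ker l
    have h2 : Module.finrank F (LinearMap.range l) ≤ 1 := by
      have := Submodule.finrank_le (LinearMap.range l)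
      rwa [Module.finrank_self] at this
    have h3 : 0 < Module.finrank F (LinearMap.ker l) := by omega
    obtain ⟨⟨u, hu⟩, hu0⟩ := Module.finrank_pos_iff_exists_ne_zero.mp h3
    refine ⟨u, fun h0 => hu0 (Subtype.ext h0), ?_⟩
    simpa [l, LinearMap.mem_ker, polarBilin_apply_apply] using hu
  obtain ⟨y, hy1, hyx⟩ : ∃ y : V, polar Q x y = 1 ∧ y ∉ Submodule.span F {x} := by
    by_cases h1 : y₁ ∈ Submodule.span F {x}
    · refine ⟨y₁ + u, by rw [polar_add_right, hy₁, hu, add_zero], fun h2 => ?_⟩
      have hus : u ∈ Submodule.span F {x} := by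
        have := Submodule.sub_mem _ h2 h1
        simpa using this
      obtain ⟨a, rfl⟩ := Submodule.mem_span_singleton.mp hus
      have ha : a ≠ 0 := by
        rintro rfl
        simp at hu0
      have hxx : polar Q x x = 0 := by
        rw [polar_smul_right, smul_eq_mul] at hu
        exact (mul_eq_zero.mp hu).resolve_left ha
      obtain ⟨a', rfl⟩ := Submodule.mem_span_singleton.mp h1
      rw [polar_smul_right, hxx, smul_zero] at hy₁
      exact zero_ne_one hy₁
    · exact ⟨y₁, hy₁, h1⟩
  have hli : LinearIndependent F ![x, y] := by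
    rw [LinearIndependent.pair_iff]
    intro s t hst
    have ht : t = 0 := by
      by_contra ht
      apply hyx
      rw [Submodule.mem_span_singleton]
      refine ⟨-(s / t), ?_⟩
      have h1 : t • y = -(s • x) := eq_neg_of_add_eq_zero_right hst
      have h2 : y = t⁻¹ • (t • y) := by rw [smul_smul, inv_mul_cancel₀ ht, one_smul]
      rw [h2, h1, smul_neg, smul_smul, neg_smul]
      congr 2
      field_simp
    subst ht
    simp only [zero_smul, add_zero, smul_eq_zero] at hst
    exact ⟨hst.resolve_right hx, rfl⟩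
  let b : Basis (Fin 2) F V := basisOfLinearIndependentOfCardEqFinrank hli (by simp [h])
  have hb : (b : Fin 2 → V) = ![x, y] := coe_basisOfLinearIndependentOfCardEqFinrank hli _
  have hb0 : b 0 = x := by rw [hb]; rfl
  have hb1 : b 1 = y := by rw [hb]; rfl
  refine ⟨Q y, fun t ht => ?_, ?_⟩
  · apply hyx
    have h0 : Q (t • x + y) = 0 := by
      rw [QuadraticMap.map_add (⇑Q) (t • x) y, QuadraticMap.map_smul, polar_smul_left, hx1, hy1]
      simp only [smul_eq_mul, mul_one]
      linear_combination ht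
    have h1 := hanis _ h0
    rw [Submodule.mem_span_singleton]
    exact ⟨-t, by rw [neg_smul]; exact (eq_neg_of_add_eq_zero_right h1).symm⟩
  · refine ⟨b.equivFun.trans (LinearEquiv.funCongrLeft F F (Equiv.emptySum (Fin 0 ⊕ Fin 0) (Fin 2))),
      fun v => ?_⟩
    have hv : v = b.repr v 0 • x + b.repr v 1 • y := by
      have h5 := b.sum_repr v
      rw [Fin.sum_univ_two, hb0, hb1] at h5
      exact h5.symm
    have h0 : (b.equivFun.trans (LinearEquiv.funCongrLeft F F
        (Equiv.emptySum (Fin 0 ⊕ Fin 0) (Fin 2)))) v (Sum.inr 0) = b.repr v 0 := by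
      simp [LinearEquiv.funCongrLeft_apply]
    have h1 : (b.equivFun.trans (LinearEquiv.funCongrLeft F F
        (Equiv.emptySum (Fin 0 ⊕ Fin 0) (Fin 2)))) v (Sum.inr 1) = b.repr v 1 := by
      simp [LinearEquiv.funCongrLeft_apply]
    simp only [Cfsg.quadFormMinus, h0, h1, Finset.univ_eq_empty, Finset.sum_empty, zero_add]
    conv_rhs => rw [hv, QuadraticMap.map_add (⇑Q) (b.repr v 0 • x) (b.repr v 1 • y),
      QuadraticMap.map_smul, QuadraticMap.map_smul, polar_smul_left, polar_smul_right, hx1, hy1]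
    simp only [smul_eq_mul, mul_one]
    ring

end Cfsg.Agent.Lib.Helper50
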