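import Mathlib
import Cfsg.Prelude.Def_Classical
import Cfsg.Agent.Lib.Helper50.WittBase

set_option autoImplicit false

namespace Cfsg.Agent.Lib.Helper50

open Module QuadraticMap

universe u v

/-- Classification of nondegenerate quadratic forms over a finite field, as isometry with one of
the standard forms. -/
theorem witt_type {F : Type u} [Field F] [Finite F] (n : ℕ) :
    ∀ {V : Type v} [AddCommGroup V] [Module F V] [FiniteDimensional F V]
      (Q : QuadraticForm F V), Module.finrank F V = n → QND Q →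
      (∃ m, n = 2 * m ∧ IsPlusType Q m) ∨
      (∃ m, ∃ ζ : F, n = 2 * m + 2 ∧ (∀ t : F, t ^ 2 + t + ζ ≠ 0) ∧ IsMinusType Q m ζ) ∨
      (∃ m, ∃ c : F, n = 2 * m + 1 ∧ c ≠ 0 ∧ IsOddType Q m c) := by
  induction n using Nat.strong_induction_on with
  | _ n ih =>
    intro V _ _ _ Q hn hQ
    by_cases hiso : ∃ e : V, e ≠ 0 ∧ Q e = 0
    · obtain ⟨e, he, he0⟩ := hiso
      obtain ⟨f, hf0, hef⟩ := exists_hyperbolic_pair Q hQ e he he0
      have hrank := finrank_pairCompl Q e f he0 hf0 hef
      have hQ' := QND_pairCompl Q e f he0 hf0 hef hQ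
      have hlt : Module.finrank F (pairCompl Q e f) < n := by omega
      rcases ih _ hlt (Q.comp (pairCompl Q e f).subtype) rfl hQ' with
        ⟨m, hm, hp⟩ | ⟨m, ζ, hm, hζ, hp⟩ | ⟨m, c, hm, hc, hp⟩
      · left
        exact ⟨m + 1, by omega, step_plus Q e f he0 hf0 hef hp⟩
      · right; left
        exact ⟨m + 1, ζ, by omega, hζ, step_minus Q e f he0 hf0 hef hp⟩
      · right; right
        exact ⟨m + 1, c, by omega, hc, step_odd Q e f he0 hf0 hef hp⟩
    · push Not at hiso
      have hanis : ∀ v : V, Q v = 0 → v = 0 := fun v hv => by_contra fun h => hiso v h hv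
      have hle : n ≤ 2 := by
        by_contra hcon
        obtain ⟨v, hv, hv0⟩ := exists_isotropic Q (by omega)
        exact hv (hanis v hv0)
      interval_cases n
      · left
        exact ⟨0, rfl, plusType_zero Q hn⟩
      · right; right
        obtain ⟨c, hc, h⟩ := oddType_zero Q hn hanis
        exact ⟨0, c, rfl, hc, h⟩
      · right; left
        obtain ⟨ζ, hζ, h⟩ := minusType_zero Q hQ hn hanis
        exact ⟨0, ζ, rfl, hζ, h⟩

end Cfsg.Agent.Lib.Helper50
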