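import Mathlib
import Cfsg.Prelude.Def_Classical
import Cfsg.Agent.Lib.Helper50.WittMain

set_option autoImplicit false

namespace Cfsg.Agent.Lib.Helper50

open Module QuadraticMap

universe u v

variable {F : Type u} {V : Type v} [Field F] [AddCommGroup V] [Module F V]

/-- a linear similarity with nonzero multiplier of a nondegenerate form is invertible -/
theorem similarity_equiv [FiniteDimensional F V] (Q : QuadraticForm F V) (hQ : QND Q)
    (g₀ : V →ₗ[F] V) (c : F) (hc : c ≠ 0) (h : ∀ v, Q (g₀ v) = c * Q v) :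
    ∃ g : V ≃ₗ[F] V, ∀ v, Q (g v) = c * Q v := by
  have hinj : Function.Injective g₀ := by
    rw [← LinearMap.ker_eq_bot, LinearMap.ker_eq_bot']
    intro v hv
    apply hQ
    intro u
    have h1 : polar Q (g₀ v) (g₀ u) = c * polar Q v u := by
      simp only [polar, ← map_add, h]
      ring
    rw [hv, polar_zero_left] at h1
    exact (mul_eq_zero.mp h1.symm).resolve_left hc
  exact ⟨LinearEquiv.ofInjectiveEndo g₀ hinj, fun v => by simpa using h v⟩

/-- the binary form `z₀² + z₀ z₁ + ζ z₁²` as a quadratic form -/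
noncomputable def binForm (ζ : F) : QuadraticForm F (Fin 2 → F) :=
  QuadraticMap.linMulLin (LinearMap.proj (R := F) (φ := fun _ : Fin 2 => F) 0)
      (LinearMap.proj (R := F) (φ := fun _ : Fin 2 => F) 0) +
    QuadraticMap.linMulLin (LinearMap.proj (R := F) (φ := fun _ : Fin 2 => F) 0)
      (LinearMap.proj (R := F) (φ := fun _ : Fin 2 => F) 1) +
    ζ • QuadraticMap.linMulLin (LinearMap.proj (R := F) (φ := fun _ : Fin 2 => F) 1)
      (LinearMap.proj (R := F) (φ := fun _ : Fin 2 => F) 1)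

theorem binForm_apply (ζ : F) (z : Fin 2 → F) :
    binForm ζ z = z 0 * z 0 + z 0 * z 1 + ζ * (z 1 * z 1) := by
  simp [binForm]

theorem binForm_anisotropic (ζ : F) (hζ : ∀ t : F, t ^ 2 + t + ζ ≠ 0) (z : Fin 2 → F)
    (hz : binForm ζ z = 0) : z = 0 := by
  rw [binForm_apply] at hz
  by_cases h1 : z 1 = 0
  · rw [h1] at hz
    simp at hz
    ext i
    fin_cases i
    · exact hz
    · exact h1
  · exfalso
    apply hζ (z 0 / z 1)
    field_simp
    linear_combination hz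

theorem exists_norm_eq [Finite F] (ζ : F) (hζ : ∀ t : F, t ^ 2 + t + ζ ≠ 0) (c : F) (hc : c ≠ 0) :
    ∃ w₀ w₁ : F, w₀ ^ 2 + w₀ * w₁ + ζ * w₁ ^ 2 = c := by
  obtain ⟨w, hw⟩ := exists_represents (binForm ζ) (by simp)
    (binForm_anisotropic ζ hζ) c hc
  rw [binForm_apply] at hw
  exact ⟨w 0, w 1, by linear_combination hw⟩

/-- similarity of the hyperbolic model: scale the first half of the coordinates -/
def simPlus (k : ℕ) (c : F) : (Fin k ⊕ Fin k → F) →ₗ[F] (Fin k ⊕ Fin k → F) where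
  toFun v := Sum.elim (fun i => c * v (Sum.inl i)) (fun i => v (Sum.inr i))
  map_add' u v := by
    ext (i | i) <;> simp [mul_add]
  map_smul' a v := by
    ext (i | i) <;> simp [mul_left_comm]

theorem quadFormPlus_simPlus (k : ℕ) (c : F) (v : Fin k ⊕ Fin k → F) :
    Cfsg.quadFormPlus k F (simPlus k c v) = c * Cfsg.quadFormPlus k F v := by
  simp only [Cfsg.quadFormPlus, simPlus, LinearMap.coe_mk, AddHom.coe_mk, Sum.elim_inl, Sum.elim_inr,
    Finset.mul_sum, mul_assoc]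

/-- similarity of the elliptic model -/
def simMinus (k : ℕ) (c ζ w₀ w₁ : F) :
    ((Fin k ⊕ Fin k) ⊕ Fin 2 → F) →ₗ[F] ((Fin k ⊕ Fin k) ⊕ Fin 2 → F) where
  toFun v := Sum.elim (Sum.elim (fun i => c * v (Sum.inl (Sum.inl i)))
    (fun i => v (Sum.inl (Sum.inr i))))
    ![w₀ * v (Sum.inr 0) - ζ * w₁ * v (Sum.inr 1),
      w₀ * v (Sum.inr 1) + w₁ * v (Sum.inr 0) + w₁ * v (Sum.inr 1)]
  map_add' u v := by
    ext ((i | i) | i)
    · simp [mul_add]
    · simp
    · fin_cases i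
      · simp; ring
      · simp; ring
  map_smul' a v := by
    ext ((i | i) | i)
    · simp [mul_left_comm]
    · simp
    · fin_cases i
      · simp; ring
      · simp; ring

theorem quadFormMinus_simMinus (k : ℕ) (c ζ w₀ w₁ : F) (hw : w₀ ^ 2 + w₀ * w₁ + ζ * w₁ ^ 2 = c)
    (v : (Fin k ⊕ Fin k) ⊕ Fin 2 → F) :
    Cfsg.quadFormMinus k F 1 ζ (simMinus k c ζ w₀ w₁ v) = c * Cfsg.quadFormMinus k F 1 ζ v := by
  simp only [Cfsg.quadFormMinus, simMinus, LinearMap.coe_mk, AddHom.coe_mk, Sum.elim_inl,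
    Sum.elim_inr, Matrix.cons_val_zero, Matrix.cons_val_one, mul_add, Finset.mul_sum, mul_assoc]
  linear_combination (v (Sum.inr 0) ^ 2 + v (Sum.inr 0) * v (Sum.inr 1) + ζ * v (Sum.inr 1) ^ 2) * hw

/-- multipliers of similarities: even-dimensional nondegenerate forms over finite fields -/
theorem exists_similarity_even [Finite F] [FiniteDimensional F V] (Q : QuadraticForm F V)
    (hQ : QND Q) (he : Even (Module.finrank F V)) (c : F) (hc : c ≠ 0) :
    ∃ g : V ≃ₗ[F] V, ∀ v, Q (g v) = c * Q v := by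
  rcases witt_type (Module.finrank F V) Q rfl hQ with
    ⟨m, hm, φ, hφ⟩ | ⟨m, ζ, hm, hζ, φ, hφ⟩ | ⟨m, c', hm, hc', hp⟩
  · apply similarity_equiv Q hQ
      ((φ.symm : (Fin m ⊕ Fin m → F) →ₗ[F] V) ∘ₗ simPlus m c ∘ₗ (φ : V →ₗ[F] (Fin m ⊕ Fin m → F)))
      c hc
    intro v
    rw [← hφ, ← hφ v]
    simp [quadFormPlus_simPlus]
  · obtain ⟨w₀, w₁, hw⟩ := exists_norm_eq ζ hζ c hc
    apply similarity_equiv Q hQ
      ((φ.symm : ((Fin m ⊕ Fin m) ⊕ Fin 2 → F) →ₗ[F] V) ∘ₗ simMinus m c ζ w₀ w₁ ∘ₗ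
        (φ : V →ₗ[F] ((Fin m ⊕ Fin m) ⊕ Fin 2 → F))) c hc
    intro v
    rw [← hφ, ← hφ v]
    simp [quadFormMinus_simMinus m c ζ w₀ w₁ hw]
  · exfalso
    rw [hm] at he
    exact (Nat.not_even_iff_odd.mpr ⟨m, rfl⟩) he

end Cfsg.Agent.Lib.Helper50
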