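import Mathlib
import Cfsg.Prelude.Def_Classical
import Cfsg.Agent.Lib.Helper50.WittMain
import Cfsg.Agent.Lib.Helper50.GramMinus

set_option autoImplicit false

namespace Cfsg.Agent.Lib.Helper50

open Module QuadraticMap

universe u v w

variable {F : Type u} {V : Type v} [Field F] [AddCommGroup V] [Module F V]

/-- the basis of `V` pulled back from the standard basis along an isometry to a coordinate space -/
noncomputable def isoBasis {ι : Type w} [Fintype ι] [DecidableEq ι] (φ : V ≃ₗ[F] (ι → F)) :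
    Basis ι F V :=
  (Pi.basisFun F ι).map φ.symm

theorem isoBasis_apply {ι : Type w} [Fintype ι] [DecidableEq ι] (φ : V ≃ₗ[F] (ι → F)) (i : ι) :
    isoBasis φ i = φ.symm (Pi.single i 1) := by
  simp [isoBasis]

theorem isoBasis_form {ι : Type w} [Fintype ι] [DecidableEq ι] (φ : V ≃ₗ[F] (ι → F))
    (Q : QuadraticForm F V) (R : (ι → F) → F) (h : ∀ v, R (φ v) = Q v) (i : ι) :
    Q (isoBasis φ i) = R (Pi.single i 1) := by
  rw [isoBasis_apply, ← h, LinearEquiv.apply_symm_apply]

theorem isoBasis_polar {ι : Type w} [Fintype ι] [DecidableEq ι] (φ : V ≃ₗ[F] (ι → F))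
    (Q : QuadraticForm F V) (R : (ι → F) → F) (h : ∀ v, R (φ v) = Q v) (i j : ι) :
    polar Q (isoBasis φ i) (isoBasis φ j) = polar R (Pi.single i 1) (Pi.single j 1) := by
  simp only [polar, isoBasis_apply, ← map_add, ← h, LinearEquiv.apply_symm_apply]

/-- polar form of the odd form -/
theorem polar_oddForm (m : ℕ) (c : F) (u v : Unit ⊕ (Fin m ⊕ Fin m) → F) :
    polar (oddForm m c) u v =
      Matrix.toBilin' (Matrix.fromBlocks ((2 * c) • (1 : Matrix Unit Unit F))
        (0 : Matrix Unit (Fin m ⊕ Fin m) F) (0 : Matrix (Fin m ⊕ Fin m) Unit F)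
        (Matrix.fromBlocks (0 : Matrix (Fin m) (Fin m) F) (1 : Matrix (Fin m) (Fin m) F)
        (1 : Matrix (Fin m) (Fin m) F) (0 : Matrix (Fin m) (Fin m) F))) u v := by
  simp only [polar, oddForm, Matrix.toBilin'_apply', Matrix.fromBlocks_mulVec,
    Matrix.zero_mulVec, Matrix.one_mulVec, Matrix.smul_mulVec, zero_add, add_zero, dotProduct,
    Fintype.sum_sum_type,
    Sum.elim_inl, Sum.elim_inr, Pi.add_apply, Function.comp_apply, Finset.univ_unique,
    Finset.sum_singleton, Pi.smul_apply, smul_eq_mul]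
  have e : ∀ (f g h : Fin m → F), (∑ i, f i) - (∑ i, g i) - (∑ i, h i) = ∑ i, (f i - g i - h i) := by
    intro f g h
    rw [Finset.sum_sub_distrib, Finset.sum_sub_distrib]
  have e2 : ∑ i : Fin m, ((u (Sum.inr (Sum.inl i)) + v (Sum.inr (Sum.inl i))) *
      (u (Sum.inr (Sum.inr i)) + v (Sum.inr (Sum.inr i))) -
      u (Sum.inr (Sum.inl i)) * u (Sum.inr (Sum.inr i)) -
      v (Sum.inr (Sum.inl i)) * v (Sum.inr (Sum.inr i))) =
      ∑ i : Fin m, u (Sum.inr (Sum.inl i)) * v (Sum.inr (Sum.inr i)) +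
      ∑ i : Fin m, u (Sum.inr (Sum.inr i)) * v (Sum.inr (Sum.inl i)) := by
    rw [← Finset.sum_add_distrib]
    refine Finset.sum_congr rfl fun i _ => ?_
    ring
  have e3 := e (fun i => (u (Sum.inr (Sum.inl i)) + v (Sum.inr (Sum.inl i))) *
      (u (Sum.inr (Sum.inr i)) + v (Sum.inr (Sum.inr i))))
      (fun i => u (Sum.inr (Sum.inl i)) * u (Sum.inr (Sum.inr i)))
      (fun i => v (Sum.inr (Sum.inl i)) * v (Sum.inr (Sum.inr i)))
  linear_combination e3 + e2

end Cfsg.Agent.Lib.Helper50
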