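import Mathlib
import Cfsg.Prelude.Def_Classical
import Cfsg.Agent.Lib.Helper50.WittBasis
import Cfsg.Agent.Lib.Helper50.Similitude

set_option autoImplicit false

namespace Cfsg.Agent.Lib.Helper50

open Module QuadraticMap

universe u v w

variable {F : Type u} [Field F]

/-- discriminant (Gram determinant in the standard basis) of a quadratic form on `F^n` -/
noncomputable def disc {n : ℕ} (Q : QuadraticForm F (Fin n → F)) : F :=
  (Matrix.of (fun i j : Fin n => polar (⇑Q) (Pi.single i 1) (Pi.single j 1))).det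

/-- discriminant through a model -/
theorem disc_model {n : ℕ} {ι : Type w} [Fintype ι] [DecidableEq ι]
    (Q : QuadraticForm F (Fin n → F)) (φ : (Fin n → F) ≃ₗ[F] (ι → F)) (R : (ι → F) → F)
    (h : ∀ v, R (φ v) = Q v) (M : Matrix ι ι F)
    (hM : ∀ u v, polar R u v = Matrix.toBilin' M u v) :
    ∃ d : F, d ≠ 0 ∧ disc Q = d ^ 2 * M.det := by
  let b : Basis (Fin n) F (ι → F) := (Pi.basisFun F (Fin n)).map φ
  obtain ⟨d, hd, hdet⟩ := gram_det_basis M b
  refine ⟨d, hd, ?_⟩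
  rw [← hdet]
  unfold disc
  congr 1
  ext i j
  simp only [Matrix.of_apply, ← hM, b, Basis.map_apply, Pi.basisFun_apply]
  simp only [polar, ← map_add, h]

theorem isometry_equiv_endo {V : Type v} [AddCommGroup V] [Module F V] [FiniteDimensional F V]
    (Q₁ Q₂ : QuadraticForm F V) (hQ₁ : QND Q₁) (g₀ : V →ₗ[F] V) (h : ∀ v, Q₂ (g₀ v) = Q₁ v) :
    ∃ g : V ≃ₗ[F] V, ∀ v, Q₂ (g v) = Q₁ v := by
  have hinj : Function.Injective g₀ := by
    rw [← LinearMap.ker_eq_bot, LinearMap.ker_eq_bot']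
    intro v hv
    apply hQ₁
    intro u
    have h1 : polar Q₂ (g₀ v) (g₀ u) = polar Q₁ v u := by
      simp only [polar, ← map_add, h]
    rw [hv, polar_zero_left] at h1
    exact h1.symm
  exact ⟨LinearEquiv.ofInjectiveEndo g₀ hinj, fun v => by simpa using h v⟩

/-- isometry between elliptic models with different parameters (odd characteristic) -/
noncomputable def psiMinus (k : ℕ) (t : F) :
    ((Fin k ⊕ Fin k) ⊕ Fin 2 → F) →ₗ[F] ((Fin k ⊕ Fin k) ⊕ Fin 2 → F) where
  toFun v := Sum.elim (fun i => v (Sum.inl i))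
    ![v (Sum.inr 0) + ((1 - t) / 2) * v (Sum.inr 1), t * v (Sum.inr 1)]
  map_add' u v := by
    ext (i | i)
    · simp
    · fin_cases i
      · simp; ring
      · simp; ring
  map_smul' a v := by
    ext (i | i)
    · simp
    · fin_cases i
      · simp; ring
      · simp; ring

theorem quadFormMinus_psiMinus (h2 : (2 : F) ≠ 0) (k : ℕ) (ζ₁ ζ₂ t : F)
    (ht : t ^ 2 * (1 - 4 * ζ₂) = 1 - 4 * ζ₁) (v : (Fin k ⊕ Fin k) ⊕ Fin 2 → F) :
    Cfsg.quadFormMinus k F 1 ζ₂ (psiMinus k t v) = Cfsg.quadFormMinus k F 1 ζ₁ v := by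
  simp only [Cfsg.quadFormMinus, psiMinus, LinearMap.coe_mk, AddHom.coe_mk, Sum.elim_inl,
    Sum.elim_inr, Matrix.cons_val_zero, Matrix.cons_val_one]
  have h4 : (4 : F) ≠ 0 := by
    have : (4 : F) = 2 * 2 := by norm_num
    rw [this]; exact mul_ne_zero h2 h2
  field_simp
  linear_combination (-(v (Sum.inr 1)) ^ 2) * ht

/-- scaling the anisotropic coordinate of the odd model -/
def psiOdd (k : ℕ) (t : F) :
    (Unit ⊕ (Fin k ⊕ Fin k) → F) →ₗ[F] (Unit ⊕ (Fin k ⊕ Fin k) → F) where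
  toFun v := Sum.elim (fun j => t * v (Sum.inl j)) (fun i => v (Sum.inr i))
  map_add' u v := by
    ext (i | i) <;> simp [mul_add]
  map_smul' a v := by
    ext (i | i) <;> simp [mul_left_comm]

theorem oddForm_psiOdd (k : ℕ) (c₁ c₂ t : F) (ht : c₂ * t ^ 2 = c₁)
    (v : Unit ⊕ (Fin k ⊕ Fin k) → F) :
    oddForm k c₂ (psiOdd k t v) = oddForm k c₁ v := by
  simp only [oddForm, psiOdd, LinearMap.coe_mk, AddHom.coe_mk, Sum.elim_inl, Sum.elim_inr]
  linear_combination (v (Sum.inl ()) ^ 2) * ht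

theorem det_odd_gram (m : ℕ) (c : F) :
    (Matrix.fromBlocks ((2 * c) • (1 : Matrix Unit Unit F))
        (0 : Matrix Unit (Fin m ⊕ Fin m) F) (0 : Matrix (Fin m ⊕ Fin m) Unit F)
        (Matrix.fromBlocks (0 : Matrix (Fin m) (Fin m) F) (1 : Matrix (Fin m) (Fin m) F)
        (1 : Matrix (Fin m) (Fin m) F) (0 : Matrix (Fin m) (Fin m) F))).det =
      2 * c * (-1) ^ m := by
  rw [Matrix.det_fromBlocks_zero₂₁, det_hyp, Fintype.card_fin]
  simp

end Cfsg.Agent.Lib.Helper50
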