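import Mathlib
import Cfsg.Prelude.Def_Classical
import Cfsg.Agent.Lib.Helper50.IsometryClass

set_option autoImplicit false

namespace Cfsg.Agent.Lib.Helper50

open Module QuadraticMap

universe u

variable {F : Type u} [Field F]

theorem anis_of_irred (ζ : F) (hζ : ∀ t : F, t ^ 2 + t + ζ ≠ 0) :
    ∀ z₁ z₂ : F, z₁ ^ 2 + 1 * z₁ * z₂ + ζ * z₂ ^ 2 = 0 → z₁ = 0 ∧ z₂ = 0 := by
  intro z₁ z₂ h
  by_cases hz : z₂ = 0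
  · subst hz
    simp at h
    exact ⟨h, rfl⟩
  · exfalso
    apply hζ (z₁ / z₂)
    field_simp
    linear_combination h

/-- over a finite field of odd order, nondegenerate quadratic forms on `F^n` whose discriminants
lie in the same square class are isometric -/
theorem isometric_of_disc [Fintype F] (h2 : (2 : F) ≠ 0) {n : ℕ}
    (Q₁ Q₂ : QuadraticForm F (Fin n → F)) (hQ₁ : QND Q₁) (hQ₂ : QND Q₂)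
    (hsq : IsSquare (disc Q₁ * disc Q₂)) :
    ∃ g : (Fin n → F) ≃ₗ[F] (Fin n → F), ∀ v, Q₂ (g v) = Q₁ v := by
  classical
  have hn : Module.finrank F (Fin n → F) = n := Module.finrank_fin_fun F
  rcases witt_type n Q₁ hn hQ₁ with
    ⟨m₁, hm₁, φ₁, hφ₁⟩ | ⟨m₁, ζ₁, hm₁, hζ₁, φ₁, hφ₁⟩ | ⟨m₁, c₁, hm₁, hc₁, φ₁, hφ₁⟩ <;>
  rcases witt_type n Q₂ hn hQ₂ with
    ⟨m₂, hm₂, φ₂, hφ₂⟩ | ⟨m₂, ζ₂, hm₂, hζ₂, φ₂, hφ₂⟩ | ⟨m₂, c₂, hm₂, hc₂, φ₂, hφ₂⟩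
  · -- plus, plus
    obtain rfl : m₁ = m₂ := by omega
    refine ⟨φ₁.trans φ₂.symm, fun v => ?_⟩
    rw [← hφ₂, ← hφ₁]
    simp
  · -- plus, minus
    exfalso
    obtain rfl : m₁ = m₂ + 1 := by omega
    obtain ⟨d₁, hd₁, e₁⟩ := disc_model Q₁ φ₁ _ hφ₁ _ (polar_quadFormPlus (m₂ + 1))
    obtain ⟨d₂, hd₂, e₂⟩ := disc_model Q₂ φ₂ _ hφ₂ _ (polar_quadFormMinus m₂ 1 ζ₂)
    rw [e₁, e₂, det_hyp, det_minus_gram, Fintype.card_fin] at hsq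
    have h3 : d₁ ^ 2 * (-1) ^ (m₂ + 1) * (d₂ ^ 2 * ((-1) ^ (m₂ + 1) * (1 ^ 2 - 4 * ζ₂))) =
        (d₁ * d₂ * (-1) ^ (m₂ + 1)) ^ 2 * (1 ^ 2 - 4 * ζ₂) := by ring
    rw [h3, isSquare_sq_mul_iff (mul_ne_zero (mul_ne_zero hd₁ hd₂)
      (pow_ne_zero _ (neg_ne_zero.mpr one_ne_zero)))] at hsq
    exact disc_not_isSquare h2 1 ζ₂ (anis_of_irred ζ₂ hζ₂) hsq
  · omega
  · -- minus, plus
    exfalso
    obtain rfl : m₂ = m₁ + 1 := by omega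
    obtain ⟨d₁, hd₁, e₁⟩ := disc_model Q₁ φ₁ _ hφ₁ _ (polar_quadFormMinus m₁ 1 ζ₁)
    obtain ⟨d₂, hd₂, e₂⟩ := disc_model Q₂ φ₂ _ hφ₂ _ (polar_quadFormPlus (m₁ + 1))
    rw [e₁, e₂, det_hyp, det_minus_gram, Fintype.card_fin] at hsq
    have h3 : d₁ ^ 2 * ((-1) ^ (m₁ + 1) * (1 ^ 2 - 4 * ζ₁)) * (d₂ ^ 2 * (-1) ^ (m₁ + 1)) =
        (d₁ * d₂ * (-1) ^ (m₁ + 1)) ^ 2 * (1 ^ 2 - 4 * ζ₁) := by ring
    rw [h3, isSquare_sq_mul_iff (mul_ne_zero (mul_ne_zero hd₁ hd₂)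
      (pow_ne_zero _ (neg_ne_zero.mpr one_ne_zero)))] at hsq
    exact disc_not_isSquare h2 1 ζ₁ (anis_of_irred ζ₁ hζ₁) hsq
  · -- minus, minus
    obtain rfl : m₁ = m₂ := by omega
    have hD₁ := disc_not_isSquare h2 1 ζ₁ (anis_of_irred ζ₁ hζ₁)
    have hD₂ := disc_not_isSquare h2 1 ζ₂ (anis_of_irred ζ₂ hζ₂)
    have hD₁0 : (1 ^ 2 - 4 * ζ₁ : F) ≠ 0 := fun h => hD₁ (h ▸ ⟨0, by ring⟩)
    have hD₂0 : (1 ^ 2 - 4 * ζ₂ : F) ≠ 0 := fun h => hD₂ (h ▸ ⟨0, by ring⟩)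
    obtain ⟨r, hr⟩ := (isSquare_mul_nonsquare_iff hD₁0 hD₂).mpr hD₁
    have hD₂0' : (1 - 4 * ζ₂ : F) ≠ 0 := by simpa using hD₂0
    have ht : (r / (1 - 4 * ζ₂)) ^ 2 * (1 - 4 * ζ₂) = 1 - 4 * ζ₁ := by
      field_simp
      linear_combination (-1 : F) * hr
    apply isometry_equiv_endo Q₁ Q₂ hQ₁
      ((φ₂.symm : ((Fin m₁ ⊕ Fin m₁) ⊕ Fin 2 → F) →ₗ[F] (Fin n → F)) ∘ₗ
        psiMinus m₁ (r / (1 - 4 * ζ₂)) ∘ₗ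
        (φ₁ : (Fin n → F) →ₗ[F] ((Fin m₁ ⊕ Fin m₁) ⊕ Fin 2 → F)))
    intro v
    rw [← hφ₂, ← hφ₁ v]
    simp only [LinearMap.coe_comp, LinearEquiv.coe_coe, Function.comp_apply,
      LinearEquiv.apply_symm_apply]
    exact quadFormMinus_psiMinus h2 m₁ ζ₁ ζ₂ _ ht _
  · omega
  · omega
  · omega
  · -- odd, odd
    obtain rfl : m₁ = m₂ := by omega
    obtain ⟨d₁, hd₁, e₁⟩ := disc_model Q₁ φ₁ _ hφ₁ _ (polar_oddForm m₁ c₁)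
    obtain ⟨d₂, hd₂, e₂⟩ := disc_model Q₂ φ₂ _ hφ₂ _ (polar_oddForm m₁ c₂)
    rw [e₁, e₂, det_odd_gram, det_odd_gram] at hsq
    have h3 : d₁ ^ 2 * (2 * c₁ * (-1) ^ m₁) * (d₂ ^ 2 * (2 * c₂ * (-1) ^ m₁)) =
        (d₁ * d₂ * 2 * (-1) ^ m₁) ^ 2 * (c₁ * c₂) := by ring
    rw [h3, isSquare_sq_mul_iff (mul_ne_zero (mul_ne_zero (mul_ne_zero hd₁ hd₂) h2)
      (pow_ne_zero _ (neg_ne_zero.mpr one_ne_zero)))] at hsq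
    obtain ⟨r, hr⟩ := hsq
    have ht : c₂ * (r / c₂) ^ 2 = c₁ := by
      field_simp
      linear_combination (-1 : F) * hr
    apply isometry_equiv_endo Q₁ Q₂ hQ₁
      ((φ₂.symm : (Unit ⊕ (Fin m₁ ⊕ Fin m₁) → F) →ₗ[F] (Fin n → F)) ∘ₗ
        psiOdd m₁ (r / c₂) ∘ₗ
        (φ₁ : (Fin n → F) →ₗ[F] (Unit ⊕ (Fin m₁ ⊕ Fin m₁) → F)))
    intro v
    rw [← hφ₂, ← hφ₁ v]
    simp only [LinearMap.coe_comp, LinearEquiv.coe_coe, Function.comp_apply,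
      LinearEquiv.apply_symm_apply]
    exact oddForm_psiOdd m₁ c₁ c₂ _ ht _

end Cfsg.Agent.Lib.Helper50
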