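import Mathlib
import Cfsg.Prelude.Def_Classical
import Cfsg.Agent.Lib.Helper50.WittBasis
import Cfsg.Agent.Lib.Helper50.IsometryDisc

set_option autoImplicit false

namespace Cfsg.Agent.Lib.Helper50

open Module QuadraticMap

universe u v w

variable {F : Type u} [Field F]

/-- a nondegenerate quadratic space of dimension `2M` containing a totally singular subspace of
dimension at least `M` is of plus type -/
theorem plusType_of_totally_singular (M : ℕ) :
    ∀ {V : Type v} [AddCommGroup V] [Module F V] [FiniteDimensional F V]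
      (Q : QuadraticForm F V), QND Q → Module.finrank F V = 2 * M →
      ∀ X : Submodule F V, M ≤ Module.finrank F X → (∀ x ∈ X, Q x = 0) → IsPlusType Q M := by
  induction M with
  | zero =>
    intro V _ _ _ Q _ hV X _ _
    exact plusType_zero Q (by omega)
  | succ M ih =>
    intro V _ _ _ Q hQ hV X hX hX0
    have hpos : 0 < Module.finrank F X := by omega
    obtain ⟨⟨e, heX⟩, he⟩ := Module.finrank_pos_iff_exists_ne_zero.mp hpos
    have he' : e ≠ 0 := fun h => he (Subtype.ext h)
    have he0 : Q e = 0 := hX0 e heX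
    obtain ⟨f, hf0, hef⟩ := exists_hyperbolic_pair Q hQ e he' he0
    have hrank := finrank_pairCompl Q e f he0 hf0 hef
    have hQ' := QND_pairCompl Q e f he0 hf0 hef hQ
    apply step_plus Q e f he0 hf0 hef
    -- X is orthogonal to e
    have hXe : ∀ x ∈ X, polar Q e x = 0 := by
      intro x hx
      simp only [polar]
      rw [hX0 _ (X.add_mem heX hx), he0, hX0 x hx]
      ring
    -- the kernel of polar f on X
    let l : X →ₗ[F] F := (polarBilin Q f).domRestrict X
    have h1 := LinearMap.finrank_range_add_finrank_ker l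
    have h2 : Module.finrank F (LinearMap.range l) ≤ 1 := by
      have := Submodule.finrank_le (LinearMap.range l)
      rwa [Module.finrank_self] at this
    have h3 : M ≤ Module.finrank F (LinearMap.ker l) := by omega
    -- map the kernel into the complement
    let j : LinearMap.ker l →ₗ[F] pairCompl Q e f :=
      { toFun := fun x => ⟨(x : X), by
          rw [mem_pairCompl]
          refine ⟨hXe _ (x : X).2, ?_⟩
          have h4 : l (x : X) = 0 := LinearMap.mem_ker.mp x.2
          exact h4⟩
        map_add' := fun _ _ => rfl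
        map_smul' := fun _ _ => rfl }
    have hj : Function.Injective j := by
      intro a b hab
      have : ((a : X) : V) = ((b : X) : V) := congrArg (fun z : pairCompl Q e f => (z : V)) hab
      exact Subtype.ext (Subtype.ext this)
    refine ih (Q.comp (pairCompl Q e f).subtype) hQ' (by omega) (LinearMap.range j) ?_ ?_
    · rw [LinearMap.finrank_range_of_inj hj]
      exact h3
    · rintro _ ⟨x, rfl⟩
      exact hX0 _ (x : X).2

/-- a plus type space has a totally singular subspace of half the dimension -/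
theorem exists_totally_singular_of_plusType {V : Type v} [AddCommGroup V] [Module F V]
    (Q : QuadraticForm F V) (M : ℕ) (h : IsPlusType Q M) :
    ∃ X : Submodule F V, Module.finrank F X = M ∧ ∀ x ∈ X, Q x = 0 := by
  obtain ⟨φ, hφ⟩ := h
  let j₀ : (Fin M → F) →ₗ[F] (Fin M ⊕ Fin M → F) :=
    { toFun := fun x => Sum.elim x 0
      map_add' := by
        intro x y
        ext (i | i) <;> simp
      map_smul' := by
        intro a x
        ext (i | i) <;> simp }
  let j : (Fin M → F) →ₗ[F] V := (φ.symm : (Fin M ⊕ Fin M → F) →ₗ[F] V) ∘ₗ j₀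
  have hj : Function.Injective j := by
    intro a b hab
    have h1 : j₀ a = j₀ b := φ.symm.injective hab
    ext i
    have := congrFun h1 (Sum.inl i)
    simpa [j₀] using this
  refine ⟨LinearMap.range j, ?_, ?_⟩
  · rw [LinearMap.finrank_range_of_inj hj, Module.finrank_fin_fun]
  · rintro _ ⟨x, rfl⟩
    rw [← hφ]
    simp [j, j₀, Cfsg.quadFormPlus]

/-- a space cannot be both of plus and of minus type -/
theorem not_plus_and_minus [Finite F] {V : Type v} [AddCommGroup V] [Module F V]
    (Q : QuadraticForm F V) (k : ℕ) (ζ : F) (hζ : ∀ t : F, t ^ 2 + t + ζ ≠ 0)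
    (hp : IsPlusType Q (k + 1)) (hm : IsMinusType Q k ζ) : False := by
  classical
  have : Fintype F := Fintype.ofFinite F
  obtain ⟨φ, hφ⟩ := hp
  obtain ⟨ψ, hψ⟩ := hm
  have h1 := zeroCount_plus_eq_minus_add (F := F) k 1 ζ (anis_of_irred ζ hζ)
  have h2 : zeroCount (Cfsg.quadFormPlus (k + 1) F) = zeroCount (Cfsg.quadFormMinus k F 1 ζ) :=
    zeroCount_congr (φ.symm.trans ψ).toEquiv _ _ (fun v => by
      have := hφ (φ.symm v)
      rw [LinearEquiv.apply_symm_apply] at this
      rw [this, ← hψ]
      rfl)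
  have hq : 2 ≤ Fintype.card F := Fintype.one_lt_card
  have hpos : 0 < 2 * (Fintype.card F - 1) * Fintype.card F ^ k := by
    apply Nat.mul_pos
    · omega
    · exact pow_pos (by omega) k
  omega

/-- Gram determinant (any basis) through a model -/
theorem gram_model {V : Type v} [AddCommGroup V] [Module F V] {ι : Type w} [Fintype ι]
    [DecidableEq ι] {κ : Type w} [Fintype κ] [DecidableEq κ]
    (Q : QuadraticForm F V) (φ : V ≃ₗ[F] (κ → F)) (R : (κ → F) → F)
    (h : ∀ v, R (φ v) = Q v) (M : Matrix κ κ F)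
    (hM : ∀ u v, polar R u v = Matrix.toBilin' M u v) (b : Basis ι F V) :
    ∃ d : F, d ≠ 0 ∧ (Matrix.of fun i j => polar Q (b i) (b j)).det = d ^ 2 * M.det := by
  let b' : Basis ι F (κ → F) := b.map φ
  obtain ⟨d, hd, hdet⟩ := gram_det_basis M b'
  refine ⟨d, hd, ?_⟩
  rw [← hdet]
  congr 1
  ext i j
  simp only [Matrix.of_apply, ← hM, b', Basis.map_apply]
  simp only [polar, ← map_add, h]

theorem gram_isSquare_plus {V : Type v} [AddCommGroup V] [Module F V] {ι : Type} [Fintype ι]
    [DecidableEq ι] (Q : QuadraticForm F V) (m : ℕ) (h : IsPlusType Q m) (b : Basis ι F V) :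
    IsSquare (Matrix.of fun i j => polar Q (b i) (b j)).det ↔ IsSquare ((-1 : F) ^ m) := by
  obtain ⟨φ, hφ⟩ := h
  obtain ⟨d, hd, hdet⟩ := gram_model Q φ _ hφ _ (polar_quadFormPlus m) b
  rw [hdet, isSquare_sq_mul_iff hd, det_hyp, Fintype.card_fin]

theorem gram_isSquare_minus [Fintype F] (h2 : (2 : F) ≠ 0) {V : Type v} [AddCommGroup V]
    [Module F V] {ι : Type} [Fintype ι]
    [DecidableEq ι] (Q : QuadraticForm F V) (k : ℕ) (ζ : F) (hζ : ∀ t : F, t ^ 2 + t + ζ ≠ 0)
    (h : IsMinusType Q k ζ) (b : Basis ι F V) :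
    IsSquare (Matrix.of fun i j => polar Q (b i) (b j)).det ↔ ¬ IsSquare ((-1 : F) ^ (k + 1)) := by
  obtain ⟨φ, hφ⟩ := h
  obtain ⟨d, hd, hdet⟩ := gram_model Q φ _ hφ _ (polar_quadFormMinus k 1 ζ) b
  have hx : ((-1 : F) ^ (k + 1)) ≠ 0 := pow_ne_zero _ (neg_ne_zero.mpr one_ne_zero)
  rw [hdet, isSquare_sq_mul_iff hd, det_minus_gram,
    isSquare_mul_nonsquare_iff hx (disc_not_isSquare h2 1 ζ (anis_of_irred ζ hζ))]

end Cfsg.Agent.Lib.Helper50
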