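import Cfsg.Agent.Lib.Helper50.NonMaxFrame

set_option autoImplicit false

/-! Action of the tensor product subgroup on pure tensor vectors, and the value of a form with a
tensor structure on pure tensors. -/

namespace Cfsg.Agent.Lib.Helper50

open Matrix
open scoped Kronecker

section pure

variable {F : Type*} [Field F] {ι : Type} [Fintype ι] [DecidableEq ι] {n₁ n₂ : ℕ}

/-- the coordinate vector of a pure tensor -/
def tprod (u : Fin n₁ → F) (y : Fin n₂ → F) : Fin n₁ × Fin n₂ → F := fun p => u p.1 * y p.2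

/-- pure tensor vectors of `F^ι` -/
def pureT (e : ι ≃ Fin n₁ × Fin n₂) (P : GL ι F) (u : Fin n₁ → F) (y : Fin n₂ → F) : ι → F :=
  (P : Matrix ι ι F) *ᵥ (tprod u y ∘ e)

theorem tprod_add_right (u : Fin n₁ → F) (y y' : Fin n₂ → F) :
    tprod u (y + y') = tprod u y + tprod u y' := by
  ext p; simp [tprod, mul_add]

theorem tprod_add_left (u u' : Fin n₁ → F) (y : Fin n₂ → F) :
    tprod (u + u') y = tprod u y + tprod u' y := by
  ext p; simp [tprod, add_mul]

theorem tprod_smul_right (c : F) (u : Fin n₁ → F) (y : Fin n₂ → F) :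
    tprod u (c • y) = c • tprod u y := by
  ext p; simp [tprod]; ring

theorem tprod_smul_left (c : F) (u : Fin n₁ → F) (y : Fin n₂ → F) :
    tprod (c • u) y = c • tprod u y := by
  ext p; simp [tprod]; ring

theorem pureT_add_right (e : ι ≃ Fin n₁ × Fin n₂) (P : GL ι F) (u : Fin n₁ → F)
    (y y' : Fin n₂ → F) : pureT e P u (y + y') = pureT e P u y + pureT e P u y' := by
  unfold pureT
  rw [tprod_add_right, ← Matrix.mulVec_add]
  rfl

theorem pureT_add_left (e : ι ≃ Fin n₁ × Fin n₂) (P : GL ι F) (u u' : Fin n₁ → F)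
    (y : Fin n₂ → F) : pureT e P (u + u') y = pureT e P u y + pureT e P u' y := by
  unfold pureT
  rw [tprod_add_left, ← Matrix.mulVec_add]
  rfl

theorem pureT_smul_right (e : ι ≃ Fin n₁ × Fin n₂) (P : GL ι F) (c : F) (u : Fin n₁ → F)
    (y : Fin n₂ → F) : pureT e P u (c • y) = c • pureT e P u y := by
  unfold pureT
  rw [tprod_smul_right, ← Matrix.mulVec_smul]
  rfl

theorem pureT_smul_left (e : ι ≃ Fin n₁ × Fin n₂) (P : GL ι F) (c : F) (u : Fin n₁ → F)
    (y : Fin n₂ → F) : pureT e P (c • u) y = c • pureT e P u y := by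
  unfold pureT
  rw [tprod_smul_left, ← Matrix.mulVec_smul]
  rfl

theorem pureT_neg_left (e : ι ≃ Fin n₁ × Fin n₂) (P : GL ι F) (u : Fin n₁ → F)
    (y : Fin n₂ → F) : pureT e P (-u) y = pureT e P u (-y) := by
  have h1 := pureT_smul_left e P (-1) u y
  have h2 := pureT_smul_right e P (-1) u y
  rw [neg_one_smul] at h1 h2
  rw [h1, h2]

theorem pureT_zero_right (e : ι ≃ Fin n₁ × Fin n₂) (P : GL ι F) (u : Fin n₁ → F) :
    pureT e P u 0 = 0 := by
  have h := pureT_smul_right e P 0 u 0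
  rw [zero_smul, zero_smul] at h
  exact h

/-- the linear map `y ↦ u ⊗ y` -/
def pureLin (e : ι ≃ Fin n₁ × Fin n₂) (P : GL ι F) (u : Fin n₁ → F) :
    (Fin n₂ → F) →ₗ[F] (ι → F) where
  toFun y := pureT e P u y
  map_add' y y' := pureT_add_right e P u y y'
  map_smul' c y := pureT_smul_right e P c u y

theorem pureLin_apply (e : ι ≃ Fin n₁ × Fin n₂) (P : GL ι F) (u : Fin n₁ → F) (y : Fin n₂ → F) :
    pureLin e P u y = pureT e P u y := rfl

/-- equality of pure tensor vectors is equality of the coordinate products -/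
theorem pureT_eq_iff (e : ι ≃ Fin n₁ × Fin n₂) (P : GL ι F) (u u' : Fin n₁ → F)
    (y y' : Fin n₂ → F) :
    pureT e P u y = pureT e P u' y' ↔ ∀ i j, u i * y j = u' i * y' j := by
  constructor
  · intro h i j
    unfold pureT at h
    have h1 := congrArg (fun z => ((P⁻¹ : GL ι F) : Matrix ι ι F) *ᵥ z) h
    simp only [Matrix.mulVec_mulVec, ← Units.val_mul, inv_mul_cancel, Units.val_one,
      Matrix.one_mulVec] at h1
    have h2 := congrFun h1 (e.symm (i, j))
    simpa [tprod] using h2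
  · intro h
    unfold pureT
    congr 1
    ext k
    simp only [Function.comp_apply, tprod]
    exact h _ _

theorem kron_mulVec_tprod (a : Matrix (Fin n₁) (Fin n₁) F) (b : Matrix (Fin n₂) (Fin n₂) F)
    (u : Fin n₁ → F) (y : Fin n₂ → F) :
    (a ⊗ₖ b) *ᵥ tprod u y = tprod (a *ᵥ u) (b *ᵥ y) := by
  funext ⟨i, j⟩
  simp only [Matrix.mulVec, dotProduct, tprod, Matrix.kroneckerMap_apply, Fintype.sum_prod_type]
  rw [Finset.sum_mul_sum]
  apply Finset.sum_congr rfl
  intro i' _
  apply Finset.sum_congr rfl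
  intro j' _
  ring

/-- elements of the tensor product subgroup act factorwise on pure tensors -/
theorem tensor_mulVec_pureT (e : ι ≃ Fin n₁ × Fin n₂) (P : GL ι F) (g : GL ι F)
    (hg : g ∈ Cfsg.Geo.tensorProductSubgroup n₁ n₂ e P) :
    ∃ (a : GL (Fin n₁) F) (b : GL (Fin n₂) F), ∀ u y,
      (g : Matrix ι ι F) *ᵥ pureT e P u y =
        pureT e P ((a : Matrix (Fin n₁) (Fin n₁) F) *ᵥ u) ((b : Matrix (Fin n₂) (Fin n₂) F) *ᵥ y) := by
  obtain ⟨k', ⟨k, ⟨a, b, hk⟩, rfl⟩, rfl⟩ := hg
  refine ⟨a, b, fun u y => ?_⟩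
  unfold pureT
  have h1 : (((MulAut.conj P).toMonoidHom ((Cfsg.Geo.glReindex e.symm).toMonoidHom k) : GL ι F) :
      Matrix ι ι F) = (P : Matrix ι ι F) * (k : Matrix _ _ F).submatrix e e *
        ((P⁻¹ : GL ι F) : Matrix ι ι F) := by
    simp [Cfsg.Geo.glReindex, MulAut.conj_apply, Units.val_mul]
  rw [h1, Matrix.mulVec_mulVec, Matrix.mul_assoc, ← Units.val_mul, inv_mul_cancel, Units.val_one,
    Matrix.mul_one, ← Matrix.mulVec_mulVec]
  congr 1
  rw [Matrix.submatrix_mulVec_equiv]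
  have : (tprod u y ∘ ⇑e) ∘ ⇑e.symm = tprod u y := by
    ext p; simp
  rw [this, hk, kron_mulVec_tprod]

end pure

section gram

variable {F : Type*} [Field F] {κ : Type} [Fintype κ] [DecidableEq κ]

theorem bilin_sum_left (f : (κ → F) → (κ → F) → F) (hf : Cfsg.Geo.IsBilinearForm f)
    {α : Type*} (s : Finset α) (c : α → F) (v : α → κ → F) (y : κ → F) :
    f (∑ a ∈ s, c a • v a) y = ∑ a ∈ s, c a * f (v a) y := by
  classical
  induction s using Finset.induction_on with
  | empty =>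
    have h := hf.smul_left 0 0 y
    rw [zero_smul, zero_mul] at h
    simpa using h
  | insert a s ha ih =>
    rw [Finset.sum_insert ha, Finset.sum_insert ha, hf.add_left, hf.smul_left, ih]

theorem bilin_sum_right (f : (κ → F) → (κ → F) → F) (hf : Cfsg.Geo.IsBilinearForm f)
    {α : Type*} (s : Finset α) (c : α → F) (v : α → κ → F) (x : κ → F) :
    f x (∑ a ∈ s, c a • v a) = ∑ a ∈ s, c a * f x (v a) := by
  classical
  induction s using Finset.induction_on with
  | empty =>
    have h := hf.smul_right 0 x 0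
    rw [zero_smul, zero_mul] at h
    simpa using h
  | insert a s ha ih =>
    rw [Finset.sum_insert ha, Finset.sum_insert ha, hf.add_right, hf.smul_right, ih]

/-- a bilinear form given as a function is the form of its Gram matrix -/
theorem bilin_eq_gram (f : (κ → F) → (κ → F) → F) (hf : Cfsg.Geo.IsBilinearForm f)
    (x y : κ → F) : f x y = x ⬝ᵥ (Cfsg.Geo.gramMatrix f *ᵥ y) := by
  have hx : x = ∑ a, x a • (Pi.single a (1 : F) : κ → F) := by
    ext k
    simp [Finset.sum_apply, Pi.single_apply]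
  have hy : y = ∑ a, y a • (Pi.single a (1 : F) : κ → F) := by
    ext k
    simp [Finset.sum_apply, Pi.single_apply]
  conv_lhs => rw [hx, bilin_sum_left f hf]
  simp only [dotProduct, Matrix.mulVec, Cfsg.Geo.gramMatrix]
  apply Finset.sum_congr rfl
  intro a _
  congr 1
  conv_lhs => rw [hy, bilin_sum_right f hf]
  apply Finset.sum_congr rfl
  intro b _
  ring

end gram

section form

variable {F : Type*} [Field F] {ι : Type} [Fintype ι] [DecidableEq ι] {n₁ n₂ : ℕ}

/-- value of a form with a tensor structure on pure tensors -/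
theorem form_pureT (f : (ι → F) → (ι → F) → F) (f₁ : (Fin n₁ → F) → (Fin n₁ → F) → F)
    (f₂ : (Fin n₂ → F) → (Fin n₂ → F) → F) (e : ι ≃ Fin n₁ × Fin n₂) (P : GL ι F)
    (hT : Cfsg.Geo.IsTensorFormStructure id f f₁ f₂ e P) :
    ∃ c : F, c ≠ 0 ∧ ∀ (u u' : Fin n₁ → F) (y y' : Fin n₂ → F),
      f (pureT e P u y) (pureT e P u' y') =
        c * (u ⬝ᵥ (Cfsg.Geo.gramMatrix f₁ *ᵥ u')) * (y ⬝ᵥ (Cfsg.Geo.gramMatrix f₂ *ᵥ y')) := by
  obtain ⟨c, hc, h⟩ := hT
  refine ⟨c, hc, fun u u' y y' => ?_⟩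
  unfold pureT
  rw [h, mul_assoc]
  congr 1
  simp only [Cfsg.Geo.formOfGram, id, tprod, Matrix.kroneckerMap_apply, Fintype.sum_prod_type,
    dotProduct, Matrix.mulVec]
  rw [Finset.sum_mul_sum]
  apply Finset.sum_congr rfl
  intro i _
  apply Finset.sum_congr rfl
  intro j _
  rw [Finset.mul_sum, Finset.mul_sum, Finset.sum_mul_sum]
  apply Finset.sum_congr rfl
  intro i' _
  apply Finset.sum_congr rfl
  intro j' _
  ring

end form

end Cfsg.Agent.Lib.Helper50
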