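import Cfsg.Agent.Lib.Helper50.NonMaxFrame

set_option autoImplicit false

/-! Canonical vectors in non-degenerate planes and 3-spaces over the field with three elements. -/

namespace Cfsg.Agent.Lib.Helper50

open Matrix Module QuadraticMap Cfsg.Agent.Lib.Helper19

variable {F : Type*} [Field F] [Fintype F] {ι : Type} [Fintype ι] [DecidableEq ι]

theorem two_ne_zero_of_card_three (hq : Fintype.card F = 3) : (2 : F) ≠ 0 :=
  two_ne_zero_of_odd_card hq (by decide)

/-- over the field with three elements a sum of two squares vanishes only trivially -/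
theorem sq_add_sq_eq_zero_of_card_three (hq : Fintype.card F = 3) (x y : F)
    (h : x * x + y * y = 0) : x = 0 ∧ y = 0 := by
  have h2 := two_ne_zero_of_card_three hq
  have hle : Fintype.card F ≤ 3 := by omega
  by_cases hx : x = 0
  · refine ⟨hx, ?_⟩
    rw [hx, mul_zero, zero_add] at h
    exact mul_self_eq_zero.mp h
  · exfalso
    rw [mul_self_eq_one_of_card_le_three hle x hx] at h
    by_cases hy : y = 0
    · rw [hy, mul_zero, add_zero] at h
      exact one_ne_zero h
    · rw [mul_self_eq_one_of_card_le_three hle y hy] at h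
      apply h2
      rw [← h]
      norm_num

/-- a non-singular vector whose orthogonal complement in `N` is anisotropic is canonical -/
theorem canonical_of_aniso_perp (hq : Fintype.card F = 3) (Q : QuadraticForm F (ι → F))
    (N : Submodule F (ι → F)) (v : ι → F) (hvN : v ∈ N) (c : F) (hc : c ≠ 0) (hvc : Q v = c)
    (hperp : ∀ w' ∈ N, polar (⇑Q) v w' = 0 → Q w' = 0 → w' = 0) :
    ∀ w ∈ N, Q w = c → w = v ∨ w = -v ∨ polar (⇑Q) v w = 0 := by
  intro w hwN hwc
  have h2 := two_ne_zero_of_card_three hq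
  have hle : Fintype.card F ≤ 3 := by omega
  have h2c : 2 * c ≠ 0 := mul_ne_zero h2 hc
  have hvv : polar (⇑Q) v v = 2 * c := by rw [polar_self, hvc]; simp
  by_cases hp : polar (⇑Q) v w = 0
  · exact Or.inr (Or.inr hp)
  set α := polar (⇑Q) v w / (2 * c) with hα
  have hα0 : α ≠ 0 := div_ne_zero hp h2c
  have hαα := mul_self_eq_one_of_card_le_three hle α hα0
  have hpα : polar (⇑Q) v w = α * (2 * c) := by
    rw [hα]
    field_simp
  have hw' : w - α • v = 0 := by
    apply hperp _ (N.sub_mem hwN (N.smul_mem _ hvN))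
    · rw [polar_sub_right, polar_smul_right, hvv, smul_eq_mul, hpα, sub_self]
    · have h := QuadraticMap.map_add (⇑Q) w (-(α • v))
      rw [← sub_eq_add_neg] at h
      rw [h, QuadraticMap.map_neg, QuadraticMap.map_smul, hvc, hwc, polar_neg_right,
        polar_smul_right, polar_comm (⇑Q) w v, hpα, smul_eq_mul, smul_eq_mul, hαα]
      have : α * (α * (2 * c)) = (α * α) * (2 * c) := by ring
      rw [this, hαα]
      ring
  have hwv : w = α • v := sub_eq_zero.mp hw'
  rcases mul_self_eq_one_iff.mp hαα with h1 | h1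
  · left
    rw [hwv, h1, one_smul]
  · right
    left
    rw [hwv, h1, neg_smul, one_smul]

/-- an orthogonal basis of a subspace, as vectors of the ambient space -/
theorem exists_orthogonal_basis_sub (h2 : (2 : F) ≠ 0) (Q : QuadraticForm F (ι → F))
    (N : Submodule F (ι → F)) (k : ℕ) (hN : finrank F N = k) :
    ∃ u : Fin k → (ι → F), (∀ j, u j ∈ N) ∧ (∀ j, u j ≠ 0) ∧
      (∀ i j, i ≠ j → polar (⇑Q) (u i) (u j) = 0) ∧
      ∀ w ∈ N, ∃ x : Fin k → F, w = ∑ j, x j • u j := by
  have hinv : Invertible (2 : F) := invertibleOfNonzero h2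
  have hsymm : LinearMap.IsSymm (LinearMap.BilinForm.restrict (polarBilin Q) N) :=
    ⟨fun x y => polar_comm (⇑Q) (x : ι → F) (y : ι → F)⟩
  obtain ⟨b, hb⟩ := LinearMap.BilinForm.exists_orthogonal_basis hsymm
  set b' : Basis (Fin k) F N := b.reindex (finCongr hN) with hb'
  refine ⟨fun j => ((b' j : N) : ι → F), fun j => (b' j).2, ?_, ?_, ?_⟩
  · intro j hj
    exact b'.ne_zero j (Subtype.ext hj)
  · intro i j hij
    have h := hb (show (finCongr hN).symm i ≠ (finCongr hN).symm j from
      fun h => hij ((finCongr hN).symm.injective h))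
    simp only [hb', Basis.reindex_apply]
    exact h
  · intro w hw
    refine ⟨fun j => b'.repr ⟨w, hw⟩ j, ?_⟩
    have h := b'.sum_repr ⟨w, hw⟩
    have h' := congrArg (fun z : N => (z : ι → F)) h
    simp only [Submodule.coe_sum, Submodule.coe_smul] at h'
    exact h'.symm

theorem polar_sum_right_fin (Q : QuadraticForm F (ι → F)) {k : ℕ} (u : Fin k → ι → F)
    (x : Fin k → F) (w : ι → F) :
    polar (⇑Q) w (∑ j, x j • u j) = ∑ j, x j * polar (⇑Q) w (u j) := by
  have h := map_sum (polarBilin Q w) (fun j => x j • u j) Finset.univ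
  simp only [map_smul, smul_eq_mul, polarBilin_apply_apply] at h
  exact h

theorem Q_sum_orth (Q : QuadraticForm F (ι → F)) {k : ℕ} (u : Fin k → ι → F)
    (horth : ∀ i j, i ≠ j → polar (⇑Q) (u i) (u j) = 0) (x : Fin k → F) (s : Finset (Fin k)) :
    Q (∑ j ∈ s, x j • u j) = ∑ j ∈ s, x j * x j * Q (u j) := by
  classical
  induction s using Finset.induction_on with
  | empty => simp
  | insert a s ha ih =>
    rw [Finset.sum_insert ha, Finset.sum_insert ha, QuadraticMap.map_add Q, ih,
      QuadraticMap.map_smul]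
    have h0 : polar (⇑Q) (x a • u a) (∑ j ∈ s, x j • u j) = 0 := by
      have h := map_sum (polarBilin Q (x a • u a)) (fun j => x j • u j) s
      simp only [polarBilin_apply_apply] at h
      rw [h]
      apply Finset.sum_eq_zero
      intro j hj
      rw [polar_smul_left, polar_smul_right, horth a j (by rintro rfl; exact ha hj)]
      simp
    rw [h0, add_zero, smul_eq_mul]

/-- a basis vector whose complement is anisotropic is canonical -/
theorem canonical_of_index (hq : Fintype.card F = 3) (Q : QuadraticForm F (ι → F))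
    (N : Submodule F (ι → F)) {k : ℕ} (u : Fin k → ι → F) (huN : ∀ j, u j ∈ N)
    (horth : ∀ i j, i ≠ j → polar (⇑Q) (u i) (u j) = 0)
    (hspan : ∀ w ∈ N, ∃ x : Fin k → F, w = ∑ j, x j • u j) (l : Fin k) (hl : Q (u l) ≠ 0)
    (haniso : ∀ x : Fin k → F, x l = 0 → ∑ m, x m * x m * Q (u m) = 0 → ∀ m, x m = 0) :
    ∀ w ∈ N, Q w = Q (u l) → w = u l ∨ w = -u l ∨ polar (⇑Q) (u l) w = 0 := by
  have h2 := two_ne_zero_of_card_three hq
  apply canonical_of_aniso_perp hq Q N (u l) (huN l) (Q (u l)) hl rfl
  intro w' hw' hp hQ0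
  obtain ⟨x, rfl⟩ := hspan w' hw'
  rw [polar_sum_right_fin] at hp
  rw [Finset.sum_eq_single l] at hp
  · rw [polar_self] at hp
    have hxl : x l = 0 := by
      rcases mul_eq_zero.mp hp with h | h
      · exact h
      · exfalso
        rw [nsmul_eq_mul, Nat.cast_ofNat] at h
        exact mul_ne_zero h2 hl h
    rw [Q_sum_orth Q u horth x Finset.univ] at hQ0
    have hx := haniso x hxl hQ0
    apply Finset.sum_eq_zero
    intro m _
    rw [hx m, zero_smul]
  · intro m _ hml
    rw [horth l m (Ne.symm hml), mul_zero]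
  · intro h
    exact absurd (Finset.mem_univ l) h

theorem exists_canonical (hq : Fintype.card F = 3) (Q : QuadraticForm F (ι → F))
    (N : Submodule F (ι → F)) (k : ℕ) (hk : k = 2 ∨ k = 3) (hN : finrank F N = k)
    (hnd : Cfsg.Geo.IsNondegenerateOn (polar (⇑Q)) N) :
    ∃ v ∈ N, ∃ c : F, c ≠ 0 ∧ Q v = c ∧
      ∀ w ∈ N, Q w = c → w = v ∨ w = -v ∨ polar (⇑Q) v w = 0 := by
  have h2 := two_ne_zero_of_card_three hq
  have hle : Fintype.card F ≤ 3 := by omega
  obtain ⟨u, huN, hu0, horth, hspan⟩ := exists_orthogonal_basis_sub h2 Q N k hN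
  have ha : ∀ j, Q (u j) ≠ 0 := by
    intro j hj
    obtain ⟨-, ⟨y, hyN, hy⟩⟩ := hnd (u j) (huN j) (hu0 j)
    apply hy
    obtain ⟨x, rfl⟩ := hspan y hyN
    rw [polar_sum_right_fin]
    apply Finset.sum_eq_zero
    intro m _
    by_cases hmj : m = j
    · subst hmj
      rw [polar_self, hj, smul_zero, mul_zero]
    · rw [horth j m (Ne.symm hmj), mul_zero]
  rcases hk with rfl | rfl
  · refine ⟨u 0, huN 0, Q (u 0), ha 0, rfl,
      canonical_of_index hq Q N u huN horth hspan 0 (ha 0) ?_⟩
    intro x hx0 hsum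
    rw [Fin.sum_univ_two, hx0, zero_mul, zero_mul, zero_add] at hsum
    have hx1 : x 1 = 0 := by
      rcases mul_eq_zero.mp hsum with h | h
      · exact mul_self_eq_zero.mp h
      · exact absurd h (ha 1)
    intro m
    fin_cases m
    · exact hx0
    · exact hx1
  · -- two of the three diagonal values agree
    have key : ∀ i j l : Fin 3, Q (u i) = Q (u j) →
        (∀ f : Fin 3 → F, ∑ m, f m = f i + f j + f l) → (∀ m, m = i ∨ m = j ∨ m = l) →
        ∃ v ∈ N, ∃ c : F, c ≠ 0 ∧ Q v = c ∧
          ∀ w ∈ N, Q w = c → w = v ∨ w = -v ∨ polar (⇑Q) v w = 0 := by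
      intro i j l hij huniv hall
      refine ⟨u l, huN l, Q (u l), ha l, rfl,
        canonical_of_index hq Q N u huN horth hspan l (ha l) ?_⟩
      intro x hxl hsum
      rw [huniv, hxl, zero_mul, zero_mul, add_zero, hij, ← add_mul] at hsum
      have hs : x i * x i + x j * x j = 0 := by
        rcases mul_eq_zero.mp hsum with h | h
        · exact h
        · exact absurd h (ha j)
      obtain ⟨hxi, hxj⟩ := sq_add_sq_eq_zero_of_card_three hq _ _ hs
      intro m
      rcases hall m with rfl | rfl | rfl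
      · exact hxi
      · exact hxj
      · exact hxl
    have hpm : ∀ j, Q (u j) = 1 ∨ Q (u j) = -1 := fun j =>
      mul_self_eq_one_iff.mp (mul_self_eq_one_of_card_le_three hle _ (ha j))
    have h01 : ∀ f : Fin 3 → F, ∑ m, f m = f 0 + f 1 + f 2 := fun f => Fin.sum_univ_three f
    have h02 : ∀ f : Fin 3 → F, ∑ m, f m = f 0 + f 2 + f 1 := fun f => by
      rw [Fin.sum_univ_three]; ring
    have h12 : ∀ f : Fin 3 → F, ∑ m, f m = f 1 + f 2 + f 0 := fun f => by
      rw [Fin.sum_univ_three]; ring
    by_cases e01 : Q (u 0) = Q (u 1)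
    · exact key 0 1 2 e01 h01 (by decide)
    by_cases e02 : Q (u 0) = Q (u 2)
    · exact key 0 2 1 e02 h02 (by decide)
    have e12 : Q (u 1) = Q (u 2) := by
      rcases hpm 0 with h0 | h0 <;> rcases hpm 1 with h1 | h1 <;> rcases hpm 2 with h2' | h2' <;>
        simp_all
    exact key 1 2 0 e12 h12 (by decide)

/-- non-maximality of the stabilizer of an isometric decomposition into planes or 3-spaces
over the field with three elements -/
theorem nonmax_frame3 (hq : Fintype.card F = 3) (Q : QuadraticForm F (ι → F))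
    (hQ : (polarBilin Q).Nondegenerate) (hn : 13 ≤ Fintype.card ι) {t : ℕ} (k : ℕ)
    (hk : k = 2 ∨ k = 3) (D : Fin t → Submodule F (ι → F))
    (hD : Cfsg.Geo.IsOrthogonalMDecomposition (⇑Q) k D) :
    ∃ K : Subgroup (GL ι F), Cfsg.Geo.decompositionStabilizer D ⊓ Cfsg.Geo.omegaGL (⇑Q) < K ∧
      K < Cfsg.Geo.omegaGL (⇑Q) := by
  have h2 := two_ne_zero_of_card_three hq
  have hfr : ∀ i, finrank F (D i) = k := hD.decomp.decomp.finrank_eq
  have hsup : ∀ s : Finset (Fin t),
      finrank F (s.sup D : Submodule F (ι → F)) ≤ s.card * k := by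
    intro s
    induction s using Finset.induction_on with
    | empty => simp
    | insert a s ha ih =>
      rw [Finset.sup_insert, Finset.card_insert_of_notMem ha]
      calc finrank F (D a ⊔ s.sup D : Submodule F (ι → F))
          ≤ finrank F (D a) + finrank F (s.sup D : Submodule F (ι → F)) :=
            Submodule.finrank_add_le_finrank_add_finrank _ _
        _ ≤ k + s.card * k := by rw [hfr a]; omega
        _ = (s.card + 1) * k := by ring
  have ht : 5 ≤ t := by
    have h := hsup Finset.univ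
    rw [Finset.sup_univ_eq_iSup, hD.decomp.decomp.iSup_eq_top, finrank_top,
      Module.finrank_fintype_fun_eq_card, Finset.card_univ, Fintype.card_fin] at h
    rcases hk with rfl | rfl <;> omega
  set i0 : Fin t := ⟨0, by omega⟩ with hi0
  obtain ⟨v0, hv0, c, hc, hv0c, hcan0⟩ :=
    exists_canonical hq Q (D i0) k hk (hfr i0) (hD.decomp.nondegenerate i0)
  choose e he using fun i => hD.isometric i0 i
  have hpol : ∀ i (a b : D i0),
      polar (⇑Q) ((e i a : D i) : ι → F) ((e i b : D i) : ι → F) =
        polar (⇑Q) (a : ι → F) (b : ι → F) := by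
    intro i a b
    unfold polar
    rw [← he i a, ← he i b, ← Submodule.coe_add, ← Submodule.coe_add, ← he i (a + b), map_add]
  refine nonmax_of_canonical h2 hQ (by omega) ht (fun i => by rw [hfr i]; rcases hk with rfl | rfl <;> omega)
    (fun i j hij => hD.decomp.orthogonal i j hij) hD.decomp.nondegenerate hc
    (fun i => ((e i ⟨v0, hv0⟩ : D i) : ι → F)) (fun i => (e i ⟨v0, hv0⟩).2)
    (fun i => by rw [he]; exact hv0c) ?_
  intro i w hw hwc
  set w0 : D i0 := (e i).symm ⟨w, hw⟩ with hw0
  have hew0 : ((e i w0 : D i) : ι → F) = w := by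
    rw [hw0, LinearEquiv.apply_symm_apply]
  have hw0c : Q (w0 : ι → F) = c := by rw [← he i w0, hew0, hwc]
  rcases hcan0 (w0 : ι → F) w0.2 hw0c with h | h | h
  · left
    have h' : w0 = ⟨v0, hv0⟩ := Subtype.ext h
    rw [← hew0, h']
  · right; left
    have h' : w0 = -⟨v0, hv0⟩ := Subtype.ext h
    rw [← hew0, h', map_neg]
    rfl
  · right; right
    have := hpol i ⟨v0, hv0⟩ w0
    rw [hew0] at this
    rw [this]
    exact h

end Cfsg.Agent.Lib.Helper50
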