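import Cfsg.Agent.Lib.Helper50.SpinorHom
import Cfsg.Agent.Lib.Helper50.WittBasis
import Cfsg.Agent.Lib.Helper50.IsometryClass

set_option autoImplicit false

/-! The frozen standard forms as `QuadraticForm`s (with definitional coercion), and
the criterion for `-1` to lie in `Ω`. -/

namespace Cfsg.Agent.Lib.Helper50

open Matrix

variable {F : Type*} [Field F] {κ : Type} [Fintype κ] [DecidableEq κ]

/-- A function whose polar is given by a matrix is a quadratic form. -/
def qfOfPolar (R : (κ → F) → F) (M : Matrix κ κ F) (hsm : ∀ (a : F) x, R (a • x) = a * a * R x)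
    (hM : ∀ u v, QuadraticMap.polar R u v = Matrix.toBilin' M u v) : QuadraticForm F (κ → F) where
  toFun := R
  toFun_smul := fun a x => by rw [hsm]; rfl
  exists_companion' := ⟨Matrix.toBilin' M, fun x y => by
    have := hM x y
    unfold QuadraticMap.polar at this
    linear_combination this⟩

theorem qfOfPolar_coe (R : (κ → F) → F) (M : Matrix κ κ F)
    (hsm : ∀ (a : F) x, R (a • x) = a * a * R x)
    (hM : ∀ u v, QuadraticMap.polar R u v = Matrix.toBilin' M u v) :
    ⇑(qfOfPolar R M hsm hM) = R := rfl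

theorem qfOfPolar_gram (R : (κ → F) → F) (M : Matrix κ κ F)
    (hsm : ∀ (a : F) x, R (a • x) = a * a * R x)
    (hM : ∀ u v, QuadraticMap.polar R u v = Matrix.toBilin' M u v) :
    Matrix.of (fun i j : κ => QuadraticMap.polar (⇑(qfOfPolar R M hsm hM))
      (Pi.single i 1) (Pi.single j 1)) = M := by
  ext i j
  rw [Matrix.of_apply, qfOfPolar_coe, hM, Matrix.toBilin'_single]

theorem qfOfPolar_nondegenerate (R : (κ → F) → F) (M : Matrix κ κ F)
    (hsm : ∀ (a : F) x, R (a • x) = a * a * R x)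
    (hM : ∀ u v, QuadraticMap.polar R u v = Matrix.toBilin' M u v) (hdet : M.det ≠ 0) :
    (QuadraticMap.polarBilin (qfOfPolar R M hsm hM)).Nondegenerate := by
  have : QuadraticMap.polarBilin (qfOfPolar R M hsm hM) = Matrix.toBilin' M := by
    apply LinearMap.ext₂
    intro u v
    rw [QuadraticMap.polarBilin_apply_apply, qfOfPolar_coe, hM]
  rw [this]
  exact Matrix.nondegenerate_toBilin'_iff.mpr (Matrix.nondegenerate_of_det_ne_zero hdet)

/-- `-1 ∈ Ω` iff the discriminant is a square, for a function with matrix polar form. -/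
theorem neg_one_mem_Omega_iff [Fintype F] (h2 : (2 : F) ≠ 0) (R : (κ → F) → F) (M : Matrix κ κ F)
    (hsm : ∀ (a : F) x, R (a • x) = a * a * R x)
    (hM : ∀ u v, QuadraticMap.polar R u v = Matrix.toBilin' M u v) (hdet : M.det ≠ 0)
    (he : Even (Fintype.card κ)) :
    (∃ g : ↥(Cfsg.isometryGroup F R), g ∈ Cfsg.Omega F R ∧
      ((g : Matrix.GeneralLinearGroup κ F) : Matrix κ κ F) = -1) ↔ IsSquare M.det := by
  have hnd := qfOfPolar_nondegenerate R M hsm hM hdet
  have hgram := qfOfPolar_gram R M hsm hM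
  constructor
  · rintro ⟨g, hgm, hg⟩
    have := (neg_one_mem_commutator_iff h2 (qfOfPolar R M hsm hM) hnd he g hg).mp hgm
    rwa [hgram] at this
  · intro hsq
    rw [← hgram] at hsq
    refine ⟨negO (qfOfPolar R M hsm hM), ?_, negO_val _⟩
    exact (neg_one_mem_commutator_iff h2 (qfOfPolar R M hsm hM) hnd he _ (negO_val _)).mpr hsq

/-! ### The three families -/

theorem quadFormPlus_smul (m : ℕ) (a : F) (x : Fin m ⊕ Fin m → F) :
    Cfsg.quadFormPlus m F (a • x) = a * a * Cfsg.quadFormPlus m F x := by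
  simp only [Cfsg.quadFormPlus, Pi.smul_apply, smul_eq_mul, Finset.mul_sum]
  refine Finset.sum_congr rfl fun i _ => ?_
  ring

theorem quadFormMinus_smul (m : ℕ) (a' b' : F) (a : F) (x : (Fin m ⊕ Fin m) ⊕ Fin 2 → F) :
    Cfsg.quadFormMinus m F a' b' (a • x) = a * a * Cfsg.quadFormMinus m F a' b' x := by
  simp only [Cfsg.quadFormMinus, Pi.smul_apply, smul_eq_mul, mul_add, Finset.mul_sum]
  congr 1
  · refine Finset.sum_congr rfl fun i _ => ?_
    ring
  · ring

theorem quadFormOdd_smul (m : ℕ) (a : F) (x : Unit ⊕ (Fin m ⊕ Fin m) → F) :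
    Cfsg.quadFormOdd m F (a • x) = a * a * Cfsg.quadFormOdd m F x := by
  simp only [Cfsg.quadFormOdd, Pi.smul_apply, smul_eq_mul, mul_add, Finset.mul_sum]
  congr 1
  · ring
  · refine Finset.sum_congr rfl fun i _ => ?_
    ring

theorem polar_quadFormOdd (m : ℕ) (u v : Unit ⊕ (Fin m ⊕ Fin m) → F) :
    QuadraticMap.polar (Cfsg.quadFormOdd m F) u v =
      Matrix.toBilin' (Matrix.fromBlocks ((2 * (1 : F)) • (1 : Matrix Unit Unit F))
        (0 : Matrix Unit (Fin m ⊕ Fin m) F) (0 : Matrix (Fin m ⊕ Fin m) Unit F)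
        (Matrix.fromBlocks (0 : Matrix (Fin m) (Fin m) F) (1 : Matrix (Fin m) (Fin m) F)
        (1 : Matrix (Fin m) (Fin m) F) (0 : Matrix (Fin m) (Fin m) F))) u v := by
  rw [← polar_oddForm]
  have : Cfsg.quadFormOdd m F = oddForm m (1 : F) := by
    funext x
    simp [Cfsg.quadFormOdd, oddForm]
  rw [this]

/-- `quadFormPlus` as a quadratic form. -/
def QPlus (m : ℕ) (F : Type*) [Field F] : QuadraticForm F (Fin m ⊕ Fin m → F) :=
  qfOfPolar (Cfsg.quadFormPlus m F) _ (quadFormPlus_smul m) (polar_quadFormPlus m)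

/-- `quadFormMinus` as a quadratic form. -/
def QMinus (m : ℕ) (F : Type*) [Field F] (a b : F) :
    QuadraticForm F ((Fin m ⊕ Fin m) ⊕ Fin 2 → F) :=
  qfOfPolar (Cfsg.quadFormMinus m F a b) _ (quadFormMinus_smul m a b) (polar_quadFormMinus m a b)

/-- `quadFormOdd` as a quadratic form. -/
def QOdd (m : ℕ) (F : Type*) [Field F] : QuadraticForm F (Unit ⊕ (Fin m ⊕ Fin m) → F) :=
  qfOfPolar (Cfsg.quadFormOdd m F) _ (quadFormOdd_smul m) (polar_quadFormOdd m)

/-! ### Arithmetic -/

theorem two_ne_zero_of_odd_card [Fintype F] {q : ℕ} (hF : Fintype.card F = q) (hq : Odd q) :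
    (2 : F) ≠ 0 := by
  intro h
  have hc : ringChar F = 2 := by
    have : (ringChar F) ∣ 2 := by
      apply ringChar.dvd
      exact_mod_cast h
    rcases (Nat.dvd_prime Nat.prime_two).mp this with h1 | h1
    · exact absurd h1 (CharP.ringChar_ne_one)
    · exact h1
  have := FiniteField.even_card_iff_char_two.mp hc
  rw [hF] at this
  obtain ⟨r, hr⟩ := hq
  omega

theorem odd_pow_mod_four {q : ℕ} (hq : Odd q) (m : ℕ) : q ^ m % 4 = 1 ∨ q ^ m % 4 = 3 := by
  have : Odd (q ^ m) := hq.pow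
  obtain ⟨r, hr⟩ := this
  omega

theorem even_mul_half_iff {q : ℕ} (hq : Odd q) (m : ℕ) :
    Even (m * (q - 1) / 2) ↔ q ^ m % 4 = 1 := by
  obtain ⟨r, rfl⟩ := hq
  have e1 : m * (2 * r + 1 - 1) / 2 = m * r := by
    rw [Nat.add_sub_cancel, ← mul_assoc, mul_comm m 2, mul_assoc,
      Nat.mul_div_cancel_left _ (by norm_num)]
  rw [e1, Nat.even_mul, Nat.pow_mod]
  rcases Nat.even_or_odd r with hr | hr
  · obtain ⟨s, rfl⟩ := hr
    have : (2 * (s + s) + 1) % 4 = 1 := by omega
    rw [this]
    simp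
  · obtain ⟨s, rfl⟩ := hr
    have : (2 * (2 * s + 1) + 1) % 4 = 3 := by omega
    rw [this]
    have h3 : ∀ k : ℕ, 3 ^ k % 4 = if Even k then 1 else 3 := by
      intro k
      induction k with
      | zero => simp
      | succ k ih =>
        rw [pow_succ, Nat.mul_mod, ih]
        by_cases hk : Even k
        · have : ¬ Even (k + 1) := by rw [Nat.even_add_one]; exact not_not.mpr hk
          simp [hk, this]
        · have : Even (k + 1) := by rw [Nat.even_add_one]; exact hk
          simp [hk, this]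
    rw [h3 m]
    have hodd : ¬ Even (2 * s + 1) := by
      rw [Nat.not_even_iff_odd]; exact ⟨s, rfl⟩
    by_cases hm : Even m
    · simp [hm]
    · simp [hm, hodd]

end Cfsg.Agent.Lib.Helper50
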