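import Cfsg.Agent.Lib.Helper50.TensorAct

set_option autoImplicit false

/-! More on the tensor product subgroup: the homomorphism from `GL (Fin n₁ × Fin n₂)`, Kronecker
products as elements of `GL`, and the decomposition of a vector into pure tensors. -/

namespace Cfsg.Agent.Lib.Helper50

open Matrix
open scoped Kronecker

variable {F : Type*} [Field F] {ι : Type} [Fintype ι] [DecidableEq ι] {n₁ n₂ : ℕ}

/-- transport of `GL (Fin n₁ × Fin n₂)` to `GL ι` along `e` and `P` -/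
def tensorHom (e : ι ≃ Fin n₁ × Fin n₂) (P : GL ι F) : GL (Fin n₁ × Fin n₂) F →* GL ι F :=
  (MulAut.conj P).toMonoidHom.comp (Cfsg.Geo.glReindex e.symm).toMonoidHom

theorem tensorHom_val (e : ι ≃ Fin n₁ × Fin n₂) (P : GL ι F) (k : GL (Fin n₁ × Fin n₂) F) :
    ((tensorHom e P k : GL ι F) : Matrix ι ι F) =
      (P : Matrix ι ι F) * (k : Matrix (Fin n₁ × Fin n₂) (Fin n₁ × Fin n₂) F).submatrix e e *
        ((P⁻¹ : GL ι F) : Matrix ι ι F) := by
  simp [tensorHom, Cfsg.Geo.glReindex, MulAut.conj_apply, Units.val_mul]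

theorem tensorProductSubgroup_eq_map (e : ι ≃ Fin n₁ × Fin n₂) (P : GL ι F) :
    Cfsg.Geo.tensorProductSubgroup n₁ n₂ e P =
      (Cfsg.Geo.kroneckerSubgroup n₁ n₂ F).map (tensorHom e P) := by
  unfold Cfsg.Geo.tensorProductSubgroup tensorHom
  rw [Subgroup.map_map]

theorem tensorHom_mulVec_pureT (e : ι ≃ Fin n₁ × Fin n₂) (P : GL ι F)
    (k : GL (Fin n₁ × Fin n₂) F) (a : Matrix (Fin n₁) (Fin n₁) F) (b : Matrix (Fin n₂) (Fin n₂) F)
    (hk : (k : Matrix (Fin n₁ × Fin n₂) (Fin n₁ × Fin n₂) F) = a ⊗ₖ b) (u : Fin n₁ → F)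
    (y : Fin n₂ → F) :
    ((tensorHom e P k : GL ι F) : Matrix ι ι F) *ᵥ pureT e P u y =
      pureT e P (a *ᵥ u) (b *ᵥ y) := by
  unfold pureT
  rw [tensorHom_val, Matrix.mulVec_mulVec, Matrix.mul_assoc, ← Units.val_mul, inv_mul_cancel,
    Units.val_one, Matrix.mul_one, ← Matrix.mulVec_mulVec]
  congr 1
  rw [Matrix.submatrix_mulVec_equiv]
  have : (tprod u y ∘ ⇑e) ∘ ⇑e.symm = tprod u y := by
    ext p; simp
  rw [this, hk, kron_mulVec_tprod]

/-- the Kronecker product of two invertible matrices as an element of `GL` -/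
def kronGL (a : GL (Fin n₁) F) (b : GL (Fin n₂) F) : GL (Fin n₁ × Fin n₂) F where
  val := (a : Matrix (Fin n₁) (Fin n₁) F) ⊗ₖ (b : Matrix (Fin n₂) (Fin n₂) F)
  inv := ((a⁻¹ : GL (Fin n₁) F) : Matrix (Fin n₁) (Fin n₁) F) ⊗ₖ
    ((b⁻¹ : GL (Fin n₂) F) : Matrix (Fin n₂) (Fin n₂) F)
  val_inv := by
    rw [← Matrix.mul_kronecker_mul, ← Units.val_mul, ← Units.val_mul, mul_inv_cancel,
      mul_inv_cancel, Units.val_one, Units.val_one, Matrix.one_kronecker_one]
  inv_val := by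
    rw [← Matrix.mul_kronecker_mul, ← Units.val_mul, ← Units.val_mul, inv_mul_cancel,
      inv_mul_cancel, Units.val_one, Units.val_one, Matrix.one_kronecker_one]

theorem kronGL_val (a : GL (Fin n₁) F) (b : GL (Fin n₂) F) :
    ((kronGL a b : GL (Fin n₁ × Fin n₂) F) : Matrix (Fin n₁ × Fin n₂) (Fin n₁ × Fin n₂) F) =
      (a : Matrix (Fin n₁) (Fin n₁) F) ⊗ₖ (b : Matrix (Fin n₂) (Fin n₂) F) := rfl

theorem kronGL_mem (a : GL (Fin n₁) F) (b : GL (Fin n₂) F) :
    kronGL a b ∈ Cfsg.Geo.kroneckerSubgroup n₁ n₂ F := ⟨a, b, rfl⟩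

theorem tensorHom_kronGL_mem (e : ι ≃ Fin n₁ × Fin n₂) (P : GL ι F) (a : GL (Fin n₁) F)
    (b : GL (Fin n₂) F) :
    tensorHom e P (kronGL a b) ∈ Cfsg.Geo.tensorProductSubgroup n₁ n₂ e P := by
  rw [tensorProductSubgroup_eq_map]
  exact ⟨_, kronGL_mem a b, rfl⟩

/-- every vector is a sum of pure tensors over the standard basis of the first factor -/
theorem exists_pure_decomp (e : ι ≃ Fin n₁ × Fin n₂) (P : GL ι F) (v : ι → F) :
    v = ∑ i, pureT e P (Pi.single i 1)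
      (fun j => (((P⁻¹ : GL ι F) : Matrix ι ι F) *ᵥ v) (e.symm (i, j))) := by
  set x : ι → F := ((P⁻¹ : GL ι F) : Matrix ι ι F) *ᵥ v with hx
  have hv : v = (P : Matrix ι ι F) *ᵥ x := by
    rw [hx, Matrix.mulVec_mulVec, ← Units.val_mul, mul_inv_cancel, Units.val_one,
      Matrix.one_mulVec]
  have hsum : x = ∑ i, (tprod (Pi.single i (1 : F)) (fun j => x (e.symm (i, j)))) ∘ e := by
    ext k
    simp only [Finset.sum_apply, Function.comp_apply, tprod, Pi.single_apply]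
    rw [Finset.sum_eq_single (e k).1]
    · simp
    · intro i _ hi
      simp [Ne.symm hi]
    · intro h; exact absurd (Finset.mem_univ _) h
  conv_lhs => rw [hv, hsum]
  unfold pureT
  rw [Matrix.mulVec_sum]

end Cfsg.Agent.Lib.Helper50
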