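import Cfsg.Agent.Lib.Helper50.PgoCongr

set_option autoImplicit false

/-! A subgroup meeting the scalars trivially and covering `H` modulo scalars is isomorphic to
the projective quotient of `H`; isometry groups versus similarity groups in characteristic two. -/

namespace Cfsg.Agent.Lib.Helper50

open Matrix

section
variable {F : Type*} [Field F] {ι : Type} [Fintype ι] [DecidableEq ι]

theorem nonempty_equiv_projQuot_of_complement (K H : Subgroup (GL ι F)) (hKH : K ≤ H)
    (hK : ∀ g ∈ K, g ∈ Cfsg.Geo.scalars ι F → g = 1)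
    (hH : ∀ h ∈ H, ∃ z ∈ Cfsg.Geo.scalars ι F, z * h ∈ K) :
    Nonempty (↥K ≃* Cfsg.projQuot H) := by
  let f : ↥K →* Cfsg.projQuot H := (QuotientGroup.mk' _).comp (Subgroup.inclusion hKH)
  have hinj : Function.Injective f := by
    rw [injective_iff_map_eq_one]
    intro g hg
    have h1 : (QuotientGroup.mk (Subgroup.inclusion hKH g) : Cfsg.projQuot H) = 1 := hg
    rw [QuotientGroup.eq_one_iff, Subgroup.mem_subgroupOf] at h1
    apply Subtype.ext
    exact hK g.1 g.2 h1
  have hsurj : Function.Surjective f := by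
    intro x
    obtain ⟨h, rfl⟩ := QuotientGroup.mk_surjective x
    obtain ⟨z, hz, hzh⟩ := hH h.1 h.2
    refine ⟨⟨z * h.1, hzh⟩, ?_⟩
    show (QuotientGroup.mk (Subgroup.inclusion hKH ⟨z * h.1, hzh⟩) : Cfsg.projQuot H) =
      QuotientGroup.mk h
    rw [QuotientGroup.eq, Subgroup.mem_subgroupOf]
    have hzc : z ∈ Subgroup.center (GL ι F) := by
      rw [GeneralLinearGroup.center_eq_range_scalar]
      exact hz
    have : (((Subgroup.inclusion hKH ⟨z * h.1, hzh⟩)⁻¹ * h : ↥H) : GL ι F) = z⁻¹ := by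
      show (z * h.1)⁻¹ * h.1 = z⁻¹
      rw [Subgroup.mem_center_iff] at hzc
      rw [← hzc h.1, _root_.mul_inv_rev, mul_assoc, inv_mul_cancel, mul_one]
    rw [this]
    exact inv_mem hz
  exact ⟨MulEquiv.ofBijective f ⟨hinj, hsurj⟩⟩

/-- the scalar matrix of a nonzero element -/
def scalarGL (ι : Type) [Fintype ι] [DecidableEq ι] (b : F) (hb : b ≠ 0) : GL ι F :=
  ⟨b • (1 : Matrix ι ι F), b⁻¹ • (1 : Matrix ι ι F), by
    rw [Matrix.smul_mul, Matrix.one_mul, smul_smul, mul_inv_cancel₀ hb, one_smul], by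
    rw [Matrix.smul_mul, Matrix.one_mul, smul_smul, inv_mul_cancel₀ hb, one_smul]⟩

theorem scalarGL_mem (b : F) (hb : b ≠ 0) : scalarGL ι b hb ∈ Cfsg.Geo.scalars ι F := by
  rw [Cfsg.Geo.mem_scalars_iff]
  exact ⟨Units.mk0 b hb, rfl⟩

theorem scalarGL_mul_mulVec (b : F) (hb : b ≠ 0) (h : GL ι F) (u : ι → F) :
    (scalarGL ι b hb * h).val *ᵥ u = b • (h.val *ᵥ u) := by
  rw [Units.val_mul]
  show (b • (1 : Matrix ι ι F) * h.val) *ᵥ u = _
  rw [Matrix.smul_mul, Matrix.one_mul, Matrix.smul_mulVec]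

theorem nonempty_preserving_equiv_projQuot [CharP F 2] (hsq : ∀ a : F, ∃ b : F, b * b = a)
    (f : (ι → F) → (ι → F) → F) (hsm : ∀ (a : F) u v, f (a • u) (a • v) = a * a * f u v)
    (hne : ∃ u v, f u v ≠ 0) :
    Nonempty (↥(Cfsg.preserving (Cfsg.glToMat ι F) f) ≃*
      Cfsg.projQuot (Cfsg.Geo.similarityGroup f)) := by
  apply nonempty_equiv_projQuot_of_complement
  · intro g hg
    exact ⟨1, fun u v => by rw [Units.val_one, one_mul]; exact hg u v⟩
  · intro g hg hsc
    rw [Cfsg.Geo.mem_scalars_iff] at hsc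
    obtain ⟨c, hc⟩ := hsc
    obtain ⟨u, v, huv⟩ := hne
    have h1 := hg u v
    have e : ∀ w : ι → F, (Cfsg.glToMat ι F g) *ᵥ w = (c : F) • w := by
      intro w
      show g.val *ᵥ w = _
      rw [hc, Matrix.smul_mulVec, Matrix.one_mulVec]
    rw [e, e, hsm] at h1
    have h2 : ((c : F) * c - 1) * f u v = 0 := by linear_combination h1
    have h3 : (c : F) * c = 1 := by
      rcases mul_eq_zero.mp h2 with h | h
      · exact sub_eq_zero.mp h
      · exact absurd h huv
    have h4 : ((c : F) - 1) * ((c : F) - 1) = 0 := by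
      have h11 : (2 : F) = 0 := CharTwo.two_eq_zero
      linear_combination h3 + (1 - (c : F)) * h11
    have h5 : (c : F) = 1 := sub_eq_zero.mp (mul_self_eq_zero.mp h4)
    apply Units.ext
    rw [hc, h5, one_smul, Units.val_one]
  · rintro h ⟨c, hc⟩
    obtain ⟨b, hb⟩ := hsq (c : F)
    have hb0 : b ≠ 0 := by
      rintro rfl
      rw [mul_zero] at hb
      exact c.ne_zero hb.symm
    refine ⟨scalarGL ι b⁻¹ (inv_ne_zero hb0), scalarGL_mem _ _, fun u v => ?_⟩
    show f ((scalarGL ι b⁻¹ (inv_ne_zero hb0) * h).val *ᵥ u)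
      ((scalarGL ι b⁻¹ (inv_ne_zero hb0) * h).val *ᵥ v) = f u v
    rw [scalarGL_mul_mulVec, scalarGL_mul_mulVec, hsm, hc, ← hb]
    field_simp

end

end Cfsg.Agent.Lib.Helper50
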