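import Cfsg.Agent.Lib.Helper11.SpMax
import Cfsg.Agent.Lib.Helper50.ProjComplement

set_option autoImplicit false

/-! Characteristic two: `PGSp ≅ Sp`, and the centralizer of a transvection in `Sp_{2m}(F)` as the
isometry group of the symmetric form `f(u,v) + u₀ v₀`. -/

namespace Cfsg.Agent.Lib.Helper50

open Matrix Cfsg.Agent.Lib.Helper18 Cfsg.Agent.Lib.Helper11.SpPerfect

section
variable {F : Type*} [Field F] (m : ℕ)

local notation "V" => (Fin m ⊕ Fin m → F)
local notation "ff" => Cfsg.sympForm m F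
local notation "Sp" => Matrix.symplecticGroup (Fin m) F
local notation "GLm" => Matrix.GeneralLinearGroup (Fin m ⊕ Fin m) F

theorem phi_val (A : Sp) (x : V) :
    ((Cfsg.Agent.S0270.phi m A : ↥(Cfsg.spGL m F)) : GLm).val *ᵥ x = A.1 *ᵥ x := rfl

theorem phi_injective : Function.Injective (Cfsg.Agent.S0270.phi m (F := F)) := by
  intro A B h
  apply sp_ext
  intro x
  rw [← phi_val, ← phi_val, h]

/-- `Sp` as a subgroup of `GL` -/
noncomputable def spEquiv : Sp ≃* ↥(Cfsg.spGL m F) :=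
  MulEquiv.ofBijective (Cfsg.Agent.S0270.phi m)
    ⟨phi_injective m, Cfsg.Agent.S0270.phi_surjective m⟩

theorem sf_smul_smul (a : F) (u v : V) : ff (a • u) (a • v) = a * a * ff u v := by
  rw [sf_smul_left, sf_smul_right]
  ring

theorem sf_ne_zero (hm : 0 < m) : ∃ u v : V, ff u v ≠ 0 := by
  have h0 : (Pi.single (Sum.inl ⟨0, hm⟩) 1 : V) ≠ 0 := by
    intro h
    have := congrFun h (Sum.inl ⟨0, hm⟩)
    simp at this
  obtain ⟨y, hy⟩ := sf_nondeg_top m _ h0
  exact ⟨_, y, hy⟩

theorem nonempty_pgsp_equiv_sp [CharP F 2] (hsq : ∀ a : F, ∃ b : F, b * b = a) (hm : 0 < m) :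
    Nonempty (Cfsg.PGSp m F ≃* Sp) := by
  obtain ⟨e⟩ := nonempty_preserving_equiv_projQuot hsq (Cfsg.sympForm m F) (sf_smul_smul m)
    (sf_ne_zero m hm)
  exact ⟨e.symm.trans (spEquiv m).symm⟩

theorem sf_right_nondeg (w : V) (h : ∀ y : V, ff y w = 0) : w = 0 := by
  by_contra hw
  obtain ⟨y, hy⟩ := sf_nondeg_top m w hw
  apply hy
  rw [sf_swap, h, neg_zero]

variable (hm : 0 < m)

/-- the distinguished coordinate -/
def i0 : Fin m ⊕ Fin m := Sum.inl ⟨0, hm⟩

/-- the centre of the transvection -/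
def z0 : V := Pi.single (Sum.inr ⟨0, hm⟩) 1

/-- the symmetric non-alternating form -/
def bForm (u v : V) : F := ff u v + u (i0 m hm) * v (i0 m hm)

theorem sf_z0 (x : V) : ff x (z0 m hm) = - x (i0 m hm) := sf_single_inr m x ⟨0, hm⟩

theorem z0_ne_zero : (z0 m hm : V) ≠ 0 := by
  intro h
  have := congrFun h (Sum.inr ⟨0, hm⟩)
  simp [z0] at this

theorem z0_i0 : (z0 m hm : V) (i0 m hm) = 0 := by
  simp [z0, i0]

theorem smul_z0_inj {a b : F} (h : a • (z0 m hm : V) = b • z0 m hm) : a = b := by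
  have := congrFun h (Sum.inr ⟨0, hm⟩)
  simpa [z0] using this

theorem bForm_self (v : V) : bForm m hm v v = v (i0 m hm) * v (i0 m hm) := by
  unfold bForm
  rw [sf_self, zero_add]

theorem bForm_smul (a : F) (u v : V) : bForm m hm (a • u) (a • v) = a * a * bForm m hm u v := by
  unfold bForm
  rw [sf_smul_smul, Pi.smul_apply, Pi.smul_apply, smul_eq_mul, smul_eq_mul]
  ring

theorem bForm_ne_zero : ∃ u v : V, bForm m hm u v ≠ 0 := by
  refine ⟨Pi.single (i0 m hm) 1, Pi.single (i0 m hm) 1, ?_⟩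
  rw [bForm_self]
  simp

theorem bForm_left_nondeg [CharP F 2] (v : V) (h : ∀ w : V, bForm m hm v w = 0) : v = 0 := by
  have h1 : ∀ w : V, ff w (v + v (i0 m hm) • z0 m hm) = 0 := by
    intro w
    have := h w
    unfold bForm at this
    rw [sf_add_right, sf_smul_right, sf_z0, sf_swap]
    have h11 : (2 : F) = 0 := CharTwo.two_eq_zero
    linear_combination (-1 : F) * this + (v (i0 m hm) * w (i0 m hm)) * (0 : F) * h11
  have h2 := sf_right_nondeg m _ h1
  have h3 := congrFun h2 (i0 m hm)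
  rw [Pi.add_apply, Pi.smul_apply, z0_i0, smul_zero, add_zero, Pi.zero_apply] at h3
  rw [h3, zero_smul, add_zero] at h2
  exact h2

/-- the transvection -/
noncomputable def t0 : Sp := tv m (z0 m hm) 1

theorem t0_act (x : V) : (t0 m hm).1 *ᵥ x = x + ff x (z0 m hm) • z0 m hm := by
  unfold t0
  rw [tv_act, one_mul]

theorem sq_eq_one_char_two [CharP F 2] {a : F} (h : a * a = 1) : a = 1 := by
  have h11 : (2 : F) = 0 := CharTwo.two_eq_zero
  have : (a - 1) * (a - 1) = 0 := by linear_combination h + (1 - a) * h11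
  exact sub_eq_zero.mp (mul_self_eq_zero.mp this)

theorem sq_eq_sq_char_two [CharP F 2] {a b : F} (h : a * a = b * b) : a = b := by
  have h11 : (2 : F) = 0 := CharTwo.two_eq_zero
  have : (a - b) * (a - b) = 0 := by linear_combination h + (b * b - a * b) * h11
  exact sub_eq_zero.mp (mul_self_eq_zero.mp this)

/-- elements of `Sp` commuting with the transvection preserve the symmetric form -/
theorem bForm_of_comm [CharP F 2] (A : Sp) (hA : t0 m hm * A = A * t0 m hm) (u v : V) :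
    bForm m hm (A.1 *ᵥ u) (A.1 *ᵥ v) = bForm m hm u v := by
  have hx : ∀ x : V, ff x (z0 m hm) • (A.1 *ᵥ z0 m hm) = ff (A.1 *ᵥ x) (z0 m hm) • z0 m hm := by
    intro x
    have h1 : (t0 m hm * A).1 *ᵥ x = (A * t0 m hm).1 *ᵥ x := by rw [hA]
    rw [val_mul, val_mul, ← Matrix.mulVec_mulVec, ← Matrix.mulVec_mulVec, t0_act, t0_act,
      Matrix.mulVec_add, Matrix.mulVec_smul] at h1
    exact (add_left_cancel h1).symm
  have hx0 : ff (Pi.single (i0 m hm) 1 : V) (z0 m hm) = -1 := by
    rw [sf_z0]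
    simp
  obtain ⟨a, ha⟩ : ∃ a : F, A.1 *ᵥ z0 m hm = a • z0 m hm := by
    refine ⟨- ff (A.1 *ᵥ (Pi.single (i0 m hm) 1 : V)) (z0 m hm), ?_⟩
    have := hx (Pi.single (i0 m hm) 1)
    rw [hx0, neg_one_smul] at this
    rw [neg_smul, ← this, neg_neg]
  have h2 : ∀ x : V, ff (A.1 *ᵥ x) (z0 m hm) = a * ff x (z0 m hm) := by
    intro x
    have := hx x
    rw [ha, smul_smul] at this
    rw [mul_comm]
    exact (smul_z0_inj m hm this).symm
  have h3 : ∀ x : V, a * a * ff x (z0 m hm) = ff x (z0 m hm) := by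
    intro x
    have := sf_mulVec_of_mem m A.1 A.2 x (z0 m hm)
    rw [ha, sf_smul_right, h2] at this
    linear_combination this
  have ha1 : a = 1 := by
    apply sq_eq_one_char_two
    have := h3 (Pi.single (i0 m hm) 1)
    rw [hx0] at this
    linear_combination (-1 : F) * this
  have h4 : ∀ x : V, (A.1 *ᵥ x) (i0 m hm) = x (i0 m hm) := by
    intro x
    have := h2 x
    rw [ha1, one_mul, sf_z0, sf_z0] at this
    exact neg_injective this
  unfold bForm
  rw [sf_mulVec_of_mem m A.1 A.2, h4, h4]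

/-- isometries of the symmetric form are symplectic and commute with the transvection -/
theorem of_bForm [CharP F 2] (g : GLm)
    (hg : ∀ u v : V, bForm m hm (g.1 *ᵥ u) (g.1 *ᵥ v) = bForm m hm u v) :
    g ∈ Cfsg.spGL m F ∧ ∀ x : V, g.1 *ᵥ ((t0 m hm).1 *ᵥ x) = (t0 m hm).1 *ᵥ (g.1 *ᵥ x) := by
  have h1 : ∀ x : V, (g.1 *ᵥ x) (i0 m hm) = x (i0 m hm) := by
    intro x
    have := hg x x
    rw [bForm_self, bForm_self] at this
    exact sq_eq_sq_char_two this
  have h2 : ∀ u v : V, ff (g.1 *ᵥ u) (g.1 *ᵥ v) = ff u v := by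
    intro u v
    have := hg u v
    unfold bForm at this
    rw [h1, h1] at this
    exact add_right_cancel this
  have h3 : g.1 *ᵥ z0 m hm = z0 m hm := by
    have : g.1 *ᵥ z0 m hm - z0 m hm = 0 := by
      apply sf_right_nondeg
      intro y
      have hy : y = g.1 *ᵥ (g⁻¹.1 *ᵥ y) := by
        rw [Matrix.mulVec_mulVec, ← Units.val_mul, mul_inv_cancel, Units.val_one,
          Matrix.one_mulVec]
      rw [sf_sub_right]
      nth_rewrite 1 [hy]
      rw [h2, sf_z0, sf_z0]
      nth_rewrite 2 [hy]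
      rw [h1]
      ring
    exact sub_eq_zero.mp this
  refine ⟨h2, fun x => ?_⟩
  rw [t0_act, t0_act, Matrix.mulVec_add, Matrix.mulVec_smul, h3, sf_z0, sf_z0, h1]

theorem nonempty_centralizer_t0_equiv [CharP F 2] :
    Nonempty (↥(Subgroup.centralizer ({t0 m hm} : Set Sp)) ≃*
      ↥(Cfsg.preserving (Cfsg.glToMat (Fin m ⊕ Fin m) F) (bForm m hm))) := by
  let ρ : ↥(Subgroup.centralizer ({t0 m hm} : Set Sp)) →*
      ↥(Cfsg.preserving (Cfsg.glToMat (Fin m ⊕ Fin m) F) (bForm m hm)) :=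
    ((Subgroup.subtype _).comp ((Cfsg.Agent.S0270.phi m).comp
      (Subgroup.subtype (Subgroup.centralizer ({t0 m hm} : Set Sp))))).codRestrict _ (by
        intro s u v
        have hs := Subgroup.mem_centralizer_iff.mp s.2 (t0 m hm) rfl
        exact bForm_of_comm m hm s.1 hs u v)
  have hρ : ∀ (s : ↥(Subgroup.centralizer ({t0 m hm} : Set Sp))) (x : V),
      ((ρ s : ↥(Cfsg.preserving (Cfsg.glToMat (Fin m ⊕ Fin m) F) (bForm m hm))) : GLm).val *ᵥ x =
        s.1.1 *ᵥ x := fun s x => rfl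
  have hinj : Function.Injective ρ := by
    intro s s' h
    apply Subtype.ext
    apply sp_ext
    intro x
    rw [← hρ, ← hρ, h]
  have hsurj : Function.Surjective ρ := by
    intro g
    obtain ⟨hsp, hcomm⟩ := of_bForm m hm g.1 g.2
    obtain ⟨A, hA⟩ := Cfsg.Agent.S0270.phi_surjective m (F := F) ⟨g.1, hsp⟩
    have hAx : ∀ x : V, A.1 *ᵥ x = g.1.1 *ᵥ x := by
      intro x
      rw [← phi_val, hA]
    have hAc : A ∈ Subgroup.centralizer ({t0 m hm} : Set Sp) := by
      rw [Subgroup.mem_centralizer_iff]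
      intro h hh
      rw [Set.mem_singleton_iff] at hh
      subst hh
      apply sp_ext
      intro x
      rw [val_mul, val_mul, ← Matrix.mulVec_mulVec, ← Matrix.mulVec_mulVec, hAx, hAx, hcomm]
    refine ⟨⟨A, hAc⟩, ?_⟩
    apply Subtype.ext
    apply Units.ext
    apply mat_ext
    intro x
    rw [hρ]
    exact hAx x
  exact ⟨MulEquiv.ofBijective ρ ⟨hinj, hsurj⟩⟩

theorem isTransvection_t0 : Cfsg.IsTransvection ((t0 m hm : Sp) : Matrix (Fin m ⊕ Fin m)
    (Fin m ⊕ Fin m) F) := by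
  have hN : ∀ x : V, ((t0 m hm).1 - 1) *ᵥ x = ff x (z0 m hm) • z0 m hm := by
    intro x
    rw [Matrix.sub_mulVec, t0_act, Matrix.one_mulVec, add_sub_cancel_left]
  constructor
  · apply le_antisymm
    · have : (t0 m hm).1 - 1 = Matrix.vecMulVec (z0 m hm : V)
          (fun j => ff (Pi.single j 1 : V) (z0 m hm)) := by
        ext i j
        have := congrFun (hN (Pi.single j 1)) i
        rw [Matrix.mulVec_single_one] at this
        rw [Matrix.vecMulVec_apply, mul_comm]
        exact this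
      rw [this]
      exact Matrix.rank_vecMulVec_le _ _
    · by_contra hlt
      have h0 : ((t0 m hm).1 - (1 : Matrix (Fin m ⊕ Fin m) (Fin m ⊕ Fin m) F)).rank = 0 := by
        omega
      unfold Matrix.rank at h0
      rw [Submodule.finrank_eq_zero] at h0
      have hmem : ((t0 m hm).1 - 1) *ᵥ (Pi.single (i0 m hm) 1 : V) ∈
          LinearMap.range (Matrix.mulVecLin
            ((t0 m hm).1 - (1 : Matrix (Fin m ⊕ Fin m) (Fin m ⊕ Fin m) F))) := ⟨_, rfl⟩
      rw [h0, Submodule.mem_bot, hN, sf_z0] at hmem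
      simp only [Pi.single_eq_same, neg_smul, one_smul, neg_eq_zero] at hmem
      exact z0_ne_zero m hm hmem
  · apply mat_ext
    intro x
    rw [← Matrix.mulVec_mulVec, hN, hN, sf_smul_left, sf_self, mul_zero, zero_smul,
      Matrix.zero_mulVec]

end

end Cfsg.Agent.Lib.Helper50
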