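import Cfsg.Agent.Lib.Helper50.GraphSplit3
import Cfsg.Agent.Lib.Helper50.SpTransvCent
import Cfsg.Agent.Lib.Helper50.IsometryDisc
import Cfsg.Agent.Lib.Helper08.GOPlus
import Cfsg.Agent.Lib.Helper08.GOMinus
import Cfsg.Agent.Lib.Helper07.SpCardD

set_option autoImplicit false

/-! Orders of projective similarity groups; `PGO^±_{2m}(q)` is not isomorphic to `PGSp_{2m}(q)`. -/

namespace Cfsg.Agent.Lib.Helper50

open Matrix

section general
variable {ι : Type} [Fintype ι] [DecidableEq ι] {F : Type*} [Field F] [Fintype F]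

theorem card_scalars [Nonempty ι] : Nat.card (Cfsg.Geo.scalars ι F) = Fintype.card F - 1 := by
  have hinj : Function.Injective
      (Units.map (Matrix.scalar ι : F →+* Matrix ι ι F).toMonoidHom) := by
    apply Units.map_injective
    intro a b hab
    exact Matrix.scalar_inj.mp hab
  unfold Cfsg.Geo.scalars
  rw [← Nat.card_congr (MonoidHom.ofInjective hinj).toEquiv, card_units_eq]

theorem card_projQuot_mul [Nonempty ι] (S : Subgroup (GL ι F))
    (hsc : Cfsg.Geo.scalars ι F ≤ S) :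
    Nat.card (Cfsg.projQuot S) * (Fintype.card F - 1) = Nat.card S := by
  rw [Subgroup.card_eq_card_quotient_mul_card_subgroup ((Cfsg.Geo.scalars ι F).subgroupOf S),
    Nat.card_congr (Subgroup.subgroupOfEquivOfLe hsc).toEquiv, card_scalars]

/-- the order of a similarity group with all multipliers -/
theorem card_similarityGroup (f : (ι → F) → (ι → F) → F) (hf : ∃ u v, f u v ≠ 0)
    (hsurj : ∀ c : Fˣ, ∃ g : GL ι F, ∀ u v, f (g.val *ᵥ u) (g.val *ᵥ v) = (c : F) * f u v)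
    (P : Subgroup (GL ι F))
    (hP : ∀ g : GL ι F, g ∈ P ↔ ∀ u v, f (g.val *ᵥ u) (g.val *ᵥ v) = f u v) :
    Nat.card (Cfsg.Geo.similarityGroup f) = Nat.card P * (Fintype.card F - 1) := by
  classical
  obtain ⟨u₀, v₀, huv⟩ := hf
  have hex : ∀ g : ↥(Cfsg.Geo.similarityGroup f), ∃ c : Fˣ,
      ∀ u v, f (g.1.val *ᵥ u) (g.1.val *ᵥ v) = (c : F) * f u v := fun g => g.2
  choose μ hμ using hex
  have huniq : ∀ (g : ↥(Cfsg.Geo.similarityGroup f)) (c : Fˣ),
      (∀ u v, f (g.1.val *ᵥ u) (g.1.val *ᵥ v) = (c : F) * f u v) → μ g = c := by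
    intro g c hc
    have h1 := hμ g u₀ v₀
    rw [hc u₀ v₀] at h1
    exact (Units.ext (mul_right_cancel₀ huv h1)).symm
  let μh : ↥(Cfsg.Geo.similarityGroup f) →* Fˣ :=
    { toFun := μ
      map_one' := huniq 1 1 (fun u v => by
        show f ((1 : GL ι F).val *ᵥ u) ((1 : GL ι F).val *ᵥ v) = _
        rw [Units.val_one, Matrix.one_mulVec, Matrix.one_mulVec, Units.val_one, one_mul])
      map_mul' := fun a b => huniq (a * b) (μ a * μ b) (fun u v => by
        show f ((a.1 * b.1).val *ᵥ u) ((a.1 * b.1).val *ᵥ v) = _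
        rw [Units.val_mul, ← Matrix.mulVec_mulVec, ← Matrix.mulVec_mulVec, hμ a, hμ b,
          Units.val_mul, mul_assoc]) }
  have hμsurj : Function.Surjective μh := by
    intro c
    obtain ⟨g, hg⟩ := hsurj c
    exact ⟨⟨g, ⟨c, hg⟩⟩, huniq _ c hg⟩
  have hPS : P ≤ Cfsg.Geo.similarityGroup f := by
    intro g hg
    refine ⟨1, fun u v => ?_⟩
    rw [(hP g).mp hg, Units.val_one, one_mul]
  have hker : μh.ker = P.subgroupOf (Cfsg.Geo.similarityGroup f) := by
    ext g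
    rw [MonoidHom.mem_ker, Subgroup.mem_subgroupOf, hP]
    constructor
    · intro h u v
      have := hμ g u v
      have h' : μ g = 1 := h
      rw [h', Units.val_one, one_mul] at this
      exact this
    · intro h
      exact huniq g 1 (fun u v => by rw [h, Units.val_one, one_mul])
  have h1 := Subgroup.card_mul_index μh.ker
  rw [Subgroup.index_ker, MonoidHom.range_eq_top.mpr hμsurj, hker,
    Nat.card_congr (Subgroup.subgroupOfEquivOfLe hPS).toEquiv,
    Nat.card_congr (Subgroup.topEquiv (G := Fˣ)).toEquiv, card_units_eq] at h1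
  exact h1.symm

theorem card_projQuot_similarityGroup [Nonempty ι] (f : (ι → F) → (ι → F) → F)
    (hf : ∃ u v, f u v ≠ 0)
    (hsurj : ∀ c : Fˣ, ∃ g : GL ι F, ∀ u v, f (g.val *ᵥ u) (g.val *ᵥ v) = (c : F) * f u v)
    (hsc : Cfsg.Geo.scalars ι F ≤ Cfsg.Geo.similarityGroup f)
    (P : Subgroup (GL ι F))
    (hP : ∀ g : GL ι F, g ∈ P ↔ ∀ u v, f (g.val *ᵥ u) (g.val *ᵥ v) = f u v) :
    Nat.card (Cfsg.projQuot (Cfsg.Geo.similarityGroup f)) = Nat.card P := by
  have h1 := card_projQuot_mul _ hsc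
  rw [card_similarityGroup f hf hsurj P hP] at h1
  have hq : 0 < Fintype.card F - 1 := by
    have := Fintype.one_lt_card (α := F)
    omega
  exact Nat.eq_of_mul_eq_mul_right hq h1

theorem quadSimilarityGroup_eq (Q : (ι → F) → F) :
    Cfsg.Geo.quadSimilarityGroup Q = Cfsg.Geo.similarityGroup (fun u _ => Q u) := by
  ext g
  constructor
  · rintro ⟨c, hc⟩
    exact ⟨c, fun u _ => hc u⟩
  · rintro ⟨c, hc⟩
    exact ⟨c, fun u => hc u 0⟩

theorem card_pgo [Nonempty ι] (Q : (ι → F) → F) (hQ : ∃ u, Q u ≠ 0)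
    (hsurj : ∀ c : Fˣ, ∃ g : GL ι F, ∀ u, Q (g.val *ᵥ u) = (c : F) * Q u)
    (hsc : ∀ (a : F) (u : ι → F), Q (a • u) = a * a * Q u) :
    Nat.card (Cfsg.PGO F Q) = Nat.card (Cfsg.isometryGroup F Q) := by
  unfold Cfsg.PGO
  rw [quadSimilarityGroup_eq]
  apply card_projQuot_similarityGroup
  · obtain ⟨u, hu⟩ := hQ
    exact ⟨u, 0, hu⟩
  · intro c
    obtain ⟨g, hg⟩ := hsurj c
    exact ⟨g, fun u _ => hg u⟩
  · intro g hg
    rw [Cfsg.Geo.mem_scalars_iff] at hg
    obtain ⟨c, hc⟩ := hg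
    refine ⟨c * c, fun u _ => ?_⟩
    show Q (g.val *ᵥ u) = ((c * c : Fˣ) : F) * Q u
    rw [hc, Matrix.smul_mulVec, Matrix.one_mulVec, hsc, Units.val_mul]
  · intro g
    exact Iff.rfl

end general

section symp
variable {F : Type*} [Field F] [Fintype F]

theorem sympForm_dMat (m : ℕ) (c : F) (u v : Fin m ⊕ Fin m → F) :
    Cfsg.sympForm m F (dMat m c *ᵥ u) (dMat m c *ᵥ v) = c * Cfsg.sympForm m F u v := by
  unfold Cfsg.sympForm
  rw [Matrix.mulVec_mulVec, ← Matrix.vecMul_transpose, dMat_transpose, Matrix.dotProduct_mulVec,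
    Matrix.vecMul_vecMul, ← Matrix.mul_assoc, dMat_J, ← Matrix.dotProduct_mulVec,
    Matrix.smul_mulVec, dotProduct_smul, smul_eq_mul]

theorem card_pgsp {q : ℕ} (hF : Fintype.card F = q) {m : ℕ} (hm : 0 < m) :
    Nat.card (Cfsg.PGSp m F) = q ^ (m ^ 2) * ∏ i ∈ Finset.range m, (q ^ (2 * (i + 1)) - 1) := by
  haveI : Nonempty (Fin m ⊕ Fin m) := ⟨Sum.inl ⟨0, hm⟩⟩
  have h1 : Nat.card (Cfsg.PGSp m F) = Nat.card (Cfsg.spGL m F) := by
    unfold Cfsg.PGSp Cfsg.GSp
    apply card_projQuot_similarityGroup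
    · exact sf_ne_zero m hm
    · intro c
      have hdet : (dMat m (c : F)).det ≠ 0 := by
        rw [det_dMat]
        exact pow_ne_zero _ c.ne_zero
      exact ⟨Matrix.GeneralLinearGroup.mkOfDetNeZero _ hdet, fun u v => sympForm_dMat m (c : F) u v⟩
    · intro g hg
      rw [Cfsg.Geo.mem_scalars_iff] at hg
      obtain ⟨c, hc⟩ := hg
      refine ⟨c * c, fun u v => ?_⟩
      rw [hc, Matrix.smul_mulVec, Matrix.one_mulVec, Matrix.smul_mulVec, Matrix.one_mulVec,
        sf_smul_smul, Units.val_mul]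
    · intro g
      exact Iff.rfl
  rw [h1, ← Nat.card_congr (spEquiv m).toEquiv, Cfsg.Agent.Lib.Helper07.card_symplecticGroup hF]

end symp

section arith

theorem prod_split (q m : ℕ) (hm : 1 ≤ m) :
    ∏ i ∈ Finset.range m, (q ^ (2 * (i + 1)) - 1)
      = (∏ i ∈ Finset.range (m - 1), (q ^ (2 * (i + 1)) - 1)) * (q ^ (2 * m) - 1) := by
  obtain ⟨k, rfl⟩ : ∃ k, m = k + 1 := ⟨m - 1, by omega⟩
  rw [Finset.prod_range_succ]
  rfl

theorem sq_sub_one (x : ℕ) (hx : 1 ≤ x) : x ^ 2 - 1 = (x - 1) * (x + 1) := by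
  obtain ⟨y, rfl⟩ : ∃ y, x = y + 1 := ⟨x - 1, by omega⟩
  simp only [Nat.add_sub_cancel]
  have : (y + 1) ^ 2 = y * (y + 1 + 1) + 1 := by ring
  omega

theorem card_ne_plus (q m : ℕ) (hq : 3 ≤ q) (hm : 1 ≤ m) :
    2 * q ^ (m * (m - 1)) * (q ^ m - 1) * ∏ i ∈ Finset.range (m - 1), (q ^ (2 * (i + 1)) - 1)
      ≠ q ^ (m ^ 2) * ∏ i ∈ Finset.range m, (q ^ (2 * (i + 1)) - 1) := by
  intro h
  rw [prod_split q m hm] at h
  set A := ∏ i ∈ Finset.range (m - 1), (q ^ (2 * (i + 1)) - 1) with hA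
  have hApos : 0 < A := by
    apply Finset.prod_pos
    intro i _
    have : 1 < q ^ (2 * (i + 1)) := Nat.one_lt_pow (by omega) (by omega)
    omega
  set x := q ^ m with hx
  have hx3 : 3 ≤ x := by
    calc 3 ≤ q := hq
      _ = q ^ 1 := (pow_one q).symm
      _ ≤ q ^ m := Nat.pow_le_pow_right (by omega) hm
  have h1 : q ^ (m ^ 2) = q ^ (m * (m - 1)) * x := by
    rw [hx, ← pow_add]
    congr 1
    obtain ⟨k, rfl⟩ : ∃ k, m = k + 1 := ⟨m - 1, by omega⟩
    simp only [Nat.add_sub_cancel]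
    ring
  have h2 : q ^ (2 * m) - 1 = (x - 1) * (x + 1) := by
    rw [mul_comm 2 m, pow_mul, ← hx]
    exact sq_sub_one x (by omega)
  rw [h1, h2] at h
  set B := q ^ (m * (m - 1)) with hB
  have hBpos : 0 < B := pow_pos (by omega) _
  have hx1 : 0 < x - 1 := by omega
  have h3 : B * A * (x - 1) * 2 = B * A * (x - 1) * (x * (x + 1)) := by
    calc B * A * (x - 1) * 2 = 2 * B * (x - 1) * A := by ring
      _ = B * x * (A * ((x - 1) * (x + 1))) := h
      _ = _ := by ring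
  have h4 := Nat.eq_of_mul_eq_mul_left (by positivity) h3
  nlinarith

theorem card_ne_minus (q m : ℕ) (hq : 3 ≤ q) (hm : 1 ≤ m) :
    2 * q ^ ((m - 1 + 1) * (m - 1)) * (q ^ (m - 1 + 1) + 1) *
        ∏ i ∈ Finset.range (m - 1), (q ^ (2 * (i + 1)) - 1)
      ≠ q ^ (m ^ 2) * ∏ i ∈ Finset.range m, (q ^ (2 * (i + 1)) - 1) := by
  intro h
  rw [prod_split q m hm, Nat.sub_add_cancel hm] at h
  set A := ∏ i ∈ Finset.range (m - 1), (q ^ (2 * (i + 1)) - 1) with hA
  have hApos : 0 < A := by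
    apply Finset.prod_pos
    intro i _
    have : 1 < q ^ (2 * (i + 1)) := Nat.one_lt_pow (by omega) (by omega)
    omega
  set x := q ^ m with hx
  have hx3 : 3 ≤ x := by
    calc 3 ≤ q := hq
      _ = q ^ 1 := (pow_one q).symm
      _ ≤ q ^ m := Nat.pow_le_pow_right (by omega) hm
  have h1 : q ^ (m ^ 2) = q ^ (m * (m - 1)) * x := by
    rw [hx, ← pow_add]
    congr 1
    obtain ⟨k, rfl⟩ : ∃ k, m = k + 1 := ⟨m - 1, by omega⟩
    simp only [Nat.add_sub_cancel]
    ring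
  have h2 : q ^ (2 * m) - 1 = (x - 1) * (x + 1) := by
    rw [mul_comm 2 m, pow_mul, ← hx]
    exact sq_sub_one x (by omega)
  rw [h1, h2] at h
  set B := q ^ (m * (m - 1)) with hB
  have hBpos : 0 < B := pow_pos (by omega) _
  have h3 : B * A * (x + 1) * 2 = B * A * (x + 1) * (x * (x - 1)) := by
    calc B * A * (x + 1) * 2 = 2 * B * (x + 1) * A := by ring
      _ = B * x * (A * ((x - 1) * (x + 1))) := h
      _ = _ := by ring
  have h4 := Nat.eq_of_mul_eq_mul_left (by positivity) h3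
  have hx1 : 2 ≤ x - 1 := by omega
  nlinarith

end arith

end Cfsg.Agent.Lib.Helper50
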