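import Mathlib
import Cfsg.Prelude.Def_Classical
import Cfsg.Agent.Lib.Helper08.QuadCount

set_option autoImplicit false

/-! Counting one-dimensional subspaces through their nonzero vectors, and the number of
nonsingular points of the hyperbolic quadric. -/

namespace Cfsg.Agent.Lib.Helper50

open Module

/-- vectors with a scale-invariant property, counted through the lines they span -/
theorem card_vectors_eq_card_points {F : Type*} [Field F] [Fintype F] {V : Type*}
    [AddCommGroup V] [Module F V] [Finite V] (P : V → Prop) (hP0 : ∀ v, P v → v ≠ 0)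
    (hPs : ∀ (c : F) (v : V), c ≠ 0 → P v → P (c • v)) :
    Nat.card {v : V // P v} =
      Nat.card {W : Submodule F V // finrank F W = 1 ∧ ∃ v ∈ W, P v} * (Fintype.card F - 1) := by
  classical
  have : Fintype V := Fintype.ofFinite V
  have : FiniteDimensional F V := Module.Finite.of_finite
  let S := {W : Submodule F V // finrank F W = 1 ∧ ∃ v ∈ W, P v}
  let f : {v : V // P v} → S := fun v =>
    ⟨Submodule.span F {v.1}, finrank_span_singleton (hP0 v.1 v.2),
      ⟨v.1, Submodule.mem_span_singleton_self v.1, v.2⟩⟩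
  have : Fintype S := Fintype.ofFinite S
  rw [Nat.card_congr (Equiv.sigmaFiberEquiv f).symm, Nat.card_sigma]
  have hfib : ∀ W : S, Nat.card {v : {v : V // P v} // f v = W} = Fintype.card F - 1 := by
    intro W
    obtain ⟨v₀, hv₀W, hv₀P⟩ := W.2.2
    have hv₀0 : v₀ ≠ 0 := hP0 v₀ hv₀P
    have hspan : Submodule.span F {v₀} = W.1 := by
      apply Submodule.eq_of_le_of_finrank_eq
      · rw [Submodule.span_le]
        intro x hx
        rw [Set.mem_singleton_iff] at hx
        rw [hx]; exact hv₀W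
      · rw [finrank_span_singleton hv₀0, W.2.1]
    let g : Fˣ → {v : {v : V // P v} // f v = W} := fun c =>
      ⟨⟨(c : F) • v₀, hPs c v₀ c.ne_zero hv₀P⟩, by
        apply Subtype.ext
        show Submodule.span F {(c : F) • v₀} = W.1
        rw [Submodule.span_singleton_smul_eq c.isUnit, hspan]⟩
    have hg : Function.Bijective g := by
      constructor
      · intro c c' h
        have h1 : (c : F) • v₀ = (c' : F) • v₀ := congrArg (fun x => (x.1.1 : V)) h
        exact Units.ext (smul_left_injective F hv₀0 h1)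
      · rintro ⟨⟨v, hvP⟩, hv⟩
        have h1 : Submodule.span F {v} = W.1 := congrArg Subtype.val hv
        have h2 : v ∈ Submodule.span F {v₀} := by
          rw [hspan, ← h1]; exact Submodule.mem_span_singleton_self v
        obtain ⟨c, hc⟩ := Submodule.mem_span_singleton.mp h2
        have hc0 : c ≠ 0 := by
          rintro rfl
          rw [zero_smul] at hc
          exact hP0 v hvP hc.symm
        refine ⟨Units.mk0 c hc0, ?_⟩
        apply Subtype.ext
        apply Subtype.ext
        exact hc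
    rw [← Nat.card_congr (Equiv.ofBijective g hg), Nat.card_eq_fintype_card, Fintype.card_units]
  rw [Finset.sum_congr rfl (fun W _ => hfib W), Finset.sum_const, Finset.card_univ,
    smul_eq_mul, Nat.card_eq_fintype_card]


/-- the number of singular vectors of the hyperbolic form -/
theorem card_zeros_plus {F : Type*} [Field F] [Fintype F] (d : ℕ) :
    Nat.card {v : Fin d ⊕ Fin d → F // Cfsg.quadFormPlus d F v = 0} =
      Fintype.card F ^ d + (Fintype.card F ^ d - 1) * Fintype.card F ^ (d - 1) := by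
  have h := Cfsg.Agent.Lib.Helper08.natCard_zeros_of_equiv (F := F) (ι := Fin d) (A := Unit)
    (V := Fin d ⊕ Fin d → F) (Cfsg.quadFormPlus d F) (fun _ => 0)
    ((Equiv.sumArrowEquivProdArrow (Fin d) (Fin d) F).trans
      (Equiv.prodCongr (Equiv.refl _) (Equiv.prodPUnit _).symm))
    (fun v => by simp [Cfsg.quadFormPlus, Equiv.sumArrowEquivProdArrow])
  rw [h]
  simp

/-- the number of nonsingular points of the hyperbolic quadric, times `q - 1` -/
theorem card_nonsingular_points_plus {F : Type*} [Field F] [Fintype F] (d : ℕ) :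
    Nat.card {W : Submodule F (Fin d ⊕ Fin d → F) //
        finrank F W = 1 ∧ ∃ v ∈ W, Cfsg.quadFormPlus d F v ≠ 0} * (Fintype.card F - 1) +
      (Fintype.card F ^ d + (Fintype.card F ^ d - 1) * Fintype.card F ^ (d - 1)) =
      Fintype.card F ^ (2 * d) := by
  classical
  rw [← card_vectors_eq_card_points (F := F) (fun v => Cfsg.quadFormPlus d F v ≠ 0), ← card_zeros_plus]
  · have e : ({v : Fin d ⊕ Fin d → F // Cfsg.quadFormPlus d F v = 0} ⊕
        {v : Fin d ⊕ Fin d → F // ¬ Cfsg.quadFormPlus d F v = 0}) ≃ (Fin d ⊕ Fin d → F) :=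
      Equiv.sumCompl _
    have h := Nat.card_congr e
    rw [Nat.card_sum] at h
    rw [add_comm, h, Nat.card_eq_fintype_card, Fintype.card_fun, Fintype.card_sum,
      Fintype.card_fin, two_mul]
  · intro v hv h0
    apply hv
    rw [h0]
    simp [Cfsg.quadFormPlus]
  · intro c v hc hv h0
    apply hv
    have : Cfsg.quadFormPlus d F (c • v) = c ^ 2 * Cfsg.quadFormPlus d F v := by
      simp only [Cfsg.quadFormPlus, Pi.smul_apply, smul_eq_mul, Finset.mul_sum]
      exact Finset.sum_congr rfl fun i _ => by ring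
    rw [this] at h0
    rcases mul_eq_zero.mp h0 with h | h
    · exact absurd (pow_eq_zero_iff two_ne_zero |>.mp h) hc
    · exact h

/-- an odd prime dividing the number of nonsingular points divides `q ^ d - 1` (even `q`) -/
theorem dvd_pow_sub_one_of_dvd_points {F : Type*} [Field F] [Fintype F] [CharP F 2] (d : ℕ)
    (hd : 1 ≤ d) (r : ℕ) (hr : r.Prime) (hr2 : r ≠ 2)
    (h : r ∣ Nat.card {W : Submodule F (Fin d ⊕ Fin d → F) //
        finrank F W = 1 ∧ ∃ v ∈ W, Cfsg.quadFormPlus d F v ≠ 0}) :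
    r ∣ Fintype.card F ^ d - 1 := by
  obtain ⟨N, hN⟩ : ∃ N, N = Nat.card {W : Submodule F (Fin d ⊕ Fin d → F) //
        finrank F W = 1 ∧ ∃ v ∈ W, Cfsg.quadFormPlus d F v ≠ 0} := ⟨_, rfl⟩
  have hcount := card_nonsingular_points_plus (F := F) d
  rw [← hN] at hcount h
  obtain ⟨q, hq⟩ : ∃ q, q = Fintype.card F := ⟨_, rfl⟩
  rw [← hq] at hcount ⊢
  have hq2 : 2 ≤ q := by rw [hq]; exact Fintype.one_lt_card
  obtain ⟨e, rfl⟩ : ∃ e, d = e + 1 := ⟨d - 1, by omega⟩
  have hqe : 1 ≤ q ^ e := Nat.one_le_pow _ _ (by omega)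
  have hqe1 : 1 ≤ q ^ (e + 1) := Nat.one_le_pow _ _ (by omega)
  have key : N * (q - 1) = (q ^ (e + 1) - 1) * q ^ e * (q - 1) := by
    have h1 : (N : ℤ) * ((q : ℤ) - 1) +
        ((q : ℤ) ^ (e + 1) + ((q : ℤ) ^ (e + 1) - 1) * (q : ℤ) ^ e) = (q : ℤ) ^ (2 * (e + 1)) := by
      have := congrArg (fun x : ℕ => (x : ℤ)) hcount
      simp only [Nat.add_sub_cancel] at this
      push_cast [Nat.cast_sub (show 1 ≤ q by omega), Nat.cast_sub hqe1] at this
      linarith
    have h2 : (N : ℤ) * ((q : ℤ) - 1) = ((q : ℤ) ^ (e + 1) - 1) * (q : ℤ) ^ e * ((q : ℤ) - 1) := by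
      have : (N : ℤ) * ((q : ℤ) - 1) = (q : ℤ) ^ (2 * (e + 1)) -
          ((q : ℤ) ^ (e + 1) + ((q : ℤ) ^ (e + 1) - 1) * (q : ℤ) ^ e) := by linarith
      rw [this]
      ring
    have h3 : ((N * (q - 1) : ℕ) : ℤ) = (((q ^ (e + 1) - 1) * q ^ e * (q - 1) : ℕ) : ℤ) := by
      push_cast [Nat.cast_sub (show 1 ≤ q by omega), Nat.cast_sub hqe1]
      exact h2
    exact_mod_cast h3
  have hN' : N = (q ^ (e + 1) - 1) * q ^ e :=
    Nat.eq_of_mul_eq_mul_right (show 0 < q - 1 by omega) key
  rw [hN'] at h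
  rcases (Nat.Prime.dvd_mul hr).mp h with h | h
  · exact h
  · exfalso
    have h1 : r ∣ q := hr.dvd_of_dvd_pow h
    obtain ⟨n, -, hn⟩ := FiniteField.card F 2
    rw [hq, hn] at h1
    have h2 : r ∣ 2 := hr.dvd_of_dvd_pow h1
    exact hr2 ((Nat.prime_dvd_prime_iff_eq hr Nat.prime_two).mp h2)

end Cfsg.Agent.Lib.Helper50
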