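import Cfsg.Agent.Lib.Helper50.TypeCriteria
import Cfsg.Agent.Lib.Helper50.StdForms
import Cfsg.Agent.Lib.Helper50.ElusiveCount

set_option autoImplicit false

/-! Elliptic quadratic forms `Σ xᵢyᵢ + z₁² + a z₁z₂ + b z₂²` in characteristic two: normalising
the parameters, the bound on totally singular subspaces, and the number of singular vectors. -/

namespace Cfsg.Agent.Lib.Helper50

open Module QuadraticMap

variable {F : Type*} [Field F]

theorem minus_param_ne_zero [Fintype F] [CharP F 2] (a b : F)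
    (hab : ∀ x y : F, x ^ 2 + a * x * y + b * y ^ 2 = 0 → x = 0 ∧ y = 0) : a ≠ 0 := by
  rintro rfl
  have hF : ringChar F = 2 := ringChar.eq F 2
  obtain ⟨s, hs⟩ := FiniteField.isSquare_of_char_two hF b
  have h := hab s 1 (by
    rw [hs]
    have : s ^ 2 + 0 * s * 1 + s * s * 1 ^ 2 = s * s + s * s := by ring
    rw [this, CharTwo.add_self_eq_zero])
  exact one_ne_zero h.2

theorem minus_param_irred (a b : F) (ha : a ≠ 0)
    (hab : ∀ x y : F, x ^ 2 + a * x * y + b * y ^ 2 = 0 → x = 0 ∧ y = 0) :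
    ∀ t : F, t ^ 2 + t + b / a ^ 2 ≠ 0 := by
  intro t h
  have h1 := hab (a * t) 1 (by
    have : (a * t) ^ 2 + a * (a * t) * 1 + b * 1 ^ 2 = a ^ 2 * (t ^ 2 + t + b / a ^ 2) := by
      field_simp
    rw [this, h, mul_zero])
  exact one_ne_zero h1.2

/-- Artin–Schreier: two elements outside the image of `t ↦ t² + t` differ by an element of it -/
theorem exists_sq_add_self_eq [Fintype F] [CharP F 2] (ζ₁ ζ₂ : F)
    (h₁ : ∀ t : F, t ^ 2 + t + ζ₁ ≠ 0) (h₂ : ∀ t : F, t ^ 2 + t + ζ₂ ≠ 0) :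
    ∃ t : F, t ^ 2 + t = ζ₁ + ζ₂ := by
  classical
  let P : F →+ F :=
    { toFun := fun t => t ^ 2 + t
      map_zero' := by simp
      map_add' := fun s t => by
        have h2 : (2 : F) = 0 := CharTwo.two_eq_zero
        linear_combination (s * t) * h2 }
  have hker : Nat.card P.ker = 2 := by
    rw [Nat.card_eq_two_iff]
    refine ⟨⟨0, by simp⟩, ⟨1, ?_⟩, ?_, ?_⟩
    · rw [AddMonoidHom.mem_ker]
      show (1 : F) ^ 2 + 1 = 0
      rw [one_pow, CharTwo.add_self_eq_zero]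
    · intro h
      exact zero_ne_one (congrArg Subtype.val h)
    · ext ⟨x, hx⟩
      simp only [Set.mem_insert_iff, Set.mem_singleton_iff, Set.mem_univ, iff_true, Subtype.mk.injEq]
      rw [AddMonoidHom.mem_ker] at hx
      have hx' : x * (x + 1) = 0 := by
        have : x ^ 2 + x = 0 := hx
        linear_combination this
      rcases mul_eq_zero.mp hx' with h | h
      · left; exact h
      · right
        calc x = x + 1 + 1 := by rw [add_assoc, CharTwo.add_self_eq_zero, add_zero]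
          _ = 1 := by rw [h, zero_add]
  have hidx : P.range.index = 2 := by
    have e1 := AddSubgroup.card_mul_index P.ker
    have e2 := AddSubgroup.card_mul_index P.range
    rw [AddSubgroup.index_ker] at e1
    rw [hker] at e1
    have hpos : 0 < Nat.card P.range := Nat.card_pos
    have : Nat.card P.range * P.range.index = Nat.card P.range * 2 := by
      rw [e2, ← e1, mul_comm]
    exact Nat.eq_of_mul_eq_mul_left hpos this
  have hn₁ : ζ₁ ∉ P.range := by
    rintro ⟨t, ht⟩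
    apply h₁ t
    have : t ^ 2 + t = ζ₁ := ht
    rw [this, CharTwo.add_self_eq_zero]
  have hn₂ : ζ₂ ∉ P.range := by
    rintro ⟨t, ht⟩
    apply h₂ t
    have : t ^ 2 + t = ζ₂ := ht
    rw [this, CharTwo.add_self_eq_zero]
  have hmem : ζ₁ + ζ₂ ∈ P.range := by
    rw [AddSubgroup.add_mem_iff_of_index_two hidx]
    exact ⟨fun h => absurd h hn₁, fun h => absurd h hn₂⟩
  obtain ⟨t, ht⟩ := hmem
  exact ⟨t, ht⟩

/-- scaling the last coordinate -/
noncomputable def scaleLast (m : ℕ) (a : F) (ha : a ≠ 0) :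
    ((Fin m ⊕ Fin m) ⊕ Fin 2 → F) ≃ₗ[F] ((Fin m ⊕ Fin m) ⊕ Fin 2 → F) :=
  LinearEquiv.piCongrRight fun i =>
    LinearEquiv.smulOfNeZero F F (if i = Sum.inr 1 then a else 1)
      (by split_ifs; exact ha; exact one_ne_zero)

theorem scaleLast_apply (m : ℕ) (a : F) (ha : a ≠ 0) (v : (Fin m ⊕ Fin m) ⊕ Fin 2 → F)
    (i : (Fin m ⊕ Fin m) ⊕ Fin 2) :
    scaleLast m a ha v i = (if i = Sum.inr 1 then a else 1) * v i := rfl

theorem quadFormMinus_scaleLast (m : ℕ) (a b : F) (ha : a ≠ 0)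
    (v : (Fin m ⊕ Fin m) ⊕ Fin 2 → F) :
    Cfsg.quadFormMinus m F 1 (b / a ^ 2) (scaleLast m a ha v) = Cfsg.quadFormMinus m F a b v := by
  simp only [Cfsg.quadFormMinus, scaleLast_apply]
  have e1 : ((Sum.inr 0 : (Fin m ⊕ Fin m) ⊕ Fin 2) = Sum.inr 1) = False := by
    simp
  simp only [reduceCtorEq, if_false, one_mul, if_true, e1]
  congr 1
  field_simp

/-- the shear `z₁ ↦ z₁ + t z₂` -/
def shearLast (m : ℕ) (t : F) :
    ((Fin m ⊕ Fin m) ⊕ Fin 2 → F) ≃ₗ[F] ((Fin m ⊕ Fin m) ⊕ Fin 2 → F) where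
  toFun v := fun i => v i + (if i = Sum.inr 0 then t * v (Sum.inr 1) else 0)
  invFun v := fun i => v i - (if i = Sum.inr 0 then t * v (Sum.inr 1) else 0)
  map_add' u v := by
    funext i
    simp only [Pi.add_apply]
    split_ifs <;> ring
  map_smul' c v := by
    funext i
    simp only [Pi.smul_apply, smul_eq_mul, RingHom.id_apply]
    split_ifs <;> ring
  left_inv v := by
    funext i
    have e1 : ((Sum.inr 1 : (Fin m ⊕ Fin m) ⊕ Fin 2) = Sum.inr 0) = False := by simp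
    simp only [e1, if_false, add_zero]
    split_ifs <;> ring
  right_inv v := by
    funext i
    have e1 : ((Sum.inr 1 : (Fin m ⊕ Fin m) ⊕ Fin 2) = Sum.inr 0) = False := by simp
    simp only [e1, if_false, sub_zero]
    split_ifs <;> ring

theorem shearLast_apply (m : ℕ) (t : F) (v : (Fin m ⊕ Fin m) ⊕ Fin 2 → F)
    (i : (Fin m ⊕ Fin m) ⊕ Fin 2) :
    shearLast m t v i = v i + (if i = Sum.inr 0 then t * v (Sum.inr 1) else 0) := rfl

theorem quadFormMinus_shearLast [CharP F 2] (m : ℕ) (t ζ₁ ζ₂ : F) (ht : t ^ 2 + t = ζ₁ + ζ₂)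
    (v : (Fin m ⊕ Fin m) ⊕ Fin 2 → F) :
    Cfsg.quadFormMinus m F 1 ζ₂ (shearLast m t v) = Cfsg.quadFormMinus m F 1 ζ₁ v := by
  simp only [Cfsg.quadFormMinus, shearLast_apply]
  have e1 : ((Sum.inr 1 : (Fin m ⊕ Fin m) ⊕ Fin 2) = Sum.inr 0) = False := by simp
  simp only [reduceCtorEq, if_false, add_zero, if_true, e1]
  congr 1
  have h2 : (2 : F) = 0 := CharTwo.two_eq_zero
  linear_combination (v (Sum.inr 1) ^ 2) * ht +
    (t * v (Sum.inr 0) * v (Sum.inr 1) + ζ₂ * v (Sum.inr 1) ^ 2) * h2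

/-- all elliptic forms of a given dimension are isometric (finite field of characteristic two) -/
theorem exists_equiv_minus [Fintype F] [CharP F 2] (m : ℕ) (a b : F)
    (hab : ∀ x y : F, x ^ 2 + a * x * y + b * y ^ 2 = 0 → x = 0 ∧ y = 0) (ζ : F)
    (hζ : ∀ t : F, t ^ 2 + t + ζ ≠ 0) :
    ∃ ψ : ((Fin m ⊕ Fin m) ⊕ Fin 2 → F) ≃ₗ[F] ((Fin m ⊕ Fin m) ⊕ Fin 2 → F),
      ∀ v, Cfsg.quadFormMinus m F a b (ψ v) = Cfsg.quadFormMinus m F 1 ζ v := by
  have ha := minus_param_ne_zero a b hab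
  have hζ' := minus_param_irred a b ha hab
  obtain ⟨t, ht⟩ := exists_sq_add_self_eq ζ (b / a ^ 2) hζ hζ'
  refine ⟨((shearLast m t).trans (scaleLast m a ha).symm), fun v => ?_⟩
  rw [← quadFormMinus_scaleLast m a b ha, LinearEquiv.trans_apply, LinearEquiv.apply_symm_apply,
    quadFormMinus_shearLast m t ζ (b / a ^ 2) ht]

theorem isMinusType_QMinus [Fintype F] [CharP F 2] (m : ℕ) (a b : F)
    (hab : ∀ x y : F, x ^ 2 + a * x * y + b * y ^ 2 = 0 → x = 0 ∧ y = 0) :
    IsMinusType (QMinus m F a b) m (b / a ^ 2) :=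
  ⟨scaleLast m a (minus_param_ne_zero a b hab), fun v =>
    quadFormMinus_scaleLast m a b (minus_param_ne_zero a b hab) v⟩

theorem QMinus_nondegenerate [Fintype F] [CharP F 2] (m : ℕ) (a b : F)
    (hab : ∀ x y : F, x ^ 2 + a * x * y + b * y ^ 2 = 0 → x = 0 ∧ y = 0) :
    (polarBilin (QMinus m F a b)).Nondegenerate := by
  apply qfOfPolar_nondegenerate
  rw [det_minus_gram]
  have ha := minus_param_ne_zero a b hab
  have h4 : (4 : F) = 0 := by
    have h2 : (2 : F) = 0 := CharTwo.two_eq_zero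
    linear_combination (2 : F) * h2
  rw [h4, zero_mul, sub_zero]
  exact mul_ne_zero (pow_ne_zero _ (neg_ne_zero.mpr one_ne_zero)) (pow_ne_zero _ ha)

/-- totally singular subspaces of an elliptic space of dimension `2m + 2` have dimension `≤ m` -/
theorem ts_finrank_le_minus [Fintype F] [CharP F 2] (m : ℕ) (a b : F)
    (hab : ∀ x y : F, x ^ 2 + a * x * y + b * y ^ 2 = 0 → x = 0 ∧ y = 0)
    (T : Submodule F ((Fin m ⊕ Fin m) ⊕ Fin 2 → F))
    (hT : ∀ x ∈ T, Cfsg.quadFormMinus m F a b x = 0) : finrank F T ≤ m := by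
  by_contra hcon
  rw [not_le] at hcon
  have hfin : finrank F ((Fin m ⊕ Fin m) ⊕ Fin 2 → F) = 2 * (m + 1) := by
    rw [Module.finrank_fintype_fun_eq_card]
    simp only [Fintype.card_sum, Fintype.card_fin]
    ring
  have hp := plusType_of_totally_singular (m + 1) (QMinus m F a b)
    (QND_of_nondegenerate _ (QMinus_nondegenerate m a b hab)) hfin T hcon hT
  exact not_plus_and_minus (QMinus m F a b) m (b / a ^ 2)
    (minus_param_irred a b (minus_param_ne_zero a b hab) hab) hp (isMinusType_QMinus m a b hab)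

theorem natCard_zeros_eq_zeroCount {X : Type*} [Fintype X] [DecidableEq F] (R : X → F) :
    Nat.card {v : X // R v = 0} = zeroCount R := by
  classical
  rw [Nat.card_eq_fintype_card, Fintype.card_subtype, Finset.card_filter]
  rfl

/-- the number of singular vectors of the elliptic form -/
theorem card_zeros_minus [Fintype F] (m : ℕ) (a b : F)
    (hab : ∀ x y : F, x ^ 2 + a * x * y + b * y ^ 2 = 0 → x = 0 ∧ y = 0) :
    Nat.card {v : (Fin m ⊕ Fin m) ⊕ Fin 2 → F // Cfsg.quadFormMinus m F a b v = 0} +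
      Fintype.card F ^ (m + 1) = Fintype.card F ^ (2 * m + 1) + Fintype.card F ^ m := by
  classical
  have h1 := zeroCount_plus_eq_minus_add m a b hab
  rw [natCard_zeros_eq_zeroCount]
  have h2 := card_zeros_plus (F := F) (m + 1)
  rw [natCard_zeros_eq_zeroCount, h1] at h2
  obtain ⟨q, hq⟩ : ∃ q, q = Fintype.card F := ⟨_, rfl⟩
  rw [← hq] at h2 ⊢
  have hq2 : 2 ≤ q := by rw [hq]; exact Fintype.one_lt_card
  have hqm : 1 ≤ q ^ (m + 1) := Nat.one_le_pow _ _ (by omega)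
  simp only [Nat.add_sub_cancel] at h2
  zify [hqm, show 1 ≤ q by omega] at h2 ⊢
  have e1 : (q : ℤ) ^ (2 * m + 1) = (q : ℤ) ^ (m + 1) * (q : ℤ) ^ m := by ring
  have e2 : (q : ℤ) ^ (m + 1) = (q : ℤ) * (q : ℤ) ^ m := by ring
  rw [e1]
  rw [e2] at h2 ⊢
  linear_combination h2

/-- an odd prime dividing the number of nonsingular points divides `q ^ (m + 1) + 1`
(even `q`) -/
theorem dvd_pow_add_one_of_dvd_points_minus [Fintype F] [CharP F 2] (m : ℕ) (a b : F)
    (hab : ∀ x y : F, x ^ 2 + a * x * y + b * y ^ 2 = 0 → x = 0 ∧ y = 0)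
    (r : ℕ) (hr : r.Prime) (hr2 : r ≠ 2)
    (h : r ∣ Nat.card {W : Submodule F ((Fin m ⊕ Fin m) ⊕ Fin 2 → F) //
        finrank F W = 1 ∧ ∃ v ∈ W, Cfsg.quadFormMinus m F a b v ≠ 0}) :
    r ∣ Fintype.card F ^ (m + 1) + 1 := by
  classical
  obtain ⟨N, hN⟩ : ∃ N, N = Nat.card {W : Submodule F ((Fin m ⊕ Fin m) ⊕ Fin 2 → F) //
        finrank F W = 1 ∧ ∃ v ∈ W, Cfsg.quadFormMinus m F a b v ≠ 0} := ⟨_, rfl⟩
  have hcount : N * (Fintype.card F - 1) +
      Nat.card {v : (Fin m ⊕ Fin m) ⊕ Fin 2 → F // Cfsg.quadFormMinus m F a b v = 0} =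
      Fintype.card F ^ (2 * m + 2) := by
    rw [hN, ← card_vectors_eq_card_points (F := F)
      (fun v => Cfsg.quadFormMinus m F a b v ≠ 0)]
    · have e : ({v : (Fin m ⊕ Fin m) ⊕ Fin 2 → F // Cfsg.quadFormMinus m F a b v = 0} ⊕
          {v : (Fin m ⊕ Fin m) ⊕ Fin 2 → F // ¬ Cfsg.quadFormMinus m F a b v = 0}) ≃
          ((Fin m ⊕ Fin m) ⊕ Fin 2 → F) := Equiv.sumCompl _
      have h' := Nat.card_congr e
      rw [Nat.card_sum] at h'
      rw [add_comm, h', Nat.card_eq_fintype_card, Fintype.card_fun, Fintype.card_sum,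
        Fintype.card_sum, Fintype.card_fin, Fintype.card_fin]
      congr 1
      ring
    · intro v hv h0
      apply hv
      rw [h0]
      simp [Cfsg.quadFormMinus]
    · intro c v hc hv h0
      apply hv
      rw [quadFormMinus_smul] at h0
      rcases mul_eq_zero.mp h0 with h | h
      · exact absurd (mul_self_eq_zero.mp h) hc
      · exact h
  have hz := card_zeros_minus m a b hab
  rw [← hN] at h
  obtain ⟨Z, hZ⟩ : ∃ Z, Z = Nat.card {v : (Fin m ⊕ Fin m) ⊕ Fin 2 → F //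
      Cfsg.quadFormMinus m F a b v = 0} := ⟨_, rfl⟩
  rw [← hZ] at hz hcount
  obtain ⟨q, hq⟩ : ∃ q, q = Fintype.card F := ⟨_, rfl⟩
  rw [← hq] at hcount hz ⊢
  have hq2 : 2 ≤ q := by rw [hq]; exact Fintype.one_lt_card
  have key : N * (q - 1) = (q ^ (m + 1) + 1) * q ^ m * (q - 1) := by
    zify [show 1 ≤ q by omega] at hcount hz ⊢
    have e1 : (q : ℤ) ^ (2 * m + 1) = (q : ℤ) ^ (m + 1) * (q : ℤ) ^ m := by ring
    have e2 : (q : ℤ) ^ (2 * m + 2) = (q : ℤ) * ((q : ℤ) ^ (m + 1) * (q : ℤ) ^ m) := by ring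
    have e3 : (q : ℤ) ^ (m + 1) = (q : ℤ) * (q : ℤ) ^ m := by ring
    rw [e1] at hz
    rw [e2] at hcount
    rw [e3] at hz hcount ⊢
    linear_combination hcount - hz
  have hN' : N = (q ^ (m + 1) + 1) * q ^ m :=
    Nat.eq_of_mul_eq_mul_right (show 0 < q - 1 by omega) key
  rw [hN'] at h
  rcases (Nat.Prime.dvd_mul hr).mp h with h | h
  · exact h
  · exfalso
    have h1 : r ∣ q := hr.dvd_of_dvd_pow h
    obtain ⟨n, -, hn⟩ := FiniteField.card F 2
    rw [hq, hn] at h1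
    have h2 : r ∣ 2 := hr.dvd_of_dvd_pow h1
    exact hr2 ((Nat.prime_dvd_prime_iff_eq hr Nat.prime_two).mp h2)

end Cfsg.Agent.Lib.Helper50
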