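import Cfsg.Agent.Lib.Helper50.PlusLangA
import Cfsg.Agent.Lib.Helper50.MinusParam
import Cfsg.Agent.Lib.Helper50.GramMinus
import Cfsg.Agent.Lib.Helper09.AnisoExt

set_option autoImplicit false

/-!
# The Lang-type statement for the similarity group of the elliptic form (every characteristic)

For a field automorphism `σ` fixing the two coefficients of the anisotropic binary part, all
descended forms are elliptic over the fixed field, hence isometric.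
-/

namespace Cfsg.Agent.Lib.Helper50

open Matrix Cfsg.Agent.Lib.Helper08 Cfsg.Agent.Lib.Helper26.LangGO

universe u

section nondeg

variable {F : Type u} [Field F] [Fintype F] (m : ℕ) (a b : F)

/-- the discriminant of an anisotropic binary form over a finite field is nonzero -/
theorem disc_ne_zero_of_anis
    (hab : ∀ z₁ z₂ : F, z₁ ^ 2 + a * z₁ * z₂ + b * z₂ ^ 2 = 0 → z₁ = 0 ∧ z₂ = 0) :
    a ^ 2 - 4 * b ≠ 0 := by
  by_cases h2 : (2 : F) = 0
  · haveI : CharP F 2 := CharTwo.of_one_ne_zero_of_two_eq_zero one_ne_zero h2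
    have ha := minus_param_ne_zero a b hab
    have h4 : (4 : F) = 0 := by linear_combination (2 : F) * h2
    rw [h4, zero_mul, sub_zero]
    exact pow_ne_zero _ ha
  · have hΔ := disc_not_isSquare h2 a b hab
    exact fun h => hΔ (h ▸ ⟨0, by ring⟩)

omit [Fintype F] in
theorem QMinus_nondeg_of_disc (hd : a ^ 2 - 4 * b ≠ 0) :
    (QuadraticMap.polarBilin (QMinus m F a b)).Nondegenerate := by
  apply qfOfPolar_nondegenerate
  rw [det_minus_gram]
  exact mul_ne_zero (pow_ne_zero _ (neg_ne_zero.mpr one_ne_zero)) hd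

theorem QMinus_nondeg_of_anis
    (hab : ∀ z₁ z₂ : F, z₁ ^ 2 + a * z₁ * z₂ + b * z₂ ^ 2 = 0 → z₁ = 0 ∧ z₂ = 0) :
    (QuadraticMap.polarBilin (QMinus m F a b)).Nondegenerate :=
  QMinus_nondeg_of_disc m a b (disc_ne_zero_of_anis a b hab)

omit [Fintype F] in
theorem card_minus_index : Fintype.card ((Fin m ⊕ Fin m) ⊕ Fin 2) = 2 * m + 2 := by
  rw [Fintype.card_sum, Fintype.card_sum, Fintype.card_fin, Fintype.card_fin]; ring

omit [Fintype F] in
theorem compat_minus (σ : RingAut F) (ha : σ a = a) (hb : σ b = b) :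
    σ ∈ compatAut (Cfsg.quadFormMinus m F a b) := by
  rw [mem_compatAut]
  intro v
  unfold Cfsg.quadFormMinus
  simp only [map_add, map_sum, map_mul, map_pow, ha, hb]

/-- an elliptic form is not hyperbolic -/
theorem not_plus_of_anis {V : Type u} [AddCommGroup V] [Module F V]
    (Q : QuadraticForm F V) (k : ℕ)
    (ψ : V ≃ₗ[F] ((Fin k ⊕ Fin k) ⊕ Fin 2 → F))
    (hψ : ∀ v, Cfsg.quadFormMinus k F a b (ψ v) = Q v)
    (hab : ∀ z₁ z₂ : F, z₁ ^ 2 + a * z₁ * z₂ + b * z₂ ^ 2 = 0 → z₁ = 0 ∧ z₂ = 0)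
    (hp : IsPlusType Q (k + 1)) : False := by
  classical
  obtain ⟨φ, hφ⟩ := hp
  have h1 := zeroCount_plus_eq_minus_add (F := F) k a b hab
  have h2 : zeroCount (Cfsg.quadFormPlus (k + 1) F) = zeroCount (Cfsg.quadFormMinus k F a b) :=
    zeroCount_congr (φ.symm.trans ψ).toEquiv _ _ (fun v => by
      have := hφ (φ.symm v)
      rw [LinearEquiv.apply_symm_apply] at this
      rw [this, ← hψ]
      rfl)
  have hq : 2 ≤ Fintype.card F := Fintype.one_lt_card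
  have hpos : 0 < 2 * (Fintype.card F - 1) * Fintype.card F ^ k := by
    apply Nat.mul_pos
    · omega
    · exact pow_pos (by omega) k
  omega

end nondeg

section main

variable {F : Type u} [Field F] [Fintype F] (m : ℕ) (a b : F)

theorem compat_QMinus (σ : RingAut F) (ha : σ a = a) (hb : σ b = b) :
    ∀ v : (Fin m ⊕ Fin m) ⊕ Fin 2 → F,
      QMinus m F a b (fun i => σ (v i)) = σ (QMinus m F a b v) :=
  compat_minus m a b σ ha hb

/-- the restriction of the elliptic form to the fixed field is elliptic -/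
theorem descForm_minus (σ : RingAut F) (ha : σ a = a) (hb : σ b = b)
    (hab : ∀ z₁ z₂ : F, z₁ ^ 2 + a * z₁ * z₂ + b * z₂ ^ 2 = 0 → z₁ = 0 ∧ z₂ = 0)
    (ζ : fixF σ) (hζ : ∀ t : fixF σ, t ^ 2 + t + ζ ≠ 0) :
    IsMinusType (descForm σ (QMinus m F a b) (compat_QMinus m a b σ ha hb)) m ζ := by
  haveI : Fintype (fixF σ) := Fintype.ofFinite _
  have hab₀ : ∀ z₁ z₂ : fixF σ, z₁ ^ 2 + (⟨a, ha⟩ : fixF σ) * z₁ * z₂ +
      (⟨b, hb⟩ : fixF σ) * z₂ ^ 2 = 0 → z₁ = 0 ∧ z₂ = 0 :=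
    Cfsg.Agent.Lib.Helper09.AnisoExt.anis_descent (fixF σ).subtype ⟨a, ha⟩ ⟨b, hb⟩ hab
  obtain ⟨ψ, hψ⟩ := Cfsg.Agent.Lib.Helper49.exists_equiv_minus_all m (⟨a, ha⟩ : fixF σ)
    ⟨b, hb⟩ hab₀ ζ hζ
  refine ⟨ψ.symm, fun v => ?_⟩
  rw [← hψ, LinearEquiv.apply_symm_apply]
  apply Subtype.ext
  rw [descForm_apply]
  exact (quadFormMinus_coe (fixF σ) m ⟨a, ha⟩ ⟨b, hb⟩ v).symm

/-- every descended form is isometric to the restriction of the form -/
theorem minus_hclass (σ : RingAut F) (ha : σ a = a) (hb : σ b = b)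
    (hab : ∀ z₁ z₂ : F, z₁ ^ 2 + a * z₁ * z₂ + b * z₂ ^ 2 = 0 → z₁ = 0 ∧ z₂ = 0)
    (N : Matrix ((Fin m ⊕ Fin m) ⊕ Fin 2) ((Fin m ⊕ Fin m) ⊕ Fin 2) F)
    (Q₀ : QuadraticForm (fixF σ) ((Fin m ⊕ Fin m) ⊕ Fin 2 → fixF σ)) (hnd : QND Q₀)
    (hex : ∃ Y c, IsDesc σ (QMinus m F a b) N Y c Q₀) :
    ∃ (P : Matrix ((Fin m ⊕ Fin m) ⊕ Fin 2) ((Fin m ⊕ Fin m) ⊕ Fin 2) (fixF σ)) (d : fixF σ),
      IsUnit P ∧ ∀ v, Q₀ (P *ᵥ v) =
        d * descForm σ (QMinus m F a b) (compat_QMinus m a b σ ha hb) v := by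
  haveI : Fintype (fixF σ) := Fintype.ofFinite _
  obtain ⟨Y, c, hYu, hc, -, hQ₀⟩ := hex
  have hfr : Module.finrank (fixF σ) ((Fin m ⊕ Fin m) ⊕ Fin 2 → fixF σ) = 2 * m + 2 := by
    rw [Module.finrank_fintype_fun_eq_card, card_minus_index]
  rcases witt_type (2 * m + 2) Q₀ hfr hnd with ⟨m', hm', hp⟩ | ⟨k, ζ, hk, hζ, hmin⟩ |
    ⟨k, c', hk, -, -⟩
  · exfalso
    obtain rfl : m' = m + 1 := by omega
    obtain ⟨R, hR⟩ : ∃ R : QuadraticForm F ((Fin m ⊕ Fin m) ⊕ Fin 2 → F), R =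
        c⁻¹ • (QMinus m F a b).comp (Matrix.toLin' Y) := ⟨_, rfl⟩
    have hRv : ∀ v, R v = c⁻¹ * QMinus m F a b (Y *ᵥ v) := by
      intro v
      rw [hR, _root_.smul_apply, QuadraticMap.comp_apply, Matrix.toLin'_apply, smul_eq_mul]
    have hR0 : ∀ v : (Fin m ⊕ Fin m) ⊕ Fin 2 → fixF σ,
        R (fun i => (v i : F)) = ((Q₀ v : fixF σ) : F) := by
      intro v
      rw [hRv]
      have := hQ₀ v
      unfold upV at this
      rw [this, ← mul_assoc, inv_mul_cancel₀ hc, one_mul]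
    obtain ⟨φR, hφR⟩ := isPlusType_ext (fixF σ) Q₀ R hR0 (m + 1) hp
    -- the form itself is then hyperbolic
    obtain ⟨u, hu⟩ := hYu
    have hplus : IsPlusType (QMinus m F a b) (m + 1) := by
      have hdu : IsUnit (dilMat (m + 1) c) := by
        rw [Matrix.isUnit_iff_isUnit_det, det_dilMat]
        exact (pow_ne_zero _ hc).isUnit
      obtain ⟨e, he⟩ := exists_equiv_of_isUnit _ hdu
      obtain ⟨eY, heY⟩ := exists_equiv_of_isUnit (u⁻¹).val (u⁻¹).isUnit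
      refine ⟨(eY.trans φR).trans e, fun v => ?_⟩
      rw [LinearEquiv.trans_apply, LinearEquiv.trans_apply, he, quadFormPlus_dil, hφR, hRv, heY,
        Matrix.mulVec_mulVec, ← hu, Units.mul_inv, Matrix.one_mulVec, ← mul_assoc,
        mul_inv_cancel₀ hc, one_mul]
    exact not_plus_of_anis a b (QMinus m F a b) m (LinearEquiv.refl _ _) (fun v => rfl) hab hplus
  · obtain rfl : m = k := by omega
    have hdm := descForm_minus m a b σ ha hb hab ζ hζ
    obtain ⟨P, hP, hPQ⟩ := exists_P_of_minus _ Q₀ m ζ ζ hζ hζ hdm hmin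
    exact ⟨P, 1, hP, hPQ⟩
  · omega

/-- **Lang for the similarity group of the elliptic form.** -/
theorem lang_minus (hab : ∀ z₁ z₂ : F, z₁ ^ 2 + a * z₁ * z₂ + b * z₂ ^ 2 = 0 → z₁ = 0 ∧ z₂ = 0)
    (σ : ↥(compatAut (Cfsg.quadFormMinus m F a b))) (ha : σ.1 a = a) (hb : σ.1 b = b) {r : ℕ}
    (hσ : orderOf σ = r) (hr : 0 < r)
    (g : ↥(Cfsg.Geo.quadSimilarityGroup (F := F) (Cfsg.quadFormMinus m F a b)))
    (htw : twP σ.1 ((g : GL ((Fin m ⊕ Fin m) ⊕ Fin 2) F) :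
      Matrix ((Fin m ⊕ Fin m) ⊕ Fin 2) ((Fin m ⊕ Fin m) ⊕ Fin 2) F) r = 1) :
    ∃ Y : ↥(Cfsg.Geo.quadSimilarityGroup (F := F) (Cfsg.quadFormMinus m F a b)),
      g * sigmaGO (Cfsg.quadFormMinus m F a b) σ Y = Y := by
  have hQ0 : ∃ v, QMinus m F a b v ≠ 0 := by
    refine ⟨Pi.single (Sum.inr 0) 1, ?_⟩
    change Cfsg.quadFormMinus m F a b _ ≠ 0
    unfold Cfsg.quadFormMinus
    simp
  have hnd : QND (QMinus m F a b) := QND_of_nondegenerate _ (QMinus_nondeg_of_anis m a b hab)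
  obtain ⟨Y, hY⟩ := lang_of_class (QMinus m F a b) σ hQ0 hnd hσ hr g htw
    (fun Q₀ hQ₀ hex => minus_hclass m a b σ.1 ha hb hab _ Q₀ hQ₀ hex)
  refine ⟨Y, ?_⟩
  apply simGO_ext
  rw [Subgroup.coe_mul, Units.val_mul]
  exact hY

end main

end Cfsg.Agent.Lib.Helper50
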