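import Cfsg.Agent.Lib.Helper50.SumForm
import Cfsg.Agent.Lib.Helper50.StdForms
import Cfsg.Agent.Lib.Helper50.Gram

set_option autoImplicit false

/-! The hyperbolic form `Σ x_i y_i`: swaps of hyperbolic pairs as products of reflections. -/

namespace Cfsg.Agent.Lib.Helper50

open Matrix QuadraticMap Cfsg.Agent.Lib.Helper19

variable {F : Type*} [Field F] {m : ℕ}

theorem QPlus_coe : (⇑(QPlus m F) : (Fin m ⊕ Fin m → F) → F) = Cfsg.quadFormPlus m F := rfl

theorem QPlus_apply (x : Fin m ⊕ Fin m → F) :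
    QPlus m F x = ∑ i : Fin m, x (Sum.inl i) * x (Sum.inr i) := rfl

theorem QPlus_nondegenerate : (polarBilin (QPlus m F)).Nondegenerate := by
  apply qfOfPolar_nondegenerate
  rw [det_hyp, Fintype.card_fin]
  exact pow_ne_zero _ (neg_ne_zero.mpr one_ne_zero)

theorem polar_QPlus (u v : Fin m ⊕ Fin m → F) :
    polar (⇑(QPlus m F)) u v =
      ∑ i : Fin m, (u (Sum.inl i) * v (Sum.inr i) + u (Sum.inr i) * v (Sum.inl i)) := by
  simp only [polar, QPlus_apply, Pi.add_apply, ← Finset.sum_sub_distrib]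
  refine Finset.sum_congr rfl fun i _ => ?_
  ring

theorem polar_QPlus_single_inl (j : Fin m) (x : Fin m ⊕ Fin m → F) :
    polar (⇑(QPlus m F)) (Pi.single (Sum.inl j) 1) x = x (Sum.inr j) := by
  rw [polar_QPlus, Finset.sum_eq_single j]
  · simp
  · intro i _ hij
    simp [hij]
  · intro h; exact absurd (Finset.mem_univ j) h

theorem polar_QPlus_single_inr (j : Fin m) (x : Fin m ⊕ Fin m → F) :
    polar (⇑(QPlus m F)) (Pi.single (Sum.inr j) 1) x = x (Sum.inl j) := by
  rw [polar_QPlus, Finset.sum_eq_single j]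
  · simp
  · intro i _ hij
    simp [hij]
  · intro h; exact absurd (Finset.mem_univ j) h

/-- the vector `e_i - D_i f_i` -/
def tw (D : Fin m → F) (i : Fin m) : Fin m ⊕ Fin m → F :=
  Pi.single (Sum.inl i) 1 - D i • Pi.single (Sum.inr i) 1

theorem tw_inl (D : Fin m → F) (i j : Fin m) : tw D i (Sum.inl j) = if j = i then 1 else 0 := by
  simp [tw, Pi.single_apply]

theorem tw_inr (D : Fin m → F) (i j : Fin m) :
    tw D i (Sum.inr j) = if j = i then - D i else 0 := by
  by_cases h : j = i
  · subst h; simp [tw]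
  · simp [tw, Pi.single_apply, h]

theorem QPlus_tw (D : Fin m → F) (i : Fin m) : QPlus m F (tw D i) = - D i := by
  rw [QPlus_apply, Finset.sum_eq_single i]
  · rw [tw_inl, tw_inr]; simp
  · intro j _ hji
    rw [tw_inl, if_neg hji, zero_mul]
  · intro h; exact absurd (Finset.mem_univ i) h

theorem polar_tw (D : Fin m → F) (i : Fin m) (x : Fin m ⊕ Fin m → F) :
    polar (⇑(QPlus m F)) (tw D i) x = x (Sum.inr i) - D i * x (Sum.inl i) := by
  unfold tw
  rw [polar_sub_left, polar_smul_left, polar_QPlus_single_inl, polar_QPlus_single_inr]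
  rfl

theorem polar_tw_tw (D : Fin m → F) (i j : Fin m) (hij : i ≠ j) :
    polar (⇑(QPlus m F)) (tw D i) (tw D j) = 0 := by
  rw [polar_tw, tw_inr, tw_inl, if_neg hij, if_neg hij]
  simp

theorem prod_reflectionMatrix_mulVec {ι : Type} [Fintype ι] [DecidableEq ι]
    (Q : QuadraticForm F (ι → F)) (l : List (ι → F)) (x : ι → F) :
    Matrix.mulVec (l.map (fun v => Cfsg.reflectionMatrix (⇑Q) v)).prod x =
      (l.map (reflLin Q)).prod x := by
  induction l generalizing x with
  | nil => simp
  | cons a t ih =>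
    rw [List.map_cons, List.prod_cons, List.map_cons, List.prod_cons, ← Matrix.mulVec_mulVec, ih,
      Module.End.mul_apply, reflectionMatrix_mulVec, reflLin_apply]

/-- the product of the reflections in the vectors `e_i - D_i f_i` -/
theorem prod_refl_tw (D : Fin m → F) (hD : ∀ i, D i ≠ 0) :
    ((List.ofFn (tw D)).map (fun v => Cfsg.reflectionMatrix (⇑(QPlus m F)) v)).prod =
      Matrix.fromBlocks 0 (Matrix.diagonal (fun i => (D i)⁻¹)) (Matrix.diagonal D) 0 := by
  apply Matrix.toLin'.injective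
  apply LinearMap.ext
  intro x
  rw [Matrix.toLin'_apply, Matrix.toLin'_apply, prod_reflectionMatrix_mulVec,
    prod_reflLin_ortho (QPlus m F) _ (by
      rw [List.pairwise_ofFn]
      intro i j hlt
      exact polar_tw_tw D i j (ne_of_lt hlt)), List.map_ofFn, List.sum_ofFn]
  obtain ⟨x₁, x₂, rfl⟩ : ∃ x₁ x₂, x = Sum.elim x₁ x₂ :=
    ⟨x ∘ Sum.inl, x ∘ Sum.inr, by funext i; cases i <;> rfl⟩
  rw [Matrix.fromBlocks_mulVec]
  funext k
  cases k with
  | inl j =>
    simp only [Pi.sub_apply, Finset.sum_apply, Function.comp_apply, Pi.smul_apply, smul_eq_mul,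
      tw_inl, Sum.elim_inl, Pi.add_apply, Matrix.zero_mulVec, Pi.zero_apply, zero_add,
      Matrix.mulVec_diagonal, mul_ite, mul_one, mul_zero, Finset.sum_ite_eq, Finset.mem_univ,
      if_true, QPlus_tw, polar_tw]
    have := hD j
    field_simp
    ring
  | inr j =>
    simp only [Pi.sub_apply, Finset.sum_apply, Function.comp_apply, Pi.smul_apply, smul_eq_mul,
      tw_inr, Sum.elim_inr, Pi.add_apply, Matrix.zero_mulVec, Pi.zero_apply, add_zero,
      Matrix.mulVec_diagonal, mul_ite, mul_zero, Finset.sum_ite_eq, Finset.mem_univ,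
      if_true, QPlus_tw, polar_tw]
    have := hD j
    field_simp
    ring

end Cfsg.Agent.Lib.Helper50
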