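import Mathlib
import Cfsg.Prelude.Def_Local
import Cfsg.Agent.Lib.Helper06.SylAlt.Defs
import Cfsg.Agent.Lib.Helper06.SylTwo.Defs
import Cfsg.Agent.Lib.Helper64.MarggrafC

set_option autoImplicit false

/-!
# K-SylTwo-A8c (helper50, for helper6's S2928 pack): 8 points, primitive with a Jordan set of size 4
implies 3-transitive
-/

namespace Cfsg.Agent.Lib.Helper50.SylTwo

open Equiv Equiv.Perm
open MulAction SubMulAction
open Cfsg.Agent.Lib.Helper64.Marggraf

variable {M β : Type*} [Group M] [Finite M] [MulAction M β] [FaithfulSMul M β] [Fintype β] [DecidableEq β]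

/-- **K-SylTwo-A8c.** -/
theorem a8_three_transitive (h8 : Fintype.card β = 8) (hprim : IsPreprimitive M β) (B : Set β)
    (hB : B.ncard = 4) (hJ : IsJ M B) : IsMultiplyPretransitive M β 3 := by
  classical
  have hcompl : Bᶜ.ncard = 4 := by
    rw [Set.ncard_compl, hB, Nat.card_eq_fintype_card, h8]
  -- `M` is 2-transitive
  have h2 : IsMultiplyPretransitive M β 2 := by
    apply jordan_two' hprim B hJ (n := 3)
    · rw [hcompl]
    · rw [Nat.card_eq_fintype_card, h8]; norm_num
  -- a point outside `B`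
  obtain ⟨S, hSsub, hScard⟩ := Set.exists_subset_card_eq (s := Bᶜ) (n := 1) (by rw [hcompl]; norm_num)
  have hSB : ∀ s ∈ S, s ∉ B := fun s hs => hSsub hs
  have : Finite S := Set.toFinite S
  have hcardY := card_ofFixingSubgroup (G := M) S
  rw [hScard, h8] at hcardY
  have hcardY7 : Nat.card ↥(ofFixingSubgroup M S) = 7 := by omega
  have h1S : IsMultiplyPretransitive ↥(fixingSubgroup M S) ↥(ofFixingSubgroup M S) 1 :=
    ofFixingSubgroup.isMultiplyPretransitive (n := 2) M S (by omega)
  have htrS : IsPretransitive ↥(fixingSubgroup M S) ↥(ofFixingSubgroup M S) :=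
    is_one_pretransitive_iff.mp h1S
  have hprimS : IsPreprimitive ↥(fixingSubgroup M S) ↥(ofFixingSubgroup M S) := by
    apply IsPreprimitive.of_prime_card
    rw [hcardY7]; norm_num
  have hsubc := ncard_sub (G := M) B S hSB
  have hcc : ({y : ↥(ofFixingSubgroup M S) | (y : β) ∈ B}ᶜ).ncard = 3 := by
    rw [Set.ncard_compl, hsubc, hB, hcardY7]
  have h2S : IsMultiplyPretransitive ↥(fixingSubgroup M S) ↥(ofFixingSubgroup M S) 2 := by
    apply jordan_two' hprimS {y : ↥(ofFixingSubgroup M S) | (y : β) ∈ B} (isJ_fixing B hJ S hSB) (n := 2)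
    · rw [hcc]
    · rw [hcardY7]; norm_num
  have h1 : IsMultiplyPretransitive M β 1 :=
    isMultiplyPretransitive_of_le (n := 2) (by omega)
      (by rw [Nat.card_eq_fintype_card, h8]; norm_num)
  have := Cfsg.Agent.Lib.Helper17.isMultiplyPretransitive_add_of_fixingSubgroup 1 2 S hScard h1 h2S
  exact this

end Cfsg.Agent.Lib.Helper50.SylTwo
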