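import Cfsg.Agent.Lib.Helper50.Spinor
import Cfsg.Agent.Lib.Helper50.GramMinus

set_option autoImplicit false

/-! The spinor norm criterion: a product of reflections lies in the commutator subgroup iff
the number of factors is even and the product of the `Q v` is a square. -/

namespace Cfsg.Agent.Lib.Helper50

open Matrix Cfsg.Agent.Lib.Helper19

open scoped commutatorElement

/-- generic two-class lemma in a commutative group -/
theorem prod_eq_one_of_two_classes {α A : Type*} [CommGroup A] (l : List α) (f : α → A)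
    (κ : α → Bool) (h : ∀ x ∈ l, ∀ y ∈ l, κ x = κ y → f x * f y = 1)
    (h1 : Even (l.countP (fun x => κ x))) (h2 : Even (l.countP (fun x => !κ x))) :
    (l.map f).prod = 1 := by
  classical
  let ρ : Bool → A := fun b => if hb : ∃ x ∈ l, κ x = b then f hb.choose else 1
  have hρ : ∀ x ∈ l, f x = ρ (κ x) := by
    intro x hx
    have hb : ∃ y ∈ l, κ y = κ x := ⟨x, hx, rfl⟩
    have hc := hb.choose_spec
    simp only [ρ, dif_pos hb]
    have e1 : f x * f hb.choose = 1 := h x hx _ hc.1 hc.2.symm
    have e2 : f hb.choose * f hb.choose = 1 := h _ hc.1 _ hc.1 rfl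
    calc f x = f x * (f hb.choose * f hb.choose) := by rw [e2, mul_one]
      _ = (f x * f hb.choose) * f hb.choose := by rw [mul_assoc]
      _ = f hb.choose := by rw [e1, one_mul]
  have hρ2 : ∀ b, ρ b * ρ b = 1 := by
    intro b
    by_cases hb : ∃ x ∈ l, κ x = b
    · simp only [ρ, dif_pos hb]
      exact h _ hb.choose_spec.1 _ hb.choose_spec.1 rfl
    · simp only [ρ, dif_neg hb, mul_one]
  have hmap : l.map f = l.map (fun x => ρ (κ x)) := List.map_congr_left hρ
  rw [hmap]
  have hgen : ∀ l' : List α, (l'.map (fun x => ρ (κ x))).prod =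
      ρ true ^ (l'.countP (fun x => κ x)) * ρ false ^ (l'.countP (fun x => !κ x)) := by
    intro l'
    induction l' with
    | nil => simp
    | cons a t ih =>
      rw [List.map_cons, List.prod_cons, ih, List.countP_cons, List.countP_cons]
      cases hκ : κ a
      · simp only [Bool.false_eq_true, if_false, add_zero, Bool.not_false, if_true, pow_succ]
        ac_rfl
      · simp only [if_true, Bool.not_true, Bool.false_eq_true, if_false, add_zero, pow_succ]
        ac_rfl
  rw [hgen]
  obtain ⟨a, ha⟩ := h1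
  obtain ⟨b, hb⟩ := h2
  rw [ha, hb, pow_add, pow_add, ← mul_pow, ← mul_pow, hρ2, hρ2]
  simp

variable {ι : Type} [Fintype ι] [DecidableEq ι] {F : Type*} [Field F]

theorem polar_mulVec_isometry (Q : QuadraticForm F (ι → F)) (A : Matrix ι ι F)
    (hA : ∀ x, Q (A *ᵥ x) = Q x) (x y : ι → F) :
    QuadraticMap.polar (⇑Q) (A *ᵥ x) (A *ᵥ y) = QuadraticMap.polar (⇑Q) x y := by
  simp only [QuadraticMap.polar, ← Matrix.mulVec_add, hA]

/-- `A R_u = R_{Au} A` for an isometry `A`. -/
theorem isometry_mul_reflection (Q : QuadraticForm F (ι → F)) (A : Matrix ι ι F)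
    (hA : ∀ x, Q (A *ᵥ x) = Q x) (u : ι → F) :
    A * Cfsg.reflectionMatrix (⇑Q) u = Cfsg.reflectionMatrix (⇑Q) (A *ᵥ u) * A := by
  apply Matrix.toLin'.injective
  apply LinearMap.ext
  intro x
  simp only [Matrix.toLin'_apply, ← Matrix.mulVec_mulVec, reflectionMatrix_mulVec,
    Matrix.mulVec_sub, Matrix.mulVec_smul, hA, polar_mulVec_isometry Q A hA]

theorem reflectionMatrix_smul (Q : QuadraticForm F (ι → F)) (u : ι → F) (a : F) (ha : a ≠ 0) :
    Cfsg.reflectionMatrix (⇑Q) (a • u) = Cfsg.reflectionMatrix (⇑Q) u := by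
  apply Matrix.toLin'.injective
  apply LinearMap.ext
  intro x
  simp only [Matrix.toLin'_apply, reflectionMatrix_mulVec, QuadraticMap.map_smul,
    QuadraticMap.polar_smul_left, smul_smul, smul_eq_mul]
  congr 2
  field_simp

theorem reflO_smul (Q : QuadraticForm F (ι → F)) (u : ι → F) (hu : Q u ≠ 0) (a : F) (ha : a ≠ 0) :
    reflO Q (a • u) = reflO Q u := by
  have hau : Q (a • u) ≠ 0 := by
    rw [QuadraticMap.map_smul]
    exact mul_ne_zero (mul_ne_zero ha ha) hu
  apply O_ext
  rw [reflO_val Q _ hau, reflO_val Q _ hu, reflectionMatrix_smul Q u a ha]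

theorem conj_reflO (Q : QuadraticForm F (ι → F)) (g : ↥(Cfsg.isometryGroup F (⇑Q))) (u : ι → F)
    (hu : Q u ≠ 0) :
    g * reflO Q u = reflO Q (((g : GL ι F) : Matrix ι ι F) *ᵥ u) * g := by
  have hgu : Q (((g : GL ι F) : Matrix ι ι F) *ᵥ u) ≠ 0 := by
    rw [O_isometry (⇑Q) g u]; exact hu
  apply O_ext
  simp only [Subgroup.coe_mul, Units.val_mul, reflO_val Q _ hu, reflO_val Q _ hgu]
  exact isometry_mul_reflection Q _ (O_isometry (⇑Q) g) u

/-- Reflections in vectors of equal norm are conjugate. -/
theorem exists_conj_reflO (h2 : (2 : F) ≠ 0) (Q : QuadraticForm F (ι → F)) (u w : ι → F)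
    (hu : Q u ≠ 0) (huw : Q u = Q w) :
    ∃ h : ↥(Cfsg.isometryGroup F (⇑Q)), h * reflO Q u = reflO Q w * h := by
  have hw : Q w ≠ 0 := huw ▸ hu
  by_cases hm : Q (u - w) ≠ 0
  · refine ⟨reflO Q (u - w), ?_⟩
    rw [conj_reflO Q _ u hu, reflO_val Q _ hm]
    have : Cfsg.reflectionMatrix (⇑Q) (u - w) *ᵥ u = w := by
      rw [← Matrix.toLin'_apply, toLin'_reflectionMatrix]
      exact reflLin_sub Q u w huw hm
    rw [this]
  · have hm0 : Q (u - w) = 0 := not_not.mp hm
    have hp : Q (u + w) ≠ 0 := by
      intro hp0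
      have e1 : Q (u + w) = Q u + Q w + QuadraticMap.polar (⇑Q) u w := by
        simp only [QuadraticMap.polar]; ring
      have e2 : Q (u - w) = Q u + Q w - QuadraticMap.polar (⇑Q) u w := by
        have : Q (u - w) = Q u + Q (-w) + QuadraticMap.polar (⇑Q) u (-w) := by
          simp only [QuadraticMap.polar, sub_eq_add_neg]; ring
        rw [this, QuadraticMap.map_neg, QuadraticMap.polar_neg_right]; ring
      have : (2 : F) * (2 * Q u) = 0 := by
        linear_combination hp0 + hm0 - e1 - e2 + 2 * huw
      rcases mul_eq_zero.mp this with h | h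
      · exact h2 h
      · rcases mul_eq_zero.mp h with h | h
        · exact h2 h
        · exact hu h
    refine ⟨reflO Q (u + w), ?_⟩
    rw [conj_reflO Q _ u hu, reflO_val Q _ hp]
    have : Cfsg.reflectionMatrix (⇑Q) (u + w) *ᵥ u = -w := by
      rw [← Matrix.toLin'_apply, toLin'_reflectionMatrix]
      exact reflLin_add Q u w huw hp
    rw [this]
    have : -w = (-1 : F) • w := by simp
    rw [this, reflO_smul Q w hw (-1) (by simp)]

theorem reflO_inv (Q : QuadraticForm F (ι → F)) (u : ι → F) : (reflO Q u)⁻¹ = reflO Q u :=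
  inv_eq_of_mul_eq_one_left (reflO_mul_self Q u)

/-- `r_u r_v` is a commutator when `Q u * Q v` is a square. -/
theorem reflO_mul_mem_commutator (h2 : (2 : F) ≠ 0) (Q : QuadraticForm F (ι → F)) (u v : ι → F)
    (hu : Q u ≠ 0) (hv : Q v ≠ 0) (hsq : IsSquare (Q u * Q v)) :
    reflO Q u * reflO Q v ∈ commutator ↥(Cfsg.isometryGroup F (⇑Q)) := by
  obtain ⟨a, ha⟩ := hsq
  have ha0 : a ≠ 0 := by
    intro h0; rw [h0, mul_zero] at ha
    exact mul_ne_zero hu hv ha
  set w := (a / Q v) • v with hw
  have hQw : Q u = Q w := by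
    rw [hw, QuadraticMap.map_smul, smul_eq_mul]
    field_simp
    linear_combination ha
  have hwv : reflO Q w = reflO Q v := reflO_smul Q v hv _ (div_ne_zero ha0 hv)
  obtain ⟨h, hh⟩ := exists_conj_reflO h2 Q u w hu hQw
  have e : reflO Q u * reflO Q v = ⁅reflO Q u, h⁆ := by
    rw [commutatorElement_def, reflO_inv, ← hwv]
    have : reflO Q w = h * reflO Q u * h⁻¹ := by
      rw [hh, mul_assoc, mul_inv_cancel, mul_one]
    rw [this]
    group
  rw [e, commutator_def]
  exact Subgroup.commutator_mem_commutator (Subgroup.mem_top _) (Subgroup.mem_top _)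

section finite

variable [Fintype F]

open scoped Classical in
/-- squareness of a product in terms of the number of non-square factors -/
theorem isSquare_prod_iff (l : List F) (hl : ∀ a ∈ l, a ≠ 0) :
    IsSquare l.prod ↔ Even (l.countP (fun a => !decide (IsSquare a))) := by
  induction l with
  | nil => simp
  | cons a t ih =>
    have ha : a ≠ 0 := hl a List.mem_cons_self
    have ht : ∀ b ∈ t, b ≠ 0 := fun b hb => hl b (List.mem_cons_of_mem _ hb)
    have htp : t.prod ≠ 0 := List.prod_ne_zero (fun h => ht 0 h rfl)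
    rw [List.prod_cons, List.countP_cons]
    by_cases hsq : IsSquare a
    · simp only [hsq, decide_true, Bool.not_true, Bool.false_eq_true, if_false, add_zero]
      rw [← ih ht]
      obtain ⟨r, hr⟩ := hsq
      have hr0 : r ≠ 0 := by
        intro h0; rw [h0, mul_zero] at hr; exact ha hr
      rw [hr, ← sq, isSquare_sq_mul_iff hr0]
    · simp only [hsq, decide_false, Bool.not_false, if_true]
      rw [Nat.even_add_one, ← ih ht, mul_comm, isSquare_mul_nonsquare_iff htp hsq]

/-- A product of an even number of reflections whose norms multiply to a square lies in the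
commutator subgroup. -/
theorem prod_reflO_mem_commutator (h2 : (2 : F) ≠ 0) (Q : QuadraticForm F (ι → F))
    (l : List (ι → F)) (hl : ∀ v ∈ l, Q v ≠ 0) (hk : Even l.length)
    (hsq : IsSquare (l.map (fun v => Q v)).prod) :
    (l.map (reflO Q)).prod ∈ commutator ↥(Cfsg.isometryGroup F (⇑Q)) := by
  classical
  rw [← Abelianization.ker_of, MonoidHom.mem_ker, map_list_prod, List.map_map]
  have hcount := (isSquare_prod_iff (l.map (fun v => Q v)) (by
    intro a ha
    rw [List.mem_map] at ha
    obtain ⟨v, hv, rfl⟩ := ha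
    exact hl v hv)).mp hsq
  rw [List.countP_map] at hcount
  have hlen := List.length_eq_countP_add_countP (fun v => decide (IsSquare (Q v))) (l := l)
  have hc2 : List.countP (fun v => !decide (IsSquare (Q v))) l =
      List.countP ((fun a => !decide (IsSquare a)) ∘ fun v => Q v) l := rfl
  have hc3 : List.countP (fun a => decide ¬(fun v => decide (IsSquare (Q v))) a = true) l =
      List.countP (fun v => !decide (IsSquare (Q v))) l := by
    congr 1
    funext v
    by_cases h : IsSquare (Q v) <;> simp [h]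
  rw [hc3] at hlen
  rw [← hc2] at hcount
  apply prod_eq_one_of_two_classes l _ (fun v => decide (IsSquare (Q v)))
  · intro x hx y hy hxy
    rw [Function.comp, Function.comp, ← map_mul, ← MonoidHom.mem_ker, Abelianization.ker_of]
    apply reflO_mul_mem_commutator h2 Q x y (hl x hx) (hl y hy)
    by_cases h : IsSquare (Q x)
    · have : IsSquare (Q y) := by simpa [h] using hxy
      exact h.mul this
    · have : ¬ IsSquare (Q y) := by simpa [h] using hxy
      rw [isSquare_mul_nonsquare_iff (hl x hx) this]; exact h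
  · rw [hlen] at hk
    exact (Nat.even_add.mp hk).mpr hcount
  · exact hcount

theorem exists_nonsquare_of_two_ne_zero (h2 : (2 : F) ≠ 0) : ∃ ζ : F, ¬ IsSquare ζ := by
  apply FiniteField.exists_nonsquare
  intro h
  apply h2
  have := ringChar.Nat.cast_ringChar (R := F)
  rw [h] at this
  exact_mod_cast this

/-- The sign character at a non-square `ζ` detects whether the product of norms is a square. -/
theorem theta_prod_reflO (h2 : (2 : F) ≠ 0) (Q : QuadraticForm F (ι → F)) (ζ : F)
    (hζ : ¬ IsSquare ζ) (l : List (ι → F)) (hl : ∀ v ∈ l, Q v ≠ 0) :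
    theta (⇑Q) ζ ((l.map (reflO Q)).prod) = 1 ↔ IsSquare (l.map (fun v => Q v)).prod := by
  classical
  have hζ0 : ζ ≠ 0 := fun h => hζ (h ▸ ⟨0, by ring⟩)
  rw [isSquare_prod_iff (l.map (fun v => Q v)) (by
    intro a ha
    rw [List.mem_map] at ha
    obtain ⟨v, hv, rfl⟩ := ha
    exact hl v hv), List.countP_map]
  have hgen : ∀ l' : List (ι → F), (∀ v ∈ l', Q v ≠ 0) →
      theta (⇑Q) ζ ((l'.map (reflO Q)).prod) =
        (-1) ^ (List.countP ((fun a => !decide (IsSquare a)) ∘ fun v => Q v) l') := by
    intro l'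
    induction l' with
    | nil => intro _; simp
    | cons a t ih =>
      intro hl'
      have ha : Q a ≠ 0 := hl' a List.mem_cons_self
      have ht : ∀ b ∈ t, Q b ≠ 0 := fun b hb => hl' b (List.mem_cons_of_mem _ hb)
      rw [List.map_cons, List.prod_cons, map_mul, ih ht, theta_reflO h2 Q ζ hζ0 a ha,
        List.countP_cons, mul_comm ζ]
      have hiff := isSquare_mul_nonsquare_iff ha hζ
      by_cases hsq : IsSquare (Q a)
      · have : ¬ IsSquare (Q a * ζ) := fun h => (hiff.mp h) hsq
        simp [hsq, this]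
      · have : IsSquare (Q a * ζ) := hiff.mpr hsq
        simp [hsq, this, pow_succ]
  rw [hgen l hl]
  exact neg_one_pow_eq_one_iff_even (by decide)

/-- The determinant as a hom on the isometry group. -/
noncomputable def detHom (Q : (ι → F) → F) : ↥(Cfsg.isometryGroup F Q) →* Fˣ :=
  Matrix.GeneralLinearGroup.det.comp (Cfsg.isometryGroup F Q).subtype

omit [Fintype F] in
theorem detHom_val (Q : (ι → F) → F) (g : ↥(Cfsg.isometryGroup F Q)) :
    ((detHom Q g : Fˣ) : F) = (((g : GL ι F) : Matrix ι ι F)).det := rfl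

omit [Fintype F] in
theorem det_prod_reflection (Q : QuadraticForm F (ι → F)) (l : List (ι → F))
    (hl : ∀ v ∈ l, Q v ≠ 0) :
    ((l.map (fun v => Cfsg.reflectionMatrix (⇑Q) v)).prod).det = (-1) ^ l.length := by
  induction l with
  | nil => simp
  | cons a t ih =>
    have ha : Q a ≠ 0 := hl a List.mem_cons_self
    have ht : ∀ b ∈ t, Q b ≠ 0 := fun b hb => hl b (List.mem_cons_of_mem _ hb)
    rw [List.map_cons, List.prod_cons, Matrix.det_mul, ih ht, reflectionMatrix_det Q a ha,
      List.length_cons, pow_succ]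
    ring

/-- **Spinor norm criterion.** -/
theorem spinor_criterion (h2 : (2 : F) ≠ 0) (Q : QuadraticForm F (ι → F))
    (g : ↥(Cfsg.isometryGroup F (⇑Q))) (vs : List (ι → F)) (hvs : ∀ v ∈ vs, Q v ≠ 0)
    (hg : ((g : GL ι F) : Matrix ι ι F) = (vs.map (fun v => Cfsg.reflectionMatrix (⇑Q) v)).prod) :
    g ∈ commutator ↥(Cfsg.isometryGroup F (⇑Q)) ↔
      (Even vs.length ∧ IsSquare (vs.map (fun v => Q v)).prod) := by
  have hgp : g = (vs.map (reflO Q)).prod := by
    apply O_ext
    rw [hg, reflO_prod_val Q vs hvs]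
  constructor
  · intro hmem
    obtain ⟨ζ, hζ⟩ := exists_nonsquare_of_two_ne_zero h2
    constructor
    · have h1 : detHom (⇑Q) g = 1 := Abelianization.commutator_subset_ker (detHom (⇑Q)) hmem
      have h3 : (((g : GL ι F) : Matrix ι ι F)).det = 1 := by
        rw [← detHom_val, h1, Units.val_one]
      rw [hg, det_prod_reflection Q vs hvs] at h3
      refine (neg_one_pow_eq_one_iff_even ?_).mp h3
      intro h
      apply h2
      linear_combination -h
    · have h1 : theta (⇑Q) ζ g = 1 := Abelianization.commutator_subset_ker (theta (⇑Q) ζ) hmem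
      rw [hgp] at h1
      exact (theta_prod_reflO h2 Q ζ hζ vs hvs).mp h1
  · rintro ⟨hk, hsq⟩
    rw [hgp]
    exact prod_reflO_mem_commutator h2 Q vs hvs hk hsq

end finite

end Cfsg.Agent.Lib.Helper50
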