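import Cfsg.Agent.Lib.Helper50.PlusForm

set_option autoImplicit false

/-! The Levi factor `diag(A, A⁻ᵀ)` of the stabiliser of a maximal singular subspace of the
hyperbolic form, and its spinor norm (odd characteristic). -/

namespace Cfsg.Agent.Lib.Helper50

open Matrix QuadraticMap Cfsg.Agent.Lib.Helper19

variable {F : Type*} [Field F] {m : ℕ}

/-- `diag(A, A⁻ᵀ)` in the general linear group -/
def diagPlusGL (A : GL (Fin m) F) : GL (Fin m ⊕ Fin m) F where
  val := Matrix.fromBlocks (A : Matrix (Fin m) (Fin m) F) 0 0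
    ((A⁻¹ : GL (Fin m) F) : Matrix (Fin m) (Fin m) F)ᵀ
  inv := Matrix.fromBlocks ((A⁻¹ : GL (Fin m) F) : Matrix (Fin m) (Fin m) F) 0 0
    (A : Matrix (Fin m) (Fin m) F)ᵀ
  val_inv := by
    rw [Matrix.fromBlocks_multiply]
    simp [Matrix.fromBlocks_one, ← Matrix.transpose_mul]
  inv_val := by
    rw [Matrix.fromBlocks_multiply]
    simp [Matrix.fromBlocks_one, ← Matrix.transpose_mul]

theorem QPlus_elim (x₁ x₂ : Fin m → F) : QPlus m F (Sum.elim x₁ x₂) = x₁ ⬝ᵥ x₂ := rfl

/-- `diag(A, A⁻ᵀ)` as an isometry of the hyperbolic form -/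
def diagPlusO (A : GL (Fin m) F) : ↥(Cfsg.isometryGroup F (⇑(QPlus m F))) :=
  ⟨diagPlusGL A, by
    rw [mem_isometryGroup_iff]
    intro u
    obtain ⟨u₁, u₂, rfl⟩ : ∃ u₁ u₂, u = Sum.elim u₁ u₂ :=
      ⟨u ∘ Sum.inl, u ∘ Sum.inr, by funext i; cases i <;> rfl⟩
    change QPlus m F ((Matrix.fromBlocks _ 0 0 _) *ᵥ (Sum.elim u₁ u₂)) = _
    rw [Matrix.fromBlocks_mulVec]
    simp only [Matrix.zero_mulVec, add_zero, zero_add]
    rw [QPlus_elim, QPlus_elim, ← Matrix.vecMul_transpose, ← Matrix.dotProduct_mulVec,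
      Matrix.mulVec_mulVec, ← Matrix.transpose_mul]
    simp⟩

theorem diagPlusO_val (A : GL (Fin m) F) :
    (((diagPlusO A : ↥(Cfsg.isometryGroup F (⇑(QPlus m F)))) : GL (Fin m ⊕ Fin m) F) :
      Matrix (Fin m ⊕ Fin m) (Fin m ⊕ Fin m) F) =
      Matrix.fromBlocks (A : Matrix (Fin m) (Fin m) F) 0 0
        ((A⁻¹ : GL (Fin m) F) : Matrix (Fin m) (Fin m) F)ᵀ := rfl

theorem diagPlusO_val' (A : GL (Fin m) F) :
    (((diagPlusO A : ↥(Cfsg.isometryGroup F (⇑(QPlus m F)))) : GL (Fin m ⊕ Fin m) F) :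
      Matrix (Fin m ⊕ Fin m) (Fin m ⊕ Fin m) F) =
      Matrix.fromBlocks (A : Matrix (Fin m) (Fin m) F) 0 0
        ((A : Matrix (Fin m) (Fin m) F)⁻¹)ᵀ := by
  rw [diagPlusO_val, Matrix.coe_units_inv]

theorem diagPlusO_mul (A B : GL (Fin m) F) : diagPlusO (A * B) = diagPlusO A * diagPlusO B := by
  apply O_ext
  rw [Subgroup.coe_mul, Units.val_mul, diagPlusO_val, diagPlusO_val, diagPlusO_val,
    Matrix.fromBlocks_multiply, _root_.mul_inv_rev, Units.val_mul, Units.val_mul,
    Matrix.transpose_mul]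
  simp

theorem detHom_diagPlusO (A : GL (Fin m) F) : detHom (⇑(QPlus m F)) (diagPlusO A) = 1 := by
  apply Units.ext
  rw [detHom_val, diagPlusO_val, Matrix.det_fromBlocks_zero₁₂, Matrix.det_transpose,
    ← Matrix.det_mul, ← Units.val_mul, mul_inv_cancel]
  simp

section finite

variable [Fintype F]

theorem isSquare_mul_iff_of_ne_zero (h2 : (2 : F) ≠ 0) {a b : F} (ha : a ≠ 0) (hb : b ≠ 0) :
    IsSquare (a * b) ↔ (IsSquare a ↔ IsSquare b) := by
  by_cases hsb : IsSquare b
  · obtain ⟨r, hr⟩ := hsb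
    have hr0 : r ≠ 0 := by
      intro h0; rw [h0, mul_zero] at hr; exact hb hr
    have : IsSquare (a * b) ↔ IsSquare a := by
      rw [hr, mul_comm, ← _root_.sq, isSquare_sq_mul_iff hr0]
    rw [this]
    constructor
    · intro h; exact ⟨fun _ => ⟨r, hr⟩, fun _ => h⟩
    · intro h; exact h.mpr ⟨r, hr⟩
  · rw [isSquare_mul_nonsquare_iff ha hsb]
    constructor
    · intro h; exact ⟨fun h' => absurd h' h, fun h' => absurd h' hsb⟩
    · intro h h'; exact hsb (h.mp h')

/-- spinor norm of `diag(A, A⁻ᵀ)` -/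
theorem theta_diagPlusO (h2 : (2 : F) ≠ 0) (ζ : F) (hζ : ¬ IsSquare ζ) (A : GL (Fin m) F) :
    theta (⇑(QPlus m F)) ζ (diagPlusO A) = 1 ↔
      IsSquare (A : Matrix (Fin m) (Fin m) F).det := by
  have hdetA : (A : Matrix (Fin m) (Fin m) F).det ≠ 0 := by
    have := A.isUnit.map (Matrix.detMonoidHom (n := Fin m) (R := F))
    exact this.ne_zero
  refine Matrix.diagonal_transvection_induction_of_det_ne_zero
    (fun M => ∀ A : GL (Fin m) F, (A : Matrix (Fin m) (Fin m) F) = M →
      (theta (⇑(QPlus m F)) ζ (diagPlusO A) = 1 ↔ IsSquare M.det))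
    (A : Matrix (Fin m) (Fin m) F) hdetA ?_ ?_ ?_ A rfl
  · -- diagonal matrices
    intro D hD B hB
    have hDi : ∀ i, D i ≠ 0 := by
      rw [Matrix.det_diagonal] at hD
      intro i
      exact (Finset.prod_ne_zero_iff.mp hD) i (Finset.mem_univ i)
    set vs : List (Fin m ⊕ Fin m → F) :=
      List.ofFn (tw (fun _ => (1 : F))) ++ List.ofFn (tw D) with hvs
    have hvs0 : ∀ v ∈ vs, QPlus m F v ≠ 0 := by
      intro v hv
      rw [hvs, List.mem_append, List.mem_ofFn, List.mem_ofFn] at hv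
      rcases hv with ⟨i, rfl⟩ | ⟨i, rfl⟩
      · rw [QPlus_tw]; simp
      · rw [QPlus_tw]; exact neg_ne_zero.mpr (hDi i)
    have hBinv : ((B⁻¹ : GL (Fin m) F) : Matrix (Fin m) (Fin m) F) =
        Matrix.diagonal (fun i => (D i)⁻¹) := by
      have h1 : B * (Matrix.GeneralLinearGroup.mkOfDetNeZero
          (Matrix.diagonal (fun i => (D i)⁻¹)) (by
            rw [Matrix.det_diagonal]
            exact Finset.prod_ne_zero_iff.mpr (fun i _ => inv_ne_zero (hDi i)))) = 1 := by
        apply Units.ext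
        rw [Units.val_mul, hB]
        change Matrix.diagonal D * Matrix.diagonal (fun i => (D i)⁻¹) = 1
        rw [Matrix.diagonal_mul_diagonal]
        have : (fun i => D i * (D i)⁻¹) = fun _ => (1 : F) := by
          funext i; exact mul_inv_cancel₀ (hDi i)
        rw [this, Matrix.diagonal_one]
      rw [inv_eq_of_mul_eq_one_right h1]
      rfl
    have hB' : diagPlusO B = (vs.map (reflO (QPlus m F))).prod := by
      apply O_ext
      rw [reflO_prod_val _ vs hvs0, hvs, List.map_append, List.prod_append,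
        prod_refl_tw _ (fun _ => one_ne_zero), prod_refl_tw D hDi, diagPlusO_val, hB, hBinv,
        Matrix.fromBlocks_multiply, Matrix.diagonal_transpose]
      have : (fun _ : Fin m => ((1 : F))⁻¹) = fun _ => (1 : F) := by
        funext i; exact inv_one
      rw [this, Matrix.diagonal_one]
      simp
    rw [hB', theta_prod_reflO h2 _ ζ hζ vs hvs0, hvs, List.map_append, List.prod_append,
      List.map_ofFn, List.map_ofFn, List.prod_ofFn, List.prod_ofFn, Matrix.det_diagonal]
    have : (∏ i : Fin m, ((fun v => (QPlus m F) v) ∘ tw (fun _ => (1 : F))) i) *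
        (∏ i : Fin m, ((fun v => (QPlus m F) v) ∘ tw D) i) = ∏ i, D i := by
      simp only [Function.comp, QPlus_tw, ← Finset.prod_mul_distrib]
      apply Finset.prod_congr rfl
      intro i _
      ring
    rw [this]
  · -- transvections
    intro t B hB
    have hdet1 : (t.toMatrix).det = 1 := by
      rw [Matrix.TransvectionStruct.toMatrix, Matrix.det_transvection_of_ne _ _ t.hij]
    rw [hdet1]
    constructor
    · intro _; exact ⟨1, by ring⟩
    · intro _
      set C : GL (Fin m) F := Matrix.GeneralLinearGroup.mkOfDetNeZero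
        (Matrix.transvection t.i t.j (t.c / 2)) (by
          rw [Matrix.det_transvection_of_ne _ _ t.hij]; exact one_ne_zero) with hC
      have hBC : B = C * C := by
        apply Units.ext
        rw [Units.val_mul, hB]
        change t.toMatrix = Matrix.transvection t.i t.j (t.c / 2) *
          Matrix.transvection t.i t.j (t.c / 2)
        rw [Matrix.transvection_mul_transvection_same _ _ t.hij,
          Matrix.TransvectionStruct.toMatrix]
        congr 1
        field_simp
        ring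
      rw [hBC, diagPlusO_mul, map_mul]
      exact Int.units_mul_self _
  · -- products
    intro M N hM hN hPM hPN B hB
    set M' : GL (Fin m) F := Matrix.GeneralLinearGroup.mkOfDetNeZero M hM with hM'
    set N' : GL (Fin m) F := Matrix.GeneralLinearGroup.mkOfDetNeZero N hN with hN'
    have hBMN : B = M' * N' := by
      apply Units.ext
      rw [Units.val_mul, hB]
      rfl
    have h1 := hPM M' rfl
    have h3 := hPN N' rfl
    rw [hBMN, diagPlusO_mul, map_mul, Matrix.det_mul, isSquare_mul_iff_of_ne_zero h2 hM hN,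
      ← h1, ← h3]
    rcases Int.units_eq_one_or (theta (⇑(QPlus m F)) ζ (diagPlusO M')) with hs | hs <;>
    rcases Int.units_eq_one_or (theta (⇑(QPlus m F)) ζ (diagPlusO N')) with ht | ht <;>
    rw [hs, ht] <;> decide

/-- odd characteristic: `diag(A, A⁻ᵀ) ∈ Ω` iff `det A` is a square -/
theorem diagPlusO_mem_Omega_iff (h2 : (2 : F) ≠ 0) (A : GL (Fin m) F) :
    diagPlusO A ∈ Cfsg.Omega F (⇑(QPlus m F)) ↔
      IsSquare (A : Matrix (Fin m) (Fin m) F).det := by
  obtain ⟨ζ, hζ⟩ := exists_nonsquare_of_two_ne_zero h2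
  rw [show Cfsg.Omega F (⇑(QPlus m F)) = commutator ↥(Cfsg.isometryGroup F (⇑(QPlus m F)))
    from rfl, mem_commutator_iff h2 _ QPlus_nondegenerate ζ hζ, theta_diagPlusO h2 ζ hζ]
  constructor
  · intro h; exact h.2
  · intro h; exact ⟨detHom_diagPlusO A, h⟩

end finite

end Cfsg.Agent.Lib.Helper50
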