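import Cfsg.Agent.Lib.Helper50.MinusBase

set_option autoImplicit false

/-! `PreservesSingularClassesMinus` for a similarity of the minus-type form is the determinant
condition `det = μ^(m+1)`. -/

namespace Cfsg.Agent.Lib.Helper50

open Matrix Module Polynomial

universe u

section overK

variable {F : Type u} [Field F] (m : ℕ) (a b : F)

theorem QMinus_apply' {K : Type*} [Field K] (a b : K) (v : (Fin m ⊕ Fin m) ⊕ Fin 2 → K) :
    QMinus m K a b v = Cfsg.quadFormMinus m K a b v := rfl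

theorem GLmap_val {K : Type*} [Field K] (φ : F →+* K) {n : Type*} [Fintype n] [DecidableEq n]
    (g : GL n F) :
    ((Matrix.GeneralLinearGroup.map φ g : GL n K) : Matrix n n K) = (g : Matrix n n F).map φ := rfl

set_option maxHeartbeats 1600000 in
theorem preserves_minusK_iff {K : Type u} [Field K] [Algebra F K] (h2K : (2 : K) ≠ 0) (θ : K)
    (hθ : θ ^ 2 + algebraMap F K a * θ + algebraMap F K b = 0) (hdisc : a ^ 2 - 4 * b ≠ 0)
    (g : GL ((Fin m ⊕ Fin m) ⊕ Fin 2) F) (μ : F) (hμ : μ ≠ 0)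
    (hg : ∀ v, Cfsg.quadFormMinus m F a b ((g : Matrix _ _ F) *ᵥ v) =
      μ * Cfsg.quadFormMinus m F a b v)
    (c₁ c₂ : F) (hc : c₁ ^ 2 + a * c₁ * c₂ + b * c₂ ^ 2 = μ) :
    Cfsg.PreservesSingularClasses
        (Cfsg.quadFormMinus m K (algebraMap F K a) (algebraMap F K b))
        ((g : Matrix ((Fin m ⊕ Fin m) ⊕ Fin 2) ((Fin m ⊕ Fin m) ⊕ Fin 2) F).map
          (algebraMap F K)) ↔
      (g : Matrix ((Fin m ⊕ Fin m) ⊕ Fin 2) ((Fin m ⊕ Fin m) ⊕ Fin 2) F).det = μ ^ (m + 1) := by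
  obtain ⟨φ, hφ⟩ : ∃ φ : F →+* K, φ = algebraMap F K := ⟨_, rfl⟩
  rw [← hφ] at hθ ⊢
  have hinj : Function.Injective φ := φ.injective
  have hdet : (Matrix.fromBlocks
        (Matrix.fromBlocks (0 : Matrix (Fin m) (Fin m) K) (1 : Matrix (Fin m) (Fin m) K)
        (1 : Matrix (Fin m) (Fin m) K) (0 : Matrix (Fin m) (Fin m) K))
        (0 : Matrix (Fin m ⊕ Fin m) (Fin 2) K) (0 : Matrix (Fin 2) (Fin m ⊕ Fin m) K)
        (!![2, φ a; φ a, 2 * φ b] : Matrix (Fin 2) (Fin 2) K)).det ≠ 0 := by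
    rw [det_minus_gram]
    apply mul_ne_zero (pow_ne_zero _ (neg_ne_zero.mpr one_ne_zero))
    have : φ a ^ 2 - 4 * φ b = φ (a ^ 2 - 4 * b) := by simp [map_ofNat]
    rw [this]
    exact fun h => hdisc (hinj (h.trans (map_zero φ).symm))
  have hQ : (QuadraticMap.polarBilin (QMinus m K (φ a) (φ b))).Nondegenerate :=
    qfOfPolar_nondegenerate _ _ _ _ hdet
  have hV : Fintype.card ((Fin m ⊕ Fin m) ⊕ Fin 2) = 2 * (m + 1) := by
    rw [Fintype.card_sum, Fintype.card_sum, Fintype.card_fin, Fintype.card_fin]; ring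
  have hφμ : φ μ ≠ 0 := fun h => hμ (hinj (h.trans (map_zero φ).symm))
  have hφc : φ c₁ ^ 2 + φ a * φ c₁ * φ c₂ + φ b * φ c₂ ^ 2 = φ μ := by
    rw [← hc]; simp
  have hG : ∀ v, QMinus m K (φ a) (φ b)
      (((Matrix.GeneralLinearGroup.map φ g : GL _ K) : Matrix _ _ K) *ᵥ v) =
      φ μ * QMinus m K (φ a) (φ b) v := by
    intro v
    rw [QMinus_apply', QMinus_apply', GLmap_val]
    exact simil_baseChange φ m h2K a b μ g.1 hg v
  have hG₀ : ∀ v, QMinus m K (φ a) (φ b)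
      (((g0GL m (φ a) (φ b) (φ μ) (φ c₁) (φ c₂) hφμ hφc : GL _ K) : Matrix _ _ K) *ᵥ v) =
      φ μ * QMinus m K (φ a) (φ b) v := by
    intro v
    rw [QMinus_apply', QMinus_apply', g0GL_val]
    exact quadFormMinus_g0Mat m (φ a) (φ b) (φ μ) (φ c₁) (φ c₂) hφc v
  have key := preservesSingularClasses_iff h2K (QMinus m K (φ a) (φ b)) hQ (m + 1) hV
    (YK m θ) (YK_singular m (φ a) (φ b) θ hθ) (finrank_YK m θ)
    (Matrix.GeneralLinearGroup.map φ g) (g0GL m (φ a) (φ b) (φ μ) (φ c₁) (φ c₂) hφμ hφc)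
    (φ μ) hφμ hG hG₀ (gmap_g0GL_YK m (φ a) (φ b) (φ μ) (φ c₁) (φ c₂) θ hφμ hφc hθ)
  rw [GLmap_val] at key
  have e2 : (⇑(QMinus m K (φ a) (φ b)) : (_ → K) → K) =
      Cfsg.quadFormMinus m K (φ a) (φ b) := rfl
  rw [e2] at key
  rw [key, g0GL_val, det_g0Mat, hφc]
  have e3 : (g.1.map φ).det = φ g.1.det := by
    rw [RingHom.map_det]; rfl
  rw [e3, ← pow_succ, ← map_pow]
  exact ⟨fun h => hinj h, fun h => by rw [h]⟩

end overK

section root

variable {F : Type u} [Field F] [Fintype F]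

theorem exists_root_of_finrank_two (h2 : (2 : F) ≠ 0) (a b : F) {K : Type u} [Field K]
    [Algebra F K] (hK : finrank F K = 2) :
    ∃ θ : K, θ ^ 2 + algebraMap F K a * θ + algebraMap F K b = 0 := by
  classical
  have hfin : Module.Finite F K := Module.finite_of_finrank_pos (by rw [hK]; norm_num)
  have : Finite K := Module.finite_of_finite F
  have : Fintype K := Fintype.ofFinite K
  have hcard : Fintype.card K = Fintype.card F ^ 2 := by
    rw [← hK]; exact Module.card_eq_pow_finrank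
  have hinj : Function.Injective (algebraMap F K) := (algebraMap F K).injective
  have h2K : (2 : K) ≠ 0 := by
    intro h
    apply h2
    apply hinj
    rw [map_zero, ← h, map_ofNat]
  have hcharF : ringChar F ≠ 2 := by
    intro h
    apply h2
    have : CharP F 2 := ringChar.of_eq h
    exact_mod_cast CharP.cast_eq_zero F 2
  have hcharK : ringChar K ≠ 2 := by
    intro h
    apply h2K
    have : CharP K 2 := ringChar.of_eq h
    exact_mod_cast CharP.cast_eq_zero K 2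
  have hodd : Odd (Fintype.card F) :=
    Nat.odd_iff.mpr (FiniteField.odd_card_of_char_ne_two hcharF)
  obtain ⟨δ, hδ⟩ : IsSquare (algebraMap F K (a ^ 2 - 4 * b)) := by
    by_cases hd : a ^ 2 - 4 * b = 0
    · rw [hd, map_zero]; exact ⟨0, by ring⟩
    · have hd' : algebraMap F K (a ^ 2 - 4 * b) ≠ 0 :=
        fun h => hd (hinj (h.trans (map_zero _).symm))
      rw [FiniteField.isSquare_iff hcharK hd', hcard]
      obtain ⟨r, hr⟩ := hodd
      have e : Fintype.card F ^ 2 / 2 = (Fintype.card F - 1) * (r + 1) := by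
        rw [hr]
        have : (2 * r + 1) ^ 2 = 2 * (2 * r * (r + 1)) + 1 := by ring
        rw [this]
        have h3 : (2 * (2 * r * (r + 1)) + 1) / 2 = 2 * r * (r + 1) := by omega
        rw [h3]
        simp
      rw [e, ← map_pow, pow_mul, FiniteField.pow_card_sub_one_eq_one _ hd, one_pow, map_one]
  refine ⟨(δ - algebraMap F K a) / 2, ?_⟩
  have h4 : algebraMap F K (a ^ 2 - 4 * b) = algebraMap F K a ^ 2 - 4 * algebraMap F K b := by
    simp [map_ofNat]
  rw [h4] at hδ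
  field_simp
  linear_combination -hδ

omit [Fintype F] in
theorem exists_quadratic_extension (a b : F)
    (hab : ∀ z₁ z₂ : F, z₁ ^ 2 + a * z₁ * z₂ + b * z₂ ^ 2 = 0 → z₁ = 0 ∧ z₂ = 0) :
    ∃ (K : Type u) (_ : Field K) (_ : Algebra F K), finrank F K = 2 := by
  obtain ⟨f, hf⟩ : ∃ f : F[X], f = X ^ 2 + C a * X + C b := ⟨_, rfl⟩
  have hdeg : f.natDegree = 2 := by
    rw [hf]; compute_degree!
  have hmonic : f.Monic := by
    rw [hf]; monicity!
  have hirr : Irreducible f := by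
    rw [hmonic.irreducible_iff_roots_eq_zero_of_degree_le_three (by rw [hdeg]) (by rw [hdeg]; norm_num)]
    rw [Multiset.eq_zero_iff_forall_notMem]
    intro x hx
    rw [mem_roots hmonic.ne_zero, IsRoot.def, hf] at hx
    simp only [eval_add, eval_pow, eval_X, eval_mul, eval_C] at hx
    have := hab x 1 (by rw [← hx]; ring)
    exact one_ne_zero this.2
  have : Fact (Irreducible f) := ⟨hirr⟩
  refine ⟨AdjoinRoot f, inferInstance, inferInstance, ?_⟩
  rw [← hdeg]
  exact finrank_quotient_span_eq_natDegree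

end root

section final

variable {F : Type u} [Field F] [Fintype F] (m : ℕ) (a b : F)

theorem preservesMinus_iff (h2 : (2 : F) ≠ 0)
    (hab : ∀ z₁ z₂ : F, z₁ ^ 2 + a * z₁ * z₂ + b * z₂ ^ 2 = 0 → z₁ = 0 ∧ z₂ = 0)
    (g : GL ((Fin m ⊕ Fin m) ⊕ Fin 2) F) (μ : F) (hμ : μ ≠ 0)
    (hg : ∀ v, Cfsg.quadFormMinus m F a b ((g : Matrix _ _ F) *ᵥ v) =
      μ * Cfsg.quadFormMinus m F a b v) :
    Cfsg.PreservesSingularClassesMinus m a b
        (g : Matrix ((Fin m ⊕ Fin m) ⊕ Fin 2) ((Fin m ⊕ Fin m) ⊕ Fin 2) F) ↔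
      (g : Matrix ((Fin m ⊕ Fin m) ⊕ Fin 2) ((Fin m ⊕ Fin m) ⊕ Fin 2) F).det = μ ^ (m + 1) := by
  have hns : ¬ IsSquare (a ^ 2 - 4 * b) := disc_not_isSquare h2 a b hab
  have hdisc : a ^ 2 - 4 * b ≠ 0 := fun h => hns (h ▸ ⟨0, by ring⟩)
  obtain ⟨c₁, c₂, hc⟩ := Cfsg.Agent.Lib.Helper08.exists_norm_eq a b hab μ hμ
  have h2K : ∀ (K : Type u) [Field K] [Algebra F K], (2 : K) ≠ 0 := by
    intro K _ _ h
    apply h2
    apply (algebraMap F K).injective
    rw [map_zero, ← h, map_ofNat]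
  constructor
  · rintro ⟨K, hKf, hKa, hK, hP⟩
    obtain ⟨θ, hθ⟩ := exists_root_of_finrank_two h2 a b hK
    exact (preserves_minusK_iff m a b (h2K K) θ hθ hdisc g μ hμ hg c₁ c₂ hc).mp hP
  · intro hdet
    obtain ⟨K, hKf, hKa, hK⟩ := exists_quadratic_extension a b hab
    obtain ⟨θ, hθ⟩ := exists_root_of_finrank_two h2 a b hK
    exact ⟨K, hKf, hKa, hK,
      (preserves_minusK_iff m a b (h2K K) θ hθ hdisc g μ hμ hg c₁ c₂ hc).mpr hdet⟩

end final

end Cfsg.Agent.Lib.Helper50
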