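import Cfsg.Agent.Lib.Helper50.FieldAutInj

set_option autoImplicit false

/-! Complements on the field automorphisms of `PΩ`: the predicate of the definitions, the
commutation rule with the similarities, injectivity and orders. -/

namespace Cfsg.Agent.Lib.Helper50

open Matrix QuadraticMap Cfsg.Agent.Lib.Helper19 Cfsg.Agent.Lib.Helper08

universe u

section A

variable {F : Type u} [Field F] {ι : Type} [Fintype ι] [DecidableEq ι] (Q : (ι → F) → F)

/-- the predicate `IsFieldAutPOmegaOf` is the graph of `fieldAutPO` -/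
theorem isFieldAut_iff (σ : RingAut F) (hσ : σ ∈ compatAut Q)
    (β : Cfsg.POmega F Q ≃* Cfsg.POmega F Q) :
    Cfsg.IsFieldAutPOmegaOf Q σ β ↔ β = fieldAutPO Q ⟨σ, hσ⟩ := by
  have h1 : (1 : GL ι F) ∈ Cfsg.Geo.quadSimilarityGroup (F := F) Q := Subgroup.one_mem _
  have h := isInducedSemi_iff Q 1 h1 σ hσ β
  have h2 : autPO Q ⟨1, h1⟩ = 1 := by
    have : (⟨1, h1⟩ : ↥(Cfsg.Geo.quadSimilarityGroup (F := F) Q)) = 1 := rfl
    rw [this, map_one]
  rw [h2, one_mul] at h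
  rw [← h]
  unfold Cfsg.IsFieldAutPOmegaOf Cfsg.IsInducedBySemilinearPOmega
  simp only [inv_one, Units.val_one, one_mul, mul_one]

/-- commutation rule, in product form -/
theorem fieldAutPO_mul_autPO (σ : ↥(compatAut Q))
    (g : ↥(Cfsg.Geo.quadSimilarityGroup (F := F) Q)) :
    fieldAutPO Q σ * autPO Q g = autPO Q (sigmaGO Q σ g) * fieldAutPO Q σ := by
  rw [← fieldAutPO_conj Q σ g, inv_mul_cancel_right]

end A

section B

variable {F : Type u} [Field F] [Fintype F] {ι : Type} [Fintype ι] [DecidableEq ι]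

/-- `fieldAutPO` is injective, and meets the image of the similarities trivially -/
theorem fieldAutPO_injective (h2 : (2 : F) ≠ 0) (Q : QuadraticForm F (ι → F))
    (hQ : (QuadraticMap.polarBilin Q).Nondegenerate) (hn : 5 ≤ Fintype.card ι)
    (e f : Fin 3 → ι → F) (HT : HypTriple Q e f)
    (hfix0 : ∀ σ : ↥(compatAut ⇑Q), ∀ i, σ.1 (e 0 i) = e 0 i)
    (hfix1 : ∀ σ : ↥(compatAut ⇑Q), ∀ i, σ.1 (e 1 i) = e 1 i) :
    Function.Injective (fieldAutPO ⇑Q) := by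
  rw [injective_iff_map_eq_one]
  intro σ hσ
  have : fieldAutPO ⇑Q σ = autPO ⇑Q 1 := by rw [hσ, map_one]
  exact fieldAutPO_eq_autPO_imp h2 Q hQ hn e f HT σ (hfix0 σ) (hfix1 σ) 1 this

theorem orderOf_fieldAutPO (h2 : (2 : F) ≠ 0) (Q : QuadraticForm F (ι → F))
    (hQ : (QuadraticMap.polarBilin Q).Nondegenerate) (hn : 5 ≤ Fintype.card ι)
    (e f : Fin 3 → ι → F) (HT : HypTriple Q e f)
    (hfix0 : ∀ σ : ↥(compatAut ⇑Q), ∀ i, σ.1 (e 0 i) = e 0 i)
    (hfix1 : ∀ σ : ↥(compatAut ⇑Q), ∀ i, σ.1 (e 1 i) = e 1 i) (σ : ↥(compatAut ⇑Q)) :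
    orderOf (fieldAutPO ⇑Q σ) = orderOf σ :=
  orderOf_injective _ (fieldAutPO_injective h2 Q hQ hn e f HT hfix0 hfix1) σ

/-- the image of the similarities meets the image of the field automorphisms trivially -/
theorem autPO_range_inf_fieldAutPO_range (h2 : (2 : F) ≠ 0) (Q : QuadraticForm F (ι → F))
    (hQ : (QuadraticMap.polarBilin Q).Nondegenerate) (hn : 5 ≤ Fintype.card ι)
    (e f : Fin 3 → ι → F) (HT : HypTriple Q e f)
    (hfix0 : ∀ σ : ↥(compatAut ⇑Q), ∀ i, σ.1 (e 0 i) = e 0 i)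
    (hfix1 : ∀ σ : ↥(compatAut ⇑Q), ∀ i, σ.1 (e 1 i) = e 1 i) :
    (autPO ⇑Q).range ⊓ (fieldAutPO ⇑Q).range = ⊥ := by
  rw [eq_bot_iff]
  rintro β ⟨⟨g, rfl⟩, ⟨σ, hσ⟩⟩
  have := fieldAutPO_eq_autPO_imp h2 Q hQ hn e f HT σ (hfix0 σ) (hfix1 σ) g hσ
  rw [this, map_one] at hσ
  rw [Subgroup.mem_bot, ← hσ]

end B

end Cfsg.Agent.Lib.Helper50
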