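import Cfsg.Agent.Lib.Helper07.OrthY
import Cfsg.Agent.Lib.Helper50.FieldAutPO2

set_option autoImplicit false

/-!
# Kernel facts for `autPO` and `fieldAutPO`, in every characteristic

For a nondegenerate form in at least seven variables (`OC Q`), in any characteristic:
the kernel of `autPO` is the scalars, and `fieldAutPO` is injective modulo the image of `autPO`.
-/

namespace Cfsg.Agent.Lib.Helper50

open Matrix Cfsg.Agent.Lib.Helper08 Cfsg.Agent.Lib.Helper07.OG

universe u

variable {F : Type u} [Field F] [Fintype F] {ι : Type} [Fintype ι] [DecidableEq ι]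

/-- the kernel of `autPO` is the group of scalars, in every characteristic -/
theorem autPO_eq_one_iff_OC (Q : QuadraticForm F (ι → F)) (C : OC Q)
    (z : ↥(Cfsg.Geo.quadSimilarityGroup (F := F) ⇑Q)) :
    autPO ⇑Q z = 1 ↔ ∃ c : F, ((z : GL ι F) : Matrix ι ι F) = c • 1 := by
  obtain ⟨p, hp⟩ := CharP.exists F
  haveI := hp
  haveI : Fact p.Prime := ⟨CharP.char_is_prime F p⟩
  constructor
  · intro hz
    have hs : Cfsg.IsSemisimilarityPair (⇑Q) (z : GL ι F) (RingEquiv.refl F) :=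
      (semi_refl_iff _).2 z.2
    have h1 : autS (z : GL ι F) (RingEquiv.refl F) hs = 1 := by
      rw [autS_refl_eq_autPO hs]
      exact hz
    obtain ⟨-, c, hc⟩ := autS_eq_one_imp C p hs h1
    refine ⟨c, ?_⟩
    apply Matrix.toLin'.injective
    apply LinearMap.ext
    intro v
    rw [Matrix.toLin'_apply, hc v, Matrix.toLin'_apply, Matrix.smul_mulVec, Matrix.one_mulVec]
  · rintro ⟨c, hc⟩
    ext x
    induction x using QuotientGroup.induction_on with
    | H s =>
      obtain ⟨s', h1, h3⟩ := autPO_mk_val (⇑Q) z s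
      rw [h1, MulAut.one_apply]
      congr 1
      apply Omega_ext
      rw [h3]
      have h4 : ((z : GL ι F) * (s : GL ι F) : GL ι F) = (s : GL ι F) * (z : GL ι F) := by
        apply Units.ext
        rw [Units.val_mul, Units.val_mul, hc]
        simp
      rw [h4, mul_inv_cancel_right]

theorem semi_one_sigma (Q : QuadraticForm F (ι → F)) (σ : ↥(compatAut ⇑Q)) :
    Cfsg.IsSemisimilarityPair (⇑Q) (1 : GL ι F) (σ.1 : F ≃+* F) := by
  refine ⟨1, fun v => ?_⟩
  rw [Units.val_one, Matrix.one_mulVec, Units.val_one, one_mul]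
  exact σ.2 v

/-- `fieldAutPO` is the semilinear automorphism with identity matrix -/
theorem fieldAutPO_eq_autS (Q : QuadraticForm F (ι → F)) (σ : ↥(compatAut ⇑Q)) :
    fieldAutPO ⇑Q σ = autS (1 : GL ι F) (σ.1 : F ≃+* F) (semi_one_sigma Q σ) := by
  apply eq_autS_of_isInduced
  have h1 : (1 : GL ι F) ∈ Cfsg.Geo.quadSimilarityGroup (F := F) ⇑Q := Subgroup.one_mem _
  rw [isInducedSemi_iff (⇑Q) 1 h1 σ.1 σ.2]
  have h2 : autPO ⇑Q ⟨1, h1⟩ = 1 := by
    have : (⟨1, h1⟩ : ↥(Cfsg.Geo.quadSimilarityGroup (F := F) ⇑Q)) = 1 := rfl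
    rw [this, map_one]
  rw [h2, one_mul]

/-- a field automorphism inducing a similarity automorphism is trivial, in every
characteristic -/
theorem fieldAutPO_eq_autPO_imp_OC (Q : QuadraticForm F (ι → F)) (C : OC Q)
    (σ : ↥(compatAut ⇑Q)) (g : ↥(Cfsg.Geo.quadSimilarityGroup (F := F) ⇑Q))
    (h : fieldAutPO ⇑Q σ = autPO ⇑Q g) : σ = 1 := by
  obtain ⟨p, hp⟩ := CharP.exists F
  haveI := hp
  haveI : Fact p.Prime := ⟨CharP.char_is_prime F p⟩
  have hs : Cfsg.IsSemisimilarityPair (⇑Q) (g : GL ι F) (RingEquiv.refl F) :=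
    (semi_refl_iff _).2 g.2
  have h1 : autS (1 : GL ι F) (σ.1 : F ≃+* F) (semi_one_sigma Q σ) =
      autS (g : GL ι F) (RingEquiv.refl F) hs := by
    rw [← fieldAutPO_eq_autS, autS_refl_eq_autPO hs]
    exact h
  obtain ⟨h2, -⟩ := autS_eq_autS_imp C p _ _ h1
  apply Subtype.ext
  exact h2

theorem fieldAutPO_injective_OC (Q : QuadraticForm F (ι → F)) (C : OC Q) :
    Function.Injective (fieldAutPO ⇑Q) := by
  rw [injective_iff_map_eq_one]
  intro σ hσ
  have : fieldAutPO ⇑Q σ = autPO ⇑Q 1 := by rw [hσ, map_one]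
  exact fieldAutPO_eq_autPO_imp_OC Q C σ 1 this

theorem orderOf_fieldAutPO_OC (Q : QuadraticForm F (ι → F)) (C : OC Q) (σ : ↥(compatAut ⇑Q)) :
    orderOf (fieldAutPO ⇑Q σ) = orderOf σ :=
  orderOf_injective _ (fieldAutPO_injective_OC Q C) σ

end Cfsg.Agent.Lib.Helper50
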