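import Cfsg.Agent.Lib.Helper50.MinusPres
import Cfsg.Agent.S0791

set_option autoImplicit false

/-! `Inndiag(PΩ⁻_{2m+2}(q))` as the image of the similarities with `det = μ^(m+1)`, and its
quotient by the inner automorphisms. -/

namespace Cfsg.Agent.Lib.Helper50

open Matrix Module Cfsg.Agent.Lib.Helper19 Cfsg.Agent.Lib.Helper43 Cfsg.Agent.Lib.Helper08

universe u

variable {F : Type u} [Field F] [Fintype F] [DecidableEq F] (m : ℕ) (a b : F)

theorem preserves_minus_iff_delta (h2 : (2 : F) ≠ 0)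
    (hab : ∀ z₁ z₂ : F, z₁ ^ 2 + a * z₁ * z₂ + b * z₂ ^ 2 = 0 → z₁ = 0 ∧ z₂ = 0)
    (Q : QuadraticForm F ((Fin m ⊕ Fin m) ⊕ Fin 2 → F))
    (hcoe : ⇑Q = Cfsg.quadFormMinus m F a b)
    {u0 : (Fin m ⊕ Fin m) ⊕ Fin 2 → F} (hu0 : Q u0 = 1)
    (g : ↥(Cfsg.Geo.quadSimilarityGroup (F := F) ⇑Q)) :
    Cfsg.PreservesSingularClassesMinus m a b
        ((g : GL ((Fin m ⊕ Fin m) ⊕ Fin 2) F) :
          Matrix ((Fin m ⊕ Fin m) ⊕ Fin 2) ((Fin m ⊕ Fin m) ⊕ Fin 2) F) ↔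
      delta Q hu0 (m + 1) g = 1 := by
  have hg : ∀ v, Cfsg.quadFormMinus m F a b (g.1.1 *ᵥ v) =
      (multFun Q g : F) * Cfsg.quadFormMinus m F a b v := by
    intro v
    rw [← hcoe]
    exact multFun_spec Q g v
  rw [preservesMinus_iff m a b h2 hab g.1 (multFun Q g : F) (Units.ne_zero _) hg]
  constructor
  · intro h
    apply Units.ext
    rw [delta_apply]
    simp only [Units.val_mul, Units.val_pow_eq_pow_val, Units.val_inv_eq_inv_val, detGO_val,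
      Units.val_one, h]
    rw [inv_pow, mul_inv_cancel₀ (pow_ne_zero _ (Units.ne_zero _))]
  · intro h
    have h1 := congrArg (fun x : Fˣ => (x : F)) h
    rw [delta_apply] at h1
    simp only [Units.val_mul, Units.val_pow_eq_pow_val, Units.val_inv_eq_inv_val, detGO_val,
      Units.val_one] at h1
    have h0 : ((multFun Q g : F)) ^ (m + 1) ≠ 0 := pow_ne_zero _ (Units.ne_zero _)
    rw [inv_pow] at h1
    field_simp at h1
    exact h1

theorem inndiagMinus_eq (h2 : (2 : F) ≠ 0)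
    (hab : ∀ z₁ z₂ : F, z₁ ^ 2 + a * z₁ * z₂ + b * z₂ ^ 2 = 0 → z₁ = 0 ∧ z₂ = 0)
    (Q : QuadraticForm F ((Fin m ⊕ Fin m) ⊕ Fin 2 → F))
    (hcoe : ⇑Q = Cfsg.quadFormMinus m F a b)
    {u0 : (Fin m ⊕ Fin m) ⊕ Fin 2 → F} (hu0 : Q u0 = 1) :
    Subgroup.closure {β : MulAut (Cfsg.POmega F ⇑Q) |
        ∃ g : GL ((Fin m ⊕ Fin m) ⊕ Fin 2) F, g ∈ Cfsg.Geo.quadSimilarityGroup (F := F) ⇑Q ∧
          Cfsg.PreservesSingularClassesMinus m a b
            (g : Matrix ((Fin m ⊕ Fin m) ⊕ Fin 2) ((Fin m ⊕ Fin m) ⊕ Fin 2) F) ∧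
          Cfsg.IsInducedBySemilinearPOmega (⇑Q) g (RingEquiv.refl F) β} =
      (delta Q hu0 (m + 1)).ker.map (autPO ⇑Q) := by
  have hset : {β : MulAut (Cfsg.POmega F ⇑Q) |
        ∃ g : GL ((Fin m ⊕ Fin m) ⊕ Fin 2) F, g ∈ Cfsg.Geo.quadSimilarityGroup (F := F) ⇑Q ∧
          Cfsg.PreservesSingularClassesMinus m a b
            (g : Matrix ((Fin m ⊕ Fin m) ⊕ Fin 2) ((Fin m ⊕ Fin m) ⊕ Fin 2) F) ∧
          Cfsg.IsInducedBySemilinearPOmega (⇑Q) g (RingEquiv.refl F) β} =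
      (((delta Q hu0 (m + 1)).ker.map (autPO ⇑Q) : Subgroup (MulAut (Cfsg.POmega F ⇑Q))) :
        Set (MulAut (Cfsg.POmega F ⇑Q))) := by
    ext β
    constructor
    · rintro ⟨g, hg, hP, hI⟩
      refine ⟨⟨g, hg⟩, ?_, ((isInduced_iff (⇑Q) g hg β).mp hI).symm⟩
      rw [SetLike.mem_coe, MonoidHom.mem_ker]
      exact (preserves_minus_iff_delta m a b h2 hab Q hcoe hu0 ⟨g, hg⟩).mp hP
    · rintro ⟨g, hg, rfl⟩
      rw [SetLike.mem_coe, MonoidHom.mem_ker] at hg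
      exact ⟨g.1, g.2, (preserves_minus_iff_delta m a b h2 hab Q hcoe hu0 g).mpr hg,
        (isInduced_iff (⇑Q) g.1 g.2 _).mpr rfl⟩
  rw [hset, Subgroup.closure_eq]

omit [Fintype F] [DecidableEq F] in
theorem det_minusMat (ζ c₁ c₂ : F) :
    (minusMat m a b ζ c₁ c₂).det =
      (-1) ^ (m + 1) * ζ ^ m * (c₁ ^ 2 + a * c₁ * c₂ + b * c₂ ^ 2) := by
  unfold minusMat
  rw [Matrix.det_fromBlocks_zero₂₁, det_swapMat]
  unfold normMat
  rw [Matrix.det_fin_two_of]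
  ring

set_option maxHeartbeats 1600000 in
/-- the structure of `Inndiag / Inn` for the minus-type groups -/
theorem inndiag_minus_main (hodd : Odd (Fintype.card F)) (hm : 3 ≤ m)
    (hab : ∀ z₁ z₂ : F, z₁ ^ 2 + a * z₁ * z₂ + b * z₂ ^ 2 = 0 → z₁ = 0 ∧ z₂ = 0) :
    ∀ (q : ((Fin m ⊕ Fin m) ⊕ Fin 2 → F) → F), Cfsg.quadFormMinus m F a b = q →
      ∀ P : Subgroup (MulAut (Cfsg.POmega F q)),
      P = Subgroup.closure {β : MulAut (Cfsg.POmega F q) |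
        ∃ g : GL ((Fin m ⊕ Fin m) ⊕ Fin 2) F, g ∈ Cfsg.Geo.quadSimilarityGroup (F := F) q ∧
          Cfsg.PreservesSingularClassesMinus m a b
            (g : Matrix ((Fin m ⊕ Fin m) ⊕ Fin 2) ((Fin m ⊕ Fin m) ⊕ Fin 2) F) ∧
          Cfsg.IsInducedBySemilinearPOmega q g (RingEquiv.refl F) β} →
      ((Even m ∧ Fintype.card F % 4 = 3) →
        ∃ φ : ↥P →* Multiplicative (ZMod 4), Function.Surjective φ ∧
          φ.ker = (Cfsg.Inn (Cfsg.POmega F q)).subgroupOf P) ∧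
      (¬ (Even m ∧ Fintype.card F % 4 = 3) →
        ∃ φ : ↥P →* Multiplicative (ZMod 2), Function.Surjective φ ∧
          φ.ker = (Cfsg.Inn (Cfsg.POmega F q)).subgroupOf P) := by
  have hm3 : 3 ≤ m := hm
  have h2 : (2 : F) ≠ 0 := two_ne_zero_of_odd_card rfl hodd
  obtain ⟨Q, hQdef⟩ : ∃ Q : QuadraticForm F ((Fin m ⊕ Fin m) ⊕ Fin 2 → F),
      Q = (qdataMinus (F := F) m a b hab).qf := ⟨_, rfl⟩
  have hcoe : ⇑Q = Cfsg.quadFormMinus m F a b := by rw [hQdef]; rfl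
  have hQ : (QuadraticMap.polarBilin Q).Nondegenerate := by
    rw [hQdef]; exact (qdataMinus (F := F) m a b hab).qf_nondeg
  obtain ⟨e, he⟩ : ∃ e : Fin 3 → ((Fin m ⊕ Fin m) ⊕ Fin 2 → F),
      e = fun i => Pi.single (Sum.inl (Sum.inl (Fin.castLE hm3 i))) 1 := ⟨_, rfl⟩
  obtain ⟨f, hf⟩ : ∃ f : Fin 3 → ((Fin m ⊕ Fin m) ⊕ Fin 2 → F),
      f = fun i => Pi.single (Sum.inl (Sum.inr (Fin.castLE hm3 i))) 1 := ⟨_, rfl⟩
  have HT : HypTriple Q e f := by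
    rw [hQdef, he, hf]; exact hypTriple_minus (F := F) m hm3 a b hab
  have hcard : Fintype.card ((Fin m ⊕ Fin m) ⊕ Fin 2) = 2 * (m + 1) := by
    rw [Fintype.card_sum, Fintype.card_sum, Fintype.card_fin, Fintype.card_fin]; ring
  obtain ⟨ζ, hζ⟩ := exists_nonsquare_of_two_ne_zero h2
  have hζ0 : ζ ≠ 0 := fun h => hζ (h ▸ ⟨0, by ring⟩)
  obtain ⟨c₁, c₂, hc⟩ := Cfsg.Agent.Lib.Helper08.exists_norm_eq a b hab ζ hζ0
  have hc' : c₁ ^ 2 + a * c₁ * c₂ + b * c₂ ^ 2 = ((Units.mk0 ζ hζ0 : Fˣ) : F) := hc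
  have hmem : minusGL m a b (Units.mk0 ζ hζ0) c₁ c₂ hc' ∈
      Cfsg.Geo.quadSimilarityGroup (F := F) ⇑Q := by
    rw [hcoe]; exact minusGL_mem m a b _ c₁ c₂ hc'
  have hu : Q (e 0 + f 0) = 1 := by
    rw [QuadraticMap.map_add (⇑Q), HT.qe 0, HT.qf 0, HT.ef]; simp
  have hmult : multFun Q ⟨_, hmem⟩ = Units.mk0 ζ hζ0 :=
    multFun_unique Q hu ⟨_, hmem⟩ _ (fun v => by
      have h1 := quadFormMinus_minusMat m a b ζ c₁ c₂ hc v
      rw [← hcoe] at h1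
      exact h1)
  have hδ : delta Q hu (m + 1) ⟨_, hmem⟩ = (-1) ^ (m + 1) := by
    apply Units.ext
    rw [delta_apply, hmult]
    simp only [Units.val_mul, Units.val_pow_eq_pow_val, Units.val_inv_eq_inv_val, detGO_val,
      Units.val_mk0, Units.val_neg, Units.val_one]
    change (minusMat m a b ζ c₁ c₂).det * _ = _
    rw [det_minusMat, hc, inv_pow]
    have hz : ζ ^ (m + 1) ≠ 0 := pow_ne_zero _ hζ0
    field_simp
    ring
  have hmain := inndiag_mod_inn Q (m + 1) h2 hQ hcard e f HT hu ⟨_, hmem⟩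
    (by rw [hmult]; exact hζ) ⟨ζ, minusMat_mul_self m a b ζ c₁ c₂ hc⟩ _
    (inndiagMinus_eq m a b h2 hab Q hcoe hu)
  have hcrit : (∃ g : ↥(Cfsg.isometryGroup F (Cfsg.quadFormMinus m F a b)),
      g ∈ Cfsg.Omega F (Cfsg.quadFormMinus m F a b) ∧
      ((g : Matrix.GeneralLinearGroup ((Fin m ⊕ Fin m) ⊕ Fin 2) F) :
        Matrix ((Fin m ⊕ Fin m) ⊕ Fin 2) ((Fin m ⊕ Fin m) ⊕ Fin 2) F) = -1) ↔
      Fintype.card F ^ (m + 1) % 4 = 3 :=
    Cfsg.Agent.S0791.result (F := F) rfl hodd (m + 1) (by omega) a b hab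
  rw [← hcoe] at hcrit
  have hq4 : Fintype.card F % 4 = 1 ∨ Fintype.card F % 4 = 3 := by
    rcases hodd with ⟨r, hr⟩
    omega
  have key : ∀ (q : ((Fin m ⊕ Fin m) ⊕ Fin 2 → F) → F), ⇑Q = q →
      ∀ P : Subgroup (MulAut (Cfsg.POmega F q)),
      P = Subgroup.closure {β : MulAut (Cfsg.POmega F q) |
        ∃ g : GL ((Fin m ⊕ Fin m) ⊕ Fin 2) F, g ∈ Cfsg.Geo.quadSimilarityGroup (F := F) q ∧
          Cfsg.PreservesSingularClassesMinus m a b
            (g : Matrix ((Fin m ⊕ Fin m) ⊕ Fin 2) ((Fin m ⊕ Fin m) ⊕ Fin 2) F) ∧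
          Cfsg.IsInducedBySemilinearPOmega q g (RingEquiv.refl F) β} →
      ((Even m ∧ Fintype.card F % 4 = 3) →
        ∃ φ : ↥P →* Multiplicative (ZMod 4), Function.Surjective φ ∧
          φ.ker = (Cfsg.Inn (Cfsg.POmega F q)).subgroupOf P) ∧
      (¬ (Even m ∧ Fintype.card F % 4 = 3) →
        ∃ φ : ↥P →* Multiplicative (ZMod 2), Function.Surjective φ ∧
          φ.ker = (Cfsg.Inn (Cfsg.POmega F q)).subgroupOf P) := by
    rintro q rfl P rfl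
    refine ⟨?_, ?_⟩
    · rintro ⟨hme, h3⟩
      apply hmain.2.1
      · rw [hcrit]
        exact pow_mod_four_of_mod_three_odd h3 (Even.add_one hme)
      · rw [hδ, (Even.add_one hme).neg_one_pow]
    · intro hn
      apply hmain.1
      rw [hcrit]
      rcases hq4 with h1 | h3
      · rw [pow_mod_four_of_mod_one h1 (m + 1)]
        norm_num
      · have hmo : Odd m := by
          rw [← Nat.not_even_iff_odd]
          intro hme
          exact hn ⟨hme, h3⟩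
        rw [pow_mod_four_of_mod_three_even h3 (Odd.add_one hmo)]
        norm_num
  intro q hq
  exact key q (hcoe.trans hq)

end Cfsg.Agent.Lib.Helper50
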