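import Cfsg.Agent.Lib.Helper50.SpinorHom
import Cfsg.Agent.Lib.Helper50.WittSplit
import Cfsg.Agent.Lib.Helper50.Isotropic

set_option autoImplicit false

/-! Membership in `Ω` via characters; index of `Ω`. -/

namespace Cfsg.Agent.Lib.Helper50

open Matrix Cfsg.Agent.Lib.Helper19

variable {ι : Type} [Fintype ι] [DecidableEq ι] {F : Type*} [Field F] [Fintype F]

/-- Membership in the commutator subgroup through the determinant and the sign character. -/
theorem mem_commutator_iff (h2 : (2 : F) ≠ 0) (Q : QuadraticForm F (ι → F))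
    (hQ : (QuadraticMap.polarBilin Q).Nondegenerate) (ζ : F) (hζ : ¬ IsSquare ζ)
    (g : ↥(Cfsg.isometryGroup F (⇑Q))) :
    g ∈ commutator ↥(Cfsg.isometryGroup F (⇑Q)) ↔ detHom (⇑Q) g = 1 ∧ theta (⇑Q) ζ g = 1 := by
  constructor
  · intro h
    exact ⟨Abelianization.commutator_subset_ker (detHom (⇑Q)) h,
      Abelianization.commutator_subset_ker (theta (⇑Q) ζ) h⟩
  · rintro ⟨hd, ht⟩
    obtain ⟨l, hl, hA⟩ := isometry_eq_prod_reflectionMatrix h2 Q hQ _ (O_isometry (⇑Q) g)
    rw [spinor_criterion h2 Q g l hl hA]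
    have hgp : g = (l.map (reflO Q)).prod := by
      apply O_ext
      rw [hA, reflO_prod_val Q l hl]
    constructor
    · have h3 : (((g : GL ι F) : Matrix ι ι F)).det = 1 := by
        rw [← detHom_val, hd, Units.val_one]
      rw [hA, det_prod_reflection Q l hl] at h3
      refine (neg_one_pow_eq_one_iff_even ?_).mp h3
      intro h
      apply h2
      linear_combination -h
    · rw [hgp] at ht
      exact (theta_prod_reflO h2 Q ζ hζ l hl).mp ht

theorem detHom_reflO (Q : QuadraticForm F (ι → F)) (u : ι → F) (hu : Q u ≠ 0) :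
    detHom (⇑Q) (reflO Q u) = -1 := by
  apply Units.ext
  rw [detHom_val, reflO_val Q u hu, reflectionMatrix_det Q u hu]
  simp

open scoped Classical in
/-- value of `theta` at a non-square parameter on a reflection -/
theorem theta_nonsq_reflO (h2 : (2 : F) ≠ 0) (Q : QuadraticForm F (ι → F)) (ζ : F)
    (hζ : ¬ IsSquare ζ) (u : ι → F) (hu : Q u ≠ 0) :
    theta (⇑Q) ζ (reflO Q u) = if IsSquare (Q u) then 1 else -1 := by
  have hζ0 : ζ ≠ 0 := fun h => hζ (h ▸ ⟨0, by ring⟩)
  rw [theta_reflO h2 Q ζ hζ0 u hu, mul_comm]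
  have hiff := isSquare_mul_nonsquare_iff hu hζ
  by_cases hsq : IsSquare (Q u)
  · have : ¬ IsSquare (Q u * ζ) := fun h => (hiff.mp h) hsq
    simp [hsq, this]
  · have : IsSquare (Q u * ζ) := hiff.mpr hsq
    simp [hsq, this]

open scoped Classical in
/-- value of `theta` at parameter one on a reflection -/
theorem theta_one_reflO (h2 : (2 : F) ≠ 0) (Q : QuadraticForm F (ι → F))
    (u : ι → F) (hu : Q u ≠ 0) :
    theta (⇑Q) 1 (reflO Q u) = if IsSquare (Q u) then -1 else 1 := by
  rw [theta_reflO h2 Q 1 one_ne_zero u hu, one_mul]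

/-- a nondegenerate quadratic form of dimension at least two over a finite field is universal -/
theorem exists_repr {V : Type*} [AddCommGroup V] [Module F V] [FiniteDimensional F V]
    (Q : QuadraticForm F V) (hQ : (QuadraticMap.polarBilin Q).Nondegenerate)
    (hdim : 2 ≤ Module.finrank F V) (c : F) (hc : c ≠ 0) : ∃ v : V, Q v = c := by
  by_cases hanis : ∀ v : V, Q v = 0 → v = 0
  · exact exists_represents Q hdim hanis c hc
  · push Not at hanis
    obtain ⟨e, he0, he⟩ := hanis
    obtain ⟨f, hf, hef⟩ := exists_hyperbolic_pair Q (QND_of_nondegenerate Q hQ) e he he0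
    refine ⟨e + c • f, ?_⟩
    have h := QuadraticMap.map_add (⇑Q) e (c • f)
    rw [h, he0, QuadraticMap.map_smul, hf, QuadraticMap.polar_smul_right, hef]
    simp

/-- The pair of sign characters at `1` and at a non-square. -/
noncomputable def thetaPair (Q : (ι → F) → F) (ζ : F) :
    ↥(Cfsg.isometryGroup F Q) →* ℤˣ × ℤˣ :=
  (theta Q 1).prod (theta Q ζ)

theorem theta_mul_theta_prod (h2 : (2 : F) ≠ 0) (Q : QuadraticForm F (ι → F)) (ζ : F)
    (hζ : ¬ IsSquare ζ) (l : List (ι → F)) (hl : ∀ v ∈ l, Q v ≠ 0) :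
    theta (⇑Q) 1 ((l.map (reflO Q)).prod) * theta (⇑Q) ζ ((l.map (reflO Q)).prod) =
      (-1) ^ l.length := by
  classical
  induction l with
  | nil => simp
  | cons a t ih =>
    have ha : Q a ≠ 0 := hl a List.mem_cons_self
    have ht : ∀ b ∈ t, Q b ≠ 0 := fun b hb => hl b (List.mem_cons_of_mem _ hb)
    rw [List.map_cons, List.prod_cons, map_mul, map_mul, List.length_cons, pow_succ, ← ih ht,
      theta_one_reflO h2 Q a ha, theta_nonsq_reflO h2 Q ζ hζ a ha]
    by_cases hsq : IsSquare (Q a)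
    · simp only [hsq, if_true]
      rw [mul_mul_mul_comm]
      simp
    · simp only [hsq, if_false]
      rw [mul_mul_mul_comm]
      simp

theorem ker_thetaPair (h2 : (2 : F) ≠ 0) (Q : QuadraticForm F (ι → F))
    (hQ : (QuadraticMap.polarBilin Q).Nondegenerate) (ζ : F) (hζ : ¬ IsSquare ζ) :
    (thetaPair (⇑Q) ζ).ker = commutator ↥(Cfsg.isometryGroup F (⇑Q)) := by
  apply le_antisymm
  · intro g hg
    rw [MonoidHom.mem_ker] at hg
    have h1 : theta (⇑Q) 1 g = 1 := congrArg Prod.fst hg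
    have h3 : theta (⇑Q) ζ g = 1 := congrArg Prod.snd hg
    rw [mem_commutator_iff h2 Q hQ ζ hζ]
    refine ⟨?_, h3⟩
    obtain ⟨l, hl, hA⟩ := isometry_eq_prod_reflectionMatrix h2 Q hQ _ (O_isometry (⇑Q) g)
    have hgp : g = (l.map (reflO Q)).prod := by
      apply O_ext
      rw [hA, reflO_prod_val Q l hl]
    have hk := theta_mul_theta_prod h2 Q ζ hζ l hl
    rw [← hgp, h1, h3, one_mul] at hk
    have hev : Even l.length := (neg_one_pow_eq_one_iff_even (by decide)).mp hk.symm
    apply Units.ext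
    rw [detHom_val, hA, det_prod_reflection Q l hl, hev.neg_one_pow, Units.val_one]
  · exact Abelianization.commutator_subset_ker _

theorem thetaPair_surjective (h2 : (2 : F) ≠ 0) (Q : QuadraticForm F (ι → F))
    (hQ : (QuadraticMap.polarBilin Q).Nondegenerate) (hdim : 2 ≤ Fintype.card ι) (ζ : F)
    (hζ : ¬ IsSquare ζ) : Function.Surjective (thetaPair (⇑Q) ζ) := by
  classical
  have hζ0 : ζ ≠ 0 := fun h => hζ (h ▸ ⟨0, by ring⟩)
  have hfr : 2 ≤ Module.finrank F (ι → F) := by
    rw [Module.finrank_fintype_fun_eq_card]; exact hdim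
  obtain ⟨u, hu⟩ := exists_repr Q hQ hfr 1 one_ne_zero
  obtain ⟨w, hw⟩ := exists_repr Q hQ hfr ζ hζ0
  have hu0 : Q u ≠ 0 := by rw [hu]; exact one_ne_zero
  have hw0 : Q w ≠ 0 := by rw [hw]; exact hζ0
  have e1 : thetaPair (⇑Q) ζ (reflO Q u) = (-1, 1) := by
    simp only [thetaPair, MonoidHom.prod_apply, theta_one_reflO h2 Q u hu0,
      theta_nonsq_reflO h2 Q ζ hζ u hu0, hu]
    simp
  have e2 : thetaPair (⇑Q) ζ (reflO Q w) = (1, -1) := by
    simp only [thetaPair, MonoidHom.prod_apply, theta_one_reflO h2 Q w hw0,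
      theta_nonsq_reflO h2 Q ζ hζ w hw0, hw]
    simp [hζ]
  rintro ⟨x, y⟩
  rcases Int.units_eq_one_or x with rfl | rfl <;> rcases Int.units_eq_one_or y with rfl | rfl
  · exact ⟨1, map_one _⟩
  · exact ⟨reflO Q w, e2⟩
  · exact ⟨reflO Q u, e1⟩
  · refine ⟨reflO Q u * reflO Q w, ?_⟩
    rw [map_mul, e1, e2]
    rfl

/-- `Ω` has index four in the orthogonal group (q odd, dimension at least two). -/
theorem index_commutator (h2 : (2 : F) ≠ 0) (Q : QuadraticForm F (ι → F))
    (hQ : (QuadraticMap.polarBilin Q).Nondegenerate) (hdim : 2 ≤ Fintype.card ι) :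
    (commutator ↥(Cfsg.isometryGroup F (⇑Q))).index = 4 := by
  obtain ⟨ζ, hζ⟩ := exists_nonsquare_of_two_ne_zero h2
  rw [← ker_thetaPair h2 Q hQ ζ hζ, Subgroup.index_ker,
    MonoidHom.range_eq_top.mpr (thetaPair_surjective h2 Q hQ hdim ζ hζ)]
  rw [Nat.card_congr (Subgroup.topEquiv (G := ℤˣ × ℤˣ)).toEquiv, Nat.card_prod]
  simp

end Cfsg.Agent.Lib.Helper50
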