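import Cfsg.Agent.Lib.Helper08.AutOmegaKer
import Cfsg.Agent.Lib.Helper08.OmegaCenterCard

set_option autoImplicit false

/-! K-S2717-V6: when `-1 ∈ Ω`, an isometry induces an inner automorphism of `PΩ` iff it lies
in `Ω` (generic, odd characteristic). -/

namespace Cfsg.Agent.Lib.Helper50.S2717K

open Module Matrix Cfsg.Agent.Lib.Helper43 Cfsg.Agent.Lib.Helper08

universe u

variable {F : Type u} [Field F] [Fintype F] {ι : Type} [Fintype ι] [DecidableEq ι]
variable (Q : QuadraticForm F (ι → F))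

/-- K-S2717-V6 (generic, odd characteristic): when `-1 ∈ Ω`, an isometry induces an inner
automorphism of `PΩ` iff it lies in `Ω`. -/
theorem autO_mem_inn_iff_of_neg (h2 : (2 : F) ≠ 0) (hQ : (QuadraticMap.polarBilin Q).Nondegenerate)
    (e f : Fin 3 → ι → F) (HT : HypTriple Q e f)
    (hneg : ∃ g : ↥(Cfsg.isometryGroup F ⇑Q), g ∈ Cfsg.Omega F ⇑Q ∧
      ((g : GL ι F) : Matrix ι ι F) = -1)
    (s : ↥(Cfsg.isometryGroup F ⇑Q)) :
    autO ⇑Q s ∈ Cfsg.Inn (Cfsg.POmega F ⇑Q) ↔ s ∈ Cfsg.Omega F ⇑Q := by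
  have RP : ReflPairs Q := reflPairs_of_two_ne_zero Q h2
  rw [inn_eq]
  constructor
  · rintro ⟨ω, hω, hωs⟩
    have h1 : autO ⇑Q (ω⁻¹ * s) = 1 := by
      rw [map_mul, map_inv, hωs, inv_mul_cancel]
    rw [autO_eq_one_iff Q hQ h2 e f HT RP] at h1
    rcases h1 with h1 | h1
    · have h3 : ω⁻¹ * s = 1 := by
        apply Subtype.ext
        apply Units.ext
        rw [h1]; rfl
      have h4 : s = ω := by
        rw [inv_mul_eq_one] at h3
        exact h3.symm
      rw [h4]; exact hω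
    · obtain ⟨g, hg, hgm⟩ := hneg
      have h3 : ω⁻¹ * s = g := by
        apply Subtype.ext
        apply Units.ext
        rw [h1, hgm]
      have h4 : s = ω * g := by
        rw [← h3, mul_inv_cancel_left]
      rw [h4]
      exact Subgroup.mul_mem _ hω hg
  · intro hs
    exact ⟨s, hs, rfl⟩

end Cfsg.Agent.Lib.Helper50.S2717K
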