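import Cfsg.Agent.Lib.Helper50.OmegaTransitive
import Cfsg.Agent.Lib.Helper08.SimilarityMult

set_option autoImplicit false

/-! A similarity of a `2m`-dimensional quadratic space preserves the two classes of maximal totally
singular subspaces iff its determinant is that of a reference similarity with the same multiplier
which fixes a maximal totally singular subspace. -/

namespace Cfsg.Agent.Lib.Helper50

open Matrix QuadraticMap Module Cfsg.Agent.Lib.Helper19

variable {F : Type*} [Field F]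

theorem exists_le_finrank_eq_sub {V : Type*} [AddCommGroup V] [Module F V] [FiniteDimensional F V]
    (E : Submodule F V) {k : ℕ} (hk : k ≤ finrank F E) :
    ∃ W : Submodule F V, W ≤ E ∧ finrank F W = k := by
  set b := Module.finBasis F E
  set f : Fin k → E := fun i => b (Fin.castLE hk i)
  have hli : LinearIndependent F f := b.linearIndependent.comp _ (Fin.castLE_injective hk)
  refine ⟨(Submodule.span F (Set.range f)).map E.subtype, ?_, ?_⟩
  · rintro _ ⟨x, -, rfl⟩
    exact x.2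
  · rw [Submodule.finrank_map_subtype_eq, finrank_span_eq_card hli, Fintype.card_fin]

variable {ι : Type} [Fintype ι] [DecidableEq ι]

/-- an invertible matrix as a linear equivalence -/
noncomputable def glEquiv (g : GL ι F) : (ι → F) ≃ₗ[F] (ι → F) :=
  LinearEquiv.ofLinearMap (Matrix.mulVecLin (g : Matrix ι ι F))
    (Matrix.mulVecLin ((g⁻¹ : GL ι F) : Matrix ι ι F))
    (by
      rw [← Matrix.mulVecLin_mul, ← Units.val_mul, mul_inv_cancel, Units.val_one,
        Matrix.mulVecLin_one])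
    (by
      rw [← Matrix.mulVecLin_mul, ← Units.val_mul, inv_mul_cancel, Units.val_one,
        Matrix.mulVecLin_one])

theorem glEquiv_coe (g : GL ι F) :
    ((glEquiv g : (ι → F) ≃ₗ[F] (ι → F)) : (ι → F) →ₗ[F] (ι → F)) =
      Matrix.mulVecLin (g : Matrix ι ι F) := rfl

/-- image of a subspace under an invertible matrix -/
abbrev gmap (g : GL ι F) (U : Submodule F (ι → F)) : Submodule F (ι → F) :=
  U.map (Matrix.mulVecLin (g : Matrix ι ι F))

theorem gmap_mul (g h : GL ι F) (U : Submodule F (ι → F)) :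
    gmap (g * h) U = gmap g (gmap h U) := by
  unfold gmap
  rw [Units.val_mul, Matrix.mulVecLin_mul, Submodule.map_comp]

theorem gmap_one (U : Submodule F (ι → F)) : gmap (1 : GL ι F) U = U := by
  unfold gmap
  rw [Units.val_one, Matrix.mulVecLin_one]
  exact Submodule.map_id U

theorem gmap_inv (g : GL ι F) (U W : Submodule F (ι → F)) (h : gmap g U = W) :
    gmap g⁻¹ W = U := by
  rw [← h, ← gmap_mul, inv_mul_cancel, gmap_one]

theorem finrank_gmap (g : GL ι F) (A : Submodule F (ι → F)) :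
    finrank F ↥(gmap g A) = finrank F ↥A := by
  unfold gmap
  rw [← glEquiv_coe]
  exact LinearEquiv.finrank_map_eq (glEquiv g) A

theorem finrank_gmap_inf (g : GL ι F) (A C : Submodule F (ι → F)) :
    finrank F ↥(gmap g A ⊓ gmap g C) = finrank F ↥(A ⊓ C) := by
  unfold gmap
  rw [← glEquiv_coe]
  exact TF.finrank_map_inf_map (glEquiv g) A C

section main

variable (h2 : (2 : F) ≠ 0) (Q : QuadraticForm F (ι → F))
  (hQ : (QuadraticMap.polarBilin Q).Nondegenerate) (m : ℕ) (hV : Fintype.card ι = 2 * m)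
  (Y : Submodule F (ι → F)) (hY : ∀ y ∈ Y, Q y = 0) (hYd : finrank F Y = m)

include hQ hV hY hYd

/-- every maximal totally singular subspace has dimension `m` -/
theorem maxTS_finrank (U : Submodule F (ι → F)) (hU : Cfsg.IsMaxTotallySingular (⇑Q) U) :
    finrank F U = m := by
  have hfr : finrank F (ι → F) = 2 * m := by rw [Module.finrank_fintype_fun_eq_card, hV]
  have hUts : TF.TS Q U := hU.1
  have hle : finrank F U ≤ m := TF.TS.finrank_le Q hQ m hfr hUts
  obtain ⟨Y', hY'le, hY'd⟩ := exists_le_finrank_eq_sub Y (k := finrank F U) (by rw [hYd]; exact hle)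
  obtain ⟨s, hs⟩ := exists_O_map_singular Q hQ Y' U hY'd (fun u hu => hY u (hY'le hu)) hU.1
  have hW : Cfsg.Geo.IsTotallySingularQuad (⇑Q) (omap (⇑Q) s Y) := by
    rintro w ⟨y, hy, rfl⟩
    rw [Matrix.mulVecLin_apply, O_isometry (⇑Q) s y]
    exact hY y hy
  have hUW : U ≤ omap (⇑Q) s Y := by
    rw [← hs]
    exact Submodule.map_mono hY'le
  have := hU.2 _ hW hUW
  rw [← this]
  exact (finrank_gmap (s : GL ι F) Y).trans hYd

include h2

/-- the class distance of a similarity, against a reference similarity fixing `Y` -/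
theorem parity_similarity (G G₀ : GL ι F) (μ : F) (hμ : μ ≠ 0)
    (hG : ∀ v, Q ((G : Matrix ι ι F) *ᵥ v) = μ * Q v)
    (hG₀ : ∀ v, Q ((G₀ : Matrix ι ι F) *ᵥ v) = μ * Q v) (hG₀Y : gmap G₀ Y = Y)
    (U : Submodule F (ι → F)) (hU : ∀ u ∈ U, Q u = 0) (hUd : finrank F U = m) :
    Even (m - finrank F ↥(U ⊓ gmap G U)) ↔
      (G : Matrix ι ι F).det = (G₀ : Matrix ι ι F).det := by
  obtain ⟨t, ht⟩ := exists_O_map_singular Q hQ Y U (hYd.trans hUd.symm) hY hU
  have htU : gmap (t : GL ι F) Y = U := ht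
  have hG₀inv : ∀ v, Q (((G₀⁻¹ : GL ι F) : Matrix ι ι F) *ᵥ v) = μ⁻¹ * Q v := by
    intro v
    have h := hG₀ (((G₀⁻¹ : GL ι F) : Matrix ι ι F) *ᵥ v)
    rw [Matrix.mulVec_mulVec, ← Units.val_mul, mul_inv_cancel, Units.val_one,
      Matrix.one_mulVec] at h
    rw [h, ← mul_assoc, inv_mul_cancel₀ hμ, one_mul]
  obtain ⟨S, hSdef⟩ : ∃ S : GL ι F, S = G₀⁻¹ * (t : GL ι F)⁻¹ * G * (t : GL ι F) := ⟨_, rfl⟩
  have hSiso : S ∈ Cfsg.isometryGroup F (⇑Q) := by
    rw [mem_isometryGroup_iff]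
    intro u
    rw [hSdef]
    simp only [Units.val_mul, ← Matrix.mulVec_mulVec]
    rw [hG₀inv]
    have h1 := O_isometry (⇑Q) t⁻¹
    rw [show (((t : GL ι F)⁻¹ : GL ι F) : Matrix ι ι F) =
      (((t⁻¹ : ↥(Cfsg.isometryGroup F (⇑Q))) : GL ι F) : Matrix ι ι F) from rfl, h1, hG,
      O_isometry (⇑Q) t, ← mul_assoc, inv_mul_cancel₀ hμ, one_mul]
  obtain ⟨l, hl, hA⟩ := isometry_eq_prod_reflectionMatrix h2 Q hQ _
    (O_isometry (⇑Q) ⟨S, hSiso⟩)
  have hpar := class_parity_iff Q hQ m hV Y hY hYd ⟨S, hSiso⟩ l hl hA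
  have hdetS : (S : Matrix ι ι F).det = (-1) ^ l.length := by
    have : (S : Matrix ι ι F) = (l.map (Cfsg.reflectionMatrix (⇑Q))).prod := hA
    rw [this, det_prod_reflection Q l hl]
  have hdetS' : (S : Matrix ι ι F).det * (G₀ : Matrix ι ι F).det = (G : Matrix ι ι F).det := by
    have e : G₀ * S * (t : GL ι F)⁻¹ = (t : GL ι F)⁻¹ * G := by
      rw [hSdef]; group
    have e2 := congrArg (fun x : GL ι F => (x : Matrix ι ι F).det) e
    simp only [Units.val_mul, Matrix.det_mul] at e2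
    have ht0 : (((t : GL ι F)⁻¹ : GL ι F) : Matrix ι ι F).det ≠ 0 := by
      have := Matrix.GeneralLinearGroup.det_ne_zero ((t : GL ι F)⁻¹)
      exact this
    have : (((t : GL ι F)⁻¹ : GL ι F) : Matrix ι ι F).det *
        ((S : Matrix ι ι F).det * (G₀ : Matrix ι ι F).det) =
        (((t : GL ι F)⁻¹ : GL ι F) : Matrix ι ι F).det * (G : Matrix ι ι F).det := by
      rw [← e2]; ring
    exact mul_left_cancel₀ ht0 this
  have hfin : finrank F ↥(Y ⊓ omap (⇑Q) ⟨S, hSiso⟩ Y) = finrank F ↥(U ⊓ gmap G U) := by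
    obtain ⟨E, hE⟩ : ∃ E : GL ι F, E = G₀⁻¹ * (t : GL ι F)⁻¹ := ⟨_, rfl⟩
    have e1 : omap (⇑Q) ⟨S, hSiso⟩ Y = gmap E (gmap G U) := by
      change gmap S Y = _
      rw [hSdef, hE, ← htU, ← gmap_mul, ← gmap_mul, mul_assoc, mul_assoc]
    have e2 : Y = gmap E U := by
      rw [hE, gmap_mul, gmap_inv _ _ _ htU, gmap_inv _ _ _ hG₀Y]
    have e3 : finrank F ↥(Y ⊓ omap (⇑Q) ⟨S, hSiso⟩ Y) =
        finrank F ↥(gmap E U ⊓ gmap E (gmap G U)) := by
      rw [e1, ← e2]
    rw [e3]
    exact finrank_gmap_inf E U (gmap G U)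
  rw [← hfin, hpar]
  have hG₀det : (G₀ : Matrix ι ι F).det ≠ 0 := Matrix.GeneralLinearGroup.det_ne_zero G₀
  constructor
  · intro he
    rw [← hdetS', hdetS, he.neg_one_pow, one_mul]
  · intro hdet
    by_contra hne
    have hodd : Odd l.length := Nat.not_even_iff_odd.mp hne
    rw [← hdetS', hdetS, hodd.neg_one_pow] at hdet
    have h3 : (-1 : F) = 1 := by
      have := mul_right_cancel₀ hG₀det (hdet.trans (one_mul _).symm)
      exact this
    apply h2
    linear_combination -h3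

/-- a similarity preserves the singular classes iff it has the determinant of the reference
similarity -/
theorem preservesSingularClasses_iff (G G₀ : GL ι F) (μ : F) (hμ : μ ≠ 0)
    (hG : ∀ v, Q ((G : Matrix ι ι F) *ᵥ v) = μ * Q v)
    (hG₀ : ∀ v, Q ((G₀ : Matrix ι ι F) *ᵥ v) = μ * Q v) (hG₀Y : gmap G₀ Y = Y) :
    Cfsg.PreservesSingularClasses (⇑Q) (G : Matrix ι ι F) ↔
      (G : Matrix ι ι F).det = (G₀ : Matrix ι ι F).det := by
  have hfr : finrank F (ι → F) = 2 * m := by rw [Module.finrank_fintype_fun_eq_card, hV]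
  constructor
  · intro hP
    have hYmax : Cfsg.IsMaxTotallySingular (⇑Q) Y := by
      refine ⟨hY, fun W hW hle => ?_⟩
      symm
      apply Submodule.eq_of_le_of_finrank_le hle
      rw [hYd]
      exact TF.TS.finrank_le Q hQ m hfr (W := W) hW
    have h1 := hP Y hYmax
    unfold Cfsg.SameParityClass Cfsg.imageSubmodule at h1
    rw [Matrix.toLin'_apply', hYd] at h1
    exact (parity_similarity h2 Q hQ m hV Y hY hYd G G₀ μ hμ hG hG₀ hG₀Y Y hY hYd).mp h1
  · intro hdet U hU
    have hUd := maxTS_finrank Q hQ m hV Y hY hYd U hU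
    unfold Cfsg.SameParityClass Cfsg.imageSubmodule
    rw [Matrix.toLin'_apply', hUd]
    exact (parity_similarity h2 Q hQ m hV Y hY hYd G G₀ μ hμ hG hG₀ hG₀Y U hU.1 hUd).mpr hdet

end main

end Cfsg.Agent.Lib.Helper50
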