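import Cfsg.Agent.Lib.Helper50.InndiagModInn
import Cfsg.Agent.Lib.Helper50.SingClass
import Cfsg.Agent.Lib.Helper08.SimStd
import Cfsg.Agent.Lib.Helper08.PowMod4
import Cfsg.Agent.S0790

set_option autoImplicit false

/-! `Inndiag(PΩ⁺_{2m}(q))` as the image of the similarities with `det = μ^m`. -/

namespace Cfsg.Agent.Lib.Helper50

open Matrix Module Cfsg.Agent.Lib.Helper19 Cfsg.Agent.Lib.Helper43 Cfsg.Agent.Lib.Helper08

universe u

section dil

variable {F : Type u} [Field F] (m : ℕ)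

/-- the matrix `(x, y) ↦ (μ x, y)` -/
def dilMat (μ : F) : Matrix (Fin m ⊕ Fin m) (Fin m ⊕ Fin m) F :=
  Matrix.fromBlocks (μ • 1) 0 0 1

theorem dilMat_mul (μ ν : F) : dilMat m μ * dilMat m ν = dilMat m (μ * ν) := by
  unfold dilMat
  rw [Matrix.fromBlocks_multiply]
  simp [smul_smul, mul_comm]

theorem dilMat_one : dilMat m (1 : F) = 1 := by
  unfold dilMat
  rw [one_smul, Matrix.fromBlocks_one]

theorem dilMat_mulVec (μ : F) (v : Fin m ⊕ Fin m → F) :
    dilMat m μ *ᵥ v = Sum.elim (fun i => μ * v (.inl i)) (fun i => v (.inr i)) := by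
  unfold dilMat
  rw [Matrix.fromBlocks_mulVec]
  funext c
  rcases c with i | i
  · simp [Matrix.smul_mulVec, Matrix.one_mulVec]
  · simp [Matrix.one_mulVec]

/-- `(x, y) ↦ (μ x, y)` as an invertible matrix -/
def dilGL (μ : Fˣ) : GL (Fin m ⊕ Fin m) F :=
  ⟨dilMat m (μ : F), dilMat m ((μ⁻¹ : Fˣ) : F), by
    rw [dilMat_mul, ← Units.val_mul, mul_inv_cancel, Units.val_one, dilMat_one], by
    rw [dilMat_mul, ← Units.val_mul, inv_mul_cancel, Units.val_one, dilMat_one]⟩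

theorem dilGL_val (μ : Fˣ) : ((dilGL m μ : GL (Fin m ⊕ Fin m) F) : Matrix _ _ F) =
    dilMat m (μ : F) := rfl

theorem quadFormPlus_dil (μ : F) (v : Fin m ⊕ Fin m → F) :
    Cfsg.quadFormPlus m F (dilMat m μ *ᵥ v) = μ * Cfsg.quadFormPlus m F v := by
  rw [dilMat_mulVec]
  unfold Cfsg.quadFormPlus
  rw [Finset.mul_sum]
  refine Finset.sum_congr rfl fun i _ => ?_
  simp only [Sum.elim_inl, Sum.elim_inr]
  ring

theorem det_dilMat (μ : F) : (dilMat m μ).det = μ ^ m := by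
  unfold dilMat
  rw [Matrix.det_fromBlocks_zero₂₁, Matrix.det_smul, Matrix.det_one,
    Fintype.card_fin, mul_one, mul_one]

theorem gmap_dilGL_kerInr (μ : Fˣ) : gmap (dilGL m μ) (kerInr F m) = kerInr F m := by
  apply Submodule.eq_of_le_of_finrank_eq
  · rintro w ⟨v, hv, rfl⟩
    rw [SetLike.mem_coe, LinearMap.mem_ker] at hv
    rw [LinearMap.mem_ker, Matrix.mulVecLin_apply, dilGL_val, dilMat_mulVec]
    funext i
    have := congrFun hv i
    simp only [LinearMap.funLeft_apply, Pi.zero_apply] at this ⊢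
    simpa using this
  · rw [finrank_gmap]

end dil

section main

variable {F : Type u} [Field F] [Fintype F] [DecidableEq F] (m : ℕ)

theorem preserves_plus_iff (h2 : (2 : F) ≠ 0) (Q : QuadraticForm F (Fin m ⊕ Fin m → F))
    (hcoe : ⇑Q = Cfsg.quadFormPlus m F) (hQ : (QuadraticMap.polarBilin Q).Nondegenerate)
    {u0 : Fin m ⊕ Fin m → F} (hu0 : Q u0 = 1)
    (g : ↥(Cfsg.Geo.quadSimilarityGroup (F := F) ⇑Q)) :
    Cfsg.PreservesSingularClasses (⇑Q) ((g : GL (Fin m ⊕ Fin m) F) : Matrix _ _ F) ↔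
      delta Q hu0 m g = 1 := by
  have hV : Fintype.card (Fin m ⊕ Fin m) = 2 * m := by
    rw [Fintype.card_sum, Fintype.card_fin]; ring
  have hY : ∀ y ∈ kerInr F m, Q y = 0 := by
    intro y hy
    have := kerInr_singular (F := F) (m := m) y hy
    rw [hcoe]
    exact this
  have hG₀ : ∀ v, Q (((dilGL m (multFun Q g) : GL _ F) : Matrix _ _ F) *ᵥ v) =
      (multFun Q g : F) * Q v := by
    intro v
    rw [hcoe, dilGL_val]
    exact quadFormPlus_dil m _ v
  rw [preservesSingularClasses_iff h2 Q hQ m hV (kerInr F m) hY finrank_kerInr (g : GL _ F)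
    (dilGL m (multFun Q g)) (multFun Q g : F) (Units.ne_zero _) (multFun_spec Q g) hG₀
    (gmap_dilGL_kerInr m _), dilGL_val, det_dilMat]
  constructor
  · intro h
    apply Units.ext
    rw [delta_apply]
    simp only [Units.val_mul, Units.val_pow_eq_pow_val, Units.val_inv_eq_inv_val, detGO_val,
      Units.val_one, h]
    rw [inv_pow, mul_inv_cancel₀ (pow_ne_zero _ (Units.ne_zero _))]
  · intro h
    have h1 := congrArg (fun x : Fˣ => (x : F)) h
    rw [delta_apply] at h1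
    simp only [Units.val_mul, Units.val_pow_eq_pow_val, Units.val_inv_eq_inv_val, detGO_val,
      Units.val_one] at h1
    have h0 : ((multFun Q g : F)) ^ m ≠ 0 := pow_ne_zero _ (Units.ne_zero _)
    rw [inv_pow] at h1
    field_simp at h1
    exact h1

theorem inndiagPlus_eq (h2 : (2 : F) ≠ 0) (Q : QuadraticForm F (Fin m ⊕ Fin m → F))
    (hcoe : ⇑Q = Cfsg.quadFormPlus m F) (hQ : (QuadraticMap.polarBilin Q).Nondegenerate)
    {u0 : Fin m ⊕ Fin m → F} (hu0 : Q u0 = 1) :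
    Subgroup.closure {β : MulAut (Cfsg.POmega F ⇑Q) |
        ∃ g : GL (Fin m ⊕ Fin m) F, g ∈ Cfsg.Geo.quadSimilarityGroup (F := F) ⇑Q ∧
          Cfsg.PreservesSingularClasses (⇑Q) (g : Matrix _ _ F) ∧
          Cfsg.IsInducedBySemilinearPOmega (⇑Q) g (RingEquiv.refl F) β} =
      (delta Q hu0 m).ker.map (autPO ⇑Q) := by
  have hset : {β : MulAut (Cfsg.POmega F ⇑Q) |
        ∃ g : GL (Fin m ⊕ Fin m) F, g ∈ Cfsg.Geo.quadSimilarityGroup (F := F) ⇑Q ∧
          Cfsg.PreservesSingularClasses (⇑Q) (g : Matrix _ _ F) ∧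
          Cfsg.IsInducedBySemilinearPOmega (⇑Q) g (RingEquiv.refl F) β} =
      (((delta Q hu0 m).ker.map (autPO ⇑Q) : Subgroup (MulAut (Cfsg.POmega F ⇑Q))) :
        Set (MulAut (Cfsg.POmega F ⇑Q))) := by
    ext β
    constructor
    · rintro ⟨g, hg, hP, hI⟩
      refine ⟨⟨g, hg⟩, ?_, ((isInduced_iff (⇑Q) g hg β).mp hI).symm⟩
      rw [SetLike.mem_coe, MonoidHom.mem_ker]
      exact (preserves_plus_iff m h2 Q hcoe hQ hu0 ⟨g, hg⟩).mp hP
    · rintro ⟨g, hg, rfl⟩
      rw [SetLike.mem_coe, MonoidHom.mem_ker] at hg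
      exact ⟨g.1, g.2, (preserves_plus_iff m h2 Q hcoe hQ hu0 g).mpr hg,
        (isInduced_iff (⇑Q) g.1 g.2 _).mpr rfl⟩
  rw [hset, Subgroup.closure_eq]

omit [Fintype F] [DecidableEq F] in
theorem det_swapMat (ζ : F) : (swapMat m ζ).det = (-1) ^ m * ζ ^ m := by
  have h : swapMat m ζ = dilMat m ζ * swapMat m 1 := by
    unfold swapMat dilMat
    rw [Matrix.fromBlocks_multiply]
    simp
  rw [h, Matrix.det_mul, det_dilMat]
  unfold swapMat
  rw [one_smul, det_hyp, Fintype.card_fin, mul_comm]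

set_option maxHeartbeats 1600000 in
/-- the structure of `Inndiag / Inn` for the plus-type groups -/
theorem inndiag_plus_main (hodd : Odd (Fintype.card F)) (hm : 4 ≤ m) :
    ∀ (q : (Fin m ⊕ Fin m → F) → F), Cfsg.quadFormPlus m F = q →
      ∀ P : Subgroup (MulAut (Cfsg.POmega F q)),
      P = Subgroup.closure {β : MulAut (Cfsg.POmega F q) |
        ∃ g : GL (Fin m ⊕ Fin m) F, g ∈ Cfsg.Geo.quadSimilarityGroup (F := F) q ∧
          Cfsg.PreservesSingularClasses q (g : Matrix _ _ F) ∧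
          Cfsg.IsInducedBySemilinearPOmega q g (RingEquiv.refl F) β} →
      ((Odd m ∧ Fintype.card F % 4 = 3) →
        ∃ φ : ↥P →* Multiplicative (ZMod 2), Function.Surjective φ ∧
          φ.ker = (Cfsg.Inn (Cfsg.POmega F q)).subgroupOf P) ∧
      ((Odd m ∧ Fintype.card F % 4 = 1) →
        ∃ φ : ↥P →* Multiplicative (ZMod 4), Function.Surjective φ ∧
          φ.ker = (Cfsg.Inn (Cfsg.POmega F q)).subgroupOf P) ∧
      (Even m →
        ∃ φ : ↥P →* Multiplicative (ZMod 2 × ZMod 2), Function.Surjective φ ∧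
          φ.ker = (Cfsg.Inn (Cfsg.POmega F q)).subgroupOf P) := by
  have hm3 : 3 ≤ m := by omega
  have hm1 : 1 ≤ m := by omega
  have h2 : (2 : F) ≠ 0 := two_ne_zero_of_odd_card rfl hodd
  obtain ⟨Q, hQdef⟩ : ∃ Q : QuadraticForm F (Fin m ⊕ Fin m → F), Q = (qdataPlus (F := F) m).qf :=
    ⟨_, rfl⟩
  have hcoe : ⇑Q = Cfsg.quadFormPlus m F := by rw [hQdef]; rfl
  have hQ : (QuadraticMap.polarBilin Q).Nondegenerate := by
    rw [hQdef]; exact (qdataPlus (F := F) m).qf_nondeg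
  obtain ⟨e, he⟩ : ∃ e : Fin 3 → (Fin m ⊕ Fin m → F),
      e = fun i => Pi.single (Sum.inl (Fin.castLE hm3 i)) 1 := ⟨_, rfl⟩
  obtain ⟨f, hf⟩ : ∃ f : Fin 3 → (Fin m ⊕ Fin m → F),
      f = fun i => Pi.single (Sum.inr (Fin.castLE hm3 i)) 1 := ⟨_, rfl⟩
  have HT : HypTriple Q e f := by
    rw [hQdef, he, hf]; exact hypTriple_plus (F := F) m hm3
  have hcard : Fintype.card (Fin m ⊕ Fin m) = 2 * m := by
    rw [Fintype.card_sum, Fintype.card_fin]; ring
  obtain ⟨ζ, hζ⟩ := exists_nonsquare_of_two_ne_zero h2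
  have hζ0 : ζ ≠ 0 := fun h => hζ (h ▸ ⟨0, by ring⟩)
  have hmem : swapGL m (Units.mk0 ζ hζ0) ∈ Cfsg.Geo.quadSimilarityGroup (F := F) ⇑Q := by
    rw [hcoe]; exact swapGL_mem m _
  have hu : Q (e 0 + f 0) = 1 := by
    rw [QuadraticMap.map_add (⇑Q), HT.qe 0, HT.qf 0, HT.ef]; simp
  have hmult : multFun Q ⟨_, hmem⟩ = Units.mk0 ζ hζ0 :=
    multFun_unique Q hu ⟨_, hmem⟩ _ (fun v => by
      have h1 := quadFormPlus_swap m ζ v
      rw [← hcoe] at h1
      exact h1)
  have hδ : delta Q hu m ⟨_, hmem⟩ = (-1) ^ m := by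
    apply Units.ext
    rw [delta_apply, hmult]
    simp only [Units.val_mul, Units.val_pow_eq_pow_val, Units.val_inv_eq_inv_val, detGO_val,
      Units.val_mk0, Units.val_neg, Units.val_one]
    change (swapMat m ζ).det * _ = _
    rw [det_swapMat, inv_pow, mul_assoc, mul_inv_cancel₀ (pow_ne_zero _ hζ0), mul_one]
  have hmain := inndiag_mod_inn Q m h2 hQ hcard e f HT hu ⟨_, hmem⟩
    (by rw [hmult]; exact hζ) ⟨ζ, swapMat_mul_self m ζ⟩ _
    (inndiagPlus_eq m h2 Q hcoe hQ hu)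
  have hcrit := Cfsg.Agent.S0790.result (F := F) rfl hodd m hm1
  rw [← hcoe] at hcrit
  have hq4 : Fintype.card F % 4 = 1 ∨ Fintype.card F % 4 = 3 := by
    rcases hodd with ⟨r, hr⟩
    omega
  have key : ∀ (q : (Fin m ⊕ Fin m → F) → F), ⇑Q = q →
      ∀ P : Subgroup (MulAut (Cfsg.POmega F q)),
      P = Subgroup.closure {β : MulAut (Cfsg.POmega F q) |
        ∃ g : GL (Fin m ⊕ Fin m) F, g ∈ Cfsg.Geo.quadSimilarityGroup (F := F) q ∧
          Cfsg.PreservesSingularClasses q (g : Matrix _ _ F) ∧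
          Cfsg.IsInducedBySemilinearPOmega q g (RingEquiv.refl F) β} →
      ((Odd m ∧ Fintype.card F % 4 = 3) →
        ∃ φ : ↥P →* Multiplicative (ZMod 2), Function.Surjective φ ∧
          φ.ker = (Cfsg.Inn (Cfsg.POmega F q)).subgroupOf P) ∧
      ((Odd m ∧ Fintype.card F % 4 = 1) →
        ∃ φ : ↥P →* Multiplicative (ZMod 4), Function.Surjective φ ∧
          φ.ker = (Cfsg.Inn (Cfsg.POmega F q)).subgroupOf P) ∧
      (Even m →
        ∃ φ : ↥P →* Multiplicative (ZMod 2 × ZMod 2), Function.Surjective φ ∧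
          φ.ker = (Cfsg.Inn (Cfsg.POmega F q)).subgroupOf P) := by
    rintro q rfl P rfl
    refine ⟨?_, ?_, ?_⟩
    · rintro ⟨hmo, h3⟩
      apply hmain.1
      rw [hcrit, pow_mod_four_of_mod_three_odd h3 hmo]
      norm_num
    · rintro ⟨hmo, h1⟩
      apply hmain.2.1
      · rw [hcrit]; exact pow_mod_four_of_mod_one h1 m
      · rw [hδ, hmo.neg_one_pow]
    · intro hme
      apply hmain.2.2
      · rw [hcrit]
        rcases hq4 with h1 | h3
        · exact pow_mod_four_of_mod_one h1 m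
        · exact pow_mod_four_of_mod_three_even h3 hme
      · rw [hδ, hme.neg_one_pow]
  intro q hq
  exact key q (hcoe.trans hq)

end main

end Cfsg.Agent.Lib.Helper50
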