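import Mathlib.GroupTheory.Perm.Cycle.Type

set_option autoImplicit false

namespace Cfsg.Agent.Lib.Helper50

open Equiv

/-- The sign of an involution is `(-1)^(|support|/2)`. -/
theorem sign_of_sq_eq_one {α : Type*} [Fintype α] [DecidableEq α] (σ : Perm α) (hσ : σ ^ 2 = 1) :
    Perm.sign σ = (-1) ^ (σ.support.card / 2) := by
  have hall : ∀ n ∈ σ.cycleType, n = 2 := by
    intro n hn
    exact le_antisymm
      (Nat.le_of_dvd zero_lt_two <|
        (Perm.dvd_of_mem_cycleType hn).trans <| orderOf_dvd_of_pow_eq_one hσ)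
      (Perm.two_le_of_mem_cycleType hn)
  obtain ⟨k, hk⟩ : ∃ k, σ.cycleType = Multiset.replicate k 2 :=
    ⟨_, Multiset.eq_replicate_card.mpr hall⟩
  have hsum : σ.support.card = 2 * k := by
    rw [← Perm.sum_cycleType, hk]
    simp [mul_comm]
  rw [Perm.sign_of_cycleType, hsum, hk]
  simp only [Multiset.sum_replicate, Multiset.card_replicate, smul_eq_mul]
  rw [Nat.mul_div_cancel_left _ (by norm_num : 0 < 2), pow_add, mul_comm k 2, pow_mul]
  norm_num


/-- If `σ` is a fixed-point-free involution and `τ` an involution, then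
`sign σ * sign τ = (-1)^(|Fix τ|/2)`. -/
theorem sign_mul_sign_of_free {α : Type*} [Fintype α] [DecidableEq α] (σ τ : Perm α)
    (hσ : σ ^ 2 = 1) (hτ : τ ^ 2 = 1) (hfree : ∀ x, σ x ≠ x) :
    Perm.sign σ * Perm.sign τ = (-1) ^ ((Finset.univ.filter (fun x => τ x = x)).card / 2) := by
  rw [sign_of_sq_eq_one σ hσ, sign_of_sq_eq_one τ hτ]
  have h1 : σ.support = Finset.univ := by
    ext x; simp [hfree x]
  have h2 : τ.support.card + (Finset.univ.filter (fun x => τ x = x)).card = Fintype.card α := by
    have : τ.support = Finset.univ.filter (fun x => ¬ (τ x = x)) := by ext x; simp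
    rw [this, add_comm]
    exact Finset.card_filter_add_card_filter_not (s := (Finset.univ : Finset α)) (fun x => τ x = x)
  obtain ⟨a, ha⟩ := Perm.two_dvd_card_support hσ
  obtain ⟨b, hb⟩ := Perm.two_dvd_card_support hτ
  rw [h1, Finset.card_univ] at ha
  set f := (Finset.univ.filter (fun x => τ x = x)).card with hf
  have hfe : f = 2 * (a - b) := by omega
  have hba : b ≤ a := by omega
  have hs : σ.support.card = 2 * a := by rw [h1, Finset.card_univ]; exact ha
  rw [hs, hb, hfe, Nat.mul_div_cancel_left _ (by norm_num : 0 < 2),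
    Nat.mul_div_cancel_left _ (by norm_num : 0 < 2),
    Nat.mul_div_cancel_left _ (by norm_num : 0 < 2), ← pow_add]
  have : a + b = (a - b) + 2 * b := by omega
  rw [this, pow_add, pow_mul]
  norm_num

end Cfsg.Agent.Lib.Helper50
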