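import Cfsg.Agent.Lib.Helper19.CartanDieudonne
import Cfsg.Agent.Lib.Helper50.SignInv
import Cfsg.Prelude.Def_Classical

set_option autoImplicit false

/-! Spinor norm over finite fields of odd order via signs of permutations on the "spheres"
`{v | Q v = c}`. -/

namespace Cfsg.Agent.Lib.Helper50

open Matrix Cfsg.Agent.Lib.Helper19

variable {ι : Type} [Fintype ι] [DecidableEq ι] {F : Type*} [Field F]

theorem O_isometry (Q : (ι → F) → F) (g : ↥(Cfsg.isometryGroup F Q)) (v : ι → F) :
    Q (((g : GL ι F) : Matrix ι ι F) *ᵥ v) = Q v :=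
  (mem_isometryGroup_iff Q g.1).1 g.2 v

/-- The permutation induced by an isometry on the sphere `{v | Q v = c}`. -/
def spherePerm (Q : (ι → F) → F) (c : F) (g : ↥(Cfsg.isometryGroup F Q)) :
    Equiv.Perm {v : ι → F // Q v = c} where
  toFun v := ⟨((g : GL ι F) : Matrix ι ι F) *ᵥ v.1, (O_isometry Q g v.1).trans v.2⟩
  invFun v := ⟨(((g⁻¹ : ↥(Cfsg.isometryGroup F Q)) : GL ι F) : Matrix ι ι F) *ᵥ v.1,
    (O_isometry Q g⁻¹ v.1).trans v.2⟩
  left_inv v := by
    apply Subtype.ext
    simp only [Subgroup.coe_inv, Matrix.mulVec_mulVec, ← Units.val_mul, inv_mul_cancel,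
      Units.val_one, Matrix.one_mulVec]
  right_inv v := by
    apply Subtype.ext
    simp only [Subgroup.coe_inv, Matrix.mulVec_mulVec, ← Units.val_mul, mul_inv_cancel,
      Units.val_one, Matrix.one_mulVec]

@[simp] theorem spherePerm_apply (Q : (ι → F) → F) (c : F) (g : ↥(Cfsg.isometryGroup F Q))
    (v : {v : ι → F // Q v = c}) :
    (spherePerm Q c g v : ι → F) = ((g : GL ι F) : Matrix ι ι F) *ᵥ v.1 := rfl

/-- The action on a sphere as a monoid hom. -/
def spherePermHom (Q : (ι → F) → F) (c : F) :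
    ↥(Cfsg.isometryGroup F Q) →* Equiv.Perm {v : ι → F // Q v = c} where
  toFun := spherePerm Q c
  map_one' := by
    ext v
    simp
  map_mul' g h := by
    ext v
    simp [Matrix.mulVec_mulVec]

/-! ### Reflections as elements of the isometry group -/

theorem reflectionMatrix_mul_self (Q : QuadraticForm F (ι → F)) (u : ι → F) (hu : Q u ≠ 0) :
    Cfsg.reflectionMatrix (⇑Q) u * Cfsg.reflectionMatrix (⇑Q) u = 1 := by
  apply (Matrix.toLinAlgEquiv' (R := F) (n := ι)).injective
  rw [map_mul, map_one]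
  change Matrix.toLin' _ * Matrix.toLin' _ = 1
  rw [toLin'_reflectionMatrix, reflLin_mul_self Q u hu]

open scoped Classical in
/-- The reflection in `u` as an element of `GL` (the identity if `Q u = 0`). -/
noncomputable def reflGL (Q : QuadraticForm F (ι → F)) (u : ι → F) : GL ι F :=
  if hu : Q u ≠ 0 then
    ⟨Cfsg.reflectionMatrix (⇑Q) u, Cfsg.reflectionMatrix (⇑Q) u,
      reflectionMatrix_mul_self Q u hu, reflectionMatrix_mul_self Q u hu⟩
  else 1

theorem reflGL_val (Q : QuadraticForm F (ι → F)) (u : ι → F) (hu : Q u ≠ 0) :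
    ((reflGL Q u : GL ι F) : Matrix ι ι F) = Cfsg.reflectionMatrix (⇑Q) u := by
  unfold reflGL
  rw [dif_pos hu]

theorem reflGL_mem (Q : QuadraticForm F (ι → F)) (u : ι → F) :
    reflGL Q u ∈ Cfsg.isometryGroup F (⇑Q) := by
  by_cases hu : Q u ≠ 0
  · rw [mem_isometryGroup_iff]
    intro x
    rw [reflGL_val Q u hu]
    exact reflectionMatrix_isometry Q u hu x
  · unfold reflGL
    rw [dif_neg hu]
    exact Subgroup.one_mem _

/-- The reflection in `u` as an element of the isometry group. -/
noncomputable def reflO (Q : QuadraticForm F (ι → F)) (u : ι → F) :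
    ↥(Cfsg.isometryGroup F (⇑Q)) := ⟨reflGL Q u, reflGL_mem Q u⟩

theorem reflO_val (Q : QuadraticForm F (ι → F)) (u : ι → F) (hu : Q u ≠ 0) :
    (((reflO Q u : ↥(Cfsg.isometryGroup F (⇑Q))) : GL ι F) : Matrix ι ι F) =
      Cfsg.reflectionMatrix (⇑Q) u := reflGL_val Q u hu

theorem reflO_mul_self (Q : QuadraticForm F (ι → F)) (u : ι → F) :
    reflO Q u * reflO Q u = 1 := by
  apply Subtype.ext
  apply Units.ext
  by_cases hu : Q u ≠ 0
  · simp only [Subgroup.coe_mul, Units.val_mul, reflO_val Q u hu, Subgroup.coe_one, Units.val_one]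
    exact reflectionMatrix_mul_self Q u hu
  · simp [reflO, reflGL, dif_neg hu]

/-- The matrix of an isometry, as a monoid hom. -/
def matHom (Q : (ι → F) → F) : ↥(Cfsg.isometryGroup F Q) →* Matrix ι ι F :=
  (Units.coeHom (Matrix ι ι F)).comp (Cfsg.isometryGroup F Q).subtype

theorem matHom_apply (Q : (ι → F) → F) (g : ↥(Cfsg.isometryGroup F Q)) :
    matHom Q g = ((g : GL ι F) : Matrix ι ι F) := rfl

theorem reflO_prod_val (Q : QuadraticForm F (ι → F)) (l : List (ι → F)) (hl : ∀ u ∈ l, Q u ≠ 0) :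
    ((((l.map (reflO Q)).prod : ↥(Cfsg.isometryGroup F (⇑Q))) : GL ι F) : Matrix ι ι F) =
      (l.map (fun v => Cfsg.reflectionMatrix (⇑Q) v)).prod := by
  rw [← matHom_apply, map_list_prod, List.map_map]
  congr 1
  apply List.map_congr_left
  intro u hu
  exact reflO_val Q u (hl u hu)

theorem O_ext (Q : (ι → F) → F) (g h : ↥(Cfsg.isometryGroup F Q))
    (hgh : ((g : GL ι F) : Matrix ι ι F) = ((h : GL ι F) : Matrix ι ι F)) : g = h :=
  Subtype.ext (Units.ext hgh)

/-! ### The sign character on a sphere -/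

section theta

variable [Fintype F]

open scoped Classical in
/-- The sign of the permutation induced on the sphere `{v | Q v = c}`. -/
noncomputable def theta (Q : (ι → F) → F) (c : F) : ↥(Cfsg.isometryGroup F Q) →* ℤˣ :=
  Equiv.Perm.sign.comp (spherePermHom Q c)

/-- Negation on a sphere. -/
def negPerm (Q : QuadraticForm F (ι → F)) (c : F) : Equiv.Perm {v : ι → F // Q v = c} where
  toFun v := ⟨-v.1, by rw [QuadraticMap.map_neg]; exact v.2⟩
  invFun v := ⟨-v.1, by rw [QuadraticMap.map_neg]; exact v.2⟩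
  left_inv v := by simp
  right_inv v := by simp

@[simp] theorem negPerm_apply (Q : QuadraticForm F (ι → F)) (c : F) (v : {v : ι → F // Q v = c}) :
    (negPerm Q c v : ι → F) = -v.1 := rfl

/-- number of square roots -/
theorem card_sq_eq (h2 : (2 : F) ≠ 0) [DecidableEq F] (c a : F) (hc : c ≠ 0) (ha : a ≠ 0) :
    (Finset.univ.filter (fun t : F => t ^ 2 * a = c)).card = if IsSquare (c * a) then 2 else 0 := by
  split_ifs with h
  · obtain ⟨r, hr⟩ := h
    set d := r / a with hd
    have hd2 : d ^ 2 * a = c := by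
      rw [hd]; field_simp; rw [sq, ← hr]; ring
    have hd0 : d ≠ 0 := by
      intro h0; rw [h0] at hd2; apply hc; rw [← hd2]; ring
    have hset : Finset.univ.filter (fun t : F => t ^ 2 * a = c) = {d, -d} := by
      ext t
      simp only [Finset.mem_filter, Finset.mem_univ, true_and, Finset.mem_insert,
        Finset.mem_singleton]
      constructor
      · intro ht
        have : t ^ 2 = d ^ 2 := by
          apply mul_right_cancel₀ ha; rw [ht, hd2]
        exact sq_eq_sq_iff_eq_or_eq_neg.mp this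
      · rintro (rfl | rfl)
        · exact hd2
        · rw [neg_sq]; exact hd2
    rw [hset, Finset.card_pair]
    intro h
    have : (2 : F) * d = 0 := by linear_combination h
    rcases mul_eq_zero.mp this with h | h
    · exact h2 h
    · exact hd0 h
  · rw [Finset.card_eq_zero, Finset.filter_eq_empty_iff]
    intro t _ ht
    apply h
    refine ⟨t * a, ?_⟩
    rw [← ht]; ring

/-- the `-1`-eigenvectors of a reflection are the multiples of `u` -/
theorem neg_refl_eq_iff (h2 : (2 : F) ≠ 0) (Q : QuadraticForm F (ι → F)) (u x : ι → F)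
    (hu : Q u ≠ 0) :
    -(Cfsg.reflectionMatrix (⇑Q) u *ᵥ x) = x ↔ ∃ t : F, x = t • u := by
  rw [reflectionMatrix_mulVec]
  constructor
  · intro h
    refine ⟨((Q u)⁻¹ * QuadraticMap.polar (⇑Q) u x) / 2, ?_⟩
    have h' : ((Q u)⁻¹ * QuadraticMap.polar (⇑Q) u x) • u = (2 : F) • x := by
      rw [two_smul]
      have := congrArg (fun y => y + x + ((Q u)⁻¹ * QuadraticMap.polar (⇑Q) u x) • u) h
      rw [← sub_eq_zero] at this ⊢
      rw [← this]
      abel
    rw [div_eq_mul_inv, mul_comm, mul_smul, h', smul_smul, inv_mul_cancel₀ h2, one_smul]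
  · rintro ⟨t, rfl⟩
    rw [QuadraticMap.polar_smul_right, QuadraticMap.polar_self]
    have : (Q u)⁻¹ * t • 2 • Q u = 2 * t := by
      simp only [smul_eq_mul, nsmul_eq_mul, Nat.cast_ofNat]
      field_simp
    rw [this]
    rw [← sub_smul, ← neg_smul]
    congr 1
    ring

open scoped Classical in
/-- The value of the sign character on a reflection. -/
theorem theta_reflO (h2 : (2 : F) ≠ 0) (Q : QuadraticForm F (ι → F)) (c : F) (hc : c ≠ 0)
    (u : ι → F) (hu : Q u ≠ 0) :
    theta (⇑Q) c (reflO Q u) = if IsSquare (c * Q u) then -1 else 1 := by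
  set σ := negPerm Q c with hσ
  set ρ := spherePerm (⇑Q) c (reflO Q u) with hρ
  set τ := σ * ρ with hτ
  have hσ2 : σ ^ 2 = 1 := by
    ext v; simp [σ, sq]
  have hcomm : σ * ρ = ρ * σ := by
    ext v; simp [σ, ρ, Matrix.mulVec_neg]
  have hρ2 : ρ ^ 2 = 1 := by
    have : ρ = spherePermHom (⇑Q) c (reflO Q u) := rfl
    rw [this, sq, ← map_mul, reflO_mul_self, map_one]
  have hτ2 : τ ^ 2 = 1 := by
    rw [hτ, sq, mul_assoc, ← mul_assoc ρ, ← hcomm, mul_assoc, ← sq ρ, hρ2, mul_one, ← sq, hσ2]
  have hρτ : ρ = σ * τ := by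
    rw [hτ, ← mul_assoc, ← sq, hσ2, one_mul]
  have hfree : ∀ x, σ x ≠ x := by
    intro x hx
    have h1 : -x.1 = x.1 := congrArg Subtype.val hx
    have h3 : (2 : F) • x.1 = 0 := by
      rw [two_smul]
      nth_rewrite 1 [← h1]
      exact neg_add_cancel _
    have h4 : x.1 = 0 := by
      rcases smul_eq_zero.mp h3 with h | h
      · exact absurd h h2
      · exact h
    have := x.2
    rw [h4, map_zero] at this
    exact hc this.symm
  have hkey := sign_mul_sign_of_free σ τ hσ2 hτ2 hfree
  have hcard : (Finset.univ.filter (fun x => τ x = x)).card =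
      if IsSquare (c * Q u) then 2 else 0 := by
    rw [← card_sq_eq h2 c (Q u) hc hu]
    symm
    refine Finset.card_bij (fun t ht => ⟨t • u, ?_⟩) ?_ ?_ ?_
    · rw [Finset.mem_filter] at ht
      rw [QuadraticMap.map_smul, smul_eq_mul, ← sq]
      exact ht.2
    · intro t ht
      rw [Finset.mem_filter]
      refine ⟨Finset.mem_univ _, ?_⟩
      apply Subtype.ext
      rw [hτ]
      simp only [Equiv.Perm.coe_mul, Function.comp_apply, negPerm_apply, σ, ρ, spherePerm_apply,
        reflO_val Q u hu]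
      exact (neg_refl_eq_iff h2 Q u (t • u) hu).mpr ⟨t, rfl⟩
    · intro t₁ _ t₂ _ h
      have h' : t₁ • u = t₂ • u := congrArg Subtype.val h
      have hu0 : u ≠ 0 := by
        intro h0; rw [h0, map_zero] at hu; exact hu rfl
      rw [← sub_eq_zero, ← sub_smul] at h'
      rcases smul_eq_zero.mp h' with h | h
      · exact sub_eq_zero.mp h
      · exact absurd h hu0
    · intro x hx
      rw [Finset.mem_filter] at hx
      have h1 : (τ x : ι → F) = x.1 := congrArg Subtype.val hx.2
      rw [hτ] at h1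
      simp only [Equiv.Perm.coe_mul, Function.comp_apply, negPerm_apply, σ, ρ, spherePerm_apply,
        reflO_val Q u hu] at h1
      obtain ⟨t, ht⟩ := (neg_refl_eq_iff h2 Q u x.1 hu).mp h1
      refine ⟨t, ?_, ?_⟩
      · rw [Finset.mem_filter]
        refine ⟨Finset.mem_univ _, ?_⟩
        have := x.2
        rw [ht, QuadraticMap.map_smul, smul_eq_mul, ← sq] at this
        exact this
      · apply Subtype.ext
        exact ht.symm
  unfold theta
  rw [MonoidHom.comp_apply]
  change Equiv.Perm.sign ρ = _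
  rw [hρτ, map_mul, hkey, hcard]
  split_ifs <;> simp

end theta

end Cfsg.Agent.Lib.Helper50
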