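import Cfsg.Agent.Lib.Helper26.LangGOf

set_option autoImplicit false

/-!
# Cosets of a field automorphism with a twisted base point (any characteristic)

The version of `Helper26.LangGO.coset_conj_of_lang_ker` for the coset of `autPO t * fieldAutPO σ`
(for instance `t` a `σ`-fixed reflection: the graph-field automorphisms).
-/

namespace Cfsg.Agent.Lib.Helper50

open Matrix Cfsg.Agent.Lib.Helper08 Cfsg.Agent.Lib.Helper07 Cfsg.Agent.Lib.Helper26.LangGO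

universe u

variable {F : Type u} [Field F] [Fintype F] {ι : Type} [Fintype ι] [DecidableEq ι]

theorem coset_conj_tw [Nonempty ι] (Q : QuadraticForm F (ι → F))
    (hker : ∀ z : ↥(Cfsg.Geo.quadSimilarityGroup (F := F) ⇑Q),
      autPO ⇑Q z = 1 ↔ ∃ c : F, ((z : GL ι F) : Matrix ι ι F) = c • 1)
    (I : Subgroup ↥(Cfsg.Geo.quadSimilarityGroup (F := F) ⇑Q))
    (hscal : ∀ z : ↥(Cfsg.Geo.quadSimilarityGroup (F := F) ⇑Q),
      (∃ c : F, ((z : GL ι F) : Matrix ι ι F) = c • 1) → z ∈ I)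
    (σ : ↥(compatAut ⇑Q)) {r : ℕ} (hr : 0 < r) (hσ : orderOf σ = r)
    (t : ↥(Cfsg.Geo.quadSimilarityGroup (F := F) ⇑Q))
    (hLang : ∀ g : ↥(Cfsg.Geo.quadSimilarityGroup (F := F) ⇑Q), g ∈ I →
        twP σ.1 (((g * t : ↥(Cfsg.Geo.quadSimilarityGroup (F := F) ⇑Q)) : GL ι F) :
          Matrix ι ι F) r = 1 →
        ∃ Y : ↥(Cfsg.Geo.quadSimilarityGroup (F := F) ⇑Q), Y ∈ I ∧
          (g * t) * sigmaGO ⇑Q σ Y = Y * t)
    (g : ↥(Cfsg.Geo.quadSimilarityGroup (F := F) ⇑Q)) (hgI : g ∈ I)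
    (hpow : (autPO ⇑Q (g * t) * fieldAutPO ⇑Q σ) ^ r = 1) :
    ∃ Y : ↥(Cfsg.Geo.quadSimilarityGroup (F := F) ⇑Q), Y ∈ I ∧
      autPO ⇑Q (g * t) * fieldAutPO ⇑Q σ =
        autPO ⇑Q Y * (autPO ⇑Q t * fieldAutPO ⇑Q σ) * (autPO ⇑Q Y)⁻¹ := by
  have hσr : σ ^ r = 1 := by rw [← hσ]; exact pow_orderOf_eq_one σ
  have hσr' : (σ.1 : RingAut F) ^ r = 1 := by
    have := congrArg Subtype.val hσr
    rwa [Subgroup.coe_pow] at this
  have hσ' : orderOf (σ.1 : RingAut F) = r := by rw [← hσ]; exact Subgroup.orderOf_coe σ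
  have h1 : autPO ⇑Q (twG ⇑Q σ (g * t) r) = 1 := by
    have := pow_coset ⇑Q σ (g * t) r
    rw [hpow, hσr, map_one, mul_one] at this
    exact this.symm
  obtain ⟨l, hl⟩ := (hker _).mp h1
  rw [twG_val] at hl
  have hgu : IsUnit (((g * t : ↥(Cfsg.Geo.quadSimilarityGroup (F := F) ⇑Q)) : GL ι F) :
      Matrix ι ι F) := Units.isUnit _
  have hlfix : σ.1 l = l := twP_scalar_fixed σ.1 hσr' _ hgu l hl
  have hl0 : l ≠ 0 := by
    rintro rfl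
    rw [zero_smul, ← twG_val] at hl
    have hu : IsUnit (((twG ⇑Q σ (g * t) r : ↥(Cfsg.Geo.quadSimilarityGroup (F := F) ⇑Q)) :
        GL ι F) : Matrix ι ι F) := Units.isUnit _
    rw [hl] at hu
    exact not_isUnit_zero hu
  obtain ⟨c, hc0, hc⟩ := nrmF_surjective σ.1 hσ' hr l⁻¹ (inv_ne_zero hl0)
    (by rw [map_inv₀, hlfix])
  obtain ⟨z, hz⟩ := exists_scalar_sim Q c hc0
  have hzI : z ∈ I := hscal z ⟨c, hz⟩
  have hzg : (((z * g * t : ↥(Cfsg.Geo.quadSimilarityGroup (F := F) ⇑Q)) : GL ι F) :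
      Matrix ι ι F) = c • (((g * t : ↥(Cfsg.Geo.quadSimilarityGroup (F := F) ⇑Q)) : GL ι F) :
        Matrix ι ι F) := by
    rw [mul_assoc, Subgroup.coe_mul, Units.val_mul, hz, Matrix.smul_mul, Matrix.one_mul]
  have htw : twP σ.1 (((z * g * t : ↥(Cfsg.Geo.quadSimilarityGroup (F := F) ⇑Q)) : GL ι F) :
      Matrix ι ι F) r = 1 := by
    rw [hzg, twP_smul, hc, hl, smul_smul, inv_mul_cancel₀ hl0, one_smul]
  obtain ⟨Y, hYI, hY⟩ := hLang (z * g) (I.mul_mem hzI hgI) htw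
  have hz1 : autPO ⇑Q z = 1 := (hker z).mpr ⟨c, hz⟩
  refine ⟨Y, hYI, ?_⟩
  have e1 : autPO ⇑Q Y * (autPO ⇑Q t * fieldAutPO ⇑Q σ) * (autPO ⇑Q Y)⁻¹ =
      autPO ⇑Q (Y * t * Y⁻¹) * (autPO ⇑Q Y * fieldAutPO ⇑Q σ * (autPO ⇑Q Y)⁻¹) := by
    rw [map_mul, map_mul, map_inv]
    group
  have e2 : Y * t * Y⁻¹ * (Y * (sigmaGO ⇑Q σ Y)⁻¹) = z * (g * t) := by
    have h3 : z * g * t = Y * t * (sigmaGO ⇑Q σ Y)⁻¹ := eq_mul_inv_of_mul_eq hY
    rw [← mul_assoc z, h3]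
    group
  rw [e1, conj_fieldAutPO, ← mul_assoc, ← map_mul, e2, map_mul (autPO ⇑Q) z, hz1, one_mul]

end Cfsg.Agent.Lib.Helper50
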