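import Cfsg.Agent.Lib.Helper50.PlusLangB
import Cfsg.Agent.Lib.Helper50.PlusCoset
import Cfsg.Agent.Lib.Helper50.PlusKer
import Cfsg.Agent.Lib.Helper07.OrthV

set_option autoImplicit false

/-!
# `PΩ⁺_{2m}(F)`, `m ≥ 5`: the cosets of field and graph-field automorphisms of prime order
(every characteristic)
-/

namespace Cfsg.Agent.Lib.Helper50

open Matrix Cfsg.Agent.Lib.Helper08 Cfsg.Agent.Lib.Helper26.LangGO

universe u

variable {F : Type u} [Field F] [Fintype F] (m : ℕ)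

theorem orderOf_conj' {G : Type*} [Group G] (a y : G) : orderOf (a * y * a⁻¹) = orderOf y :=
  (MulAut.conj a).orderOf_eq y

omit [Fintype F] in
/-- scalars preserve the classes -/
theorem scalar_mem_clsPlus (hm : 1 ≤ m) (z : SimPlus m F)
    (h : ∃ c : F, ((z : GL (Fin m ⊕ Fin m) F) : Matrix (Fin m ⊕ Fin m) (Fin m ⊕ Fin m) F) = c • 1) :
    z ∈ clsPlus m := by
  obtain ⟨c, hc⟩ := h
  have hc0 : c ≠ 0 := by
    rintro rfl
    have h1 : ((z : GL (Fin m ⊕ Fin m) F) : Matrix (Fin m ⊕ Fin m) (Fin m ⊕ Fin m) F) *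
        (((z : GL (Fin m ⊕ Fin m) F)⁻¹ : GL (Fin m ⊕ Fin m) F) :
          Matrix (Fin m ⊕ Fin m) (Fin m ⊕ Fin m) F) = 1 := Units.mul_inv _
    rw [hc, zero_smul, Matrix.zero_mul] at h1
    have h2 := congrFun (congrFun h1 (Sum.inl ⟨0, hm⟩)) (Sum.inl ⟨0, hm⟩)
    rw [Matrix.zero_apply, Matrix.one_apply_eq] at h2
    exact zero_ne_one h2
  rw [mem_clsPlus_iff]
  intro U _
  unfold Cfsg.SameParityClass Cfsg.imageSubmodule
  rw [hc]
  have : Matrix.toLin' (c • (1 : Matrix (Fin m ⊕ Fin m) (Fin m ⊕ Fin m) F)) =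
      c • (LinearMap.id : (Fin m ⊕ Fin m → F) →ₗ[F] (Fin m ⊕ Fin m → F)) := by
    rw [map_smul, Matrix.toLin'_one]
  rw [this, Submodule.map_smul _ _ _ hc0, Submodule.map_id, inf_idem, Nat.sub_self]
  exact Even.zero

/-- the core statement, after conjugating the class representative to standard form -/
theorem plus_coset_core (hm : 5 ≤ m) (σ : ↥(compatAut (Cfsg.quadFormPlus m F))) (hσ1 : σ ≠ 1)
    (t : SimPlus m F) (htσ : sigmaGO (Cfsg.quadFormPlus m F) σ t = t)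
    (ht2 : t = 1 ∨ (t ∉ clsPlus m ∧ t * t = 1))
    {r : ℕ} (hr : r.Prime)
    (hxr : orderOf (autPO (Cfsg.quadFormPlus m F) t * fieldAutPO (Cfsg.quadFormPlus m F) σ) = r)
    (g : SimPlus m F) (hg : g ∈ clsPlus m)
    (hord : orderOf (autPO (Cfsg.quadFormPlus m F) g *
      (autPO (Cfsg.quadFormPlus m F) t * fieldAutPO (Cfsg.quadFormPlus m F) σ)) = r) :
    ∃ Y : SimPlus m F, Y ∈ clsPlus m ∧
      autPO (Cfsg.quadFormPlus m F) g *
        (autPO (Cfsg.quadFormPlus m F) t * fieldAutPO (Cfsg.quadFormPlus m F) σ) =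
      autPO (Cfsg.quadFormPlus m F) Y *
        (autPO (Cfsg.quadFormPlus m F) t * fieldAutPO (Cfsg.quadFormPlus m F) σ) *
        (autPO (Cfsg.quadFormPlus m F) Y)⁻¹ := by
  have hm1 : 1 ≤ m := by omega
  haveI : Nonempty (Fin m ⊕ Fin m) := ⟨Sum.inl ⟨0, hm1⟩⟩
  have C : Cfsg.Agent.Lib.Helper07.OG.OC (QPlus m F) :=
    ⟨QPlus_nondegenerate, by rw [card_plus_index]; omega⟩
  have hker := autPO_eq_one_iff_OC (QPlus m F) C
  have hpowx : (autPO (Cfsg.quadFormPlus m F) t * fieldAutPO (Cfsg.quadFormPlus m F) σ) ^ r = 1 := by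
    rw [← hxr]; exact pow_orderOf_eq_one _
  rw [pow_coset] at hpowx
  have hσr : σ ^ r = 1 := by
    have h0 : fieldAutPO (Cfsg.quadFormPlus m F) (σ ^ r) =
        autPO (Cfsg.quadFormPlus m F) ((twG (Cfsg.quadFormPlus m F) σ t r)⁻¹) := by
      rw [map_inv]
      exact eq_inv_of_mul_eq_one_right hpowx
    exact fieldAutPO_eq_autPO_imp_OC (QPlus m F) C (σ ^ r) _ h0
  have hσord : orderOf σ = r := by
    have hdvd := orderOf_dvd_of_pow_eq_one hσr
    rcases (Nat.dvd_prime hr).mp hdvd with h | h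
    · exact absurd (orderOf_eq_one_iff.mp h) hσ1
    · exact h
  have h1 : autPO (Cfsg.quadFormPlus m F) (twG (Cfsg.quadFormPlus m F) σ t r) = 1 := by
    rw [hσr, map_one, mul_one] at hpowx
    exact hpowx
  have htw : twP σ.1 (matOf m t) r = 1 := by
    rcases ht2 with ht1 | ⟨htn, htt⟩
    · rw [twP_of_fixed m σ t htσ, ht1, one_pow]
      rfl
    · obtain ⟨l, hl⟩ := (hker _).mp h1
      rw [twG_val] at hl
      have hl' : matOf m (t ^ r) = l • 1 := by
        rw [← twP_of_fixed m σ t htσ]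
        exact hl
      have htr : t ^ r ∈ clsPlus m := scalar_mem_clsPlus m hm1 _ ⟨l, hl'⟩
      rw [twP_of_fixed m σ t htσ]
      rcases hr.eq_two_or_odd' with h2 | hodd
      · rw [h2, pow_two, htt]
        rfl
      · exfalso
        obtain ⟨j, hj⟩ := hodd
        have : t ^ r = t := by
          rw [hj, pow_succ, pow_mul, pow_two, htt, one_pow, one_mul]
        rw [this] at htr
        exact htn htr
  have hpow : (autPO (Cfsg.quadFormPlus m F) (g * t) *
      fieldAutPO (Cfsg.quadFormPlus m F) σ) ^ r = 1 := by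
    rw [map_mul, mul_assoc, ← hord]
    exact pow_orderOf_eq_one _
  obtain ⟨w, hw, hwσ, hwt⟩ : ∃ w : SimPlus m F, w ∉ clsPlus m ∧
      sigmaGO (Cfsg.quadFormPlus m F) σ w = w ∧ w * t = t * w := by
    rcases ht2 with ht1 | ⟨htn, -⟩
    · exact ⟨tStd m hm1, tStd_not_mem m hm1, sigmaGO_tStd m hm1 σ, by rw [ht1, mul_one, one_mul]⟩
    · exact ⟨t, htn, htσ, rfl⟩
  have hLang : ∀ g' : SimPlus m F, g' ∈ clsPlus m → twP σ.1 (matOf m (g' * t)) r = 1 →
      ∃ Y : SimPlus m F, Y ∈ clsPlus m ∧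
        (g' * t) * sigmaGO (Cfsg.quadFormPlus m F) σ Y = Y * t :=
    fun g' hg' htw' => lang_clsPlus_tw m hm1 σ hσord hr.pos t htw w hw hwσ hwt g' hg' htw'
  obtain ⟨Y, hY, hconj⟩ := coset_conj_tw (QPlus m F) hker (clsPlus m)
    (scalar_mem_clsPlus m hm1) σ hr.pos hσord t hLang g hg hpow
  refine ⟨Y, hY, ?_⟩
  rw [← mul_assoc, ← map_mul]
  exact hconj

/-- **`PΩ⁺_{2m}(F)`, cosets of field and graph-field automorphisms of prime order.** -/
theorem plus_coset_main {m : ℕ} (hm : 5 ≤ m)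
    (x δ : MulAut (Cfsg.POmega F (Cfsg.quadFormPlus m F)))
    (hx : Cfsg.IsFieldAutClassPOmega (Cfsg.quadFormPlus m F) x ∨
      Cfsg.IsGraphFieldAutClassPOmegaPlus m x) {r : ℕ} (hr : r.Prime)
    (hxr : orderOf x = r) (hδ : δ ∈ Cfsg.inndiagPOmegaPlus m F) :
    orderOf (δ * x) = r ↔ Cfsg.IsConjUnder (Cfsg.inndiagPOmegaPlus m F) x (δ * x) := by
  have hm1 : 1 ≤ m := by omega
  constructor
  · intro hord
    have hAut := Cfsg.Agent.Lib.Helper07.OG.gamma_plus_eq_top (F := F) hm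
    have hN := inndiagPOmegaPlus_normal m hAut
    obtain ⟨α, σ, hσ1, t, htσ, ht2, hαx⟩ :
        ∃ (α : MulAut (Cfsg.POmega F (Cfsg.quadFormPlus m F)))
          (σ : ↥(compatAut (Cfsg.quadFormPlus m F))), σ ≠ 1 ∧ ∃ t : SimPlus m F,
            sigmaGO (Cfsg.quadFormPlus m F) σ t = t ∧ (t = 1 ∨ (t ∉ clsPlus m ∧ t * t = 1)) ∧
            α * x * α⁻¹ = autPO (Cfsg.quadFormPlus m F) t *
              fieldAutPO (Cfsg.quadFormPlus m F) σ := by
      rcases hx with ⟨α, φ, σ, hσ, hφ, hα⟩ | ⟨α, γ, φ, σ, v, r₀, hσ, hv, hfix, hr₀, hγ, hφ, hα⟩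
      · refine ⟨α, ⟨σ, compat_plus m σ⟩, ?_, 1, ?_, Or.inl rfl, ?_⟩
        · intro h
          exact hσ (congrArg Subtype.val h)
        · apply matOf_ext
          rw [matOf_sigmaGO]
          exact map_one_ra σ
        · rw [hα, map_one, one_mul]
          exact (isFieldAut_iff _ σ (compat_plus m σ) φ).mp hφ
      · have hv' : QPlus m F v ≠ 0 := hv
        refine ⟨α, ⟨σ, compat_plus m σ⟩, ?_, reflGO (QPlus m F) v hv', ?_, Or.inr ⟨?_, ?_⟩, ?_⟩
        · intro h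
          exact hσ (congrArg Subtype.val h)
        · exact sigmaGO_reflGO (QPlus m F) ⟨σ, compat_plus m σ⟩ v hv' hfix
        · exact reflection_not_mem_clsPlus m hm1 _ v hv rfl
        · exact reflGO_mul_self (QPlus m F) v hv'
        · rw [hα]
          have e : r₀ = ((reflGO (QPlus m F) v hv' : SimPlus m F) : GL (Fin m ⊕ Fin m) F) :=
            Units.ext hr₀
          subst e
          have h1 := (isInduced_iff (Cfsg.quadFormPlus m F) _
            (reflGO (QPlus m F) v hv' : SimPlus m F).2 γ).mp hγ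
          have h2 := (isFieldAut_iff _ σ (compat_plus m σ) φ).mp hφ
          rw [h1, h2]
          rfl
    have hδ' : α * δ * α⁻¹ ∈ Cfsg.inndiagPOmegaPlus m F := hN.conj_mem δ hδ α
    rw [inndiagPOmegaPlus_eq] at hδ'
    obtain ⟨g, hg, hgδ⟩ := hδ'
    have hx' : orderOf (autPO (Cfsg.quadFormPlus m F) t *
        fieldAutPO (Cfsg.quadFormPlus m F) σ) = r := by
      rw [← hαx, orderOf_conj']
      exact hxr
    have hord' : orderOf (autPO (Cfsg.quadFormPlus m F) g *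
        (autPO (Cfsg.quadFormPlus m F) t * fieldAutPO (Cfsg.quadFormPlus m F) σ)) = r := by
      rw [hgδ, ← hαx]
      have : α * δ * α⁻¹ * (α * x * α⁻¹) = α * (δ * x) * α⁻¹ := by group
      rw [this, orderOf_conj']
      exact hord
    obtain ⟨Y, hY, hconj⟩ := plus_coset_core m hm σ hσ1 t htσ ht2 hr hx' g hg hord'
    refine ⟨α⁻¹ * autPO (Cfsg.quadFormPlus m F) Y * α, ?_, ?_⟩
    · have h1 : autPO (Cfsg.quadFormPlus m F) Y ∈ Cfsg.inndiagPOmegaPlus m F := by
        rw [inndiagPOmegaPlus_eq]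
        exact ⟨Y, hY, rfl⟩
      have h2 := hN.conj_mem _ h1 α⁻¹
      rwa [inv_inv] at h2
    · rw [hgδ, ← hαx] at hconj
      have h3 : δ * x = α⁻¹ * (α * δ * α⁻¹ * (α * x * α⁻¹)) * α := by group
      rw [h3, hconj]
      group
  · rintro ⟨h, -, hy⟩
    rw [hy, orderOf_conj']
    exact hxr

end Cfsg.Agent.Lib.Helper50
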