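import Cfsg.Agent.Lib.Helper50.MinusCore

set_option autoImplicit false

/-!
# Transport of the coset statement along an isomorphism of the simple groups
-/

namespace Cfsg.Agent.Lib.Helper50

open Matrix Cfsg.Agent.Lib.Helper08

universe u

section generic

variable {T T' : Type*} [Group T] [Group T']

theorem congr_conj (ψ : T ≃* T') (t : T) :
    MulAut.congr ψ (MulAut.conj t) = MulAut.conj (ψ t) := by
  ext y
  change ψ (t * ψ.symm y * t⁻¹) = ψ t * y * (ψ t)⁻¹
  rw [map_mul, map_mul, map_inv, MulEquiv.apply_symm_apply]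

theorem congr_eq_trans (ψ : T ≃* T') (x : MulAut T) :
    MulAut.congr ψ x = (ψ.symm.trans x).trans ψ := rfl

/-- the inner automorphisms correspond under any isomorphism -/
theorem mem_inn_iff_congr (ψ : T ≃* T') (β : MulAut T) :
    β ∈ (MulAut.conj : T →* MulAut T).range ↔
      MulAut.congr ψ β ∈ (MulAut.conj : T' →* MulAut T').range := by
  constructor
  · rintro ⟨t, rfl⟩
    exact ⟨ψ t, (congr_conj ψ t).symm⟩
  · rintro ⟨t', ht'⟩
    refine ⟨ψ.symm t', ?_⟩
    apply (MulAut.congr ψ).injective
    rw [congr_conj, MulEquiv.apply_symm_apply]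
    exact ht'

/-- the final step: conjugacy in the model gives conjugacy in the group -/
theorem conj_of_model (c : MulAut T ≃* MulAut T') (H : Subgroup (MulAut T))
    (H' : Subgroup (MulAut T')) (hH : ∀ β, β ∈ H ↔ c β ∈ H') (x δ : MulAut T)
    (hex : ∃ h' ∈ H', c δ * c x = h' * c x * h'⁻¹) : Cfsg.IsConjUnder H x (δ * x) := by
  obtain ⟨h', hh', heq⟩ := hex
  refine ⟨c.symm h', ?_, ?_⟩
  · rw [hH, MulEquiv.apply_symm_apply]
    exact hh'
  · apply c.injective
    rw [map_mul, map_mul, map_mul, map_inv, MulEquiv.apply_symm_apply]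
    exact heq

end generic

end Cfsg.Agent.Lib.Helper50
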