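import Cfsg.Agent.Lib.Helper50.NonMax
import Cfsg.Agent.Lib.Helper43.SiegelRefl

set_option autoImplicit false

/-! Long-root Siegel elements lie in `Ω` in every characteristic (dimension at least five): they
are products of four reflections with square norm product. -/

namespace Cfsg.Agent.Lib.Helper50

open Matrix Module QuadraticMap Cfsg.Agent.Lib.Helper19

variable {F : Type*} [Field F] {ι : Type} [Fintype ι] [DecidableEq ι]

/-- the Siegel matrix as a Siegel linear map -/
theorem toLin'_siegelMatrix (Q : QuadraticForm F (ι → F)) (u v : ι → F) (hv : Q v = 0) (c : F) :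
    Matrix.toLin' (Cfsg.siegelMatrix (⇑Q) u v c) =
      Cfsg.Agent.Lib.Helper43.siegelLin Q u (-(c • v)) := by
  apply LinearMap.ext
  intro x
  rw [Matrix.toLin'_apply, siegelMatrix_mulVec, Cfsg.Agent.Lib.Helper43.siegelLin_apply,
    QuadraticMap.map_neg, QuadraticMap.map_smul, hv]
  simp only [polarBilin_apply_apply, polar_neg_right, polar_smul_right, smul_eq_mul, mul_zero,
    zero_mul, sub_zero]
  rw [polar_comm (⇑Q) x v, polar_comm (⇑Q) x u]
  module

variable [Fintype F]

/-- long-root Siegel elements lie in `Ω` (any characteristic) -/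
theorem siegelO_mem_Omega (Q : QuadraticForm F (ι → F))
    (hQ : (QuadraticMap.polarBilin Q).Nondegenerate) (hn : 5 ≤ Fintype.card ι)
    (u v : ι → F) (hu : Q u = 0) (hv : Q v = 0) (huv : polar (⇑Q) u v = 0) (c : F) :
    siegelO Q u v hu hv huv c ∈ Cfsg.Omega F (⇑Q) := by
  classical
  have h24 : Fintype.card F ≠ 2 ∨ Fintype.card ι ≠ 4 := Or.inr (by omega)
  set U := Submodule.span F ({u, v} : Set (ι → F)) with hU
  have hvu : polar (⇑Q) v u = 0 := by rw [polar_comm]; exact huv
  have hUts : ∀ y ∈ U, Q y = 0 := by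
    intro y hy
    rw [hU, Submodule.mem_span_pair] at hy
    obtain ⟨a, b, rfl⟩ := hy
    have h := QuadraticMap.map_add (⇑Q) (a • u) (b • v)
    rw [h, QuadraticMap.map_smul, QuadraticMap.map_smul, hu, hv, polar_smul_left,
      polar_smul_right, huv]
    simp
  have hUd : finrank F U ≤ 2 := by
    have h1 := finrank_span_finset_le_card (R := F) ({u, v} : Finset (ι → F))
    have h2 : ({u, v} : Finset (ι → F)).card ≤ 2 := Finset.card_le_two
    have h3 : ((({u, v} : Finset (ι → F)) : Set (ι → F))).finrank F = finrank F U := by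
      rw [hU]
      unfold Set.finrank
      have h4 : ((({u, v} : Finset (ι → F)) : Set (ι → F))) = ({u, v} : Set (ι → F)) := by
        ext w
        simp
      rw [h4]
    omega
  obtain ⟨y, hy, hyU⟩ := exists_nonsingular_perp Q hQ U hUts (by omega)
  have hyu : polar (⇑Q) y u = 0 := hyU u (Submodule.subset_span (by simp))
  have hyv : polar (⇑Q) y v = 0 := hyU v (Submodule.subset_span (by simp))
  have huy : polarBilin Q u y = 0 := by
    rw [polarBilin_apply_apply, polar_comm]; exact hyu
  set y' := -(c • v) - y with hy'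
  have huy' : polarBilin Q u y' = 0 := by
    rw [polarBilin_apply_apply, hy', polar_sub_right, polar_neg_right, polar_smul_right, huv,
      polar_comm (⇑Q) u y, hyu]
    simp
  have hQy' : Q y' = Q y := by
    have h := QuadraticMap.map_add (⇑Q) (-(c • v)) (-y)
    rw [← sub_eq_add_neg] at h
    rw [hy', h, QuadraticMap.map_neg, QuadraticMap.map_neg, QuadraticMap.map_smul, hv,
      polar_neg_left, polar_neg_right, polar_smul_left, polar_comm (⇑Q) v y, hyv]
    simp
  have hy'0 : Q y' ≠ 0 := by rw [hQy']; exact hy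
  have hsum : y + y' = -(c • v) := by rw [hy']; abel
  have hQ1 : Q (y - Q y • u) = Q y := by
    have h := QuadraticMap.map_add (⇑Q) y (-(Q y • u))
    rw [← sub_eq_add_neg] at h
    rw [h, QuadraticMap.map_neg, QuadraticMap.map_smul, hu, polar_neg_right, polar_smul_right,
      hyu]
    simp
  have hy'u : polar (⇑Q) y' u = 0 := by
    rw [polar_comm, ← polarBilin_apply_apply]; exact huy'
  have hQ2 : Q (y' - Q y' • u) = Q y' := by
    have h := QuadraticMap.map_add (⇑Q) y' (-(Q y' • u))
    rw [← sub_eq_add_neg] at h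
    rw [h, QuadraticMap.map_neg, QuadraticMap.map_smul, hu, polar_neg_right, polar_smul_right,
      hy'u]
    simp
  set l : List (ι → F) := [y, y - Q y • u, y', y' - Q y' • u] with hl
  have hl0 : ∀ w ∈ l, Q w ≠ 0 := by
    intro w hw
    rw [hl] at hw
    simp only [List.mem_cons, List.not_mem_nil, or_false] at hw
    rcases hw with rfl | rfl | rfl | rfl
    · exact hy
    · rw [hQ1]; exact hy
    · exact hy'0
    · rw [hQ2]; exact hy'0
  have hmat : (((siegelO Q u v hu hv huv c : ↥(Cfsg.isometryGroup F (⇑Q))) : GL ι F) :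
      Matrix ι ι F) = (l.map (fun w => Cfsg.reflectionMatrix (⇑Q) w)).prod := by
    apply Matrix.toLin'.injective
    rw [siegelO_val, toLin'_siegelMatrix Q u v hv c,
      Cfsg.Agent.Lib.Helper43.toLin'_prod_reflectionMatrix, ← hsum,
      ← Cfsg.Agent.Lib.Helper43.siegelLin_comp Q u y y' hu huy huy',
      ← Cfsg.Agent.Lib.Helper43.refl_comp_refl_eq_siegel Q u y hu huy hy,
      ← Cfsg.Agent.Lib.Helper43.refl_comp_refl_eq_siegel Q u y' hu huy' hy'0, hl]
    simp only [List.map_cons, List.map_nil, List.prod_cons, List.prod_nil, mul_one]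
    rfl
  rw [omega_criterion Q hQ h24 _ l hl0 hmat]
  refine ⟨by rw [hl]; exact ⟨2, rfl⟩, fun _ => ?_⟩
  rw [hl]
  simp only [List.map_cons, List.map_nil, List.prod_cons, List.prod_nil, mul_one]
  rw [hQ1, hQ2, hQy']
  exact ⟨Q y * Q y, by ring⟩

end Cfsg.Agent.Lib.Helper50
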