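import Cfsg.Agent.Lib.Helper50.FieldAutPO
import Cfsg.Agent.Lib.Helper50.SiegelOmega
import Cfsg.Agent.Lib.Helper08.PgoModInn

set_option autoImplicit false

/-! A non-trivial field automorphism of `PΩ` is not induced by a similarity. -/

namespace Cfsg.Agent.Lib.Helper50

open Matrix QuadraticMap Cfsg.Agent.Lib.Helper19 Cfsg.Agent.Lib.Helper08

universe u

variable {F : Type u} [Field F] [Fintype F] {ι : Type} [Fintype ι] [DecidableEq ι]

omit [Fintype F] in
theorem sigma_polar (Q : (ι → F) → F) {σ : RingAut F} (hσ : σ ∈ compatAut Q) (x y : ι → F) :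
    σ (polar Q x y) = polar Q (fun i => σ (x i)) (fun i => σ (y i)) := by
  unfold polar
  rw [map_sub, map_sub, ← hσ, ← hσ, ← hσ]
  congr 3
  funext i
  simp

omit [Fintype F] in
theorem siegelMatrix_map (Q : (ι → F) → F) {σ : RingAut F} (hσ : σ ∈ compatAut Q)
    (x y : ι → F) (hx : ∀ i, σ (x i) = x i) (hy : ∀ i, σ (y i) = y i) (c : F) :
    (Cfsg.siegelMatrix Q x y c).map σ = Cfsg.siegelMatrix Q x y (σ c) := by
  have hsingle : ∀ j : ι, (fun i => σ ((Pi.single j (1 : F) : ι → F) i)) = Pi.single j 1 := by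
    intro j
    funext i
    by_cases hij : i = j
    · subst hij; simp
    · simp [Pi.single_eq_of_ne hij]
  have hpx : ∀ j, σ (Cfsg.polarVec Q x j) = Cfsg.polarVec Q x j := by
    intro j
    unfold Cfsg.polarVec
    rw [sigma_polar Q hσ, hsingle]
    congr 1
    funext i
    exact hx i
  have hpy : ∀ j, σ (Cfsg.polarVec Q y j) = Cfsg.polarVec Q y j := by
    intro j
    unfold Cfsg.polarVec
    rw [sigma_polar Q hσ, hsingle]
    congr 1
    funext i
    exact hy i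
  ext i j
  unfold Cfsg.siegelMatrix
  simp only [Matrix.map_apply, Matrix.add_apply, Matrix.smul_apply, Matrix.sub_apply,
    Matrix.vecMulVec_apply, Matrix.one_apply, smul_eq_mul, map_add, map_mul, map_sub, hx, hy,
    hpx, hpy]
  congr 1
  split_ifs <;> simp

theorem fieldAutPO_eq_autPO_imp (h2 : (2 : F) ≠ 0) (Q : QuadraticForm F (ι → F))
    (hQ : (QuadraticMap.polarBilin Q).Nondegenerate) (hn : 5 ≤ Fintype.card ι)
    (e f : Fin 3 → ι → F) (HT : HypTriple Q e f)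
    (σ : ↥(compatAut ⇑Q)) (hfix0 : ∀ i, σ.1 (e 0 i) = e 0 i) (hfix1 : ∀ i, σ.1 (e 1 i) = e 1 i)
    (g : ↥(Cfsg.Geo.quadSimilarityGroup (F := F) ⇑Q))
    (h : fieldAutPO ⇑Q σ = autPO ⇑Q g) : σ = 1 := by
  have RP := reflPairs_of_two_ne_zero Q h2
  obtain ⟨X, hX⟩ : ∃ X : F → Matrix ι ι F, X = fun c => Cfsg.siegelMatrix (⇑Q) (e 0) (e 1) c :=
    ⟨_, rfl⟩
  obtain ⟨N, hN⟩ : ∃ N : Matrix ι ι F, N = Matrix.vecMulVec (e 1) (Cfsg.polarVec (⇑Q) (e 0)) -
      Matrix.vecMulVec (e 0) (Cfsg.polarVec (⇑Q) (e 1)) := ⟨_, rfl⟩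
  have hXN : ∀ c, X c = 1 + c • N := by
    intro c; rw [hX, hN]; rfl
  have hXmul : ∀ c d, X c * X d = X (c + d) := by
    intro c d; rw [hX]
    exact siegel_mul Q (e 0) (e 1) (HT.qe 0) (HT.qe 1) (HT.ee 0 1) c d
  obtain ⟨A, hA⟩ : ∃ A : Matrix ι ι F, A = ((g : GL ι F) : Matrix ι ι F) := ⟨_, rfl⟩
  obtain ⟨A', hA'⟩ : ∃ A' : Matrix ι ι F, A' = (((g : GL ι F)⁻¹ : GL ι F) : Matrix ι ι F) :=
    ⟨_, rfl⟩
  have hAA' : A * A' = 1 := by
    rw [hA, hA', ← Units.val_mul, mul_inv_cancel, Units.val_one]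
  have hA'A : A' * A = 1 := by
    rw [hA, hA', ← Units.val_mul, inv_mul_cancel, Units.val_one]
  -- the basic relation, up to sign
  have hrel : ∀ c, A * X c * A' = X (σ.1 c) ∨ A * X c * A' = -X (σ.1 c) := by
    intro c
    obtain ⟨x, hx⟩ : ∃ x, x = siegelO Q (e 0) (e 1) (HT.qe 0) (HT.qe 1) (HT.ee 0 1) c := ⟨_, rfl⟩
    have hxΩ : x ∈ Cfsg.Omega F (⇑Q) := by
      rw [hx]; exact siegelO_mem_Omega Q hQ hn _ _ _ _ _ c
    have hxv : ((x : GL ι F) : Matrix ι ι F) = X c := by rw [hx, hX]; rfl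
    obtain ⟨s₁, h1, h1v⟩ := fieldAutPO_mk (⇑Q) σ ⟨x, hxΩ⟩
    obtain ⟨s₂, h3, h3v⟩ := autPO_mk_val (⇑Q) g ⟨x, hxΩ⟩
    rw [h, h3] at h1
    have hc : s₂⁻¹ * s₁ ∈ Subgroup.center ↥(Cfsg.Omega F ⇑Q) := QuotientGroup.eq.mp h1
    have hcent : CentOmega Q ((s₂⁻¹ * s₁ : ↥(Cfsg.Omega F ⇑Q)) : ↥(Cfsg.isometryGroup F ⇑Q)) := by
      intro w hw
      have := Subgroup.mem_center_iff.mp hc ⟨w, hw⟩
      exact congrArg Subtype.val this
    have h1v' : (((s₁ : ↥(Cfsg.isometryGroup F ⇑Q)) : GL ι F) : Matrix ι ι F) = X (σ.1 c) := by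
      rw [h1v]
      change ((x : GL ι F) : Matrix ι ι F).map σ.1 = _
      rw [hxv, hX]
      exact siegelMatrix_map (⇑Q) σ.2 (e 0) (e 1) hfix0 hfix1 c
    have h3v' : (((s₂ : ↥(Cfsg.isometryGroup F ⇑Q)) : GL ι F) : Matrix ι ι F) = A * X c * A' := by
      rw [h3v, Units.val_mul, Units.val_mul, hA, hA']
      change _ * ((x : GL ι F) : Matrix ι ι F) * _ = _
      rw [hxv]
    have hz : (((s₁ : ↥(Cfsg.isometryGroup F ⇑Q)) : GL ι F) : Matrix ι ι F) =
        (((s₂ : ↥(Cfsg.isometryGroup F ⇑Q)) : GL ι F) : Matrix ι ι F) *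
        ((((s₂⁻¹ * s₁ : ↥(Cfsg.Omega F ⇑Q)) : ↥(Cfsg.isometryGroup F ⇑Q)) : GL ι F) :
          Matrix ι ι F) := by
      rw [← Units.val_mul, ← Subgroup.coe_mul, ← Subgroup.coe_mul, mul_inv_cancel_left]
    rcases cent_val hQ e f HT RP _ hcent with hz1 | hz1
    · left
      rw [← h1v', hz, hz1, mul_one, h3v']
    · right
      rw [← h1v', hz, hz1, mul_neg, mul_one, neg_neg, h3v']
  -- the sign is `+`
  have hrel' : ∀ c, A * X c * A' = X (σ.1 c) := by
    intro c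
    have hhalf : X c = X (c / 2) * X (c / 2) := by
      rw [hXmul]; congr 1; field_simp; ring
    have hσhalf : X (σ.1 c) = X (σ.1 (c / 2)) * X (σ.1 (c / 2)) := by
      rw [hXmul, ← map_add]; congr 2; field_simp; ring
    have e1 : A * X c * A' = (A * X (c / 2) * A') * (A * X (c / 2) * A') := by
      rw [hhalf]
      calc A * (X (c / 2) * X (c / 2)) * A' = A * X (c / 2) * (1 * (X (c / 2) * A')) := by
            rw [one_mul]; simp only [Matrix.mul_assoc]
        _ = A * X (c / 2) * ((A' * A) * (X (c / 2) * A')) := by rw [hA'A]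
        _ = _ := by simp only [Matrix.mul_assoc]
    rw [e1, hσhalf]
    rcases hrel (c / 2) with h5 | h5 <;> rw [h5]
    rw [neg_mul_neg]
  -- linearity
  have hlin : ∀ c, c • (A * N * A') = σ.1 c • N := by
    intro c
    have h5 := hrel' c
    rw [hXN, hXN, Matrix.mul_add, Matrix.add_mul, Matrix.mul_one, hAA', Matrix.mul_smul,
      Matrix.smul_mul] at h5
    exact add_left_cancel h5
  have hANA : A * N * A' = N := by
    have := hlin 1
    rw [map_one, one_smul, one_smul] at this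
    exact this
  -- `N ≠ 0`
  have hNf : N *ᵥ f 0 = e 1 := by
    have h5 := siegelMatrix_mulVec Q (e 0) (e 1) (f 0) 1
    have h6 : Cfsg.siegelMatrix (⇑Q) (e 0) (e 1) 1 = 1 + (1 : F) • N := by
      rw [← hXN, hX]
    rw [h6, one_smul, Matrix.add_mulVec, Matrix.one_mulVec, HT.ef 0 0, HT.ef 1 0] at h5
    simp only [if_true, one_smul, zero_smul, sub_zero] at h5
    have h7 : (1 : Fin 3) ≠ 0 := by decide
    rw [if_neg h7, zero_smul, sub_zero] at h5
    exact add_left_cancel h5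
  have he1 : e 1 ≠ 0 := by
    intro h0
    have := HT.ef 1 1
    rw [h0, polar_zero_left] at this
    simp at this
  obtain ⟨j, hj⟩ : ∃ j, e 1 j ≠ 0 := by
    by_contra hcon
    push Not at hcon
    exact he1 (funext hcon)
  apply Subtype.ext
  apply RingEquiv.ext
  intro c
  have h5 := hlin c
  rw [hANA] at h5
  have h6 := congrArg (fun M : Matrix ι ι F => (M *ᵥ f 0) j) h5
  simp only [Matrix.smul_mulVec, hNf, Pi.smul_apply, smul_eq_mul] at h6
  exact (mul_right_cancel₀ hj h6).symm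

end Cfsg.Agent.Lib.Helper50
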