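import Cfsg.Agent.Lib.Helper19.CartanDieudonne
import Cfsg.Agent.Lib.Helper50.Spinor
import Cfsg.Agent.Lib.Helper50.FieldAutInj

set_option autoImplicit false

/-!
# Reflections as elements of the similarity group, and their behaviour under field
automorphisms (every characteristic)
-/

namespace Cfsg.Agent.Lib.Helper50

open Matrix Cfsg.Agent.Lib.Helper08

universe u

variable {F : Type u} [Field F] {ι : Type} [Fintype ι] [DecidableEq ι]

/-- a reflection in a vector with fixed entries has fixed entries -/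
theorem reflectionMatrix_map (Q : (ι → F) → F) {σ : RingAut F} (hσ : σ ∈ compatAut Q)
    (x : ι → F) (hx : ∀ i, σ (x i) = x i) :
    (Cfsg.reflectionMatrix Q x).map σ = Cfsg.reflectionMatrix Q x := by
  have hsingle : ∀ j : ι, (fun i => σ ((Pi.single j (1 : F) : ι → F) i)) = Pi.single j 1 := by
    intro j
    funext i
    by_cases hij : i = j
    · subst hij; simp
    · simp [Pi.single_eq_of_ne hij]
  have hpx : ∀ j, σ (Cfsg.polarVec Q x j) = Cfsg.polarVec Q x j := by
    intro j
    unfold Cfsg.polarVec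
    rw [sigma_polar Q hσ, hsingle]
    congr 1
    funext i
    exact hx i
  have hQx : σ (Q x) = Q x := by
    rw [← hσ x]
    congr 1
    funext i
    exact hx i
  ext i j
  unfold Cfsg.reflectionMatrix
  simp only [Matrix.map_apply, Matrix.sub_apply, Matrix.smul_apply,
    Matrix.vecMulVec_apply, Matrix.one_apply, smul_eq_mul, map_mul, map_sub, map_inv₀, hx,
    hpx, hQx]
  congr 1
  split_ifs <;> simp

theorem isUnit_reflectionMatrix (Q : QuadraticForm F (ι → F)) (v : ι → F) (hv : Q v ≠ 0) :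
    IsUnit (Cfsg.reflectionMatrix (⇑Q) v) :=
  IsUnit.of_mul_eq_one _ (reflectionMatrix_mul_self Q v hv)

/-- the reflection as an element of the similarity group -/
noncomputable def reflGO (Q : QuadraticForm F (ι → F)) (v : ι → F) (hv : Q v ≠ 0) :
    ↥(Cfsg.Geo.quadSimilarityGroup (F := F) ⇑Q) :=
  ⟨(isUnit_reflectionMatrix Q v hv).unit, 1, fun x => by
    rw [Units.val_one, one_mul]
    exact Cfsg.Agent.Lib.Helper19.reflectionMatrix_isometry Q v hv x⟩

theorem reflGO_val (Q : QuadraticForm F (ι → F)) (v : ι → F) (hv : Q v ≠ 0) :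
    (((reflGO Q v hv : ↥(Cfsg.Geo.quadSimilarityGroup (F := F) ⇑Q)) : GL ι F) : Matrix ι ι F) =
      Cfsg.reflectionMatrix (⇑Q) v := rfl

theorem reflGO_mul_self (Q : QuadraticForm F (ι → F)) (v : ι → F) (hv : Q v ≠ 0) :
    reflGO Q v hv * reflGO Q v hv = 1 := by
  apply Subtype.ext
  apply Units.ext
  rw [Subgroup.coe_mul, Units.val_mul, reflGO_val]
  exact reflectionMatrix_mul_self Q v hv

theorem sigmaGO_reflGO (Q : QuadraticForm F (ι → F)) (σ : ↥(compatAut ⇑Q)) (v : ι → F)
    (hv : Q v ≠ 0) (hfix : ∀ i, σ.1 (v i) = v i) :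
    sigmaGO ⇑Q σ (reflGO Q v hv) = reflGO Q v hv := by
  apply Subtype.ext
  apply Units.ext
  change (Cfsg.reflectionMatrix (⇑Q) v).map σ.1 = Cfsg.reflectionMatrix (⇑Q) v
  exact reflectionMatrix_map (⇑Q) σ.2 v hfix

/-- an element of the similarity group is determined by its matrix -/
theorem simGO_ext (Q : (ι → F) → F) {g h : ↥(Cfsg.Geo.quadSimilarityGroup (F := F) Q)}
    (e : ((g : GL ι F) : Matrix ι ι F) = ((h : GL ι F) : Matrix ι ι F)) : g = h :=
  Subtype.ext (Units.ext e)

end Cfsg.Agent.Lib.Helper50
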