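import Cfsg.Agent.Lib.Helper50.MinusK
import Cfsg.Agent.Lib.Helper50.MinusPres
import Cfsg.Agent.Lib.Helper50.PlusKer
import Cfsg.Agent.Lib.Helper50.PlusRefl
import Cfsg.Agent.Lib.Helper43.Dickson
import Cfsg.Agent.Lib.Helper08.OddSp

set_option autoImplicit false

/-!
# `PΩ⁻` in characteristic two: `Inndiag = Inn`
-/

namespace Cfsg.Agent.Lib.Helper50

open Matrix Cfsg.Agent.Lib.Helper08

universe u

/-- the similarity group of the elliptic form -/
abbrev SimMinus (m : ℕ) (F : Type u) [Field F] (a b : F) :=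
  ↥(Cfsg.Geo.quadSimilarityGroup (F := F) (Cfsg.quadFormMinus m F a b))

/-- the isometry group of the elliptic form -/
abbrev IsoMinus (m : ℕ) (F : Type u) [Field F] (a b : F) :=
  ↥(Cfsg.isometryGroup F (Cfsg.quadFormMinus m F a b))

section general

variable {F : Type u} [Field F] (m : ℕ) (a b : F)

/-- inclusion of the isometries in the similarities -/
def inclM : IsoMinus m F a b →* SimMinus m F a b :=
  Subgroup.inclusion (isometryGroup_le_similarity (Cfsg.quadFormMinus m F a b))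

theorem inclM_val (z : IsoMinus m F a b) :
    ((inclM m a b z : SimMinus m F a b) : GL ((Fin m ⊕ Fin m) ⊕ Fin 2) F) =
      (z : GL ((Fin m ⊕ Fin m) ⊕ Fin 2) F) := rfl

theorem autO_eq_autPO_inclM (z : IsoMinus m F a b) :
    autO (Cfsg.quadFormMinus m F a b) z = autPO (Cfsg.quadFormMinus m F a b) (inclM m a b z) := rfl

/-- the standard reflection (in the vector `z₁`) -/
def vM : (Fin m ⊕ Fin m) ⊕ Fin 2 → F := Pi.single (Sum.inr 0) 1

theorem QMinus_vM : QMinus m F a b (vM m) = 1 := by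
  change Cfsg.quadFormMinus m F a b (vM m) = 1
  unfold Cfsg.quadFormMinus vM
  simp

theorem vM_fixed (σ : RingAut F) (i : (Fin m ⊕ Fin m) ⊕ Fin 2) : σ (vM m i) = vM (F := F) m i := by
  unfold vM
  by_cases hi : i = Sum.inr 0
  · subst hi; simp
  · simp [Pi.single_eq_of_ne hi]

/-- the standard reflection as an isometry -/
noncomputable def wIso : IsoMinus m F a b :=
  ⟨(reflGO (QMinus m F a b) (vM m) (by rw [QMinus_vM]; exact one_ne_zero) : SimMinus m F a b).1,
    (mem_isometryGroup_iff _ _).2 (fun u => by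
      change Cfsg.quadFormMinus m F a b (Cfsg.reflectionMatrix (⇑(QMinus m F a b)) (vM m) *ᵥ u) = _
      exact Cfsg.Agent.Lib.Helper19.reflectionMatrix_isometry (QMinus m F a b) (vM m)
        (by rw [QMinus_vM]; exact one_ne_zero) u)⟩

theorem inclM_wIso : inclM m a b (wIso m a b) =
    (reflGO (QMinus m F a b) (vM m) (by rw [QMinus_vM]; exact one_ne_zero) : SimMinus m F a b) :=
  rfl

theorem sigmaGO_inclM_wIso (σ : ↥(compatAut (Cfsg.quadFormMinus m F a b))) :
    sigmaGO (Cfsg.quadFormMinus m F a b) σ (inclM m a b (wIso m a b)) = inclM m a b (wIso m a b) :=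
  sigmaGO_reflGO (QMinus m F a b) σ (vM m) (by rw [QMinus_vM]; exact one_ne_zero)
    (fun i => vM_fixed m σ.1 i)

end general

section K

variable {F : Type u} [Field F] {K : Type u} [Field K] (φ : F →+* K) (m : ℕ) (a b : F)
  (hd : a ^ 2 - 4 * b ≠ 0) (θ : K) (hθ : θ ^ 2 + φ a * θ + φ b = 0)

/-- scalars preserve the classes over `K` -/
theorem pscK_scalar (c : F) (hc : c ≠ 0) :
    pscK φ m a b (c • (1 : Matrix ((Fin m ⊕ Fin m) ⊕ Fin 2) ((Fin m ⊕ Fin m) ⊕ Fin 2) F)) := by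
  unfold pscK
  intro U _
  unfold Cfsg.SameParityClass Cfsg.imageSubmodule
  have hc' : φ c ≠ 0 := fun h => hc (φ.injective (h.trans (map_zero φ).symm))
  have e : (c • (1 : Matrix ((Fin m ⊕ Fin m) ⊕ Fin 2) ((Fin m ⊕ Fin m) ⊕ Fin 2) F)).map φ =
      φ c • (1 : Matrix ((Fin m ⊕ Fin m) ⊕ Fin 2) ((Fin m ⊕ Fin m) ⊕ Fin 2) K) := by
    ext i j
    rw [Matrix.map_apply, Matrix.smul_apply, Matrix.smul_apply, Matrix.one_apply, Matrix.one_apply]
    split_ifs <;> simp
  have : Matrix.toLin' (φ c • (1 : Matrix ((Fin m ⊕ Fin m) ⊕ Fin 2) ((Fin m ⊕ Fin m) ⊕ Fin 2) K)) =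
      φ c • (LinearMap.id : (((Fin m ⊕ Fin m) ⊕ Fin 2) → K) →ₗ[K] (((Fin m ⊕ Fin m) ⊕ Fin 2) → K)) := by
    rw [map_smul, Matrix.toLin'_one]
  rw [e, this, Submodule.map_smul _ _ _ hc', Submodule.map_id, inf_idem, Nat.sub_self]
  exact Even.zero

include hd hθ

/-- the class-preserving similarities over `K`, as a subgroup -/
def pscSub : Subgroup (SimMinus m F a b) where
  carrier := {g | pscK φ m a b ((g : GL ((Fin m ⊕ Fin m) ⊕ Fin 2) F) :
    Matrix ((Fin m ⊕ Fin m) ⊕ Fin 2) ((Fin m ⊕ Fin m) ⊕ Fin 2) F)}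
  mul_mem' := by
    intro g h hg hh
    exact (pscK_mul_iff φ m a b hd θ hθ g h).mpr ⟨fun _ => hh, fun _ => hg⟩
  one_mem' := by
    have h := pscK_scalar φ m a b 1 one_ne_zero
    rw [one_smul] at h
    exact h
  inv_mem' := by
    intro g hg
    have h1 : pscK φ m a b (((g * g⁻¹ : SimMinus m F a b) : GL ((Fin m ⊕ Fin m) ⊕ Fin 2) F) :
        Matrix ((Fin m ⊕ Fin m) ⊕ Fin 2) ((Fin m ⊕ Fin m) ⊕ Fin 2) F) := by
      rw [mul_inv_cancel]
      have h := pscK_scalar φ m a b 1 one_ne_zero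
      rw [one_smul] at h
      exact h
    exact ((pscK_mul_iff φ m a b hd θ hθ g g⁻¹).mp h1).mp hg

theorem mem_pscSub (g : SimMinus m F a b) :
    g ∈ pscSub φ m a b hd θ hθ ↔ pscK φ m a b ((g : GL ((Fin m ⊕ Fin m) ⊕ Fin 2) F) :
      Matrix ((Fin m ⊕ Fin m) ⊕ Fin 2) ((Fin m ⊕ Fin m) ⊕ Fin 2) F) := Iff.rfl

theorem mul_mem_pscSub_iff (g h : SimMinus m F a b) :
    g * h ∈ pscSub φ m a b hd θ hθ ↔
      (g ∈ pscSub φ m a b hd θ hθ ↔ h ∈ pscSub φ m a b hd θ hθ) :=
  pscK_mul_iff φ m a b hd θ hθ g h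

/-- the commutator subgroup of the isometry group preserves the classes over `K` -/
theorem Omega_le_pscSub :
    (Cfsg.Omega F (Cfsg.quadFormMinus m F a b)).map (inclM m a b) ≤ pscSub φ m a b hd θ hθ := by
  rw [Subgroup.map_le_iff_le_comap]
  change ⁅(⊤ : Subgroup (IsoMinus m F a b)), ⊤⁆ ≤ _
  rw [Subgroup.commutator_le]
  intro g _ h _
  rw [Subgroup.mem_comap, commutatorElement_def, map_mul, map_mul, map_mul, map_inv, map_inv]
  have hi : ∀ x : SimMinus m F a b, x⁻¹ ∈ pscSub φ m a b hd θ hθ ↔ x ∈ pscSub φ m a b hd θ hθ :=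
    fun x => Subgroup.inv_mem_iff _
  rw [mul_mem_pscSub_iff, mul_mem_pscSub_iff, mul_mem_pscSub_iff, hi, hi]
  tauto

/-- the standard reflection swaps the classes over `K` -/
theorem wIso_not_mem_pscSub : inclM m a b (wIso m a b) ∉ pscSub φ m a b hd θ hθ := by
  rw [mem_pscSub]
  apply pscK_reflection_not φ m a b hd θ hθ _ (vM m)
  · change QMinus m F a b (vM m) ≠ 0
    rw [QMinus_vM]; exact one_ne_zero
  · rfl

theorem wIso_not_mem_Omega : wIso m a b ∉ Cfsg.Omega F (Cfsg.quadFormMinus m F a b) := by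
  intro h
  exact wIso_not_mem_pscSub φ m a b hd θ hθ
    (Omega_le_pscSub φ m a b hd θ hθ ⟨_, h, rfl⟩)

end K

end Cfsg.Agent.Lib.Helper50
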