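import Cfsg.Agent.Lib.Helper50.IsoTransport
import Cfsg.Agent.Lib.Helper50.MinusInndiag
import Cfsg.Agent.Lib.Helper50.MinusTwo
import Cfsg.Agent.Lib.Helper50.MinusTransport
import Cfsg.Agent.Lib.Helper07.OrthZh
import Cfsg.Agent.Lib.Helper07.OrthT

set_option autoImplicit false

/-!
# `PΩ⁻` in odd characteristic: transport of `Inndiag` along an isomorphism of the simple groups
-/

namespace Cfsg.Agent.Lib.Helper50

open Matrix Cfsg.Agent.Lib.Helper08 Cfsg.Agent.Lib.Helper07.OG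

universe u

section conj

variable {F : Type u} [Field F] [Fintype F] [DecidableEq F] {ι : Type} [Fintype ι] [DecidableEq ι]
  (Q Q' : QuadraticForm F (ι → F)) (P : GL ι F)
  (hP : ∀ v, Q' ((P : Matrix ι ι F) *ᵥ v) = Q v)

include hP

omit [Fintype F] [DecidableEq F] in
theorem conj_mem_similarity (g : GL ι F) (μ : Fˣ)
    (hg : ∀ v, Q ((g : Matrix ι ι F) *ᵥ v) = (μ : F) * Q v) (v : ι → F) :
    Q' (((P * g * P⁻¹ : GL ι F) : Matrix ι ι F) *ᵥ v) = (μ : F) * Q' v := by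
  rw [Units.val_mul, Units.val_mul, ← Matrix.mulVec_mulVec, ← Matrix.mulVec_mulVec, hP, hg,
    isom_inv (⇑Q) (⇑Q') P hP]

/-- conjugation of similarities by an isometry -/
def conjGO (g : ↥(Cfsg.Geo.quadSimilarityGroup (F := F) ⇑Q)) :
    ↥(Cfsg.Geo.quadSimilarityGroup (F := F) ⇑Q') :=
  ⟨P * g.1 * P⁻¹, by
    obtain ⟨μ, hμ⟩ := g.2
    exact ⟨μ, conj_mem_similarity Q Q' P hP g.1 μ hμ⟩⟩

omit [Fintype F] [DecidableEq F] in
theorem conjGO_val (g : ↥(Cfsg.Geo.quadSimilarityGroup (F := F) ⇑Q)) :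
    ((conjGO Q Q' P hP g : ↥(Cfsg.Geo.quadSimilarityGroup (F := F) ⇑Q')) : GL ι F) =
      P * g.1 * P⁻¹ := rfl

theorem delta_conjGO {u0 u0' : ι → F} (hu0 : Q u0 = 1) (hu0' : Q' u0' = 1) (k : ℕ)
    (g : ↥(Cfsg.Geo.quadSimilarityGroup (F := F) ⇑Q)) :
    delta Q' hu0' k (conjGO Q Q' P hP g) = delta Q hu0 k g := by
  have hmult : multFun Q' (conjGO Q Q' P hP g) = multFun Q g := by
    apply multFun_unique Q' hu0'
    intro v
    rw [conjGO_val]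
    exact conj_mem_similarity Q Q' P hP g.1 (multFun Q g) (multFun_spec Q g) v
  rw [delta_apply, delta_apply, hmult]
  congr 1
  apply Units.ext
  rw [detGO_val, detGO_val, conjGO_val, Units.val_mul, Units.val_mul, Matrix.det_mul,
    Matrix.det_mul]
  have h1 : ((P : GL ι F) : Matrix ι ι F).det * ((P⁻¹ : GL ι F) : Matrix ι ι F).det = 1 := by
    rw [← Matrix.det_mul, ← Units.val_mul, mul_inv_cancel, Units.val_one, Matrix.det_one]
  linear_combination ((g : GL ι F) : Matrix ι ι F).det * h1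

/-- the isomorphism induced by `P` maps `Esub` into `Esub` -/
theorem congr_isoPO_mem_Esub {u0 u0' : ι → F} (hu0 : Q u0 = 1) (hu0' : Q' u0' = 1) (k : ℕ)
    (β : MulAut (Cfsg.POmega F ⇑Q)) (hβ : β ∈ Esub Q hu0 k) :
    MulAut.congr (isoPO (⇑Q) (⇑Q') P hP) β ∈ Esub Q' hu0' k := by
  obtain ⟨g, hg, rfl⟩ := hβ
  rw [congr_isoPO_autPO (⇑Q) (⇑Q') P hP g (conjGO Q Q' P hP g) rfl]
  refine ⟨_, ?_, rfl⟩
  rw [SetLike.mem_coe, MonoidHom.mem_ker] at hg ⊢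
  rw [delta_conjGO Q Q' P hP hu0 hu0', hg]

/-- and conversely -/
theorem mem_Esub_of_congr_isoPO {u0 u0' : ι → F} (hu0 : Q u0 = 1) (hu0' : Q' u0' = 1) (k : ℕ)
    (β : MulAut (Cfsg.POmega F ⇑Q))
    (hβ : MulAut.congr (isoPO (⇑Q) (⇑Q') P hP) β ∈ Esub Q' hu0' k) : β ∈ Esub Q hu0 k := by
  obtain ⟨g', hg', hgβ⟩ := hβ
  have hP' := isom_inv (⇑Q) (⇑Q') P hP
  refine ⟨conjGO Q' Q P⁻¹ hP' g', ?_, ?_⟩
  · rw [SetLike.mem_coe, MonoidHom.mem_ker] at hg' ⊢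
    rw [delta_conjGO Q' Q P⁻¹ hP' hu0' hu0, hg']
  · apply (MulAut.congr (isoPO (⇑Q) (⇑Q') P hP)).injective
    rw [← hgβ]
    apply congr_isoPO_autPO
    rw [conjGO_val, inv_inv]
    group

end conj

section minus

variable {F : Type u} [Field F] [Fintype F] [DecidableEq F] (m : ℕ) (a b : F)

omit [DecidableEq F] in
/-- the elliptic form is of minus type -/
theorem minus_isMinusType
    (hab : ∀ z₁ z₂ : F, z₁ ^ 2 + a * z₁ * z₂ + b * z₂ ^ 2 = 0 → z₁ = 0 ∧ z₂ = 0) :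
    ∃ ζ : F, (∀ t : F, t ^ 2 + t + ζ ≠ 0) ∧ IsMinusType (QMinus m F a b) m ζ := by
  have hfr : Module.finrank F ((Fin m ⊕ Fin m) ⊕ Fin 2 → F) = 2 * m + 2 := by
    rw [Module.finrank_fintype_fun_eq_card, card_minus_index]
  have hnd : QND (QMinus m F a b) := QND_of_nondegenerate _ (QMinus_nondeg_of_anis m a b hab)
  rcases witt_type (2 * m + 2) (QMinus m F a b) hfr hnd with ⟨m', hm', hp⟩ |
    ⟨k, ζ, hk, hζ, hmin⟩ | ⟨k, c', hk, -, -⟩
  · exfalso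
    obtain rfl : m' = m + 1 := by omega
    exact not_plus_of_anis a b (QMinus m F a b) m (LinearEquiv.refl _ _) (fun v => rfl) hab hp
  · obtain rfl : m = k := by omega
    exact ⟨ζ, hζ, hmin⟩
  · omega

omit [DecidableEq F] in
/-- two elliptic forms of the same dimension are isometric -/
theorem exists_isometry_minus (a' b' : F)
    (hab : ∀ z₁ z₂ : F, z₁ ^ 2 + a * z₁ * z₂ + b * z₂ ^ 2 = 0 → z₁ = 0 ∧ z₂ = 0)
    (hab' : ∀ z₁ z₂ : F, z₁ ^ 2 + a' * z₁ * z₂ + b' * z₂ ^ 2 = 0 → z₁ = 0 ∧ z₂ = 0) :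
    ∃ P : GL ((Fin m ⊕ Fin m) ⊕ Fin 2) F, ∀ v,
      QMinus m F a' b' ((P : Matrix ((Fin m ⊕ Fin m) ⊕ Fin 2) ((Fin m ⊕ Fin m) ⊕ Fin 2) F) *ᵥ v) =
        QMinus m F a b v := by
  obtain ⟨ζ, hζ, h1⟩ := minus_isMinusType m a b hab
  obtain ⟨ζ', hζ', h2⟩ := minus_isMinusType m a' b' hab'
  obtain ⟨P, hP, hPQ⟩ := exists_P_of_minus (QMinus m F a b) (QMinus m F a' b') m ζ ζ' hζ hζ' h1 h2
  refine ⟨hP.unit, fun v => ?_⟩
  rw [IsUnit.unit_spec, hPQ, one_mul]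

/-- odd characteristic: `Inndiag` is the image of the similarities with `det = μ^(m+1)` -/
theorem inndiag_odd_eq (h2 : (2 : F) ≠ 0)
    (hab : ∀ z₁ z₂ : F, z₁ ^ 2 + a * z₁ * z₂ + b * z₂ ^ 2 = 0 → z₁ = 0 ∧ z₂ = 0) :
    Cfsg.inndiagPOmegaMinus m F a b = Esub (QMinus m F a b) (QMinus_vM m a b) (m + 1) :=
  inndiagMinus_eq m a b h2 hab (QMinus m F a b) rfl (QMinus_vM m a b)

theorem normal_conj_mem_iff {G : Type*} [Group G] (N : Subgroup G) (hN : N.Normal) (α x : G) :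
    α * x * α⁻¹ ∈ N ↔ x ∈ N := by
  constructor
  · intro h
    have := hN.conj_mem _ h α⁻¹
    rw [inv_inv] at this
    have e : α⁻¹ * (α * x * α⁻¹) * α = x := by group
    rwa [e] at this
  · intro h
    exact hN.conj_mem _ h α

set_option maxHeartbeats 6400000 in
/-- **transport of `Inndiag` along an arbitrary isomorphism** (odd characteristic) -/
theorem esub_transport_odd (hm : 3 ≤ m) (a' b' : F)
    (hab : ∀ z₁ z₂ : F, z₁ ^ 2 + a * z₁ * z₂ + b * z₂ ^ 2 = 0 → z₁ = 0 ∧ z₂ = 0)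
    (hab' : ∀ z₁ z₂ : F, z₁ ^ 2 + a' * z₁ * z₂ + b' * z₂ ^ 2 = 0 → z₁ = 0 ∧ z₂ = 0)
    (ψ : Cfsg.POmega F ⇑(QMinus m F a b) ≃* Cfsg.POmega F ⇑(QMinus m F a' b'))
    (β : MulAut (Cfsg.POmega F ⇑(QMinus m F a b))) :
    β ∈ Esub (QMinus m F a b) (QMinus_vM m a b) (m + 1) ↔
      MulAut.congr ψ β ∈ Esub (QMinus m F a' b') (QMinus_vM m a' b') (m + 1) := by
  obtain ⟨P, hP⟩ := exists_isometry_minus m a b a' b' hab hab'
  have htop' : Cfsg.gammaPOmega F ⇑(QMinus m F a' b') = ⊤ := gamma_minus_eq_top hm a' b' hab'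
  have hN : (Esub (QMinus m F a' b') (QMinus_vM m a' b') (m + 1)).Normal :=
    Esub_normal (QMinus_vM m a' b') (m + 1) htop'
  obtain ⟨ψ₀, hψ₀⟩ : ∃ ψ₀ : Cfsg.POmega F ⇑(QMinus m F a b) ≃*
      Cfsg.POmega F ⇑(QMinus m F a' b'),
      ψ₀ = isoPO (⇑(QMinus m F a b)) (⇑(QMinus m F a' b')) P hP := ⟨_, rfl⟩
  obtain ⟨α, hα⟩ : ∃ α : MulAut (Cfsg.POmega F ⇑(QMinus m F a' b')),
      α = ψ₀.symm.trans ψ := ⟨_, rfl⟩
  have hconj : MulAut.congr ψ β = α * MulAut.congr ψ₀ β * α⁻¹ := by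
    ext y
    rw [hα]
    change ψ (β (ψ.symm y)) = ψ (ψ₀.symm (ψ₀ (β (ψ₀.symm (ψ₀ (ψ.symm y))))))
    rw [MulEquiv.symm_apply_apply, MulEquiv.symm_apply_apply]
  rw [hconj, normal_conj_mem_iff _ hN, hψ₀]
  constructor
  · exact congr_isoPO_mem_Esub (QMinus m F a b) (QMinus m F a' b') P hP _ _ (m + 1) β
  · exact mem_Esub_of_congr_isoPO (QMinus m F a b) (QMinus m F a' b') P hP _ _ (m + 1) β

end minus

end Cfsg.Agent.Lib.Helper50
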