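import Cfsg.Agent.Lib.Helper19.S2717U7

set_option autoImplicit false
set_option linter.unusedSectionVars false
set_option linter.unusedVariables false

/-! K-S2717-V7: a similarity over `F₀` with `det = μ^m` and square multiplier becomes inner over
`F`, provided every element of `F₀` is a square in `F` (odd characteristic). -/

namespace Cfsg.Agent.Lib.Helper50.S2717K

open Module Matrix Cfsg.Agent.Lib.Helper43 Cfsg.Agent.Lib.Helper08
open Cfsg.Agent.Lib.Helper51.POAut Cfsg.Agent.Lib.Helper50 Cfsg.Agent.Lib.Helper07.OG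

universe u v

section bc

variable {F₀ : Type v} {F : Type u} [Field F₀] [Fintype F₀] [Field F] [Fintype F]
  {ι : Type} [Fintype ι] [DecidableEq ι]
variable (Q₀ : QuadraticForm F₀ (ι → F₀)) (Q : QuadraticForm F (ι → F)) {j : F₀ →+* F}

/-- K-S2717-V7 (odd characteristic): a similarity over `F₀` with `det = μ^m` and square
multiplier becomes inner over `F`, provided every element of `F₀` is a square in `F`. -/
theorem inn_of_sq_mult [DecidableEq F₀] (h2 : (2 : F) ≠ 0)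
    (hQ₀ : (QuadraticMap.polarBilin Q₀).Nondegenerate) (hc : Compat Q₀ Q j)
    (hsq : ∀ c : F₀, IsSquare (j c)) {u0₀ : ι → F₀} (hu0₀ : Q₀ u0₀ = 1) (m : ℕ)
    (hm : 3 ≤ m) (hcard : Fintype.card ι = 2 * m)
    (g₀ : ↥(Cfsg.Geo.quadSimilarityGroup (F := F₀) ⇑Q₀)) (hg₀ : delta Q₀ hu0₀ m g₀ = 1)
    (hμ : IsSquare (multFun Q₀ g₀ : F₀)) :
    autPO ⇑Q (bcS hc g₀) ∈ Cfsg.Inn (Cfsg.POmega F ⇑Q) := by
  obtain ⟨c, hcc⟩ := hμ
  have hμ0 : (multFun Q₀ g₀ : F₀) ≠ 0 := Units.ne_zero _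
  have hc0 : c ≠ 0 := by
    intro h
    rw [h, mul_zero] at hcc
    exact hμ0 hcc
  -- the determinant of `g₀`
  have hdet : ((g₀ : GL ι F₀) : Matrix ι ι F₀).det = (multFun Q₀ g₀ : F₀) ^ m := by
    have h1 := congrArg (fun x : F₀ˣ => (x : F₀)) hg₀
    simp only [delta_apply, Units.val_mul, Units.val_pow_eq_pow_val, Units.val_inv_eq_inv_val,
      detGO_val, Units.val_one] at h1
    rw [inv_pow] at h1
    have h3 := pow_ne_zero m hμ0
    field_simp at h1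
    exact h1
  -- the isometry `s₀ = c⁻¹ • g₀`
  obtain ⟨C, hC⟩ : ∃ C : F₀ˣ, (C : F₀) = c⁻¹ := ⟨Units.mk0 c⁻¹ (inv_ne_zero hc0), rfl⟩
  have hsval : ((Cfsg.Agent.Lib.Helper19.PgoCard.scalGL C * (g₀ : GL ι F₀) : GL ι F₀) :
      Matrix ι ι F₀) = c⁻¹ • ((g₀ : GL ι F₀) : Matrix ι ι F₀) := by
    rw [Units.val_mul, Cfsg.Agent.Lib.Helper19.PgoCard.scalGL_val, Matrix.smul_mul,
      Matrix.one_mul, hC]
  have hsmem : Cfsg.Agent.Lib.Helper19.PgoCard.scalGL C * (g₀ : GL ι F₀) ∈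
      Cfsg.isometryGroup F₀ ⇑Q₀ := by
    rw [Cfsg.Agent.Lib.Helper19.mem_isometryGroup_iff]
    intro v
    rw [hsval, Matrix.smul_mulVec, QuadraticMap.map_smul, multFun_spec, hcc, smul_eq_mul]
    field_simp
  have hsdet : (((⟨_, hsmem⟩ : ↥(Cfsg.isometryGroup F₀ ⇑Q₀)) : GL ι F₀) :
      Matrix ι ι F₀).det = 1 := by
    show ((Cfsg.Agent.Lib.Helper19.PgoCard.scalGL C * (g₀ : GL ι F₀) : GL ι F₀) :
      Matrix ι ι F₀).det = 1
    rw [hsval, Matrix.det_smul, hdet, hcard, hcc]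
    have : c⁻¹ ^ (2 * m) * (c * c) ^ m = (c⁻¹ * c) ^ (2 * m) := by
      rw [mul_pow c⁻¹ c, two_mul, pow_add c, mul_pow c c]
    rw [this, inv_mul_cancel₀ hc0, one_pow]
  obtain ⟨ω, hω, hωval⟩ := Cfsg.Agent.Lib.Helper19.S2717K.bc_SO_mem_Omega Q₀ Q h2 hQ₀
    (by rw [hcard]; omega) hc hsq ⟨_, hsmem⟩ hsdet
  have haut : autPO ⇑Q (bcS hc g₀) = autO ⇑Q ω := by
    rw [autO_apply]
    apply Cfsg.Agent.Lib.Helper19.S2716K.autPO_eq_of_smul Q
      ⟨ω.1, isometryGroup_le_similarity (⇑Q) ω.2⟩ (bcS hc g₀) (j c) ((map_ne_zero j).2 hc0)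
    show ((bcS hc g₀ : GL ι F) : Matrix ι ι F) = j c • ((ω : GL ι F) : Matrix ι ι F)
    rw [hωval, bcS_val]
    show ((g₀ : GL ι F₀) : Matrix ι ι F₀).map j =
      j c • ((Cfsg.Agent.Lib.Helper19.PgoCard.scalGL C * (g₀ : GL ι F₀) : GL ι F₀) :
        Matrix ι ι F₀).map j
    rw [hsval]
    ext a b
    simp only [Matrix.map_apply, Matrix.smul_apply, smul_eq_mul, map_mul, map_inv₀]
    rw [← mul_assoc, mul_inv_cancel₀ ((map_ne_zero j).2 hc0), one_mul]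
  rw [haut, inn_eq]
  exact ⟨ω, hω, rfl⟩

end bc

end Cfsg.Agent.Lib.Helper50.S2717K
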