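import Cfsg.Agent.Lib.Helper50.ClsParSigma
import Cfsg.Agent.Lib.Helper50.PlusInndiag

set_option autoImplicit false

/-! The class-preserving similarities of the hyperbolic form `Σ x_i y_i`, in every
characteristic: a subgroup of index at most two of the similarity group, stable under the
entrywise field automorphisms, whose image in `Aut(PΩ⁺)` is `Inndiag`. -/

namespace Cfsg.Agent.Lib.Helper50

open Matrix QuadraticMap Module Cfsg.Agent.Lib.Helper19 Cfsg.Agent.Lib.Helper08

universe u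

variable {F : Type u} [Field F] (m : ℕ)

omit [Field F] in
theorem card_plus_index : Fintype.card (Fin m ⊕ Fin m) = 2 * m := by
  rw [Fintype.card_sum, Fintype.card_fin]; ring

theorem mult_of_mem (g : ↥(Cfsg.Geo.quadSimilarityGroup (F := F) (Cfsg.quadFormPlus m F))) :
    ∃ μ : F, μ ≠ 0 ∧ ∀ v, QPlus m F (((g : GL (Fin m ⊕ Fin m) F) :
      Matrix (Fin m ⊕ Fin m) (Fin m ⊕ Fin m) F) *ᵥ v) = μ * QPlus m F v := by
  obtain ⟨c, hc⟩ := g.2
  exact ⟨c, c.ne_zero, hc⟩

/-- class-preserving similarities of the hyperbolic form -/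
def clsPlus : Subgroup ↥(Cfsg.Geo.quadSimilarityGroup (F := F) (Cfsg.quadFormPlus m F)) where
  carrier := {g | Cfsg.PreservesSingularClasses (⇑(QPlus m F))
    ((g : GL (Fin m ⊕ Fin m) F) : Matrix (Fin m ⊕ Fin m) (Fin m ⊕ Fin m) F)}
  mul_mem' := by
    intro g h hg hh
    obtain ⟨μ, -, hμ⟩ := mult_of_mem m g
    obtain ⟨ν, -, hν⟩ := mult_of_mem m h
    exact (psc_mul_iff (QPlus m F) QPlus_nondegenerate m (card_plus_index m) (kerInr F m)
      kerInr_singular finrank_kerInr g.1 h.1 μ ν hμ hν).mpr ⟨fun _ => hh, fun _ => hg⟩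
  one_mem' := psc_one (QPlus m F) QPlus_nondegenerate m (card_plus_index m) (kerInr F m)
      kerInr_singular finrank_kerInr
  inv_mem' := by
    intro g hg
    obtain ⟨μ, hμ0, hμ⟩ := mult_of_mem m g
    exact (psc_inv_iff (QPlus m F) QPlus_nondegenerate m (card_plus_index m) (kerInr F m)
      kerInr_singular finrank_kerInr g.1 μ hμ0 hμ).mpr hg

theorem mem_clsPlus_iff (g : ↥(Cfsg.Geo.quadSimilarityGroup (F := F) (Cfsg.quadFormPlus m F))) :
    g ∈ clsPlus m ↔ Cfsg.PreservesSingularClasses (Cfsg.quadFormPlus m F)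
      ((g : GL (Fin m ⊕ Fin m) F) : Matrix (Fin m ⊕ Fin m) (Fin m ⊕ Fin m) F) := Iff.rfl

/-- the product of two class-swapping similarities preserves the classes -/
theorem mul_mem_clsPlus_of_not
    (g h : ↥(Cfsg.Geo.quadSimilarityGroup (F := F) (Cfsg.quadFormPlus m F)))
    (hg : g ∉ clsPlus m) (hh : h ∉ clsPlus m) : g * h ∈ clsPlus m := by
  obtain ⟨μ, -, hμ⟩ := mult_of_mem m g
  obtain ⟨ν, -, hν⟩ := mult_of_mem m h
  exact (psc_mul_iff (QPlus m F) QPlus_nondegenerate m (card_plus_index m) (kerInr F m)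
    kerInr_singular finrank_kerInr g.1 h.1 μ ν hμ hν).mpr
      ⟨fun h1 => absurd h1 hg, fun h1 => absurd h1 hh⟩

/-- membership of a product with one factor in the subgroup -/
theorem mul_mem_clsPlus_iff_right
    (g h : ↥(Cfsg.Geo.quadSimilarityGroup (F := F) (Cfsg.quadFormPlus m F)))
    (hg : g ∈ clsPlus m) : g * h ∈ clsPlus m ↔ h ∈ clsPlus m :=
  (clsPlus m).mul_mem_cancel_left hg

/-- reflections are not class-preserving -/
theorem reflection_not_mem_clsPlus (hm : 1 ≤ m)
    (g : ↥(Cfsg.Geo.quadSimilarityGroup (F := F) (Cfsg.quadFormPlus m F)))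
    (v : Fin m ⊕ Fin m → F) (hv : Cfsg.quadFormPlus m F v ≠ 0)
    (hg : ((g : GL (Fin m ⊕ Fin m) F) : Matrix (Fin m ⊕ Fin m) (Fin m ⊕ Fin m) F) =
      Cfsg.reflectionMatrix (Cfsg.quadFormPlus m F) v) : g ∉ clsPlus m :=
  not_psc_reflection (QPlus m F) QPlus_nondegenerate m (card_plus_index m) (kerInr F m)
    kerInr_singular finrank_kerInr hm g.1 v hv hg

/-- every field automorphism is compatible with the hyperbolic form -/
theorem compat_plus (σ : RingAut F) : σ ∈ compatAut (Cfsg.quadFormPlus m F) := by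
  rw [mem_compatAut]
  intro v
  unfold Cfsg.quadFormPlus
  simp only [map_sum, map_mul]

theorem smap_kerInr (σ : RingAut F) : smap σ (kerInr F m) = kerInr F m := by
  ext w
  rw [mem_smap, LinearMap.mem_ker, LinearMap.mem_ker]
  constructor
  · intro h
    funext i
    have := congrFun h i
    simp only [LinearMap.funLeft_apply, Pi.zero_apply] at this ⊢
    have h2 := congrArg σ this
    have h3 : σ (σ⁻¹ (w (Sum.inr i))) = w (Sum.inr i) := RingEquiv.apply_symm_apply σ _
    rw [h3, map_zero] at h2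
    exact h2
  · intro h
    funext i
    have := congrFun h i
    simp only [LinearMap.funLeft_apply, Pi.zero_apply] at this ⊢
    rw [this, map_zero]

/-- the entrywise field automorphisms stabilise the class-preserving similarities -/
theorem sigmaGO_mem_clsPlus [Fintype F] (σ : ↥(compatAut (Cfsg.quadFormPlus m F)))
    (g : ↥(Cfsg.Geo.quadSimilarityGroup (F := F) (Cfsg.quadFormPlus m F)))
    (hg : g ∈ clsPlus m) : sigmaGO (Cfsg.quadFormPlus m F) σ g ∈ clsPlus m := by
  obtain ⟨μ, -, hμ⟩ := mult_of_mem m g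
  exact psc_sigmaGL (QPlus m F) QPlus_nondegenerate m (card_plus_index m) (kerInr F m)
    kerInr_singular finrank_kerInr σ.2 g.1 μ hμ hg

theorem sigmaGO_mem_clsPlus_iff [Fintype F] (σ : ↥(compatAut (Cfsg.quadFormPlus m F)))
    (g : ↥(Cfsg.Geo.quadSimilarityGroup (F := F) (Cfsg.quadFormPlus m F))) :
    sigmaGO (Cfsg.quadFormPlus m F) σ g ∈ clsPlus m ↔ g ∈ clsPlus m := by
  constructor
  · intro h
    have h2 := sigmaGO_mem_clsPlus m σ⁻¹ _ h
    have e : sigmaGO (Cfsg.quadFormPlus m F) σ⁻¹ (sigmaGO (Cfsg.quadFormPlus m F) σ g) = g := by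
      apply Subtype.ext
      change sigmaGL (σ⁻¹ : ↥(compatAut (Cfsg.quadFormPlus m F))).1 (sigmaGL σ.1 g.1) = g.1
      rw [← sigmaGL_mul]
      have : (σ⁻¹ : ↥(compatAut (Cfsg.quadFormPlus m F))).1 * σ.1 = 1 := by
        rw [Subgroup.coe_inv, inv_mul_cancel]
      rw [this, sigmaGL_one]
    rwa [e] at h2
  · exact sigmaGO_mem_clsPlus m σ g

/-- `Inndiag(PΩ⁺)` is the image of the class-preserving similarities -/
theorem inndiagPOmegaPlus_eq :
    Cfsg.inndiagPOmegaPlus m F = (clsPlus m).map (autPO (Cfsg.quadFormPlus m F)) := by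
  unfold Cfsg.inndiagPOmegaPlus Cfsg.autSubgroupOf Cfsg.IsInnerDiagonalAutPOmegaPlus
  have hset : {β : MulAut (Cfsg.POmega F (Cfsg.quadFormPlus m F)) |
        ∃ g : GL (Fin m ⊕ Fin m) F,
          g ∈ Cfsg.Geo.quadSimilarityGroup (F := F) (Cfsg.quadFormPlus m F) ∧
          Cfsg.PreservesSingularClasses (Cfsg.quadFormPlus m F)
            (g : Matrix (Fin m ⊕ Fin m) (Fin m ⊕ Fin m) F) ∧
          Cfsg.IsInducedBySemilinearPOmega (Cfsg.quadFormPlus m F) g (RingEquiv.refl F) β} =
      (((clsPlus m).map (autPO (Cfsg.quadFormPlus m F)) :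
        Subgroup (MulAut (Cfsg.POmega F (Cfsg.quadFormPlus m F)))) :
        Set (MulAut (Cfsg.POmega F (Cfsg.quadFormPlus m F)))) := by
    ext β
    constructor
    · rintro ⟨g, hg, hP, hI⟩
      exact ⟨⟨g, hg⟩, hP, ((isInduced_iff (Cfsg.quadFormPlus m F) g hg β).mp hI).symm⟩
    · rintro ⟨g, hg, rfl⟩
      exact ⟨g.1, g.2, hg, (isInduced_iff (Cfsg.quadFormPlus m F) g.1 g.2 _).mpr rfl⟩
  rw [hset, Subgroup.closure_eq]

/-- `Inndiag(PΩ⁺)` is normal in `Aut(PΩ⁺)` when every automorphism is induced by a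
semisimilarity -/
theorem inndiagPOmegaPlus_normal [Fintype F]
    (hAut : Cfsg.gammaPOmega F (Cfsg.quadFormPlus m F) = ⊤) :
    (Cfsg.inndiagPOmegaPlus m F).Normal := by
  have hsup : (autPO (Cfsg.quadFormPlus m F)).range ⊔
      (fieldAutPO (Cfsg.quadFormPlus m F)).range = ⊤ := by
    rw [← gammaPOmega_eq (Cfsg.quadFormPlus m F) (compat_plus m), hAut]
  rw [inndiagPOmegaPlus_eq]
  have hN : Subgroup.normalizer (((clsPlus m).map (autPO (Cfsg.quadFormPlus m F)) :
      Subgroup (MulAut (Cfsg.POmega F (Cfsg.quadFormPlus m F)))) :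
      Set (MulAut (Cfsg.POmega F (Cfsg.quadFormPlus m F)))) = ⊤ := by
    rw [eq_top_iff, ← hsup]
    apply sup_le
    · rintro _ ⟨k, rfl⟩
      rw [Subgroup.mem_normalizer_iff]
      intro x
      have key : ∀ (k : ↥(Cfsg.Geo.quadSimilarityGroup (F := F) (Cfsg.quadFormPlus m F)))
          (g : ↥(Cfsg.Geo.quadSimilarityGroup (F := F) (Cfsg.quadFormPlus m F))),
          g ∈ clsPlus m → k * g * k⁻¹ ∈ clsPlus m := by
        intro k g hg
        by_cases hk : k ∈ clsPlus m
        · exact (clsPlus m).mul_mem ((clsPlus m).mul_mem hk hg) ((clsPlus m).inv_mem hk)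
        · have hk' : k⁻¹ ∉ clsPlus m := fun h => hk (by simpa using (clsPlus m).inv_mem h)
          have h1 : k * g ∉ clsPlus m := by
            intro h
            apply hk
            have := (clsPlus m).mul_mem h ((clsPlus m).inv_mem hg)
            simpa using this
          exact mul_mem_clsPlus_of_not m _ _ h1 hk'
      constructor
      · rintro ⟨g, hg, rfl⟩
        refine ⟨k * g * k⁻¹, key k g hg, ?_⟩
        rw [map_mul, map_mul, map_inv]
      · rintro ⟨g, hg, hgx⟩
        refine ⟨k⁻¹ * g * k, ?_, ?_⟩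
        · have := key k⁻¹ g hg
          rwa [inv_inv] at this
        · rw [map_mul, map_mul, map_inv, hgx]
          group
    · rintro _ ⟨σ, rfl⟩
      rw [Subgroup.mem_normalizer_iff]
      intro x
      constructor
      · rintro ⟨g, hg, rfl⟩
        rw [fieldAutPO_conj]
        exact ⟨_, sigmaGO_mem_clsPlus m σ g hg, rfl⟩
      · rintro ⟨g, hg, hgx⟩
        have e : x = fieldAutPO (Cfsg.quadFormPlus m F) σ⁻¹ *
            autPO (Cfsg.quadFormPlus m F) g * (fieldAutPO (Cfsg.quadFormPlus m F) σ⁻¹)⁻¹ := by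
          rw [hgx, map_inv]; group
        rw [e, fieldAutPO_conj]
        exact ⟨_, sigmaGO_mem_clsPlus m σ⁻¹ g hg, rfl⟩
  exact Subgroup.normalizer_eq_top_iff.mp hN

end Cfsg.Agent.Lib.Helper50
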