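import Cfsg.Agent.Lib.Helper50.SiegelOmega

set_option autoImplicit false

/-! Over a field with at most three elements the stabiliser in `Ω` of a hyperbolic plane is not
maximal: it fixes the point spanned by a vector of norm one of the plane. -/

namespace Cfsg.Agent.Lib.Helper50

open Matrix Module QuadraticMap Cfsg.Agent.Lib.Helper19

variable {F : Type*} [Field F] [Fintype F] {ι : Type} [Fintype ι] [DecidableEq ι]

/-- in a field with at most three elements every non-zero element squares to one -/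
theorem mul_self_eq_one_of_card_le_three (hq : Fintype.card F ≤ 3) (a : F) (ha : a ≠ 0) :
    a * a = 1 := by
  have h := FiniteField.pow_card_sub_one_eq_one a ha
  have h1 : 1 < Fintype.card F := Fintype.one_lt_card
  have h2 : Fintype.card F = 2 ∨ Fintype.card F = 3 := by omega
  rcases h2 with h2 | h2
  · rw [h2] at h
    have h3 : a = 1 := by simpa using h
    rw [h3, mul_one]
  · rw [h2] at h
    have h3 : a ^ 2 = 1 := by simpa using h
    rw [← pow_two]
    exact h3

/-- a singular non-zero vector orthogonal to two given vectors -/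
theorem exists_singular_perp_pair (Q : QuadraticForm F (ι → F))
    (hQ : (QuadraticMap.polarBilin Q).Nondegenerate) (hn : 5 ≤ Fintype.card ι) (e f : ι → F) :
    ∃ v : ι → F, v ≠ 0 ∧ Q v = 0 ∧ polar (⇑Q) v e = 0 ∧ polar (⇑Q) v f = 0 := by
  classical
  set N := Submodule.span F ({e, f} : Set (ι → F)) with hN
  set M := LinearMap.BilinForm.orthogonal (polarBilin Q) N with hM
  have hNd : finrank F N ≤ 2 := by
    have h1 := finrank_span_finset_le_card (R := F) ({e, f} : Finset (ι → F))
    have h2 : ({e, f} : Finset (ι → F)).card ≤ 2 := Finset.card_le_two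
    have h3 : ((({e, f} : Finset (ι → F)) : Set (ι → F))).finrank F = finrank F N := by
      rw [hN]
      unfold Set.finrank
      have h4 : ((({e, f} : Finset (ι → F)) : Set (ι → F))) = ({e, f} : Set (ι → F)) := by
        ext w
        simp
      rw [h4]
    omega
  have hMd := LinearMap.BilinForm.finrank_orthogonal hQ N
  rw [Module.finrank_fintype_fun_eq_card, ← hM] at hMd
  obtain ⟨v, hv0, hQv⟩ := exists_isotropic (Q.comp M.subtype) (by omega)
  have hvM : ∀ n ∈ N, polarBilin Q n (v : ι → F) = 0 :=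
    LinearMap.BilinForm.mem_orthogonal_iff.mp v.2
  refine ⟨(v : ι → F), fun h => hv0 (Subtype.ext h), hQv, ?_, ?_⟩
  · rw [polar_comm]
    exact hvM e (Submodule.subset_span (by simp))
  · rw [polar_comm]
    exact hvM f (Submodule.subset_span (by simp))

/-- the stabiliser in `Ω` of a hyperbolic plane over a field with at most three elements is not
maximal -/
theorem nonmax_plus_plane (Q : QuadraticForm F (ι → F))
    (hQ : (QuadraticMap.polarBilin Q).Nondegenerate) (hn : 5 ≤ Fintype.card ι)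
    (hq : Fintype.card F ≤ 3) (W : Submodule F (ι → F)) (hdim : finrank F W = 2)
    (hW : Cfsg.Geo.IsNondegenerateOn (QuadraticMap.polar (⇑Q)) W)
    (hplus : Cfsg.Geo.IsPlusTypeOn (⇑Q) W) :
    ∃ K : Subgroup (GL ι F), Cfsg.Geo.subspaceStabilizer W ⊓ Cfsg.Geo.omegaGL (⇑Q) < K ∧
      K < Cfsg.Geo.omegaGL (⇑Q) := by
  obtain ⟨U, hUW, hUts, hUd⟩ := hplus
  rw [hdim] at hUd
  have hU0 : U ≠ ⊥ := by
    intro h
    rw [h, finrank_bot] at hUd
    omega
  obtain ⟨e, heU, he0⟩ := (Submodule.ne_bot_iff U).mp hU0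
  have heW : e ∈ W := hUW heU
  have hQe : Q e = 0 := hUts e heU
  obtain ⟨f', hf'W, hf'⟩ := (hW e heW he0).2
  have hee : polar (⇑Q) e e = 0 := by rw [polar_self, hQe]; simp
  obtain ⟨f'', hf''W, hef''⟩ : ∃ f'' ∈ W, polar (⇑Q) e f'' = 1 :=
    ⟨(polar (⇑Q) e f')⁻¹ • f', W.smul_mem _ hf'W, by
      rw [polar_smul_right, smul_eq_mul, inv_mul_cancel₀ hf']⟩
  obtain ⟨f, hfW, hef, hQf⟩ : ∃ f ∈ W, polar (⇑Q) e f = 1 ∧ Q f = 0 := by
    refine ⟨f'' - Q f'' • e, W.sub_mem hf''W (W.smul_mem _ heW), ?_, ?_⟩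
    · rw [polar_sub_right, polar_smul_right, hee, hef'']
      simp
    · have h := QuadraticMap.map_add (⇑Q) f'' (-(Q f'' • e))
      rw [← sub_eq_add_neg] at h
      rw [h, QuadraticMap.map_neg, QuadraticMap.map_smul, hQe, polar_neg_right,
        polar_smul_right, polar_comm (⇑Q) f'' e, hef'']
      simp
  have hfe : polar (⇑Q) f e = 1 := by rw [polar_comm]; exact hef
  have hff : polar (⇑Q) f f = 0 := by rw [polar_self, hQf]; simp
  -- `W` is spanned by `e, f`
  obtain ⟨hNnd, hNd⟩ := pair_span_nondeg Q e f (by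
    rw [hQe, hef]
    simp)
  have hWspan : W = Submodule.span F {e, f} := by
    symm
    apply Submodule.eq_of_le_of_finrank_eq
    · rw [Submodule.span_le]
      intro y hy
      rcases hy with rfl | rfl
      · exact heW
      · exact hfW
    · rw [hNd, hdim]
  set x := e + f with hx
  have hxW : x ∈ W := W.add_mem heW hfW
  have hQx : Q x = 1 := by
    have h := QuadraticMap.map_add (⇑Q) e f
    rw [hx, h, hQe, hQf, hef]
    simp
  have hx0 : x ≠ 0 := by
    intro h
    rw [h, QuadraticMap.map_zero] at hQx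
    exact zero_ne_one hQx
  -- vectors of norm one in `W`
  have hnorm1 : ∀ y ∈ W, Q y = 1 → y = x ∨ y = -x := by
    intro y hy hQy
    rw [hWspan, Submodule.mem_span_pair] at hy
    obtain ⟨a, b, rfl⟩ := hy
    have h := QuadraticMap.map_add (⇑Q) (a • e) (b • f)
    rw [h, QuadraticMap.map_smul, QuadraticMap.map_smul, hQe, hQf, polar_smul_left,
      polar_smul_right, hef] at hQy
    simp only [smul_eq_mul, mul_zero, zero_add, mul_one] at hQy
    have ha0 : a ≠ 0 := by
      intro h0
      rw [h0, zero_mul] at hQy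
      exact zero_ne_one hQy
    have haa := mul_self_eq_one_of_card_le_three hq a ha0
    have hba : b = a := by
      have : a * b = a * a := by rw [hQy, haa]
      exact (mul_left_cancel₀ ha0 this)
    rw [hba]
    rcases mul_self_eq_one_iff.mp haa with h1 | h1
    · left
      rw [h1, hx]
      simp
    · right
      rw [h1, hx]
      simp
      abel
  obtain ⟨v, hv0, hQv, hve, hvf⟩ := exists_singular_perp_pair Q hQ hn e f
  have hev : polar (⇑Q) e v = 0 := by rw [polar_comm]; exact hve
  have hfv : polar (⇑Q) f v = 0 := by rw [polar_comm]; exact hvf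
  have hvv : polar (⇑Q) v v = 0 := by rw [polar_self, hQv]; simp
  have hvW : v ∉ W := by
    intro h
    rw [hWspan, Submodule.mem_span_pair] at h
    obtain ⟨a, b, hab⟩ := h
    apply hv0
    have h1 : polar (⇑Q) v f = a := by
      rw [← hab, polar_add_left, polar_smul_left, polar_smul_left, hef, hff]
      simp
    have h2 : polar (⇑Q) v e = b := by
      rw [← hab, polar_add_left, polar_smul_left, polar_smul_left, hee, hfe]
      simp
    rw [← hab, ← h1, ← h2, hvf, hve]
    simp
  apply nonmax_of_subspace (⇑Q) W (Submodule.span F {x})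
  · intro g _ hgW
    apply omap_eq_of_le
    rintro _ ⟨y, hy, rfl⟩
    rw [SetLike.mem_coe, Submodule.mem_span_singleton] at hy
    obtain ⟨t, rfl⟩ := hy
    rw [Matrix.mulVecLin_apply, Matrix.mulVec_smul]
    apply Submodule.smul_mem
    have hgx : ((g : GL ι F) : Matrix ι ι F) *ᵥ x ∈ W := by
      rw [← hgW]
      exact ⟨x, hxW, by rw [Matrix.mulVecLin_apply]⟩
    rcases hnorm1 _ hgx (by rw [O_isometry (⇑Q) g x]; exact hQx) with h | h
    · rw [h]
      exact Submodule.mem_span_singleton_self x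
    · rw [h]
      exact Submodule.neg_mem _ (Submodule.mem_span_singleton_self x)
  · have hg₁Ω := siegelO_mem_Omega Q hQ hn e v hQe hQv hev 1
    have hg₂Ω := siegelO_mem_Omega Q hQ hn f v hQf hQv hfv (-1)
    obtain ⟨g₁, hg₁Ω, hg₁⟩ : ∃ g₁ : ↥(Cfsg.isometryGroup F (⇑Q)), g₁ ∈ Cfsg.Omega F (⇑Q) ∧
        ∀ y, ((g₁ : GL ι F) : Matrix ι ι F) *ᵥ y =
          y + (1 : F) • (polar (⇑Q) e y • v - polar (⇑Q) v y • e) :=
      ⟨_, hg₁Ω, fun y => siegelO_mulVec Q e v hQe hQv hev 1 y⟩
    obtain ⟨g₂, hg₂Ω, hg₂⟩ : ∃ g₂ : ↥(Cfsg.isometryGroup F (⇑Q)), g₂ ∈ Cfsg.Omega F (⇑Q) ∧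
        ∀ y, ((g₂ : GL ι F) : Matrix ι ι F) *ᵥ y =
          y + (-1 : F) • (polar (⇑Q) f y • v - polar (⇑Q) v y • f) :=
      ⟨_, hg₂Ω, fun y => siegelO_mulVec Q f v hQf hQv hfv (-1) y⟩
    have h2x : ((g₂ : GL ι F) : Matrix ι ι F) *ᵥ x = x - v := by
      rw [hg₂, hx, polar_add_right, polar_add_right, hfe, hff, hve, hvf]
      simp only [add_zero, one_smul, zero_smul, sub_zero, neg_smul]
      abel
    have h2e : ((g₂ : GL ι F) : Matrix ι ι F) *ᵥ e = e - v := by
      rw [hg₂, hfe, hve]
      simp only [one_smul, zero_smul, sub_zero, neg_smul]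
      abel
    have hgx : (((g₁ * g₂ : ↥(Cfsg.isometryGroup F (⇑Q))) : GL ι F) : Matrix ι ι F) *ᵥ x = x := by
      rw [Subgroup.coe_mul, Units.val_mul, ← Matrix.mulVec_mulVec, h2x, hg₁, hx,
        polar_sub_right, polar_sub_right, polar_add_right, polar_add_right, hee, hef, hve, hvf,
        hev, hvv]
      simp only [zero_add, sub_zero, one_smul, zero_smul]
      abel
    have hge : (((g₁ * g₂ : ↥(Cfsg.isometryGroup F (⇑Q))) : GL ι F) : Matrix ι ι F) *ᵥ e =
        e - v := by
      rw [Subgroup.coe_mul, Units.val_mul, ← Matrix.mulVec_mulVec, h2e, hg₁,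
        polar_sub_right, polar_sub_right, hee, hve, hev, hvv]
      simp only [sub_zero, one_smul, zero_smul, add_zero]
    refine ⟨g₁ * g₂, Subgroup.mul_mem _ hg₁Ω hg₂Ω, ?_, ?_⟩
    · apply omap_eq_of_le
      rintro _ ⟨y, hy, rfl⟩
      rw [SetLike.mem_coe, Submodule.mem_span_singleton] at hy
      obtain ⟨t, rfl⟩ := hy
      rw [Matrix.mulVecLin_apply, Matrix.mulVec_smul, hgx]
      exact Submodule.smul_mem _ _ (Submodule.mem_span_singleton_self x)
    · intro h
      apply hvW
      have h1 : (((g₁ * g₂ : ↥(Cfsg.isometryGroup F (⇑Q))) : GL ι F) : Matrix ι ι F) *ᵥ e ∈ W := by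
        rw [← h]
        exact ⟨e, heW, by rw [Matrix.mulVecLin_apply]⟩
      rw [hge] at h1
      have := W.sub_mem heW h1
      rwa [sub_sub_cancel] at this
  · refine ⟨siegelO Q e v hQe hQv hev 1, siegelO_mem_Omega Q hQ hn e v hQe hQv hev 1, ?_⟩
    intro h
    have h1 : (((siegelO Q e v hQe hQv hev 1 : ↥(Cfsg.isometryGroup F (⇑Q))) : GL ι F) :
        Matrix ι ι F) *ᵥ x ∈ Submodule.span F {x} := by
      rw [← h]
      exact ⟨x, Submodule.mem_span_singleton_self x, by rw [Matrix.mulVecLin_apply]⟩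
    rw [siegelO_mulVec, hx, polar_add_right, polar_add_right, hee, hef, hve, hvf] at h1
    simp only [zero_add, one_smul, add_zero, zero_smul, sub_zero] at h1
    rw [← hx, Submodule.mem_span_singleton] at h1
    obtain ⟨t, ht⟩ := h1
    have hv' : v = (t - 1) • x := by
      rw [sub_smul, one_smul, ht]
      abel
    have hQv' := hQv
    rw [hv', QuadraticMap.map_smul, hQx, smul_eq_mul, mul_one] at hQv'
    have ht1 : t - 1 = 0 := mul_self_eq_zero.mp hQv'
    apply hv0
    rw [hv', ht1, zero_smul]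

end Cfsg.Agent.Lib.Helper50
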