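import Cfsg.Agent.Lib.Helper50.Frame3
import Cfsg.Agent.Lib.Helper50.SiegelOmega
import Cfsg.Agent.Lib.Helper50.TypeCriteria

set_option autoImplicit false

/-! Auxiliary facts on orthogonal decompositions: the stabiliser of a decomposition preserves the
set of vectors of a given norm in the members, Siegel involutions in characteristic two,
coordinates on plus type members of dimension two and four. -/

namespace Cfsg.Agent.Lib.Helper50

open Matrix Module QuadraticMap Cfsg.Agent.Lib.Helper19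

section general

variable {F : Type*} [Field F] {ι : Type} [Fintype ι] [DecidableEq ι]

/-- the stabiliser of a decomposition preserves the set of vectors of norm `c` of the members -/
theorem decompStab_le_stabilizing_normSet (Q : QuadraticForm F (ι → F)) {t : ℕ}
    (D : Fin t → Submodule F (ι → F)) (c : F) :
    Cfsg.Geo.decompositionStabilizer D ⊓ Cfsg.Geo.omegaGL (⇑Q) ≤
      Cfsg.stabilizing (Cfsg.glToMat ι F) (normSet Q D c) ⊓ Cfsg.Geo.omegaGL (⇑Q) := by
  rintro x ⟨hx1, hx2⟩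
  refine ⟨?_, hx2⟩
  obtain ⟨h, -⟩ := (mem_omegaGL_iff (⇑Q) x).mp hx2
  have hiso : ∀ w, Q ((x : Matrix ι ι F) *ᵥ w) = Q w := (mem_isometryGroup_iff (⇑Q) x).mp h
  obtain ⟨σ, hσ⟩ := hx1
  intro w
  constructor
  · rintro ⟨i, hwD, hwc⟩
    refine ⟨σ i, ?_, ?_⟩
    · rw [← hσ i]
      exact ⟨w, hwD, by rw [Matrix.toLin'_apply]; rfl⟩
    · change Q ((x : Matrix ι ι F) *ᵥ w) = c
      rw [hiso, hwc]
  · rintro ⟨j, hjD, hjc⟩
    change (x : Matrix ι ι F) *ᵥ w ∈ D j at hjD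
    change Q ((x : Matrix ι ι F) *ᵥ w) = c at hjc
    have hj : D j = D (σ (σ.symm j)) := by rw [Equiv.apply_symm_apply]
    rw [hj, ← hσ (σ.symm j)] at hjD
    obtain ⟨w', hw', hww'⟩ := hjD
    rw [Matrix.toLin'_apply] at hww'
    have : w' = w := by
      rw [← inv_mulVec_mulVec x w', hww', inv_mulVec_mulVec]
    rw [this] at hw'
    exact ⟨σ.symm j, hw', by rw [← hiso, hjc]⟩

/-- a Siegel element with parameter one in characteristic two that maps a set into itself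
stabilises it -/
theorem siegelO_mem_stabilizing_of_maps (h11 : (1 : F) + 1 = 0) (Q : QuadraticForm F (ι → F))
    (u v : ι → F) (hu : Q u = 0) (hv : Q v = 0) (huv : polar (⇑Q) u v = 0) (S : Set (ι → F))
    (h : ∀ w ∈ S, (((siegelO Q u v hu hv huv 1 : ↥(Cfsg.isometryGroup F (⇑Q))) : GL ι F) :
      Matrix ι ι F) *ᵥ w ∈ S) :
    ((siegelO Q u v hu hv huv 1 : ↥(Cfsg.isometryGroup F (⇑Q))) : GL ι F) ∈
      Cfsg.stabilizing (Cfsg.glToMat ι F) S := by
  intro w
  constructor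
  · exact h w
  · intro hw
    have h1 := h _ hw
    change (((siegelO Q u v hu hv huv 1 : ↥(Cfsg.isometryGroup F (⇑Q))) : GL ι F) :
      Matrix ι ι F) *ᵥ ((((siegelO Q u v hu hv huv 1 : ↥(Cfsg.isometryGroup F (⇑Q))) : GL ι F) :
      Matrix ι ι F) *ᵥ w) ∈ S at h1
    rw [Matrix.mulVec_mulVec, siegelO_val, siegel_mul Q u v hu hv huv, h11, siegel_zero,
      Matrix.one_mulVec] at h1
    exact h1

/-- the action of a Siegel element with parameter one in characteristic two -/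
theorem siegelO_one_mulVec [Fintype F] (h11 : (1 : F) + 1 = 0) (Q : QuadraticForm F (ι → F))
    (u v : ι → F) (hu : Q u = 0) (hv : Q v = 0) (huv : polar (⇑Q) u v = 0) (x : ι → F) :
    (((siegelO Q u v hu hv huv 1 : ↥(Cfsg.isometryGroup F (⇑Q))) : GL ι F) : Matrix ι ι F) *ᵥ x =
      x + polar (⇑Q) u x • v + polar (⇑Q) v x • u := by
  have hneg : ∀ y : F, -y = y := fun y => by linear_combination (-y) * h11
  rw [siegelO_mulVec, one_smul, sub_eq_add_neg, ← neg_smul, hneg, add_assoc]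

variable {t : ℕ} {D : Fin t → Submodule F (ι → F)}

/-- members of an orthogonal decomposition into non-degenerate subspaces meet trivially -/
theorem member_disjoint (Q : QuadraticForm F (ι → F))
    (horth : ∀ i j, i ≠ j → ∀ u ∈ D i, ∀ w ∈ D j, polar (⇑Q) u w = 0)
    (hnd : ∀ i, Cfsg.Geo.IsNondegenerateOn (QuadraticMap.polar (⇑Q)) (D i))
    (i j : Fin t) (hij : i ≠ j) (u : ι → F) (hui : u ∈ D i) (huj : u ∈ D j) : u = 0 := by
  by_contra hu0
  obtain ⟨⟨x, hx, hxu⟩, -⟩ := hnd i u hui hu0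
  exact hxu (horth i j hij x hx u huj)

/-- a non-zero vector of a member plus a non-zero vector orthogonal to the member lies in no
member -/
theorem add_not_mem_member (Q : QuadraticForm F (ι → F))
    (horth : ∀ i j, i ≠ j → ∀ u ∈ D i, ∀ w ∈ D j, polar (⇑Q) u w = 0)
    (hnd : ∀ i, Cfsg.Geo.IsNondegenerateOn (QuadraticMap.polar (⇑Q)) (D i))
    (i : Fin t) (w w' : ι → F) (hw : w ∈ D i) (hw0 : w ≠ 0) (hw'0 : w' ≠ 0)
    (hw' : ∀ x ∈ D i, polar (⇑Q) x w' = 0) (l : Fin t) : w + w' ∉ D l := by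
  intro hmem
  by_cases hl : l = i
  · subst hl
    have hw'D : w' ∈ D l := by
      have : w' = (w + w') - w := by abel
      rw [this]
      exact (D l).sub_mem hmem hw
    obtain ⟨⟨x, hx, hxw⟩, -⟩ := hnd l w' hw'D hw'0
    exact hxw (hw' x hx)
  · obtain ⟨⟨x, hx, hxw⟩, -⟩ := hnd i w hw hw0
    apply hxw
    have h1 := horth i l (Ne.symm hl) x hx _ hmem
    rw [polar_add_right, hw' x hx, add_zero] at h1
    exact h1

/-- an element mapping two vectors of one member to non-zero vectors of two different members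
does not stabilise the decomposition -/
theorem not_mem_decompStab_of_split (Q : QuadraticForm F (ι → F))
    (horth : ∀ i j, i ≠ j → ∀ u ∈ D i, ∀ w ∈ D j, polar (⇑Q) u w = 0)
    (hnd : ∀ i, Cfsg.Geo.IsNondegenerateOn (QuadraticMap.polar (⇑Q)) (D i))
    (g : GL ι F) (i a b : Fin t) (hab : a ≠ b) (w1 w2 : ι → F) (hw1 : w1 ∈ D i) (hw2 : w2 ∈ D i)
    (h1 : (g : Matrix ι ι F) *ᵥ w1 ∈ D a) (h10 : (g : Matrix ι ι F) *ᵥ w1 ≠ 0)
    (h2 : (g : Matrix ι ι F) *ᵥ w2 ∈ D b) (h20 : (g : Matrix ι ι F) *ᵥ w2 ≠ 0) :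
    g ∉ Cfsg.Geo.decompositionStabilizer D := by
  rintro ⟨σ, hσ⟩
  have hm1 : (g : Matrix ι ι F) *ᵥ w1 ∈ D (σ i) := by
    rw [← hσ i]
    exact ⟨w1, hw1, by rw [Matrix.toLin'_apply]⟩
  have hm2 : (g : Matrix ι ι F) *ᵥ w2 ∈ D (σ i) := by
    rw [← hσ i]
    exact ⟨w2, hw2, by rw [Matrix.toLin'_apply]⟩
  have ha : a = σ i := by
    by_contra hne
    exact h10 (member_disjoint Q horth hnd a (σ i) hne _ h1 hm1)
  have hb : b = σ i := by
    by_contra hne
    exact h20 (member_disjoint Q horth hnd b (σ i) hne _ h2 hm2)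
  exact hab (ha.trans hb.symm)

/-- an element mapping a vector of a member outside every member does not stabilise the
decomposition -/
theorem not_mem_decompStab_of_not_mem (g : GL ι F) (i : Fin t) (w : ι → F) (hw : w ∈ D i)
    (h : ∀ l, (g : Matrix ι ι F) *ᵥ w ∉ D l) : g ∉ Cfsg.Geo.decompositionStabilizer D := by
  rintro ⟨σ, hσ⟩
  apply h (σ i)
  rw [← hσ i]
  exact ⟨w, hw, by rw [Matrix.toLin'_apply]⟩

end general

section coords

variable {F : Type*} [Field F] {ι : Type} [Fintype ι] [DecidableEq ι]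

/-- hyperbolic coordinates on a plus type member -/
theorem exists_plus_coords (Q : QuadraticForm F (ι → F)) (N : Submodule F (ι → F)) (M : ℕ)
    (hN : finrank F N = 2 * M) (hnd : Cfsg.Geo.IsNondegenerateOn (polar (⇑Q)) N)
    (hplus : Cfsg.Geo.IsPlusTypeOn (⇑Q) N) :
    ∃ φ : ↥N ≃ₗ[F] (Fin M ⊕ Fin M → F), ∀ w : ↥N,
      Cfsg.quadFormPlus M F (φ w) = Q (w : ι → F) := by
  obtain ⟨U, hUN, hUts, hUdim⟩ := hplus
  set QN : QuadraticForm F ↥N := Q.comp N.subtype with hQN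
  have hQNapp : ∀ w : ↥N, QN w = Q (w : ι → F) := fun w => rfl
  have hpol : ∀ v w : ↥N, polar (⇑QN) v w = polar (⇑Q) (v : ι → F) (w : ι → F) := by
    intro v w
    unfold polar
    rw [hQNapp, hQNapp, hQNapp]
    rfl
  have hqnd : QND QN := by
    intro v hv
    by_contra hv0
    have hv0' : (v : ι → F) ≠ 0 := fun h => hv0 (Subtype.ext h)
    obtain ⟨-, ⟨x, hx, hxv⟩⟩ := hnd (v : ι → F) v.2 hv0'
    apply hxv
    have := hv ⟨x, hx⟩
    rw [hpol] at this
    exact this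
  set X : Submodule F ↥N := U.comap N.subtype with hX
  have hXdim : finrank F X = finrank F U :=
    (Submodule.comapSubtypeEquivOfLe hUN).finrank_eq
  have hXts : ∀ x ∈ X, QN x = 0 := by
    intro x hx
    rw [hQNapp]
    exact hUts _ hx
  have h := plusType_of_totally_singular M QN hqnd hN X (by omega) hXts
  obtain ⟨φ, hφ⟩ := h
  exact ⟨φ, fun w => by rw [hφ, hQNapp]⟩

/-- a hyperbolic basis of a plus type plane -/
theorem plane_coords (Q : QuadraticForm F (ι → F)) (N : Submodule F (ι → F))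
    (hN : finrank F N = 2) (hnd : Cfsg.Geo.IsNondegenerateOn (polar (⇑Q)) N)
    (hplus : Cfsg.Geo.IsPlusTypeOn (⇑Q) N) :
    ∃ e f : ι → F, e ∈ N ∧ f ∈ N ∧ (∀ x y : F, Q (x • e + y • f) = x * y) ∧
      ∀ w ∈ N, ∃ x y : F, w = x • e + y • f := by
  obtain ⟨φ, hφ⟩ := exists_plus_coords Q N 1 (by omega) hnd hplus
  refine ⟨(φ.symm (Pi.single (Sum.inl 0) 1) : ↥N), (φ.symm (Pi.single (Sum.inr 0) 1) : ↥N),
    Subtype.mem _, Subtype.mem _, ?_, ?_⟩
  · intro x y
    have h := hφ (x • φ.symm (Pi.single (Sum.inl 0) 1) + y • φ.symm (Pi.single (Sum.inr 0) 1))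
    rw [Submodule.coe_add, Submodule.coe_smul, Submodule.coe_smul] at h
    rw [← h, map_add, map_smul, map_smul, LinearEquiv.apply_symm_apply,
      LinearEquiv.apply_symm_apply]
    simp [Cfsg.quadFormPlus]
  · intro w hw
    refine ⟨φ ⟨w, hw⟩ (Sum.inl 0), φ ⟨w, hw⟩ (Sum.inr 0), ?_⟩
    have h : (⟨w, hw⟩ : ↥N) = φ ⟨w, hw⟩ (Sum.inl 0) • φ.symm (Pi.single (Sum.inl 0) 1) +
        φ ⟨w, hw⟩ (Sum.inr 0) • φ.symm (Pi.single (Sum.inr 0) 1) := by
      apply φ.injective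
      rw [map_add, map_smul, map_smul, LinearEquiv.apply_symm_apply,
        LinearEquiv.apply_symm_apply]
      ext (i | i)
      · have : i = 0 := Subsingleton.elim _ _
        subst this
        simp
      · have : i = 0 := Subsingleton.elim _ _
        subst this
        simp
    have h' := congrArg (fun z : ↥N => (z : ι → F)) h
    simpa using h'

/-- a hyperbolic basis of a plus type space of dimension four -/
theorem four_coords (Q : QuadraticForm F (ι → F)) (N : Submodule F (ι → F))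
    (hN : finrank F N = 4) (hnd : Cfsg.Geo.IsNondegenerateOn (polar (⇑Q)) N)
    (hplus : Cfsg.Geo.IsPlusTypeOn (⇑Q) N) :
    ∃ e0 f0 e1 f1 : ι → F, e0 ∈ N ∧ f0 ∈ N ∧ e1 ∈ N ∧ f1 ∈ N ∧
      (∀ x0 y0 x1 y1 : F, Q (x0 • e0 + y0 • f0 + x1 • e1 + y1 • f1) = x0 * y0 + x1 * y1) ∧
      ∀ w ∈ N, ∃ x0 y0 x1 y1 : F, w = x0 • e0 + y0 • f0 + x1 • e1 + y1 • f1 := by
  obtain ⟨φ, hφ⟩ := exists_plus_coords Q N 2 (by omega) hnd hplus
  refine ⟨(φ.symm (Pi.single (Sum.inl 0) 1) : ↥N), (φ.symm (Pi.single (Sum.inr 0) 1) : ↥N),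
    (φ.symm (Pi.single (Sum.inl 1) 1) : ↥N), (φ.symm (Pi.single (Sum.inr 1) 1) : ↥N),
    Subtype.mem _, Subtype.mem _, Subtype.mem _, Subtype.mem _, ?_, ?_⟩
  · intro x0 y0 x1 y1
    have h := hφ (x0 • φ.symm (Pi.single (Sum.inl 0) 1) + y0 • φ.symm (Pi.single (Sum.inr 0) 1) +
      x1 • φ.symm (Pi.single (Sum.inl 1) 1) + y1 • φ.symm (Pi.single (Sum.inr 1) 1))
    simp only [Submodule.coe_add, Submodule.coe_smul] at h
    rw [← h]
    simp only [map_add, map_smul, LinearEquiv.apply_symm_apply]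
    simp [Cfsg.quadFormPlus, Fin.sum_univ_two]
  · intro w hw
    refine ⟨φ ⟨w, hw⟩ (Sum.inl 0), φ ⟨w, hw⟩ (Sum.inr 0), φ ⟨w, hw⟩ (Sum.inl 1),
      φ ⟨w, hw⟩ (Sum.inr 1), ?_⟩
    have h : (⟨w, hw⟩ : ↥N) = φ ⟨w, hw⟩ (Sum.inl 0) • φ.symm (Pi.single (Sum.inl 0) 1) +
        φ ⟨w, hw⟩ (Sum.inr 0) • φ.symm (Pi.single (Sum.inr 0) 1) +
        φ ⟨w, hw⟩ (Sum.inl 1) • φ.symm (Pi.single (Sum.inl 1) 1) +
        φ ⟨w, hw⟩ (Sum.inr 1) • φ.symm (Pi.single (Sum.inr 1) 1) := by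
      apply φ.injective
      simp only [map_add, map_smul, LinearEquiv.apply_symm_apply]
      ext (i | i)
      · fin_cases i <;> simp
      · fin_cases i <;> simp
    have h' := congrArg (fun z : ↥N => (z : ι → F)) h
    simpa using h'

end coords

end Cfsg.Agent.Lib.Helper50
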