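import Cfsg.Agent.Lib.Helper50.OmegaAdjust

set_option autoImplicit false

/-! Orthogonal sums of quadratic forms on coordinate spaces, block embeddings of reflections,
and a characteristic-free criterion for membership in `Ω`. -/

namespace Cfsg.Agent.Lib.Helper50

open Matrix Cfsg.Agent.Lib.Helper19 QuadraticMap

variable {F : Type*} [Field F]
variable {κ₁ κ₂ : Type} [Fintype κ₁] [DecidableEq κ₁] [Fintype κ₂] [DecidableEq κ₂]

/-- orthogonal sum of two quadratic forms on coordinate spaces -/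
def sumForm (Q₁ : QuadraticForm F (κ₁ → F)) (Q₂ : QuadraticForm F (κ₂ → F)) :
    QuadraticForm F (κ₁ ⊕ κ₂ → F) :=
  Q₁.comp (LinearMap.funLeft F F Sum.inl) + Q₂.comp (LinearMap.funLeft F F Sum.inr)

theorem sumForm_coe (Q₁ : QuadraticForm F (κ₁ → F)) (Q₂ : QuadraticForm F (κ₂ → F)) :
    (⇑(sumForm Q₁ Q₂) : (κ₁ ⊕ κ₂ → F) → F) =
      fun v : κ₁ ⊕ κ₂ → F => Q₁ (v ∘ Sum.inl) + Q₂ (v ∘ Sum.inr) := rfl

theorem sumForm_apply (Q₁ : QuadraticForm F (κ₁ → F)) (Q₂ : QuadraticForm F (κ₂ → F))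
    (v : κ₁ ⊕ κ₂ → F) : sumForm Q₁ Q₂ v = Q₁ (v ∘ Sum.inl) + Q₂ (v ∘ Sum.inr) := rfl

theorem polar_sumForm (Q₁ : QuadraticForm F (κ₁ → F)) (Q₂ : QuadraticForm F (κ₂ → F))
    (u v : κ₁ ⊕ κ₂ → F) :
    polar (⇑(sumForm Q₁ Q₂)) u v =
      polar (⇑Q₁) (u ∘ Sum.inl) (v ∘ Sum.inl) + polar (⇑Q₂) (u ∘ Sum.inr) (v ∘ Sum.inr) := by
  simp only [polar, sumForm_apply]
  have e1 : (u + v) ∘ Sum.inl = u ∘ Sum.inl + v ∘ (Sum.inl : κ₁ → κ₁ ⊕ κ₂) := rfl
  have e2 : (u + v) ∘ Sum.inr = u ∘ Sum.inr + v ∘ (Sum.inr : κ₂ → κ₁ ⊕ κ₂) := rfl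
  rw [e1, e2]
  ring

theorem sumForm_nondegenerate (Q₁ : QuadraticForm F (κ₁ → F)) (Q₂ : QuadraticForm F (κ₂ → F))
    (h₁ : (polarBilin Q₁).Nondegenerate) (h₂ : (polarBilin Q₂).Nondegenerate) :
    (polarBilin (sumForm Q₁ Q₂)).Nondegenerate := by
  have hleft : ∀ u : κ₁ ⊕ κ₂ → F, (∀ v, polar (⇑(sumForm Q₁ Q₂)) u v = 0) → u = 0 := by
    intro u hu
    have hu1 : u ∘ Sum.inl = 0 := by
      apply h₁.1
      intro w
      have := hu (Sum.elim w 0)
      rw [polar_sumForm] at this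
      have e1 : (Sum.elim w (0 : κ₂ → F)) ∘ Sum.inl = w := rfl
      have e2 : (Sum.elim w (0 : κ₂ → F)) ∘ Sum.inr = 0 := rfl
      rw [e1, e2, polar_zero_right, add_zero] at this
      exact this
    have hu2 : u ∘ Sum.inr = 0 := by
      apply h₂.1
      intro w
      have := hu (Sum.elim 0 w)
      rw [polar_sumForm] at this
      have e1 : (Sum.elim (0 : κ₁ → F) w) ∘ Sum.inl = 0 := rfl
      have e2 : (Sum.elim (0 : κ₁ → F) w) ∘ Sum.inr = w := rfl
      rw [e1, e2, polar_zero_right, zero_add] at this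
      exact this
    funext i
    cases i with
    | inl i => exact congrFun hu1 i
    | inr i => exact congrFun hu2 i
  constructor
  · intro u hu
    exact hleft u (fun v => by rw [← polarBilin_apply_apply]; exact hu v)
  · intro u hu
    exact hleft u (fun v => by rw [polar_comm, ← polarBilin_apply_apply]; exact hu v)

theorem reflectionMatrix_sum_inl (Q₁ : QuadraticForm F (κ₁ → F)) (Q₂ : QuadraticForm F (κ₂ → F))
    (v : κ₁ → F) :
    Cfsg.reflectionMatrix (⇑(sumForm Q₁ Q₂)) (Sum.elim v 0) =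
      Matrix.fromBlocks (Cfsg.reflectionMatrix (⇑Q₁) v) 0 0 1 := by
  apply Matrix.toLin'.injective
  apply LinearMap.ext
  intro x
  rw [Matrix.toLin'_apply, Matrix.toLin'_apply, reflectionMatrix_mulVec]
  have hx : x = Sum.elim (x ∘ Sum.inl) (x ∘ Sum.inr) := by
    funext i; cases i <;> rfl
  have e1 : (Sum.elim v (0 : κ₂ → F)) ∘ Sum.inl = v := rfl
  have e2 : (Sum.elim v (0 : κ₂ → F)) ∘ Sum.inr = 0 := rfl
  rw [sumForm_apply, polar_sumForm, e1, e2, map_zero, add_zero, polar_zero_left, add_zero]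
  conv_rhs => rw [hx, Matrix.fromBlocks_mulVec]
  rw [reflectionMatrix_mulVec]
  funext i
  cases i with
  | inl i => simp
  | inr i => simp

theorem reflectionMatrix_sum_inr (Q₁ : QuadraticForm F (κ₁ → F)) (Q₂ : QuadraticForm F (κ₂ → F))
    (w : κ₂ → F) :
    Cfsg.reflectionMatrix (⇑(sumForm Q₁ Q₂)) (Sum.elim 0 w) =
      Matrix.fromBlocks 1 0 0 (Cfsg.reflectionMatrix (⇑Q₂) w) := by
  apply Matrix.toLin'.injective
  apply LinearMap.ext
  intro x
  rw [Matrix.toLin'_apply, Matrix.toLin'_apply, reflectionMatrix_mulVec]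
  have hx : x = Sum.elim (x ∘ Sum.inl) (x ∘ Sum.inr) := by
    funext i; cases i <;> rfl
  have e1 : (Sum.elim (0 : κ₁ → F) w) ∘ Sum.inl = 0 := rfl
  have e2 : (Sum.elim (0 : κ₁ → F) w) ∘ Sum.inr = w := rfl
  rw [sumForm_apply, polar_sumForm, e1, e2, map_zero, zero_add, polar_zero_left, zero_add]
  conv_rhs => rw [hx, Matrix.fromBlocks_mulVec]
  rw [reflectionMatrix_mulVec]
  funext i
  cases i with
  | inl i => simp
  | inr i => simp

theorem prod_fromBlocks_inl (l : List (Matrix κ₁ κ₁ F)) :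
    (l.map (fun A => Matrix.fromBlocks A (0 : Matrix κ₁ κ₂ F) (0 : Matrix κ₂ κ₁ F)
      (1 : Matrix κ₂ κ₂ F))).prod = Matrix.fromBlocks l.prod 0 0 1 := by
  induction l with
  | nil => simp [Matrix.fromBlocks_one]
  | cons a t ih =>
    rw [List.map_cons, List.prod_cons, ih, Matrix.fromBlocks_multiply, List.prod_cons]
    simp

theorem prod_reflectionMatrix_sum_inl (Q₁ : QuadraticForm F (κ₁ → F))
    (Q₂ : QuadraticForm F (κ₂ → F)) (l : List (κ₁ → F)) :
    ((l.map (fun v : κ₁ → F => (Sum.elim v 0 : κ₁ ⊕ κ₂ → F))).map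
      (fun v => Cfsg.reflectionMatrix (⇑(sumForm Q₁ Q₂)) v)).prod =
      Matrix.fromBlocks (l.map (fun v => Cfsg.reflectionMatrix (⇑Q₁) v)).prod 0 0 1 := by
  rw [List.map_map, ← prod_fromBlocks_inl, List.map_map]
  congr 1
  apply List.map_congr_left
  intro v _
  exact reflectionMatrix_sum_inl Q₁ Q₂ v

section finite

variable {ι : Type} [Fintype ι] [DecidableEq ι] [Fintype F]

/-- Characteristic-free criterion for membership in `Ω` in terms of a factorisation into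
reflections. -/
theorem omega_criterion (Q : QuadraticForm F (ι → F))
    (hQ : (QuadraticMap.polarBilin Q).Nondegenerate)
    (h24 : Fintype.card F ≠ 2 ∨ Fintype.card ι ≠ 4)
    (g : ↥(Cfsg.isometryGroup F (⇑Q))) (vs : List (ι → F)) (hvs : ∀ v ∈ vs, Q v ≠ 0)
    (hg : ((g : GL ι F) : Matrix ι ι F) = (vs.map (fun v => Cfsg.reflectionMatrix (⇑Q) v)).prod) :
    g ∈ Cfsg.Omega F (⇑Q) ↔
      (Even vs.length ∧ ((2 : F) ≠ 0 → IsSquare (vs.map (fun v => Q v)).prod)) := by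
  by_cases h2 : (2 : F) = 0
  · have hc : CharP F 2 := CharTwo.of_one_ne_zero_of_two_eq_zero one_ne_zero h2
    have hgen := Cfsg.Agent.Lib.Helper43.reflGenerated_char_two Q hQ h24
    have hgp : g = (vs.map (Cfsg.Agent.Lib.Helper43.reflO Q)).prod := by
      apply O_ext
      rw [hg, Cfsg.Agent.Lib.Helper43.val_prod_reflO Q vs hvs]
    rw [Cfsg.Agent.Lib.Helper43.Omega_eq_ker_dickson Q hQ hgen, MonoidHom.mem_ker]
    have h3 : Cfsg.Agent.Lib.Helper43.dickson Q hQ hgen g =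
        Multiplicative.ofAdd ((vs.length : ℕ) : ZMod 2) := by
      rw [hgp]
      exact Cfsg.Agent.Lib.Helper43.dicksonFun_prod Q hQ vs hvs
    rw [h3, ← ofAdd_zero, Multiplicative.ofAdd.apply_eq_iff_eq, ZMod.natCast_eq_zero_iff_even]
    constructor
    · intro h
      exact ⟨h, fun h' => absurd h2 h'⟩
    · intro h
      exact h.1
  · rw [show Cfsg.Omega F (⇑Q) = commutator ↥(Cfsg.isometryGroup F (⇑Q)) from rfl,
      spinor_criterion h2 Q g vs hvs hg]
    constructor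
    · intro h
      exact ⟨h.1, fun _ => h.2⟩
    · intro h
      exact ⟨h.1, h.2 h2⟩

/-- squares lie in `Ω` -/
theorem mul_self_mem_Omega (Q : QuadraticForm F (ι → F))
    (hQ : (QuadraticMap.polarBilin Q).Nondegenerate)
    (h24 : Fintype.card F ≠ 2 ∨ Fintype.card ι ≠ 4)
    (a : ↥(Cfsg.isometryGroup F (⇑Q))) : a * a ∈ Cfsg.Omega F (⇑Q) := by
  by_cases h2 : (2 : F) = 0
  · have hc : CharP F 2 := CharTwo.of_one_ne_zero_of_two_eq_zero one_ne_zero h2
    have hgen := Cfsg.Agent.Lib.Helper43.reflGenerated_char_two Q hQ h24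
    rw [Cfsg.Agent.Lib.Helper43.Omega_eq_ker_dickson Q hQ hgen, MonoidHom.mem_ker, map_mul]
    obtain ⟨y, hy⟩ := Multiplicative.ofAdd.surjective
      (Cfsg.Agent.Lib.Helper43.dickson Q hQ hgen a)
    rw [← hy]
    have h01 : y = 0 ∨ y = 1 := by
      clear hy
      revert y; decide
    rcases h01 with rfl | rfl <;> rfl
  · obtain ⟨ζ, hζ⟩ := exists_nonsquare_of_two_ne_zero h2
    rw [show Cfsg.Omega F (⇑Q) = commutator ↥(Cfsg.isometryGroup F (⇑Q)) from rfl,
      ← ker_thetaPair h2 Q hQ ζ hζ, MonoidHom.mem_ker, map_mul]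
    apply Prod.ext
    · exact Int.units_mul_self _
    · exact Int.units_mul_self _

end finite

end Cfsg.Agent.Lib.Helper50
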