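import Cfsg.Agent.Lib.Helper50.StdForms
import Cfsg.Agent.Lib.Helper50.TypeCriteria
import Cfsg.Agent.Lib.Helper50.WittMain

set_option autoImplicit false

/-! The Witt type of the sum-of-squares form `v ↦ v ⬝ᵥ v` in even dimension over a finite field
of odd order. -/

namespace Cfsg.Agent.Lib.Helper50

open Matrix QuadraticMap

variable {F : Type*} [Field F]

/-- the sum of squares -/
def dotFun (n : ℕ) (F : Type*) [Field F] (v : Fin n → F) : F := v ⬝ᵥ v

theorem dotFun_smul (n : ℕ) (a : F) (x : Fin n → F) :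
    dotFun n F (a • x) = a * a * dotFun n F x := by
  unfold dotFun
  rw [smul_dotProduct, dotProduct_smul, smul_eq_mul, smul_eq_mul, mul_assoc]

theorem polar_dotFun (n : ℕ) (u v : Fin n → F) :
    polar (dotFun n F) u v = Matrix.toBilin' ((2 : F) • (1 : Matrix (Fin n) (Fin n) F)) u v := by
  rw [Matrix.toBilin'_apply', Matrix.smul_mulVec, Matrix.one_mulVec, dotProduct_smul, smul_eq_mul]
  unfold polar dotFun
  rw [add_dotProduct, dotProduct_add, dotProduct_add, dotProduct_comm v u]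
  ring

/-- the sum of squares as a quadratic form -/
def dotQF (n : ℕ) (F : Type*) [Field F] : QuadraticForm F (Fin n → F) :=
  qfOfPolar (dotFun n F) ((2 : F) • (1 : Matrix (Fin n) (Fin n) F)) (dotFun_smul n) (polar_dotFun n)

theorem dotQF_apply (n : ℕ) (v : Fin n → F) : dotQF n F v = v ⬝ᵥ v := rfl

theorem det_two_smul_one (n : ℕ) :
    ((2 : F) • (1 : Matrix (Fin n) (Fin n) F)).det = 2 ^ n := by
  rw [Matrix.det_smul, Matrix.det_one, mul_one, Fintype.card_fin]

theorem dotQF_QND (h2 : (2 : F) ≠ 0) (n : ℕ) : QND (dotQF n F) := by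
  apply QND_of_nondegenerate
  apply qfOfPolar_nondegenerate
  rw [det_two_smul_one]
  exact pow_ne_zero _ h2

theorem dotQF_gram (n : ℕ) :
    (Matrix.of fun i j : Fin n => polar (dotQF n F) ((Pi.basisFun F (Fin n)) i)
      ((Pi.basisFun F (Fin n)) j)) = (2 : F) • (1 : Matrix (Fin n) (Fin n) F) := by
  have := qfOfPolar_gram (dotFun n F) ((2 : F) • (1 : Matrix (Fin n) (Fin n) F)) (dotFun_smul n)
    (polar_dotFun n)
  rw [← this]
  ext i j
  simp only [Matrix.of_apply, Pi.basisFun_apply]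
  rfl

theorem dotQF_type [Fintype F] (h2 : (2 : F) ≠ 0) (m : ℕ) :
    (IsSquare ((-1 : F) ^ m) → IsPlusType (dotQF (2 * m) F) m) ∧
    (¬ IsSquare ((-1 : F) ^ m) → ∃ ζ : F, (∀ t : F, t ^ 2 + t + ζ ≠ 0) ∧
      IsMinusType (dotQF (2 * m) F) (m - 1) ζ) := by
  have hn : Module.finrank F (Fin (2 * m) → F) = 2 * m := Module.finrank_fin_fun F
  have hsq : IsSquare (Matrix.of fun i j : Fin (2 * m) =>
      polar (dotQF (2 * m) F) ((Pi.basisFun F (Fin (2 * m))) i)
        ((Pi.basisFun F (Fin (2 * m))) j)).det := by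
    rw [dotQF_gram, det_two_smul_one]
    exact ⟨2 ^ m, by ring⟩
  rcases witt_type (2 * m) (dotQF (2 * m) F) hn (dotQF_QND h2 _) with
    ⟨m', hm', hp⟩ | ⟨k, ζ, hk, hζ, hp⟩ | ⟨k, c, hk, -, -⟩
  · obtain rfl : m' = m := by omega
    have := (gram_isSquare_plus (dotQF (2 * m') F) m' hp (Pi.basisFun F (Fin (2 * m')))).mp hsq
    exact ⟨fun _ => hp, fun h => absurd this h⟩
  · obtain rfl : m = k + 1 := by omega
    have := (gram_isSquare_minus h2 (dotQF (2 * (k + 1)) F) k ζ hζ hp
      (Pi.basisFun F (Fin (2 * (k + 1))))).mp hsq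
    exact ⟨fun h => absurd h this, fun _ => ⟨ζ, hζ, hp⟩⟩
  · omega

theorem even_iff_isSquare_neg_one_pow [Fintype F] (hodd : Odd (Fintype.card F)) (m : ℕ) :
    Even (2 * m * (Fintype.card F - 1) / 4) ↔ IsSquare ((-1 : F) ^ m) := by
  obtain ⟨t, ht⟩ := hodd
  have e1 : 2 * m * (Fintype.card F - 1) / 4 = m * t := by
    rw [ht, Nat.add_sub_cancel]
    rw [show 2 * m * (2 * t) = (m * t) * 4 by ring]
    exact Nat.mul_div_cancel _ (by norm_num)
  rw [e1]
  rcases Nat.even_or_odd m with hm | hm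
  · rw [hm.neg_one_pow]
    exact ⟨fun _ => ⟨1, by ring⟩, fun _ => hm.mul_right t⟩
  · rw [hm.neg_one_pow, FiniteField.isSquare_neg_one_iff, ht, Nat.even_mul]
    have hm' : ¬ Even m := Nat.not_even_iff_odd.mpr hm
    constructor
    · rintro (h | h)
      · exact absurd h hm'
      · obtain ⟨s, rfl⟩ := h
        omega
    · intro h
      right
      rw [Nat.even_iff]
      omega

end Cfsg.Agent.Lib.Helper50
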