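import Cfsg.Agent.Lib.Helper50.GraphAutMat
import Cfsg.Agent.Lib.Helper50.DotForm
import Cfsg.Agent.Lib.Helper50.IsometryDisc
import Cfsg.Agent.Lib.Helper50.SpinorCrit

set_option autoImplicit false

/-! Quadratic forms `v ↦ v ⬝ᵥ M *ᵥ v` for symmetric matrices `M` over finite fields of odd
order: Witt type through the determinant, and congruence from isometry. -/

namespace Cfsg.Agent.Lib.Helper50

open Matrix QuadraticMap

section
variable {n : ℕ} {F : Type*} [Field F]

theorem matQuad_smul (M : Matrix (Fin n) (Fin n) F) (a : F) (x : Fin n → F) :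
    matQuad M (a • x) = a * a * matQuad M x := by
  unfold matQuad
  rw [Matrix.mulVec_smul, smul_dotProduct, dotProduct_smul, smul_eq_mul, smul_eq_mul, mul_assoc]

theorem polar_matQuad (M : Matrix (Fin n) (Fin n) F) (hM : Mᵀ = M) (u v : Fin n → F) :
    polar (matQuad M) u v = Matrix.toBilin' ((2 : F) • M) u v := by
  rw [Matrix.toBilin'_apply']
  show _ = matBil ((2 : F) • M) u v
  rw [matBil_smul]
  unfold polar
  rw [matQuad_add M hM]
  ring

/-- the quadratic form of a symmetric matrix -/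
def qfMat (M : Matrix (Fin n) (Fin n) F) (hM : Mᵀ = M) : QuadraticForm F (Fin n → F) :=
  qfOfPolar (matQuad M) ((2 : F) • M) (matQuad_smul M) (polar_matQuad M hM)

theorem qfMat_apply (M : Matrix (Fin n) (Fin n) F) (hM : Mᵀ = M) (v : Fin n → F) :
    qfMat M hM v = matQuad M v := rfl

theorem det_two_smul (M : Matrix (Fin n) (Fin n) F) : ((2 : F) • M).det = 2 ^ n * M.det := by
  rw [Matrix.det_smul, Fintype.card_fin]

theorem qfMat_QND (h2 : (2 : F) ≠ 0) (M : Matrix (Fin n) (Fin n) F) (hM : Mᵀ = M)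
    (hdet : M.det ≠ 0) : QND (qfMat M hM) := by
  apply QND_of_nondegenerate
  apply qfOfPolar_nondegenerate
  rw [det_two_smul]
  exact mul_ne_zero (pow_ne_zero _ h2) hdet

theorem qfMat_gram (M : Matrix (Fin n) (Fin n) F) (hM : Mᵀ = M) :
    (Matrix.of fun i j : Fin n => polar (qfMat M hM) ((Pi.basisFun F (Fin n)) i)
      ((Pi.basisFun F (Fin n)) j)) = (2 : F) • M := by
  have := qfOfPolar_gram (matQuad M) ((2 : F) • M) (matQuad_smul M) (polar_matQuad M hM)
  rw [← this]
  ext i j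
  simp only [Matrix.of_apply, Pi.basisFun_apply]
  rfl

theorem disc_qfMat (M : Matrix (Fin n) (Fin n) F) (hM : Mᵀ = M) :
    disc (qfMat M hM) = 2 ^ n * M.det := by
  unfold disc
  have := qfOfPolar_gram (matQuad M) ((2 : F) • M) (matQuad_smul M) (polar_matQuad M hM)
  rw [← det_two_smul, ← this]
  rfl

theorem qfMat_type [Fintype F] (h2 : (2 : F) ≠ 0) (m : ℕ)
    (M : Matrix (Fin (2 * m)) (Fin (2 * m)) F) (hM : Mᵀ = M) (hdet : M.det ≠ 0) :
    ((IsSquare M.det ↔ IsSquare ((-1 : F) ^ m)) → IsPlusType (qfMat M hM) m) ∧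
    (¬ (IsSquare M.det ↔ IsSquare ((-1 : F) ^ m)) → ∃ ζ : F, (∀ t : F, t ^ 2 + t + ζ ≠ 0) ∧
      IsMinusType (qfMat M hM) (m - 1) ζ) := by
  have hn : Module.finrank F (Fin (2 * m) → F) = 2 * m := Module.finrank_fin_fun F
  have hsq : IsSquare (Matrix.of fun i j : Fin (2 * m) =>
      polar (qfMat M hM) ((Pi.basisFun F (Fin (2 * m))) i)
        ((Pi.basisFun F (Fin (2 * m))) j)).det ↔ IsSquare M.det := by
    rw [qfMat_gram, det_two_smul, show (2 : F) ^ (2 * m) = (2 ^ m) ^ 2 by ring]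
    exact isSquare_sq_mul_iff (pow_ne_zero _ h2)
  rcases witt_type (2 * m) (qfMat M hM) hn (qfMat_QND h2 M hM hdet) with
    ⟨m', hm', hp⟩ | ⟨k, ζ, hk, hζ, hp⟩ | ⟨k, c, hk, -, -⟩
  · obtain rfl : m' = m := by omega
    have := gram_isSquare_plus (qfMat M hM) m' hp (Pi.basisFun F (Fin (2 * m')))
    rw [hsq] at this
    exact ⟨fun _ => hp, fun h => absurd this h⟩
  · obtain rfl : m = k + 1 := by omega
    have := gram_isSquare_minus h2 (qfMat M hM) k ζ hζ hp (Pi.basisFun F (Fin (2 * (k + 1))))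
    rw [hsq] at this
    refine ⟨fun h => ?_, fun _ => ⟨ζ, hζ, hp⟩⟩
    exfalso
    rw [h] at this
    exact (iff_not_self this)
  · omega

/-- symmetric matrices with the same quadratic function coincide -/
theorem matQuad_ext (h2 : (2 : F) ≠ 0) {M M' : Matrix (Fin n) (Fin n) F} (hM : Mᵀ = M)
    (hM' : M'ᵀ = M') (h : ∀ v, matQuad M v = matQuad M' v) : M = M' := by
  apply matBil_ext
  intro u v
  have h1 := h (u + v)
  rw [matQuad_add M hM, matQuad_add M' hM', h u, h v] at h1
  have : (2 : F) * matBil M u v = 2 * matBil M' u v := by linear_combination h1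
  exact mul_left_cancel₀ h2 this

theorem matQuad_mulVec (M P : Matrix (Fin n) (Fin n) F) (v : Fin n → F) :
    matQuad M (P *ᵥ v) = matQuad (Pᵀ * M * P) v := matBil_mulVec M P v v

/-- an isometry between the forms of two symmetric matrices is a congruence -/
theorem congr_of_isometry (h2 : (2 : F) ≠ 0) {M M' : Matrix (Fin n) (Fin n) F} (hM : Mᵀ = M)
    (hM' : M'ᵀ = M') (hdet : M.det ≠ 0) (φ : (Fin n → F) ≃ₗ[F] (Fin n → F))
    (h : ∀ v, matQuad M' (φ v) = matQuad M v) :
    ∃ P : GL (Fin n) F, P.valᵀ * M' * P.val = M := by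
  have hP : (LinearMap.toMatrix' (φ : (Fin n → F) →ₗ[F] (Fin n → F)))ᵀ * M' *
      LinearMap.toMatrix' (φ : (Fin n → F) →ₗ[F] (Fin n → F)) = M := by
    apply matQuad_ext h2 _ hM
    · intro v
      rw [← matQuad_mulVec, LinearMap.toMatrix'_mulVec]
      exact h v
    · rw [Matrix.transpose_mul, Matrix.transpose_mul, Matrix.transpose_transpose, hM',
        Matrix.mul_assoc]
  obtain ⟨P, hPv⟩ := exists_gl_of_congr _ M M' 1 (by rw [one_smul]; exact hP) one_ne_zero hdet
  exact ⟨P, by rw [hPv]; exact hP⟩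

/-- two symmetric invertible matrices over a finite field of odd order whose determinants
lie in the same square class are congruent -/
theorem congr_of_det [Fintype F] (h2 : (2 : F) ≠ 0) {M M' : Matrix (Fin n) (Fin n) F}
    (hM : Mᵀ = M) (hM' : M'ᵀ = M') (hdet : M.det ≠ 0) (hdet' : M'.det ≠ 0)
    (hsq : IsSquare (M.det * M'.det)) :
    ∃ P : GL (Fin n) F, P.valᵀ * M' * P.val = M := by
  have hd : IsSquare (disc (qfMat M hM) * disc (qfMat M' hM')) := by
    rw [disc_qfMat, disc_qfMat]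
    rw [show (2 : F) ^ n * M.det * (2 ^ n * M'.det) = (2 ^ n) ^ 2 * (M.det * M'.det) by ring]
    exact (isSquare_sq_mul_iff (pow_ne_zero _ h2)).mpr hsq
  obtain ⟨φ, hφ⟩ := isometric_of_disc h2 (qfMat M hM) (qfMat M' hM') (qfMat_QND h2 M hM hdet)
    (qfMat_QND h2 M' hM' hdet') hd
  exact congr_of_isometry h2 hM hM' hdet φ hφ

end

end Cfsg.Agent.Lib.Helper50
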