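import Cfsg.Agent.Lib.Helper50.Frame3

set_option autoImplicit false

/-! The orthogonal frame of a non-degenerate 3-space over the field with three elements: the
vectors of one suitable norm `c` are `± w 0, ± w 1, ± w 2` for an orthogonal basis `w`. -/

namespace Cfsg.Agent.Lib.Helper50

open Matrix Module QuadraticMap Cfsg.Agent.Lib.Helper19

variable {F : Type*} [Field F] [Fintype F] {ι : Type} [Fintype ι] [DecidableEq ι]

theorem three_eq_zero_of_card_three (hq : Fintype.card F = 3) : (1 : F) + 1 + 1 = 0 := by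
  have h2 := two_ne_zero_of_card_three hq
  have hle : Fintype.card F ≤ 3 := by omega
  have h := mul_self_eq_one_of_card_le_three hle (2 : F) h2
  have h' : ((1 : F) + 1 + 1) * 1 = 0 := by
    have : (2 : F) * 2 - 1 = 0 := by rw [h]; ring
    rw [← this]; ring
  rwa [mul_one] at h'

theorem zero_or_one_or_neg_one (hq : Fintype.card F = 3) (x : F) : x = 0 ∨ x = 1 ∨ x = -1 := by
  have hle : Fintype.card F ≤ 3 := by omega
  by_cases hx : x = 0
  · exact Or.inl hx
  · exact Or.inr (mul_self_eq_one_iff.mp (mul_self_eq_one_of_card_le_three hle x hx))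

theorem sq_zero_or_one (hq : Fintype.card F = 3) (x : F) : x * x = 0 ∨ x * x = 1 := by
  rcases zero_or_one_or_neg_one hq x with h | h | h <;> simp [h]

theorem sum_three_sq_eq_one (hq : Fintype.card F = 3) (s0 s1 s2 : F) (h0 : s0 = 0 ∨ s0 = 1)
    (h1 : s1 = 0 ∨ s1 = 1) (h2 : s2 = 0 ∨ s2 = 1) (h : s0 + s1 + s2 = 1) :
    (s0 = 1 ∧ s1 = 0 ∧ s2 = 0) ∨ (s0 = 0 ∧ s1 = 1 ∧ s2 = 0) ∨ (s0 = 0 ∧ s1 = 0 ∧ s2 = 1) := by
  have h2' : (1 : F) + 1 ≠ 0 := by
    have := two_ne_zero_of_card_three hq
    intro h'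
    apply this
    rw [← h']; norm_num
  rcases h0 with rfl | rfl <;> rcases h1 with rfl | rfl <;> rcases h2 with rfl | rfl
  · exfalso; exact one_ne_zero (by linear_combination -h : (1 : F) = 0)
  · right; right; exact ⟨rfl, rfl, rfl⟩
  · right; left; exact ⟨rfl, rfl, rfl⟩
  · exfalso; exact one_ne_zero (by linear_combination h : (1 : F) = 0)
  · left; exact ⟨rfl, rfl, rfl⟩
  · exfalso; exact one_ne_zero (by linear_combination h : (1 : F) = 0)
  · exfalso; exact one_ne_zero (by linear_combination h : (1 : F) = 0)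
  · exfalso; exact h2' (by linear_combination h : (1 : F) + 1 = 0)

theorem sum_three_sq_eq_neg_one (hq : Fintype.card F = 3) (s0 s1 s2 : F) (h0 : s0 = 0 ∨ s0 = 1)
    (h1 : s1 = 0 ∨ s1 = 1) (h2 : s2 = 0 ∨ s2 = 1) (h : s0 + s1 - s2 = -1) :
    (s0 = 0 ∧ s1 = 0 ∧ s2 = 1) ∨ (s0 = 1 ∧ s1 = 1 ∧ s2 = 0) := by
  have h2' : (1 : F) + 1 ≠ 0 := by
    have := two_ne_zero_of_card_three hq
    intro h'
    apply this
    rw [← h']; norm_num
  rcases h0 with rfl | rfl <;> rcases h1 with rfl | rfl <;> rcases h2 with rfl | rfl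
  · exfalso; exact one_ne_zero (by linear_combination h : (1 : F) = 0)
  · left; exact ⟨rfl, rfl, rfl⟩
  · exfalso; exact h2' (by linear_combination h : (1 : F) + 1 = 0)
  · exfalso; exact one_ne_zero (by linear_combination h : (1 : F) = 0)
  · exfalso; exact h2' (by linear_combination h : (1 : F) + 1 = 0)
  · exfalso; exact one_ne_zero (by linear_combination h : (1 : F) = 0)
  · right; exact ⟨rfl, rfl, rfl⟩
  · exfalso; exact h2' (by linear_combination h : (1 : F) + 1 = 0)

/-- the orthogonal frame of a non-degenerate 3-space over the field with three elements -/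
theorem frame3_quad (hq : Fintype.card F = 3) (Q : QuadraticForm F (ι → F))
    (N : Submodule F (ι → F)) (hN : finrank F N = 3)
    (hnd : Cfsg.Geo.IsNondegenerateOn (polar (⇑Q)) N) :
    ∃ c : F, c ≠ 0 ∧ ∃ w : Fin 3 → (ι → F), (∀ j, w j ∈ N) ∧ (∀ j, Q (w j) = c) ∧
      (∀ i j, i ≠ j → polar (⇑Q) (w i) (w j) = 0) ∧
      ∀ x ∈ N, Q x = c → ∃ j, x = w j ∨ x = -w j := by
  have h2 := two_ne_zero_of_card_three hq
  have h3 := three_eq_zero_of_card_three hq
  have hle : Fintype.card F ≤ 3 := by omega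
  obtain ⟨u, huN, hu0, horth, hspan⟩ := exists_orthogonal_basis_sub h2 Q N 3 hN
  have ha : ∀ j, Q (u j) ≠ 0 := by
    intro j hj
    obtain ⟨-, ⟨y, hyN, hy⟩⟩ := hnd (u j) (huN j) (hu0 j)
    apply hy
    obtain ⟨x, rfl⟩ := hspan y hyN
    rw [polar_sum_right_fin]
    apply Finset.sum_eq_zero
    intro m _
    by_cases hmj : m = j
    · subst hmj
      rw [polar_self, hj, smul_zero, mul_zero]
    · rw [horth j m (Ne.symm hmj), mul_zero]
  have hpm : ∀ j, Q (u j) = 1 ∨ Q (u j) = -1 := fun j =>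
    mul_self_eq_one_iff.mp (mul_self_eq_one_of_card_le_three hle _ (ha j))
  obtain ⟨σ, hσ⟩ : ∃ σ : Equiv.Perm (Fin 3), Q (u (σ 0)) = Q (u (σ 1)) := by
    by_cases e01 : Q (u 0) = Q (u 1)
    · exact ⟨1, by simpa using e01⟩
    by_cases e02 : Q (u 0) = Q (u 2)
    · refine ⟨Equiv.swap 1 2, ?_⟩
      have s0 : (Equiv.swap (1 : Fin 3) 2) 0 = 0 := by decide
      have s1 : (Equiv.swap (1 : Fin 3) 2) 1 = 2 := by decide
      rw [s0, s1]; exact e02
    have e12 : Q (u 1) = Q (u 2) := by
      rcases hpm 0 with h0 | h0 <;> rcases hpm 1 with h1 | h1 <;> rcases hpm 2 with h2' | h2' <;>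
        simp_all
    refine ⟨Equiv.swap 0 2, ?_⟩
    have s0 : (Equiv.swap (0 : Fin 3) 2) 0 = 2 := by decide
    have s1 : (Equiv.swap (0 : Fin 3) 2) 1 = 1 := by decide
    rw [s0, s1]; exact e12.symm
  set v : Fin 3 → (ι → F) := fun m => u (σ m) with hv
  have hvN : ∀ j, v j ∈ N := fun j => huN (σ j)
  have horth' : ∀ i j, i ≠ j → polar (⇑Q) (v i) (v j) = 0 := fun i j hij =>
    horth (σ i) (σ j) (fun h => hij (σ.injective h))
  have hspan' : ∀ w ∈ N, ∃ x : Fin 3 → F, w = x 0 • v 0 + x 1 • v 1 + x 2 • v 2 := by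
    intro w hw
    obtain ⟨x, rfl⟩ := hspan w hw
    refine ⟨fun m => x (σ m), ?_⟩
    rw [← Equiv.sum_comp σ (fun j => x j • u j), Fin.sum_univ_three]
  have hQv : ∀ x : Fin 3 → F, Q (x 0 • v 0 + x 1 • v 1 + x 2 • v 2) =
      x 0 * x 0 * Q (v 0) + x 1 * x 1 * Q (v 1) + x 2 * x 2 * Q (v 2) := by
    intro x
    have h := Q_sum_orth Q v horth' x Finset.univ
    rw [Fin.sum_univ_three, Fin.sum_univ_three] at h
    exact h
  set a := Q (v 0) with ha_def
  have ha0 : a ≠ 0 := ha (σ 0)
  have hv1 : Q (v 1) = a := hσ.symm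
  have hv2 : Q (v 2) = a ∨ Q (v 2) = -a := by
    rcases hpm (σ 0) with h0 | h0 <;> rcases hpm (σ 2) with h2' | h2'
    · left; rw [ha_def]; change Q (u (σ 2)) = Q (u (σ 0)); rw [h0, h2']
    · right; rw [ha_def]; change Q (u (σ 2)) = -Q (u (σ 0)); rw [h0, h2']
    · right; rw [ha_def]; change Q (u (σ 2)) = -Q (u (σ 0)); rw [h0, h2', neg_neg]
    · left; rw [ha_def]; change Q (u (σ 2)) = Q (u (σ 0)); rw [h0, h2']
  rcases hv2 with hv2 | hv2
  · -- all three norms agree
    refine ⟨a, ha0, v, hvN, ?_, horth', ?_⟩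
    · intro j
      fin_cases j
      · rfl
      · exact hv1
      · exact hv2
    · intro x hx hQx
      obtain ⟨c, rfl⟩ := hspan' x hx
      rw [hQv, hv1, hv2] at hQx
      have hsum : c 0 * c 0 + c 1 * c 1 + c 2 * c 2 = 1 := by
        have : (c 0 * c 0 + c 1 * c 1 + c 2 * c 2 - 1) * a = 0 := by linear_combination hQx
        rcases mul_eq_zero.mp this with h | h
        · linear_combination h
        · exact absurd h ha0
      rcases sum_three_sq_eq_one hq _ _ _ (sq_zero_or_one hq (c 0)) (sq_zero_or_one hq (c 1))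
        (sq_zero_or_one hq (c 2)) hsum with ⟨e0, e1, e2⟩ | ⟨e0, e1, e2⟩ | ⟨e0, e1, e2⟩
      · refine ⟨0, ?_⟩
        rw [mul_self_eq_zero.mp e1, mul_self_eq_zero.mp e2, zero_smul, zero_smul, add_zero,
          add_zero]
        rcases mul_self_eq_one_iff.mp e0 with h | h
        · left; rw [h, one_smul]
        · right; rw [h, neg_smul, one_smul]
      · refine ⟨1, ?_⟩
        rw [mul_self_eq_zero.mp e0, mul_self_eq_zero.mp e2, zero_smul, zero_smul, add_zero,
          zero_add]
        rcases mul_self_eq_one_iff.mp e1 with h | h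
        · left; rw [h, one_smul]
        · right; rw [h, neg_smul, one_smul]
      · refine ⟨2, ?_⟩
        rw [mul_self_eq_zero.mp e0, mul_self_eq_zero.mp e1, zero_smul, zero_smul, zero_add,
          zero_add]
        rcases mul_self_eq_one_iff.mp e2 with h | h
        · left; rw [h, one_smul]
        · right; rw [h, neg_smul, one_smul]
  · -- the third norm differs
    have h01 : polar (⇑Q) (v 0) (v 1) = 0 := horth' 0 1 (by decide)
    have h10 : polar (⇑Q) (v 1) (v 0) = 0 := horth' 1 0 (by decide)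
    have h02 : polar (⇑Q) (v 0) (v 2) = 0 := horth' 0 2 (by decide)
    have h20 : polar (⇑Q) (v 2) (v 0) = 0 := horth' 2 0 (by decide)
    have h12 : polar (⇑Q) (v 1) (v 2) = 0 := horth' 1 2 (by decide)
    have h21 : polar (⇑Q) (v 2) (v 1) = 0 := horth' 2 1 (by decide)
    have h00 : polar (⇑Q) (v 0) (v 0) = 2 * a := by rw [polar_self, ← ha_def]; simp
    have h11 : polar (⇑Q) (v 1) (v 1) = 2 * a := by rw [polar_self, hv1]; simp
    have haa : a + a = -a := by linear_combination a * h3
    have hQp : Q (v 0 + v 1) = -a := by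
      rw [QuadraticMap.map_add Q, ← ha_def, hv1, h01, add_zero, haa]
    have hQm : Q (v 0 - v 1) = -a := by
      have h := QuadraticMap.map_add Q (v 0) (-(v 1))
      rw [← sub_eq_add_neg] at h
      rw [h, QuadraticMap.map_neg, ← ha_def, hv1, polar_neg_right, h01, neg_zero, add_zero, haa]
    refine ⟨-a, neg_ne_zero.mpr ha0, ![v 0 + v 1, v 0 - v 1, v 2], ?_, ?_, ?_, ?_⟩
    · intro j
      fin_cases j
      · exact N.add_mem (hvN 0) (hvN 1)
      · exact N.sub_mem (hvN 0) (hvN 1)
      · exact hvN 2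
    · intro j
      fin_cases j
      · exact hQp
      · exact hQm
      · exact hv2
    · intro i j hij
      fin_cases i <;> fin_cases j
      · exact absurd rfl hij
      · show polar (⇑Q) (v 0 + v 1) (v 0 - v 1) = 0
        rw [polar_add_left, polar_sub_right, polar_sub_right, h00, h01, h10, h11]; ring
      · show polar (⇑Q) (v 0 + v 1) (v 2) = 0
        rw [polar_add_left, h02, h12, add_zero]
      · show polar (⇑Q) (v 0 - v 1) (v 0 + v 1) = 0
        rw [polar_sub_left, polar_add_right, polar_add_right, h00, h01, h10, h11]; ring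
      · exact absurd rfl hij
      · show polar (⇑Q) (v 0 - v 1) (v 2) = 0
        rw [polar_sub_left, h02, h12, sub_zero]
      · show polar (⇑Q) (v 2) (v 0 + v 1) = 0
        rw [polar_add_right, h20, h21, add_zero]
      · show polar (⇑Q) (v 2) (v 0 - v 1) = 0
        rw [polar_sub_right, h20, h21, sub_zero]
      · exact absurd rfl hij
    · intro x hx hQx
      obtain ⟨c, rfl⟩ := hspan' x hx
      rw [hQv, hv1, hv2] at hQx
      have hsum : c 0 * c 0 + c 1 * c 1 - c 2 * c 2 = -1 := by
        have : (c 0 * c 0 + c 1 * c 1 - c 2 * c 2 + 1) * a = 0 := by linear_combination hQx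
        rcases mul_eq_zero.mp this with h | h
        · linear_combination h
        · exact absurd h ha0
      rcases sum_three_sq_eq_neg_one hq _ _ _ (sq_zero_or_one hq (c 0))
        (sq_zero_or_one hq (c 1)) (sq_zero_or_one hq (c 2)) hsum with ⟨e0, e1, e2⟩ | ⟨e0, e1, e2⟩
      · refine ⟨2, ?_⟩
        show _ = v 2 ∨ _ = -v 2
        rw [mul_self_eq_zero.mp e0, mul_self_eq_zero.mp e1, zero_smul, zero_smul, zero_add,
          zero_add]
        rcases mul_self_eq_one_iff.mp e2 with h | h
        · left; rw [h, one_smul]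
        · right; rw [h, neg_smul, one_smul]
      · rw [mul_self_eq_zero.mp e2, zero_smul, add_zero]
        rcases mul_self_eq_one_iff.mp e0 with h | h <;> rcases mul_self_eq_one_iff.mp e1 with h' | h'
        · refine ⟨0, Or.inl ?_⟩
          show _ = v 0 + v 1
          rw [h, h', one_smul, one_smul]
        · refine ⟨1, Or.inl ?_⟩
          show _ = v 0 - v 1
          rw [h, h', one_smul, neg_smul, one_smul, sub_eq_add_neg]
        · refine ⟨1, Or.inr ?_⟩
          show _ = -(v 0 - v 1)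
          rw [h, h', one_smul, neg_smul, one_smul]; abel
        · refine ⟨0, Or.inr ?_⟩
          show _ = -(v 0 + v 1)
          rw [h, h', neg_smul, one_smul, neg_smul, one_smul]; abel

end Cfsg.Agent.Lib.Helper50
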