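import Cfsg.Agent.Lib.Helper50.TensorAct
import Cfsg.Agent.Lib.Helper50.Frame3b

set_option autoImplicit false

/-! Non-maximality in `Ω` of the stabiliser of a tensor decomposition with a 3-dimensional
orthogonal factor over the field with three elements. -/

namespace Cfsg.Agent.Lib.Helper50

open Matrix Module QuadraticMap Cfsg.Agent.Lib.Helper19
open scoped Kronecker

section aux

variable {F : Type*} [Field F] {κ : Type} [Fintype κ] [DecidableEq κ]

omit [Fintype κ] [DecidableEq κ] in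
theorem bilin_zero_left (f : (κ → F) → (κ → F) → F) (hf : Cfsg.Geo.IsBilinearForm f)
    (v : κ → F) : f 0 v = 0 := by
  have h := hf.smul_left 0 0 v
  rwa [zero_smul, zero_mul] at h

omit [Fintype κ] [DecidableEq κ] in
theorem bilin_zero_right (f : (κ → F) → (κ → F) → F) (hf : Cfsg.Geo.IsBilinearForm f)
    (v : κ → F) : f v 0 = 0 := by
  have h := hf.smul_right 0 v 0
  rwa [zero_smul, zero_mul] at h

/-- a non-singular vector and a non-zero vector orthogonal to it -/
theorem exists_nonsingular_perp_form {n₂ : ℕ} (h2 : (2 : F) ≠ 0) (hn : 2 ≤ n₂)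
    (f₂ : (Fin n₂ → F) → (Fin n₂ → F) → F) (hf₂ : Cfsg.Geo.IsSymmetricForm f₂) :
    ∃ y y'' : Fin n₂ → F, f₂ y y ≠ 0 ∧ y'' ≠ 0 ∧ f₂ y y'' = 0 := by
  set p : Fin n₂ → F := Pi.single ⟨0, by omega⟩ 1 with hp
  set q : Fin n₂ → F := Pi.single ⟨1, by omega⟩ 1 with hq
  have hp0 : p ≠ 0 := by
    intro h
    have := congrFun h ⟨0, by omega⟩
    simp [hp] at this
  obtain ⟨y, hy⟩ : ∃ y, f₂ y y ≠ 0 := by
    by_contra hall
    push Not at hall
    obtain ⟨⟨x, hx⟩, -⟩ := hf₂.nondegenerate p hp0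
    have h := hall (x + p)
    rw [hf₂.bilinear.add_left, hf₂.bilinear.add_right, hf₂.bilinear.add_right, hall x, hall p,
      hf₂.symm p x] at h
    apply hx
    have h' : 2 * f₂ x p = 0 := by linear_combination h
    exact (mul_eq_zero.mp h').resolve_left h2
  by_cases hyp : f₂ y p = 0
  · exact ⟨y, p, hy, hp0, hyp⟩
  · refine ⟨y, f₂ y q • p + (-f₂ y p) • q, hy, ?_, ?_⟩
    · intro h
      have := congrFun h ⟨1, by omega⟩
      simp [hp, hq, Pi.single_apply, Fin.ext_iff] at this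
      exact hyp this
    · rw [hf₂.bilinear.add_right, hf₂.bilinear.smul_right, hf₂.bilinear.smul_right]
      ring

end aux

section sim

variable {F : Type*} [Field F] [Fintype F]

/-- over the field with three elements a similitude of a non-degenerate symmetric form in
dimension three is an isometry -/
theorem similitude_eq_one (hq : Fintype.card F = 3) (f₁ : (Fin 3 → F) → (Fin 3 → F) → F)
    (hf₁ : Cfsg.Geo.IsSymmetricForm f₁) (A : GL (Fin 3) F) (lam : F)
    (h : ∀ u u', f₁ ((A : Matrix (Fin 3) (Fin 3) F) *ᵥ u) ((A : Matrix (Fin 3) (Fin 3) F) *ᵥ u') =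
      lam * f₁ u u') : lam = 1 := by
  have hle : Fintype.card F ≤ 3 := by omega
  set G := Cfsg.Geo.gramMatrix f₁ with hG
  set M : Matrix (Fin 3) (Fin 3) F := (A : Matrix (Fin 3) (Fin 3) F) with hM
  have hgram : ∀ u u', f₁ u u' = u ⬝ᵥ (G *ᵥ u') := bilin_eq_gram f₁ hf₁.bilinear
  have hmat : Mᵀ * G * M = lam • G := by
    ext i j
    have h1 := h (Pi.single i 1) (Pi.single j 1)
    rw [hgram, hgram] at h1
    have e1 : (M *ᵥ Pi.single i 1) ⬝ᵥ (G *ᵥ (M *ᵥ Pi.single j 1)) = (Mᵀ * G * M) i j := by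
      rw [← Matrix.vecMul_transpose, ← Matrix.dotProduct_mulVec, Matrix.mulVec_mulVec,
        Matrix.mulVec_mulVec, Matrix.mulVec_single_one,
        single_one_dotProduct]
      rfl
    have e2 : (Pi.single i 1 : Fin 3 → F) ⬝ᵥ (G *ᵥ Pi.single j 1) = G i j := by
      rw [Matrix.mulVec_single_one, single_one_dotProduct]
      rfl
    rw [e1, e2] at h1
    rw [h1]
    simp
  have hdetG : G.det ≠ 0 := by
    intro h0
    obtain ⟨v, hv, hGv⟩ := Matrix.exists_mulVec_eq_zero_iff.mpr h0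
    obtain ⟨⟨x, hx⟩, -⟩ := hf₁.nondegenerate v hv
    apply hx
    rw [hgram, hGv, dotProduct_zero]
  have hdet := congrArg Matrix.det hmat
  rw [Matrix.det_mul, Matrix.det_mul, Matrix.det_transpose, Matrix.det_smul, Fintype.card_fin]
    at hdet
  have hdetM : M.det ≠ 0 := by
    have := (Matrix.isUnit_iff_isUnit_det M).mp ⟨A, rfl⟩
    exact this.ne_zero
  have h1 : M.det * M.det = lam ^ 3 := by
    have : (M.det * M.det - lam ^ 3) * G.det = 0 := by linear_combination hdet
    rcases mul_eq_zero.mp this with h' | h'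
    · linear_combination h'
    · exact absurd h' hdetG
  rw [mul_self_eq_one_of_card_le_three hle _ hdetM] at h1
  have hlam : lam ≠ 0 := by
    rintro rfl
    simp at h1
  have h2 := mul_self_eq_one_of_card_le_three hle lam hlam
  have : lam ^ 3 = lam := by
    rw [pow_succ, pow_two, h2, one_mul]
  rw [this] at h1
  exact h1.symm

end sim


section main

variable {F : Type*} [Field F] [Fintype F] {ι : Type} [Fintype ι] [DecidableEq ι] {n₂ : ℕ}

/-- an involution in the isometry group that maps a set into itself stabilises it -/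
theorem reflO_mem_stabilizing_of_maps (Q : QuadraticForm F (ι → F)) (x : ι → F)
    (S : Set (ι → F))
    (h : ∀ v ∈ S, (((reflO Q x : ↥(Cfsg.isometryGroup F (⇑Q))) : GL ι F) : Matrix ι ι F) *ᵥ v ∈ S) :
    ((reflO Q x : ↥(Cfsg.isometryGroup F (⇑Q))) : GL ι F) ∈
      Cfsg.stabilizing (Cfsg.glToMat ι F) S := by
  intro v
  constructor
  · exact h v
  · intro hv
    have h1 := h _ hv
    have h3 : (((reflO Q x : ↥(Cfsg.isometryGroup F (⇑Q))) : GL ι F) : Matrix ι ι F) *
        (((reflO Q x : ↥(Cfsg.isometryGroup F (⇑Q))) : GL ι F) : Matrix ι ι F) = 1 := by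
      have := reflO_mul_self Q x
      have h' := congrArg (fun g : ↥(Cfsg.isometryGroup F (⇑Q)) => ((g : GL ι F) : Matrix ι ι F)) this
      simpa using h'
    change (((reflO Q x : ↥(Cfsg.isometryGroup F (⇑Q))) : GL ι F) : Matrix ι ι F) *ᵥ
      ((((reflO Q x : ↥(Cfsg.isometryGroup F (⇑Q))) : GL ι F) : Matrix ι ι F) *ᵥ v) ∈ S at h1
    rw [Matrix.mulVec_mulVec, h3, Matrix.one_mulVec] at h1
    exact h1

/-- the stabiliser in `Ω` of a tensor decomposition `O_3(3) ⊗ O_{n₂}(3)` is not maximal -/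
theorem nonmax_tensor3 (hq : Fintype.card F = 3) (Q : QuadraticForm F (ι → F))
    (hQ : (QuadraticMap.polarBilin Q).Nondegenerate) (hn : 5 ≤ Fintype.card ι) (hn2 : 2 ≤ n₂)
    (e : ι ≃ Fin 3 × Fin n₂) (P : GL ι F)
    (f₁ : (Fin 3 → F) → (Fin 3 → F) → F) (f₂ : (Fin n₂ → F) → (Fin n₂ → F) → F)
    (hf₁ : Cfsg.Geo.IsSymmetricForm f₁) (hf₂ : Cfsg.Geo.IsSymmetricForm f₂)
    (hT : Cfsg.Geo.IsTensorFormStructure id (polar (⇑Q)) f₁ f₂ e P) :
    ∃ K : Subgroup (GL ι F),
      Cfsg.Geo.tensorProductSubgroup 3 n₂ e P ⊓ Cfsg.Geo.omegaGL (⇑Q) < K ∧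
      K < Cfsg.Geo.omegaGL (⇑Q) := by
  classical
  have h2 := two_ne_zero_of_card_three hq
  have hle : Fintype.card F ≤ 3 := by omega
  have h24 : Fintype.card F ≠ 2 ∨ Fintype.card ι ≠ 4 := Or.inr (by omega)
  -- the form on pure tensors
  obtain ⟨c0, hc0, hform0⟩ := form_pureT (polar (⇑Q)) f₁ f₂ e P hT
  have hform : ∀ u u' y y', polar (⇑Q) (pureT e P u y) (pureT e P u' y') =
      c0 * f₁ u u' * f₂ y y' := by
    intro u u' y y'
    rw [hform0, ← bilin_eq_gram f₁ hf₁.bilinear, ← bilin_eq_gram f₂ hf₂.bilinear]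
  -- the frame of the first factor
  let B1 : LinearMap.BilinForm F (Fin 3 → F) := LinearMap.mk₂ F f₁ hf₁.bilinear.add_left
    hf₁.bilinear.smul_left hf₁.bilinear.add_right hf₁.bilinear.smul_right
  let Q1 : QuadraticForm F (Fin 3 → F) := LinearMap.BilinMap.toQuadraticMap B1
  have hQ1 : ∀ x, Q1 x = f₁ x x := fun x => rfl
  have hpQ1 : ∀ x y, polar (⇑Q1) x y = 2 * f₁ x y := by
    intro x y
    rw [LinearMap.BilinMap.polar_toQuadraticMap]
    show f₁ x y + f₁ y x = _
    rw [hf₁.symm y x]; ring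
  have hnd1 : Cfsg.Geo.IsNondegenerateOn (polar (⇑Q1)) ⊤ := by
    intro v _ hv
    obtain ⟨⟨x, hx⟩, -⟩ := hf₁.nondegenerate v hv
    refine ⟨⟨x, trivial, ?_⟩, ⟨x, trivial, ?_⟩⟩
    · rw [hpQ1]; exact mul_ne_zero h2 hx
    · rw [hpQ1, hf₁.symm]; exact mul_ne_zero h2 hx
  obtain ⟨c1, hc1, w, -, hwc, hworth, hwcls⟩ :=
    frame3_quad hq Q1 ⊤ (by rw [finrank_top, Module.finrank_fin_fun]) hnd1
  have hwc' : ∀ j, f₁ (w j) (w j) = c1 := fun j => by rw [← hQ1]; exact hwc j
  have hworth' : ∀ i j, i ≠ j → f₁ (w i) (w j) = 0 := by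
    intro i j hij
    have := hworth i j hij
    rw [hpQ1] at this
    exact (mul_eq_zero.mp this).resolve_left h2
  have hwcls' : ∀ x, f₁ x x = c1 → ∃ j, x = w j ∨ x = -w j := fun x hx =>
    hwcls x trivial (by rw [hQ1]; exact hx)
  have hw0 : ∀ j, ∃ i, w j i ≠ 0 := by
    intro j
    by_contra hall
    push Not at hall
    have : w j = 0 := funext hall
    have h := hwc' j
    rw [this, bilin_zero_left f₁ hf₁.bilinear] at h
    exact hc1 h.symm
  -- the three subspaces
  set D : Fin 3 → Submodule F (ι → F) := fun j => LinearMap.range (pureLin e P (w j)) with hD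
  set S : Set (ι → F) := {v | ∃ j, v ∈ D j} with hS
  have hmemD : ∀ j y, pureT e P (w j) y ∈ D j := fun j y => ⟨y, rfl⟩
  -- the tensor subgroup preserves the union
  have hT1 : ∀ g : GL ι F, g ∈ Cfsg.Geo.tensorProductSubgroup 3 n₂ e P →
      g ∈ Cfsg.Geo.omegaGL (⇑Q) → ∀ v ∈ S, (g : Matrix ι ι F) *ᵥ v ∈ S := by
    intro g hgt hgΩ v hv
    obtain ⟨hiso, -⟩ := (mem_omegaGL_iff (⇑Q) g).mp hgΩ
    obtain ⟨a, b, hab⟩ := tensor_mulVec_pureT e P g hgt
    have hinv : ∀ u u' y y', f₁ ((a : Matrix (Fin 3) (Fin 3) F) *ᵥ u) ((a : Matrix (Fin 3) (Fin 3) F) *ᵥ u') *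
        f₂ ((b : Matrix (Fin n₂) (Fin n₂) F) *ᵥ y) ((b : Matrix (Fin n₂) (Fin n₂) F) *ᵥ y') = f₁ u u' * f₂ y y' := by
      intro u u' y y'
      have h := polar_mulVec_isometry Q (g : Matrix ι ι F)
        ((mem_isometryGroup_iff (⇑Q) g).mp hiso) (pureT e P u y) (pureT e P u' y')
      rw [hab, hab, hform, hform] at h
      have : c0 * (f₁ ((a : Matrix (Fin 3) (Fin 3) F) *ᵥ u) ((a : Matrix (Fin 3) (Fin 3) F) *ᵥ u') *
          f₂ ((b : Matrix (Fin n₂) (Fin n₂) F) *ᵥ y) ((b : Matrix (Fin n₂) (Fin n₂) F) *ᵥ y') - f₁ u u' * f₂ y y') = 0 := by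
        linear_combination h
      rcases mul_eq_zero.mp this with h' | h'
      · exact absurd h' hc0
      · linear_combination h'
    obtain ⟨y0, -, hy0, -, -⟩ := exists_nonsingular_perp_form h2 hn2 f₂ hf₂
    have hb0 : f₂ ((b : Matrix (Fin n₂) (Fin n₂) F) *ᵥ y0) ((b : Matrix (Fin n₂) (Fin n₂) F) *ᵥ y0) ≠ 0 := by
      intro h0
      have := hinv (w 0) (w 0) y0 y0
      rw [h0, mul_zero, hwc'] at this
      exact mul_ne_zero hc1 hy0 this.symm
    have hsim : ∀ u u', f₁ ((a : Matrix (Fin 3) (Fin 3) F) *ᵥ u) ((a : Matrix (Fin 3) (Fin 3) F) *ᵥ u') =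
        (f₂ y0 y0 / f₂ ((b : Matrix (Fin n₂) (Fin n₂) F) *ᵥ y0) ((b : Matrix (Fin n₂) (Fin n₂) F) *ᵥ y0)) * f₁ u u' := by
      intro u u'
      have := hinv u u' y0 y0
      field_simp
      linear_combination this
    have hlam1 := similitude_eq_one hq f₁ hf₁ a _ hsim
    rw [hlam1] at hsim
    simp only [one_mul] at hsim
    obtain ⟨j, y, rfl⟩ := hv
    have hnorm : f₁ ((a : Matrix (Fin 3) (Fin 3) F) *ᵥ w j) ((a : Matrix (Fin 3) (Fin 3) F) *ᵥ w j) = c1 := by
      rw [hsim, hwc']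
    obtain ⟨k, hk | hk⟩ := hwcls' _ hnorm
    · refine ⟨k, ?_⟩
      rw [pureLin_apply, hab, hk]
      exact hmemD k _
    · refine ⟨k, ?_⟩
      rw [pureLin_apply, hab, hk, pureT_neg_left]
      exact hmemD k _
  -- a non-singular vector of the second factor and a vector orthogonal to it
  obtain ⟨y, y'', hy, hy''0, hyy''⟩ := exists_nonsingular_perp_form h2 hn2 f₂ hf₂
  set a : Fin 3 → ι → F := fun j => pureT e P (w j) y with ha
  set z'' : ι → F := pureT e P (w 0) y'' with hz''
  have hpaa : ∀ i j, i ≠ j → polar (⇑Q) (a i) (a j) = 0 := by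
    intro i j hij
    rw [ha]
    simp only
    rw [hform, hworth' i j hij, mul_zero, zero_mul]
  have hQa : ∀ j, 2 * Q (a j) = c0 * c1 * f₂ y y := by
    intro j
    have h := polar_self Q (a j)
    rw [ha] at h ⊢
    simp only at h ⊢
    rw [hform, hwc'] at h
    rw [h]; simp
  set α := Q (a 0) with hα
  have hQα : ∀ j, Q (a j) = α := by
    intro j
    have h1 := hQa j
    have h0 := hQa 0
    have : 2 * (Q (a j) - α) = 0 := by rw [hα]; linear_combination h1 - h0
    rcases mul_eq_zero.mp this with h | h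
    · exact absurd h h2
    · linear_combination h
  have hα0 : α ≠ 0 := by
    intro h
    have := hQa 0
    rw [← hα, h, mul_zero] at this
    exact mul_ne_zero (mul_ne_zero hc0 hc1) hy this.symm
  have hpaa_self : ∀ j, polar (⇑Q) (a j) (a j) = 2 * α := by
    intro j
    rw [polar_self, hQα]; simp
  have hpaz : ∀ j, polar (⇑Q) (a j) z'' = 0 := by
    intro j
    rw [ha, hz'']
    simp only
    rw [hform]
    by_cases hj : j = 0
    · rw [hj, hyy'', mul_zero]
    · rw [hworth' j 0 hj, mul_zero, zero_mul]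
  -- reflections in the `a j` preserve the union
  have hreflS : ∀ j, ((reflO Q (a j) : ↥(Cfsg.isometryGroup F (⇑Q))) : GL ι F) ∈
      Cfsg.stabilizing (Cfsg.glToMat ι F) S := by
    intro j
    apply reflO_mem_stabilizing_of_maps
    rintro v ⟨k, hvk⟩
    rw [reflO_mulVec Q (a j) (by rw [hQα]; exact hα0)]
    by_cases hkj : k = j
    · subst hkj
      exact ⟨k, (D k).sub_mem hvk ((D k).smul_mem _ (hmemD k y))⟩
    · obtain ⟨y', rfl⟩ := hvk
      have : polar (⇑Q) (a j) (pureLin e P (w k) y') = 0 := by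
        rw [pureLin_apply, ha]
        simp only
        rw [hform, hworth' j k (Ne.symm hkj), mul_zero, zero_mul]
      rw [this, mul_zero, zero_smul, sub_zero]
      exact ⟨k, y', rfl⟩
  refine ⟨Cfsg.stabilizing (Cfsg.glToMat ι F) S ⊓ Cfsg.Geo.omegaGL (⇑Q), ?_, ?_⟩
  · rw [SetLike.lt_iff_le_and_exists]
    constructor
    · rintro g ⟨hgt, hgΩ⟩
      refine ⟨?_, hgΩ⟩
      intro v
      constructor
      · exact hT1 g hgt hgΩ v
      · intro hv
        have h1 := hT1 g⁻¹ (Subgroup.inv_mem _ hgt) (Subgroup.inv_mem _ hgΩ) _ hv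
        change ((g⁻¹ : GL ι F) : Matrix ι ι F) *ᵥ ((g : Matrix ι ι F) *ᵥ v) ∈ S at h1
        rwa [inv_mulVec_mulVec] at h1
    · -- an element of the larger group outside the tensor subgroup
      have hQ0 : Q (a 0) ≠ 0 := by rw [hQα]; exact hα0
      have hQ1' : Q (a 1) ≠ 0 := by rw [hQα]; exact hα0
      set g := reflO Q (a 0) * reflO Q (a 1) with hg
      have hgΩ : g ∈ Cfsg.Omega F (⇑Q) := by
        apply reflO_pair_mem_Omega Q hQ h24 _ _ hQ0 hQ1'
        rw [hQα, hQα]
        exact ⟨α, rfl⟩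
      have hgS : (g : GL ι F) ∈ Cfsg.stabilizing (Cfsg.glToMat ι F) S := by
        rw [hg, Subgroup.coe_mul]
        exact Subgroup.mul_mem _ (hreflS 0) (hreflS 1)
      refine ⟨(g : GL ι F), ⟨hgS, coe_mem_omegaGL (⇑Q) g hgΩ⟩, ?_⟩
      rintro ⟨hgt, -⟩
      obtain ⟨am, bm, hab⟩ := tensor_mulVec_pureT e P (g : GL ι F) hgt
      have hgmul : ∀ v, ((g : GL ι F) : Matrix ι ι F) *ᵥ v =
          (v - ((Q (a 1))⁻¹ * polar (⇑Q) (a 1) v) • a 1) -
            ((Q (a 0))⁻¹ * polar (⇑Q) (a 0)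
              (v - ((Q (a 1))⁻¹ * polar (⇑Q) (a 1) v) • a 1)) • a 0 := by
        intro v
        rw [hg, Subgroup.coe_mul, Units.val_mul, ← Matrix.mulVec_mulVec,
          reflO_mulVec Q _ hQ1', reflO_mulVec Q _ hQ0]
      -- the action on three families of vectors
      have hg2 : ∀ y', ((g : GL ι F) : Matrix ι ι F) *ᵥ pureT e P (w 2) y' =
          pureT e P (w 2) y' := by
        intro y'
        have e0 : polar (⇑Q) (a 0) (pureT e P (w 2) y') = 0 := by
          rw [ha]; simp only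
          rw [hform, hworth' 0 2 (by decide), mul_zero, zero_mul]
        have e1 : polar (⇑Q) (a 1) (pureT e P (w 2) y') = 0 := by
          rw [ha]; simp only
          rw [hform, hworth' 1 2 (by decide), mul_zero, zero_mul]
        rw [hgmul, e1, mul_zero, zero_smul, sub_zero, e0, mul_zero, zero_smul, sub_zero]
      have hgx : ((g : GL ι F) : Matrix ι ι F) *ᵥ a 0 = pureT e P (w 0) (-y) := by
        have e1 : polar (⇑Q) (a 1) (a 0) = 0 := hpaa 1 0 (by decide)
        rw [hgmul, e1, mul_zero, zero_smul, sub_zero, hpaa_self, hQα]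
        have : α⁻¹ * (2 * α) = 2 := by field_simp
        rw [this]
        have hneg := pureT_smul_right e P (-1 : F) (w 0) y
        rw [neg_one_smul, neg_one_smul] at hneg
        rw [hneg]
        show a 0 - (2 : F) • a 0 = -a 0
        rw [two_smul]; abel
      have hgz : ((g : GL ι F) : Matrix ι ι F) *ᵥ z'' = z'' := by
        rw [hgmul, hpaz 1, mul_zero, zero_smul, sub_zero, hpaz 0, mul_zero, zero_smul, sub_zero]
      -- coordinates
      have c2 : ∀ y' i j, ((am : Matrix (Fin 3) (Fin 3) F) *ᵥ w 2) i * ((bm : Matrix (Fin n₂) (Fin n₂) F) *ᵥ y') j =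
          w 2 i * y' j := by
        intro y'
        have h := hg2 y'
        rw [hab] at h
        exact (pureT_eq_iff e P _ _ _ _).mp h
      have cx : ∀ i j, ((am : Matrix (Fin 3) (Fin 3) F) *ᵥ w 0) i * ((bm : Matrix (Fin n₂) (Fin n₂) F) *ᵥ y) j =
          w 0 i * (-y) j := by
        have h := hgx
        rw [ha] at h
        simp only at h
        rw [hab] at h
        exact (pureT_eq_iff e P _ _ _ _).mp h
      have cz : ∀ i j, ((am : Matrix (Fin 3) (Fin 3) F) *ᵥ w 0) i * ((bm : Matrix (Fin n₂) (Fin n₂) F) *ᵥ y'') j =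
          w 0 i * y'' j := by
        have h := hgz
        rw [hz'', hab] at h
        exact (pureT_eq_iff e P _ _ _ _).mp h
      obtain ⟨i2, hi2⟩ := hw0 2
      obtain ⟨i0, hi0⟩ := hw0 0
      set p := ((am : Matrix (Fin 3) (Fin 3) F) *ᵥ w 2) i2 with hp
      have hp0 : p ≠ 0 := by
        intro h0
        have h := c2 (Pi.single ⟨0, by omega⟩ 1) i2 ⟨0, by omega⟩
        rw [← hp, h0, zero_mul] at h
        simp at h
        exact hi2 h.symm
      have hbm : ∀ y' j, ((bm : Matrix (Fin n₂) (Fin n₂) F) *ᵥ y') j = (w 2 i2 / p) * y' j := by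
        intro y' j
        have h := c2 y' i2 j
        rw [← hp] at h
        field_simp
        linear_combination h
      obtain ⟨jy, hjy⟩ : ∃ j, y j ≠ 0 := by
        by_contra hall
        push Not at hall
        have : y = 0 := funext hall
        rw [this, bilin_zero_left f₂ hf₂.bilinear] at hy
        exact hy rfl
      obtain ⟨jz, hjz⟩ : ∃ j, y'' j ≠ 0 := by
        by_contra hall
        push Not at hall
        exact hy''0 (funext hall)
      have ex := cx i0 jy
      have ez := cz i0 jz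
      rw [hbm] at ex ez
      have ex' : ((am : Matrix (Fin 3) (Fin 3) F) *ᵥ w 0) i0 * (w 2 i2 / p) = -(w 0 i0) := by
        have : (((am : Matrix (Fin 3) (Fin 3) F) *ᵥ w 0) i0 * (w 2 i2 / p) + w 0 i0) * y jy = 0 := by
          simp only [Pi.neg_apply] at ex
          linear_combination ex
        rcases mul_eq_zero.mp this with h | h
        · linear_combination h
        · exact absurd h hjy
      have ez' : ((am : Matrix (Fin 3) (Fin 3) F) *ᵥ w 0) i0 * (w 2 i2 / p) = w 0 i0 := by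
        have : (((am : Matrix (Fin 3) (Fin 3) F) *ᵥ w 0) i0 * (w 2 i2 / p) - w 0 i0) * y'' jz = 0 := by
          linear_combination ez
        rcases mul_eq_zero.mp this with h | h
        · linear_combination h
        · exact absurd h hjz
      have : 2 * w 0 i0 = 0 := by linear_combination ex' - ez'
      rcases mul_eq_zero.mp this with h | h
      · exact h2 h
      · exact hi0 h
  · rw [SetLike.lt_iff_le_and_exists]
    refine ⟨inf_le_right, ?_⟩
    set x1 := a 0 + a 1 with hx1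
    set x2 := a 0 + a 2 with hx2
    have hQx1 : Q x1 = 2 * α := by
      rw [hx1, QuadraticMap.map_add Q, hQα, hQα, hpaa 0 1 (by decide)]; ring
    have hQx2 : Q x2 = 2 * α := by
      rw [hx2, QuadraticMap.map_add Q, hQα, hQα, hpaa 0 2 (by decide)]; ring
    have h2α : 2 * α ≠ 0 := mul_ne_zero h2 hα0
    have hx10 : Q x1 ≠ 0 := by rw [hQx1]; exact h2α
    have hx20 : Q x2 ≠ 0 := by rw [hQx2]; exact h2α
    set g := reflO Q x1 * reflO Q x2 with hg
    have hgΩ : g ∈ Cfsg.Omega F (⇑Q) := by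
      apply reflO_pair_mem_Omega Q hQ h24 _ _ hx10 hx20
      rw [hQx1, hQx2]
      exact ⟨2 * α, rfl⟩
    refine ⟨(g : GL ι F), coe_mem_omegaGL (⇑Q) g hgΩ, ?_⟩
    rintro ⟨hgS, -⟩
    set z := a 0 + z'' with hz
    have hzS : z ∈ S := by
      refine ⟨0, ?_⟩
      exact (D 0).add_mem (hmemD 0 y) (hmemD 0 y'')
    have hgz : ((g : GL ι F) : Matrix ι ι F) *ᵥ z = z'' - a 2 := by
      have e2 : polar (⇑Q) x2 z = 2 * α := by
        rw [hx2, hz, polar_add_left, polar_add_right, polar_add_right, hpaa_self, hpaz 0,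
          hpaa 2 0 (by decide), hpaz 2]
        ring
      have e1 : polar (⇑Q) x1 (z'' - a 2) = 0 := by
        rw [hx1, polar_add_left, polar_sub_right, polar_sub_right, hpaz 0, hpaz 1,
          hpaa 0 2 (by decide), hpaa 1 2 (by decide)]
        ring
      rw [hg, Subgroup.coe_mul, Units.val_mul, ← Matrix.mulVec_mulVec,
        reflO_mulVec Q _ hx20, e2, hQx2, inv_mul_cancel₀ h2α, one_smul]
      have : z - x2 = z'' - a 2 := by rw [hz, hx2]; abel
      rw [this, reflO_mulVec Q _ hx10, e1, mul_zero, zero_smul, sub_zero]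
    have hmem := (hgS z).mp hzS
    change ((g : GL ι F) : Matrix ι ι F) *ᵥ z ∈ S at hmem
    rw [hgz] at hmem
    obtain ⟨k, yk, hk⟩ := hmem
    rw [pureLin_apply] at hk
    by_cases hk0 : k = 0
    · -- pair with `w 2 ⊗ y`
      have h1 : polar (⇑Q) (pureT e P (w k) yk) (a 2) = 0 := by
        rw [ha]; simp only
        rw [hform, hk0, hworth' 0 2 (by decide), mul_zero, zero_mul]
      rw [hk, polar_sub_left, polar_comm (⇑Q) z'' (a 2), hpaz 2, hpaa_self, zero_sub] at h1
      exact h2α (neg_eq_zero.mp h1)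
    · -- pair with `w 0 ⊗ y'`
      obtain ⟨-, ⟨y', hy'⟩⟩ := hf₂.nondegenerate y'' hy''0
      have h1 : polar (⇑Q) (pureT e P (w k) yk) (pureT e P (w 0) y') = 0 := by
        rw [hform, hworth' k 0 hk0, mul_zero, zero_mul]
      rw [hk, polar_sub_left] at h1
      have e1 : polar (⇑Q) z'' (pureT e P (w 0) y') = c0 * c1 * f₂ y'' y' := by
        rw [hz'', hform, hwc']
      have e2 : polar (⇑Q) (a 2) (pureT e P (w 0) y') = 0 := by
        rw [ha]; simp only
        rw [hform, hworth' 2 0 (by decide), mul_zero, zero_mul]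
      rw [e1, e2, sub_zero] at h1
      exact mul_ne_zero (mul_ne_zero hc0 hc1) hy' h1

end main

end Cfsg.Agent.Lib.Helper50
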