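import Mathlib
import Cfsg.Agent.Lib.Helper48.StODefs
import Cfsg.Agent.Lib.Helper86.StOR0a
import Cfsg.Agent.Lib.Helper61.StOR0c

/-!
# K-StO pack (S2547, architect helper48), leaf F3Z (keystone 254711): `rank_one_flip`

`sFlip k * xZ k t = xZ k (-t⁻¹) * h * yZ k (-t⁻¹)` with the diagonal element
`h = diag (e_k ↦ -t⁻², z ↦ -1, f_k ↦ -t², 1 elsewhere)`.
-/

set_option autoImplicit false
set_option linter.unusedSectionVars false
set_option linter.unusedVariables false

namespace Cfsg.Agent.Lib.Helper50.StO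

open Cfsg Cfsg.Agent.Lib.Helper48.StO Matrix

variable {m : ℕ} {F : Type*} [Field F]

/-- the diagonal entries of the torus element of leaf F3Z -/
def f3zDiag (k : Fin m) (t : F) : OI m → F
  | Sum.inl _ => -1
  | Sum.inr (Sum.inl i) => if i = k then -(t⁻¹) ^ 2 else 1
  | Sum.inr (Sum.inr i) => if i = k then -t ^ 2 else 1

theorem quad_f3zDiag (k : Fin m) (t : F) (ht : t ≠ 0) (u : OI m → F) :
    Cfsg.quadFormOdd m F (Matrix.diagonal (f3zDiag k t) *ᵥ u) = Cfsg.quadFormOdd m F u := by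
  unfold Cfsg.quadFormOdd
  simp only [Matrix.mulVec_diagonal]
  congr 1
  · simp [f3zDiag]
  · apply Finset.sum_congr rfl
    intro i _
    by_cases h : i = k
    · simp only [f3zDiag, h, if_true]
      field_simp
    · simp [f3zDiag, h]

theorem f3zDiag_mul_inv (k : Fin m) (t : F) (ht : t ≠ 0) :
    Matrix.diagonal (f3zDiag k t) * Matrix.diagonal (f3zDiag k t⁻¹) = 1 := by
  rw [Matrix.diagonal_mul_diagonal, ← Matrix.diagonal_one]
  refine congrArg _ (funext fun a => ?_)
  rcases a with a | a | a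
  · simp [f3zDiag]
  · by_cases h : a = k
    · simp only [f3zDiag, h, if_true]
      field_simp
    · simp [f3zDiag, h]
  · by_cases h : a = k
    · simp only [f3zDiag, h, if_true]
      field_simp
    · simp [f3zDiag, h]

/-- the torus element of leaf F3Z -/
noncomputable def hF3Z (k : Fin m) (t : F) : OG m F := ofMat (Matrix.diagonal (f3zDiag k t))

theorem mat_hF3Z (k : Fin m) (t : F) (ht : t ≠ 0) :
    mat (hF3Z k t) = Matrix.diagonal (f3zDiag k t) := by
  unfold hF3Z
  refine mat_ofMat _ (exists_of_isometry _ (Matrix.diagonal (f3zDiag k t⁻¹))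
    (f3zDiag_mul_inv k t ht) ?_ (quad_f3zDiag k t ht))
  have := f3zDiag_mul_inv k t⁻¹ (inv_ne_zero ht)
  rwa [inv_inv] at this

theorem hF3Z_mem_T (k : Fin m) (t : F) (ht : t ≠ 0) : hF3Z k t ∈ Tsub m F := by
  rw [mem_Tsub_iff]
  intro a b hab
  rw [mat_hF3Z k t ht, Matrix.diagonal_apply_ne _ hab]

theorem rank_one_flip_aux (k : Fin m) (t : F) (ht : t ≠ 0) :
    sFlip m F k * xZ m F k t = xZ m F k (-t⁻¹) * hF3Z k t * yZ m F k (-t⁻¹) := by
  apply mat_injective
  simp only [mat_mul, Cfsg.Agent.Lib.Helper86.StO.mat_sFlip, Cfsg.Agent.Lib.Helper61.StO.mat_xZ,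
    Cfsg.Agent.Lib.Helper61.StO.mat_yZ, mat_hF3Z k t ht]
  rw [Matrix.ext_iff_mulVec]
  intro u
  simp only [← Matrix.mulVec_mulVec]
  rw [sFlipMat, Matrix.permMatrix_mulVec, Cfsg.Agent.Lib.Helper61.StO.xZMat_mulVec,
    Cfsg.Agent.Lib.Helper61.StO.xZMat_mulVec, Cfsg.Agent.Lib.Helper61.StO.yZMat_mulVec]
  funext a
  simp only [Matrix.mulVec_diagonal, Function.comp_apply, flipE]
  rcases a with a | a | a
  · have h1 : Equiv.swap (eI k) (fI k) (Sum.inl a : OI m) = Sum.inl a :=
      Equiv.swap_apply_of_ne_of_ne (by simp) (by simp)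
    rw [h1]
    simp [f3zDiag]
    field_simp
    ring
  · by_cases h : a = k
    · subst h
      have h1 : Equiv.swap (eI a) (fI a) (Sum.inr (Sum.inl a) : OI m) = fI a :=
        Equiv.swap_apply_left _ _
      rw [h1]
      simp [f3zDiag]
      field_simp
      ring
    · have h1 : Equiv.swap (eI k) (fI k) (Sum.inr (Sum.inl a) : OI m) = Sum.inr (Sum.inl a) :=
        Equiv.swap_apply_of_ne_of_ne (by simp [h]) (by simp)
      rw [h1]
      simp [f3zDiag, h]
  · by_cases h : a = k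
    · subst h
      have h1 : Equiv.swap (eI a) (fI a) (Sum.inr (Sum.inr a) : OI m) = eI a :=
        Equiv.swap_apply_right _ _
      rw [h1]
      simp [f3zDiag]
      field_simp
      ring
    · have h1 : Equiv.swap (eI k) (fI k) (Sum.inr (Sum.inr a) : OI m) = Sum.inr (Sum.inr a) :=
        Equiv.swap_apply_of_ne_of_ne (by simp) (by simp [h])
      rw [h1]
      simp [f3zDiag, h]

/-- **K-StO-F3Z** (254711): the rank one identity for `ε_k`. -/
theorem rank_one_flip (k : Fin m) (t : F) (ht : t ≠ 0) :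
    ∃ t' t'' : F, ∃ h ∈ Tsub m F,
      sFlip m F k * xZ m F k t = xZ m F k t' * h * yZ m F k t'' :=
  ⟨-t⁻¹, -t⁻¹, hF3Z k t, hF3Z_mem_T k t ht, rank_one_flip_aux k t ht⟩

end Cfsg.Agent.Lib.Helper50.StO
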