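import Mathlib

set_option autoImplicit false

/-! The two families of maximal totally singular subspaces of a quadratic space of dimension `2m`
with non-degenerate polar form (any field): parity of the codimension of the intersection. -/

namespace Cfsg.Agent.Lib.Helper50.TF

open Module QuadraticMap

variable {F : Type*} [Field F] {V : Type*} [AddCommGroup V] [Module F V]

/-- totally singular -/
def TS (Q : QuadraticForm F V) (W : Submodule F V) : Prop := ∀ w ∈ W, Q w = 0

/-- orthogonal complement for the polar form -/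
abbrev perp (Q : QuadraticForm F V) (W : Submodule F V) : Submodule F V :=
  LinearMap.BilinForm.orthogonal (polarBilin Q) W

theorem mem_perp (Q : QuadraticForm F V) (W : Submodule F V) (v : V) :
    v ∈ perp Q W ↔ ∀ w ∈ W, polar (⇑Q) w v = 0 := by
  rw [LinearMap.BilinForm.mem_orthogonal_iff]
  rfl

theorem polarBilin_isSymm (Q : QuadraticForm F V) : (polarBilin Q).IsSymm := by
  refine ⟨fun x y => ?_⟩
  simp only [polarBilin_apply_apply, RingHom.id_apply]
  exact polar_comm _ _ _

theorem polarBilin_isRefl (Q : QuadraticForm F V) : (polarBilin Q).IsRefl :=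
  (polarBilin_isSymm Q).isRefl

theorem TS.polar_eq_zero {Q : QuadraticForm F V} {W : Submodule F V} (h : TS Q W) {x y : V}
    (hx : x ∈ W) (hy : y ∈ W) : polar (⇑Q) x y = 0 := by
  unfold polar
  rw [h _ (W.add_mem hx hy), h _ hx, h _ hy]
  ring

theorem TS.le_perp {Q : QuadraticForm F V} {W : Submodule F V} (h : TS Q W) : W ≤ perp Q W := by
  intro v hv
  rw [mem_perp]
  intro w hw
  exact h.polar_eq_zero hw hv

theorem TS.mono {Q : QuadraticForm F V} {W W' : Submodule F V} (h : TS Q W) (hle : W' ≤ W) :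
    TS Q W' := fun w hw => h w (hle hw)

theorem perp_sup (Q : QuadraticForm F V) (A C : Submodule F V) :
    perp Q (A ⊔ C) = perp Q A ⊓ perp Q C := by
  apply le_antisymm
  · exact le_inf (LinearMap.BilinForm.orthogonal_le le_sup_left)
      (LinearMap.BilinForm.orthogonal_le le_sup_right)
  · intro v hv
    rw [Submodule.mem_inf, mem_perp, mem_perp] at hv
    rw [mem_perp]
    intro w hw
    rw [Submodule.mem_sup] at hw
    obtain ⟨a, ha, c, hc, rfl⟩ := hw
    rw [polar_add_left, hv.1 a ha, hv.2 c hc, add_zero]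

/-- the sum of two mutually orthogonal totally singular subspaces is totally singular -/
theorem TS.sup {Q : QuadraticForm F V} {A C : Submodule F V} (hA : TS Q A) (hC : TS Q C)
    (hAC : A ≤ perp Q C) : TS Q (A ⊔ C) := by
  intro w hw
  rw [Submodule.mem_sup] at hw
  obtain ⟨a, ha, c, hc, rfl⟩ := hw
  have h := QuadraticMap.map_add (⇑Q) a c
  have h0 : polar (⇑Q) a c = 0 := by
    have := (mem_perp Q C a).mp (hAC ha) c hc
    rwa [polar_comm] at this
  rw [h, hA a ha, hC c hc, h0]
  ring

theorem TS_span_singleton (Q : QuadraticForm F V) (w : V) (hw : Q w = 0) :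
    TS Q (Submodule.span F {w}) := by
  intro x hx
  rw [Submodule.mem_span_singleton] at hx
  obtain ⟨a, rfl⟩ := hx
  rw [QuadraticMap.map_smul, hw, smul_zero]

section fd

variable [FiniteDimensional F V] (Q : QuadraticForm F V)
  (hQ : (polarBilin Q).Nondegenerate) (m : ℕ) (hV : finrank F V = 2 * m)

include hQ hV

theorem finrank_perp (W : Submodule F V) : finrank F (perp Q W) = 2 * m - finrank F W := by
  rw [← hV]
  exact LinearMap.BilinForm.finrank_orthogonal hQ W

omit hV in
theorem perp_perp (W : Submodule F V) : perp Q (perp Q W) = W :=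
  LinearMap.BilinForm.orthogonal_orthogonal hQ (polarBilin_isRefl Q) W

theorem finrank_le_two_mul (W : Submodule F V) : finrank F W ≤ 2 * m := by
  rw [← hV]; exact Submodule.finrank_le W

theorem TS.finrank_le {W : Submodule F V} (h : TS Q W) : finrank F W ≤ m := by
  have h1 := Submodule.finrank_mono h.le_perp
  rw [finrank_perp Q hQ m hV W] at h1
  have := finrank_le_two_mul Q hQ m hV W
  omega

theorem TS.perp_eq {W : Submodule F V} (h : TS Q W) (hd : finrank F W = m) : perp Q W = W := by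
  symm
  apply Submodule.eq_of_le_of_finrank_eq h.le_perp
  rw [finrank_perp Q hQ m hV W, hd]
  omega

/-- Two maximal totally singular subspaces meeting in codimension one are the only ones
containing their intersection. -/
theorem eq_or_eq_of_inf_le {U U' X : Submodule F V} (hU : TS Q U) (hUd : finrank F U = m)
    (hU' : TS Q U') (hU'd : finrank F U' = m) (hX : TS Q X) (hXd : finrank F X = m)
    (hT : finrank F ↥(U ⊓ U') + 1 = m) (hTX : U ⊓ U' ≤ X) : X = U ∨ X = U' := by
  by_contra hcon
  push Not at hcon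
  obtain ⟨hXU, hXU'⟩ := hcon
  have hne : U ≠ U' := by
    intro h
    rw [← h, inf_idem, hUd] at hT
    omega
  -- perp facts
  have pU := hU.perp_eq Q hQ m hV hUd
  have pU' := hU'.perp_eq Q hQ m hV hU'd
  have pX := hX.perp_eq Q hQ m hV hXd
  -- T^⊥ = U ⊔ U'
  have hsupd : finrank F ↥(U ⊔ U') = m + 1 := by
    have := Submodule.finrank_sup_add_finrank_inf_eq U U'
    omega
  have hTp : perp Q (U ⊓ U') = U ⊔ U' := by
    symm
    apply Submodule.eq_of_le_of_finrank_eq
    · have h1 : perp Q U ≤ perp Q (U ⊓ U') := LinearMap.BilinForm.orthogonal_le inf_le_left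
      have h2 : perp Q U' ≤ perp Q (U ⊓ U') := LinearMap.BilinForm.orthogonal_le inf_le_right
      rw [pU] at h1
      rw [pU'] at h2
      exact sup_le h1 h2
    · rw [finrank_perp Q hQ m hV, hsupd]
      omega
  have hXle : X ≤ U ⊔ U' := by
    have h1 : perp Q X ≤ perp Q (U ⊓ U') := LinearMap.BilinForm.orthogonal_le hTX
    rw [pX, hTp] at h1
    exact h1
  -- pick x ∈ X \ T
  have hex : ∃ x ∈ X, x ∉ U ⊓ U' := by
    by_contra hall
    push Not at hall
    have hle : X ≤ U ⊓ U' := hall
    have := Submodule.finrank_mono hle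
    omega
  obtain ⟨x, hxX, hxT⟩ := hex
  obtain ⟨u, hu, u', hu', hxu⟩ := Submodule.mem_sup.mp (hXle hxX)
  -- if Y is maximal t.s. containing T and a vector y ∈ Y' \ T with Y' maximal, then ...
  have key : ∀ (Y Y' : Submodule F V), TS Q Y → finrank F Y = m → finrank F Y' = m →
      U ⊓ U' ≤ Y → U ⊓ U' ≤ Y' → ∀ y, y ∈ Y → y ∈ Y' → y ∉ U ⊓ U' → Y = Y' := by
    intro Y Y' _ hYd hY'd hTY hTY' y hyY hyY' hyT
    have hle : (U ⊓ U') ⊔ Submodule.span F {y} ≤ Y ⊓ Y' := by
      apply sup_le (le_inf hTY hTY')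
      rw [Submodule.span_singleton_le_iff_mem]
      exact ⟨hyY, hyY'⟩
    have hlt : U ⊓ U' < (U ⊓ U') ⊔ Submodule.span F {y} := by
      apply lt_of_le_of_ne le_sup_left
      intro h
      apply hyT
      rw [h]
      exact Submodule.mem_sup_right (Submodule.mem_span_singleton_self y)
    have h1 := Submodule.finrank_lt_finrank_of_lt hlt
    have h2 := Submodule.finrank_mono hle
    have h3 : finrank F ↥(Y ⊓ Y') = m := by
      have := Submodule.finrank_mono (inf_le_left : Y ⊓ Y' ≤ Y)
      omega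
    have e1 : Y ⊓ Y' = Y := Submodule.eq_of_le_of_finrank_eq inf_le_left (by rw [h3, hYd])
    have e2 : Y ⊓ Y' = Y' := Submodule.eq_of_le_of_finrank_eq inf_le_right (by rw [h3, hY'd])
    rw [← e1]; exact e2
  have huT : u ∉ U ⊓ U' := by
    intro huT
    have hu'X : u' ∈ X := by
      have : u' = x - u := by rw [← hxu]; abel
      rw [this]; exact X.sub_mem hxX (hTX huT)
    have hu'T : u' ∉ U ⊓ U' := by
      intro h
      apply hxT
      rw [← hxu]; exact (U ⊓ U').add_mem huT h
    exact hXU' (key X U' hX hXd hU'd hTX inf_le_right u' hu'X hu' hu'T)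
  have hu'T : u' ∉ U ⊓ U' := by
    intro hu'T
    have huX : u ∈ X := by
      have : u = x - u' := by rw [← hxu]; abel
      rw [this]; exact X.sub_mem hxX (hTX hu'T)
    exact hXU (key X U hX hXd hUd hTX inf_le_left u huX hu huT)
  -- polar u u' = 0
  have hpol : polar (⇑Q) u u' = 0 := by
    have h := QuadraticMap.map_add (⇑Q) u u'
    rw [hxu, hX x hxX, hU u hu, hU' u' hu'] at h
    linear_combination -h
  -- U = T ⊔ span u, U' = T ⊔ span u'
  have hUeq : (U ⊓ U') ⊔ Submodule.span F {u} = U := by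
    apply Submodule.eq_of_le_of_finrank_eq
    · apply sup_le inf_le_left
      rw [Submodule.span_singleton_le_iff_mem]; exact hu
    · have hlt : U ⊓ U' < (U ⊓ U') ⊔ Submodule.span F {u} := by
        apply lt_of_le_of_ne le_sup_left
        intro h
        apply huT
        rw [h]
        exact Submodule.mem_sup_right (Submodule.mem_span_singleton_self u)
      have h1 := Submodule.finrank_lt_finrank_of_lt hlt
      have h2 : finrank F ↥((U ⊓ U') ⊔ Submodule.span F {u}) ≤ finrank F U := by
        apply Submodule.finrank_mono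
        apply sup_le inf_le_left
        rw [Submodule.span_singleton_le_iff_mem]; exact hu
      omega
  -- U ≤ perp U' = U'
  have hUle : U ≤ U' := by
    suffices hsuff : (U ⊓ U') ⊔ Submodule.span F {u} ≤ perp Q U' by
      rw [hUeq, pU'] at hsuff
      exact hsuff
    apply sup_le
    · calc U ⊓ U' ≤ U' := inf_le_right
        _ ≤ perp Q U' := hU'.le_perp
    · rw [Submodule.span_singleton_le_iff_mem, mem_perp]
      intro y hy
      -- y ∈ U' = T ⊔ span u'
      have hU'eq : (U ⊓ U') ⊔ Submodule.span F {u'} = U' := by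
        apply Submodule.eq_of_le_of_finrank_eq
        · apply sup_le inf_le_right
          rw [Submodule.span_singleton_le_iff_mem]; exact hu'
        · have hlt : U ⊓ U' < (U ⊓ U') ⊔ Submodule.span F {u'} := by
            apply lt_of_le_of_ne le_sup_left
            intro h
            apply hu'T
            rw [h]
            exact Submodule.mem_sup_right (Submodule.mem_span_singleton_self u')
          have h1 := Submodule.finrank_lt_finrank_of_lt hlt
          have h2 : finrank F ↥((U ⊓ U') ⊔ Submodule.span F {u'}) ≤ finrank F U' := by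
            apply Submodule.finrank_mono
            apply sup_le inf_le_right
            rw [Submodule.span_singleton_le_iff_mem]; exact hu'
          omega
      rw [← hU'eq, Submodule.mem_sup] at hy
      obtain ⟨t, ht, z, hz, rfl⟩ := hy
      rw [Submodule.mem_span_singleton] at hz
      obtain ⟨a, rfl⟩ := hz
      rw [polar_add_left, polar_smul_left, polar_comm (⇑Q) u' u, hpol, smul_zero, add_zero]
      exact hU.polar_eq_zero (inf_le_left (a := U) (b := U') ht) hu
  exact hne (Submodule.eq_of_le_of_finrank_eq hUle (by rw [hUd, hU'd]))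

theorem perp_inf_eq_sup {U U' : Submodule F V} (hU : TS Q U) (hUd : finrank F U = m)
    (hU' : TS Q U') (hU'd : finrank F U' = m) (hT : finrank F ↥(U ⊓ U') + 1 = m) :
    perp Q (U ⊓ U') = U ⊔ U' := by
  have pU := hU.perp_eq Q hQ m hV hUd
  have pU' := hU'.perp_eq Q hQ m hV hU'd
  have hsupd : finrank F ↥(U ⊔ U') = m + 1 := by
    have := Submodule.finrank_sup_add_finrank_inf_eq U U'
    omega
  symm
  apply Submodule.eq_of_le_of_finrank_eq
  · have h1 : perp Q U ≤ perp Q (U ⊓ U') := LinearMap.BilinForm.orthogonal_le inf_le_left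
    have h2 : perp Q U' ≤ perp Q (U ⊓ U') := LinearMap.BilinForm.orthogonal_le inf_le_right
    rw [pU] at h1
    rw [pU'] at h2
    exact sup_le h1 h2
  · rw [finrank_perp Q hQ m hV, hsupd]
    omega

/-- auxiliary: one orientation of the adjacent lemma -/
theorem adjacent_aux {U U' X : Submodule F V} (hX' : (X ⊓ perp Q (U ⊓ U')) ⊔ (U ⊓ U') = U)
    (hUp : U ≤ perp Q (U ⊓ U')) (hU'p : U' ≤ perp Q (U ⊓ U')) :
    X ⊓ U = X ⊓ perp Q (U ⊓ U') ∧ X ⊓ U' = X ⊓ (U ⊓ U') := by
  have e1 : X ⊓ U = X ⊓ perp Q (U ⊓ U') := by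
    apply le_antisymm
    · exact inf_le_inf_left X hUp
    · apply le_inf inf_le_left
      calc X ⊓ perp Q (U ⊓ U') ≤ (X ⊓ perp Q (U ⊓ U')) ⊔ (U ⊓ U') := le_sup_left
        _ = U := hX'
  refine ⟨e1, ?_⟩
  apply le_antisymm
  · apply le_inf inf_le_left
    apply le_inf
    · calc X ⊓ U' ≤ X ⊓ perp Q (U ⊓ U') := inf_le_inf_left X hU'p
        _ = X ⊓ U := e1.symm
        _ ≤ U := inf_le_right
    · exact inf_le_right
  · exact inf_le_inf_left X inf_le_right

/-- **Adjacent lemma**: if `U`, `U'` are maximal totally singular meeting in codimension one, then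
for any maximal totally singular `X` the dimensions of `X ⊓ U` and `X ⊓ U'` differ by one. -/
theorem adjacent {U U' X : Submodule F V} (hU : TS Q U) (hUd : finrank F U = m)
    (hU' : TS Q U') (hU'd : finrank F U' = m) (hX : TS Q X) (hXd : finrank F X = m)
    (hT : finrank F ↥(U ⊓ U') + 1 = m) :
    (finrank F ↥(X ⊓ U) = finrank F ↥(X ⊓ U') + 1) ∨
      (finrank F ↥(X ⊓ U') = finrank F ↥(X ⊓ U) + 1) := by
  have pT := perp_inf_eq_sup Q hQ m hV hU hUd hU' hU'd hT
  have pX := hX.perp_eq Q hQ m hV hXd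
  have hTts : TS Q (U ⊓ U') := hU.mono inf_le_left
  have hTle : U ⊓ U' ≤ perp Q (U ⊓ U') := hTts.le_perp
  have hUp : U ≤ perp Q (U ⊓ U') := by rw [pT]; exact le_sup_left
  have hU'p : U' ≤ perp Q (U ⊓ U') := by rw [pT]; exact le_sup_right
  have hX'ts : TS Q ((X ⊓ perp Q (U ⊓ U')) ⊔ (U ⊓ U')) :=
    TS.sup (hX.mono inf_le_left) hTts inf_le_right
  -- dimension count
  have hpTd : finrank F ↥(perp Q (U ⊓ U')) = m + 1 := by
    rw [finrank_perp Q hQ m hV]; omega
  have h1 : perp Q (X ⊔ perp Q (U ⊓ U')) = X ⊓ (U ⊓ U') := by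
    rw [perp_sup, pX, perp_perp Q hQ]
  have h2 := finrank_perp Q hQ m hV (X ⊔ perp Q (U ⊓ U'))
  rw [h1] at h2
  have h3 := finrank_le_two_mul Q hQ m hV (X ⊔ perp Q (U ⊓ U'))
  have h4 := Submodule.finrank_sup_add_finrank_inf_eq X (perp Q (U ⊓ U'))
  have h5 := Submodule.finrank_sup_add_finrank_inf_eq (X ⊓ perp Q (U ⊓ U')) (U ⊓ U')
  have h6 : (X ⊓ perp Q (U ⊓ U')) ⊓ (U ⊓ U') = X ⊓ (U ⊓ U') := by
    rw [inf_assoc, inf_eq_right.mpr hTle]
  rw [h6] at h5
  have hX'd : finrank F ↥((X ⊓ perp Q (U ⊓ U')) ⊔ (U ⊓ U')) = m := by omega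
  have hdim : finrank F ↥(X ⊓ perp Q (U ⊓ U')) = finrank F ↥(X ⊓ (U ⊓ U')) + 1 := by omega
  rcases eq_or_eq_of_inf_le Q hQ m hV hU hUd hU' hU'd hX'ts hX'd hT le_sup_right with h | h
  · left
    obtain ⟨e1, e2⟩ := adjacent_aux Q hQ m hV h hUp hU'p
    rw [e1, e2, hdim]
  · right
    have h' : (X ⊓ perp Q (U' ⊓ U)) ⊔ (U' ⊓ U) = U' := by
      rw [inf_comm U' U]; exact h
    have hUp' : U ≤ perp Q (U' ⊓ U) := by rw [inf_comm U' U]; exact hUp
    have hU'p' : U' ≤ perp Q (U' ⊓ U) := by rw [inf_comm U' U]; exact hU'p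
    obtain ⟨e1, e2⟩ := adjacent_aux Q hQ m hV h' hU'p' hUp'
    rw [e1, e2, inf_comm U' U, hdim]

/-- **Step lemma**: two distinct maximal totally singular subspaces can be brought one step closer. -/
theorem exists_step {U W : Submodule F V} (hU : TS Q U) (hUd : finrank F U = m)
    (hW : TS Q W) (hWd : finrank F W = m) (hne : U ≠ W) :
    ∃ U' : Submodule F V, TS Q U' ∧ finrank F U' = m ∧ finrank F ↥(U ⊓ U') + 1 = m ∧
      finrank F ↥(U' ⊓ W) = finrank F ↥(U ⊓ W) + 1 := by
  have pU := hU.perp_eq Q hQ m hV hUd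
  obtain ⟨w, hwW, hwU⟩ : ∃ w ∈ W, w ∉ U := by
    by_contra hall
    push Not at hall
    have hle : W ≤ U := hall
    exact hne (Submodule.eq_of_le_of_finrank_eq hle (by rw [hUd, hWd])).symm
  have hw0 : w ≠ 0 := fun h => hwU (h ▸ U.zero_mem)
  have hQw : Q w = 0 := hW w hwW
  set S := Submodule.span F {w} with hS
  have hSd : finrank F S = 1 := finrank_span_singleton hw0
  have hUS : U ⊓ S = ⊥ := by
    rw [eq_bot_iff]
    intro x hx
    rw [Submodule.mem_inf, hS, Submodule.mem_span_singleton] at hx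
    obtain ⟨hxU, a, rfl⟩ := hx
    by_cases ha : a = 0
    · rw [ha, zero_smul]; exact Submodule.zero_mem _
    · exfalso
      apply hwU
      have := U.smul_mem a⁻¹ hxU
      rwa [smul_smul, inv_mul_cancel₀ ha, one_smul] at this
  have hUSd : finrank F ↥(U ⊔ S) = m + 1 := by
    have := Submodule.finrank_sup_add_finrank_inf_eq U S
    rw [hUS, finrank_bot] at this
    omega
  have hm1 : 1 ≤ m := by
    have := finrank_le_two_mul Q hQ m hV (U ⊔ S)
    omega
  have hU1 : perp Q (U ⊔ S) = U ⊓ perp Q S := by rw [perp_sup, pU]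
  have hU1d : finrank F ↥(U ⊓ perp Q S) = m - 1 := by
    rw [← hU1, finrank_perp Q hQ m hV, hUSd]; omega
  have hSts : TS Q S := TS_span_singleton Q w hQw
  have hU'ts : TS Q ((U ⊓ perp Q S) ⊔ S) := TS.sup (hU.mono inf_le_left) hSts inf_le_right
  have hU1S : (U ⊓ perp Q S) ⊓ S = ⊥ := by
    rw [eq_bot_iff, ← hUS]
    exact inf_le_inf_right S inf_le_left
  have hU'd : finrank F ↥((U ⊓ perp Q S) ⊔ S) = m := by
    have := Submodule.finrank_sup_add_finrank_inf_eq (U ⊓ perp Q S) S
    rw [hU1S, finrank_bot] at this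
    omega
  have hwU' : w ∈ (U ⊓ perp Q S) ⊔ S :=
    Submodule.mem_sup_right (Submodule.mem_span_singleton_self w)
  refine ⟨(U ⊓ perp Q S) ⊔ S, hU'ts, hU'd, ?_, ?_⟩
  · have hle : U ⊓ perp Q S ≤ U ⊓ ((U ⊓ perp Q S) ⊔ S) := le_inf inf_le_left le_sup_left
    have h1 := Submodule.finrank_mono hle
    have hlt : U ⊓ ((U ⊓ perp Q S) ⊔ S) < U := by
      apply lt_of_le_of_ne inf_le_left
      intro h
      have hUle : U ≤ (U ⊓ perp Q S) ⊔ S :=
        (le_of_eq h.symm).trans (inf_le_right : U ⊓ ((U ⊓ perp Q S) ⊔ S) ≤ (U ⊓ perp Q S) ⊔ S)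
      have : U = (U ⊓ perp Q S) ⊔ S :=
        Submodule.eq_of_le_of_finrank_eq hUle (by rw [hUd, hU'd])
      exact hwU (this ▸ hwU')
    have h2 := Submodule.finrank_lt_finrank_of_lt hlt
    omega
  · have hUWle : U ⊓ W ≤ U ⊓ perp Q S := by
      apply le_inf inf_le_left
      intro v hv
      rw [mem_perp]
      intro s hs
      rw [hS, Submodule.mem_span_singleton] at hs
      obtain ⟨a, rfl⟩ := hs
      rw [polar_smul_left, hW.polar_eq_zero hwW hv.2, smul_zero]
    have hSW : S ≤ W := by
      rw [hS, Submodule.span_singleton_le_iff_mem]; exact hwW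
    have hle : (U ⊓ W) ⊔ S ≤ ((U ⊓ perp Q S) ⊔ S) ⊓ W :=
      le_inf (sup_le_sup_right hUWle S) (sup_le inf_le_right hSW)
    have h1 := Submodule.finrank_mono hle
    have hUWS : (U ⊓ W) ⊓ S = ⊥ := by
      rw [eq_bot_iff, ← hUS]
      exact inf_le_inf_right S inf_le_left
    have h2 := Submodule.finrank_sup_add_finrank_inf_eq (U ⊓ W) S
    rw [hUWS, finrank_bot] at h2
    have hT : finrank F ↥(U ⊓ ((U ⊓ perp Q S) ⊔ S)) + 1 = m := by
      have hle : U ⊓ perp Q S ≤ U ⊓ ((U ⊓ perp Q S) ⊔ S) := le_inf inf_le_left le_sup_left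
      have h1 := Submodule.finrank_mono hle
      have hlt : U ⊓ ((U ⊓ perp Q S) ⊔ S) < U := by
        apply lt_of_le_of_ne inf_le_left
        intro h
        have hUle : U ≤ (U ⊓ perp Q S) ⊔ S :=
        (le_of_eq h.symm).trans (inf_le_right : U ⊓ ((U ⊓ perp Q S) ⊔ S) ≤ (U ⊓ perp Q S) ⊔ S)
        have : U = (U ⊓ perp Q S) ⊔ S :=
          Submodule.eq_of_le_of_finrank_eq hUle (by rw [hUd, hU'd])
        exact hwU (this ▸ hwU')
      have h2 := Submodule.finrank_lt_finrank_of_lt hlt
      omega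
    have hadj := adjacent Q hQ m hV hU hUd hU'ts hU'd hW hWd hT
    rw [inf_comm W U, inf_comm W ((U ⊓ perp Q S) ⊔ S)] at hadj
    omega

/-- **Two families**: parity relation for three maximal totally singular subspaces. -/
theorem even_triple {U W X : Submodule F V} (hU : TS Q U) (hUd : finrank F U = m)
    (hW : TS Q W) (hWd : finrank F W = m) (hX : TS Q X) (hXd : finrank F X = m) :
    Even ((m - finrank F ↥(U ⊓ W)) + (m - finrank F ↥(W ⊓ X)) + (m - finrank F ↥(U ⊓ X))) := by
  induction hd : m - finrank F ↥(U ⊓ W) using Nat.strong_induction_on generalizing U with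
  | _ d ih =>
    have hUWle : finrank F ↥(U ⊓ W) ≤ m := by
      have := Submodule.finrank_mono (inf_le_left : U ⊓ W ≤ U); omega
    have hWXle : finrank F ↥(W ⊓ X) ≤ m := by
      have := Submodule.finrank_mono (inf_le_left : W ⊓ X ≤ W); omega
    have hUXle : finrank F ↥(U ⊓ X) ≤ m := by
      have := Submodule.finrank_mono (inf_le_left : U ⊓ X ≤ U); omega
    by_cases hUW : U = W
    · subst hUW
      rw [inf_idem, hUd] at hd
      have : (m - finrank F ↥(U ⊓ X)) + (m - finrank F ↥(U ⊓ X)) =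
          2 * (m - finrank F ↥(U ⊓ X)) := by ring
      rw [← hd, Nat.sub_self, zero_add, this]
      exact even_two_mul _
    · obtain ⟨U', hU'ts, hU'd, hT, hstep⟩ := exists_step Q hQ m hV hU hUd hW hWd hUW
      have hU'Wle : finrank F ↥(U' ⊓ W) ≤ m := by
        have := Submodule.finrank_mono (inf_le_left : U' ⊓ W ≤ U'); omega
      have hU'Xle : finrank F ↥(U' ⊓ X) ≤ m := by
        have := Submodule.finrank_mono (inf_le_left : U' ⊓ X ≤ U'); omega
      have hlt : m - finrank F ↥(U' ⊓ W) < d := by omega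
      have ih' := ih _ hlt hU'ts hU'd rfl
      have hadj := adjacent Q hQ m hV hU hUd hU'ts hU'd hX hXd hT
      rw [inf_comm X U, inf_comm X U'] at hadj
      rw [Nat.even_iff] at ih' ⊢
      omega

end fd

end Cfsg.Agent.Lib.Helper50.TF
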