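import Cfsg.Agent.Lib.Helper90.S2718G
import Cfsg.Agent.Lib.Helper30.S2718R
import Cfsg.Agent.Lib.Helper45.S2718W1
import Cfsg.Agent.Lib.Helper22.S2718W2
import Cfsg.Agent.Lib.Helper63.S2718A
import Cfsg.Agent.Lib.Helper96.S2718E
import Cfsg.Agent.Lib.Helper82.S2718C
import Cfsg.Agent.Lib.Helper50.ClsPlus
import Cfsg.Agent.Lib.Helper50.DiagPlus
import Cfsg.Agent.Lib.Helper50.S2717V6
import Cfsg.Agent.S2725
import Cfsg.Agent.S0790
import Cfsg.Agent.Lib.Helper07.SplitClass
import Cfsg.Agent.Lib.Helper50.PlusKer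

set_option autoImplicit false
set_option linter.unusedSectionVars false
set_option linter.unusedVariables false

/-! Glue for S2718: the `Inndiag`-class of an involutory graph automorphism of `PΩ⁺_{2m}(q)`,
`q` odd, is the union of two `Inn`-classes unless `m` is odd and `q ≡ 3 mod 4`. -/

namespace Cfsg.Agent.Lib.Helper50.S2718K

open Module Matrix Cfsg.Agent.Lib.Helper43 Cfsg.Agent.Lib.Helper08 Cfsg.Agent.Lib.Helper50

universe u

section grp

variable {X : Type*} [Group X]

/-- relative index from a surjective hom on the big subgroup whose kernel is the small one -/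
theorem relIndex_of_surj {A : Type*} [Group A] (I D : Subgroup X) (φ : ↥D →* A)
    (hφ : Function.Surjective φ) (hk : φ.ker = I.subgroupOf D) : I.relIndex D = Nat.card A := by
  unfold Subgroup.relIndex
  rw [← hk, Subgroup.index_ker, MonoidHom.range_eq_top.mpr hφ]
  exact Nat.card_congr (Subgroup.topEquiv.toEquiv)

/-- commutators of the big subgroup lie in the small one when the quotient is commutative -/
theorem comm_mem_of_surj {A : Type*} [CommGroup A] (I D : Subgroup X) (φ : ↥D →* A)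
    (hk : φ.ker = I.subgroupOf D) : ∀ a ∈ D, ∀ b ∈ D, a * b * a⁻¹ * b⁻¹ ∈ I := by
  intro a ha b hb
  have h1 : (⟨a, ha⟩ * ⟨b, hb⟩ * ⟨a, ha⟩⁻¹ * ⟨b, hb⟩⁻¹ : ↥D) ∈ φ.ker := by
    rw [MonoidHom.mem_ker, map_mul, map_mul, map_mul, map_inv, map_inv]
    rw [mul_comm (φ ⟨a, ha⟩), mul_assoc (φ ⟨b, hb⟩), mul_inv_cancel, mul_one, mul_inv_cancel]
  rw [hk, Subgroup.mem_subgroupOf] at h1
  exact h1

/-- when `|D : I| = 2` the number of classes is one or two -/
theorem relIndex_one_or_two (I D N : Subgroup X) (hIN : I ≤ N) (hND : N ≤ D)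
    (h2 : I.relIndex D = 2) : N.relIndex D = 1 ∨ N.relIndex D = 2 := by
  have h := Subgroup.relIndex_mul_relIndex I N D hIN hND
  rw [h2] at h
  have hd : N.relIndex D ∣ 2 := Dvd.intro_left _ h
  rcases (Nat.dvd_prime Nat.prime_two).mp hd with h1 | h1
  · left; exact h1
  · right; exact h1

end grp

section plus

/-- the similarity group of the hyperbolic form -/
abbrev SimP (m : ℕ) (F : Type u) [Field F] :=
  ↥(Cfsg.Geo.quadSimilarityGroup (F := F) (Cfsg.quadFormPlus m F))

/-- square matrices of size `2m` -/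
abbrev MatP (m : ℕ) (F : Type u) := Matrix (Fin m ⊕ Fin m) (Fin m ⊕ Fin m) F

variable {F : Type u} [Field F] [Fintype F] {m : ℕ}

local notation "π" => autPO (Cfsg.quadFormPlus m F)

/-- an isometry as a similarity (plus form) -/
def inclP (s : ↥(Cfsg.isometryGroup F (Cfsg.quadFormPlus m F))) : SimP m F :=
  ⟨s.1, isometryGroup_le_similarity (Cfsg.quadFormPlus m F) s.2⟩

theorem autO_eq_inclP (s : ↥(Cfsg.isometryGroup F (Cfsg.quadFormPlus m F))) :
    autO (Cfsg.quadFormPlus m F) s = π (inclP s) := rfl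

/-- the product of two reflections, as a similarity, preserves the classes -/
theorem inclP_reflPair_mem (hm : 1 ≤ m) (u v : Fin m ⊕ Fin m → F) (hu : QPlus m F u ≠ 0)
    (hv : QPlus m F v ≠ 0) :
    inclP (reflO (QPlus m F) u * reflO (QPlus m F) v) ∈ clsPlus (F := F) m := by
  have h1 : inclP (reflO (QPlus m F) u * reflO (QPlus m F) v) =
      inclP (reflO (QPlus m F) u) * inclP (reflO (QPlus m F) v) := rfl
  rw [h1]
  apply mul_mem_clsPlus_of_not
  · exact reflection_not_mem_clsPlus m hm _ u hu (reflO_val (QPlus m F) u hu)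
  · exact reflection_not_mem_clsPlus m hm _ v hv (reflO_val (QPlus m F) v hv)

/-- the product of two reflections with nonsquare product of norms is not in `Ω` -/
theorem reflPair_not_mem_Omega (h2 : (2 : F) ≠ 0) (u v : Fin m ⊕ Fin m → F)
    (hu : QPlus m F u ≠ 0) (hv : QPlus m F v ≠ 0)
    (hns : ¬ IsSquare (QPlus m F u * QPlus m F v)) :
    reflO (QPlus m F) u * reflO (QPlus m F) v ∉ Cfsg.Omega F (⇑(QPlus m F)) := by
  intro hmem
  have hvs : ∀ w ∈ [u, v], QPlus m F w ≠ 0 := by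
    intro w hw
    simp only [List.mem_cons, List.not_mem_nil, or_false] at hw
    rcases hw with rfl | rfl
    · exact hu
    · exact hv
  have hval : (((reflO (QPlus m F) u * reflO (QPlus m F) v :
      ↥(Cfsg.isometryGroup F (⇑(QPlus m F)))) : GL (Fin m ⊕ Fin m) F) : MatP m F) =
      ([u, v].map (fun w => Cfsg.reflectionMatrix (⇑(QPlus m F)) w)).prod := by
    rw [Subgroup.coe_mul, Units.val_mul, reflO_val _ u hu, reflO_val _ v hv]
    simp
  have h := (spinor_criterion h2 (QPlus m F) _ [u, v] hvs hval).mp hmem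
  apply hns
  have h3 := h.2
  simpa using h3

theorem isSquare_of_mul_sq {a b : F} (hb : b ≠ 0) (h : IsSquare (a * (b * b))) : IsSquare a := by
  obtain ⟨r, hr⟩ := h
  refine ⟨r / b, ?_⟩
  field_simp
  linear_combination hr

/-- the lower bound witness: a pair of non-singular vectors, with nonsquare product of norms,
whose reflections' product commutes with `t` -/
theorem exists_lower_pair (h2 : (2 : F) ≠ 0) (hm : 4 ≤ m) (t : SimP m F) (ht : t ∉ clsPlus m)
    (lam : F)
    (hsq : ((t : GL (Fin m ⊕ Fin m) F) : MatP m F) * ((t : GL (Fin m ⊕ Fin m) F) : MatP m F) =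
      lam • 1)
    (hneg1 : Odd m → IsSquare (-1 : F)) :
    ∃ u v : Fin m ⊕ Fin m → F, QPlus m F u ≠ 0 ∧ QPlus m F v ≠ 0 ∧
      ¬ IsSquare (QPlus m F u * QPlus m F v) ∧
      (t : GL (Fin m ⊕ Fin m) F) * ((reflO (QPlus m F) u * reflO (QPlus m F) v :
        ↥(Cfsg.isometryGroup F ⇑(QPlus m F))) : GL (Fin m ⊕ Fin m) F) =
      ((reflO (QPlus m F) u * reflO (QPlus m F) v :
        ↥(Cfsg.isometryGroup F ⇑(QPlus m F))) : GL (Fin m ⊕ Fin m) F) *
        (t : GL (Fin m ⊕ Fin m) F) := by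
  have hm3 : 3 ≤ m := by omega
  obtain ⟨M, hM⟩ : ∃ M : MatP m F, M = ((t : GL (Fin m ⊕ Fin m) F) : MatP m F) := ⟨_, rfl⟩
  rw [← hM] at hsq
  obtain ⟨μ, hμ0, hμ⟩ := mult_of_mem m t
  rw [← hM] at hμ
  obtain ⟨e, he⟩ : ∃ e : Fin 3 → (Fin m ⊕ Fin m → F),
      e = fun i => Pi.single (Sum.inl (Fin.castLE hm3 i)) 1 := ⟨_, rfl⟩
  obtain ⟨f, hf⟩ : ∃ f : Fin 3 → (Fin m ⊕ Fin m → F),
      f = fun i => Pi.single (Sum.inr (Fin.castLE hm3 i)) 1 := ⟨_, rfl⟩
  have HT : HypTriple (QPlus m F) e f := by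
    rw [he, hf]; exact hypTriple_plus (F := F) m hm3
  obtain ⟨v₀, hv₀⟩ : ∃ v₀ : Fin m ⊕ Fin m → F, QPlus m F v₀ = 1 := by
    refine ⟨e 0 + f 0, ?_⟩
    rw [QuadraticMap.map_add (⇑(QPlus m F)), HT.qe 0, HT.qf 0, HT.ef]
    simp
  have hμμ : μ * μ = lam * lam := by
    have h1 := hμ (M *ᵥ v₀)
    rw [hμ v₀, hv₀, Matrix.mulVec_mulVec, hsq, Matrix.smul_mulVec, Matrix.one_mulVec,
      QuadraticMap.map_smul, hv₀, smul_eq_mul, mul_one, mul_one] at h1
    exact h1.symm
  have hcases : μ = lam ∨ μ = -lam := by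
    have h1 : (μ - lam) * (μ + lam) = 0 := by linear_combination hμμ
    rcases mul_eq_zero.mp h1 with h | h
    · left; exact sub_eq_zero.mp h
    · right; exact eq_neg_of_add_eq_zero_left h
  have hcard : Fintype.card (Fin m ⊕ Fin m) = 2 * m := card_plus_index m
  by_cases hl : IsSquare lam
  · obtain ⟨c, hc⟩ := hl
    have hc0 : c ≠ 0 := by
      rintro rfl
      rw [mul_zero] at hc
      rw [hc, mul_zero] at hμμ
      exact hμ0 (mul_self_eq_zero.mp hμμ)
    rcases hcases with h | h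
    · -- isometry involution
      obtain ⟨u, v, hu, hv, hns, hSu, hSv⟩ := Cfsg.Agent.Lib.Helper45.S2718K.exists_eigen_pair (QPlus m F) h2 QPlus_nondegenerate
        (by rw [hcard]; omega) (c⁻¹ • M)
        (by
          rw [Matrix.smul_mul, Matrix.mul_smul, hsq, smul_smul, smul_smul, hc]
          have : c⁻¹ * c⁻¹ * (c * c) = 1 := by field_simp
          rw [this, one_smul])
        (by
          intro w
          rw [Matrix.smul_mulVec, QuadraticMap.map_smul, hμ, h, hc, smul_eq_mul]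
          field_simp)
      refine ⟨u, v, hu, hv, hns, ?_⟩
      apply Cfsg.Agent.Lib.Helper30.S2718K.reflPair_comm (QPlus m F) h2 t u v hu hv
      left
      have key : ∀ w : Fin m ⊕ Fin m → F, ((c⁻¹ • M) *ᵥ w = w ∨ (c⁻¹ • M) *ᵥ w = -w) →
          ∃ a : F, M *ᵥ w = a • w := by
        intro w hw
        have h1 : M *ᵥ w = c • ((c⁻¹ • M) *ᵥ w) := by
          rw [Matrix.smul_mulVec, smul_smul, mul_inv_cancel₀ hc0, one_smul]
        rcases hw with hw | hw
        · exact ⟨c, by rw [h1, hw]⟩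
        · exact ⟨-c, by rw [h1, hw, smul_neg, neg_smul]⟩
      obtain ⟨a, ha⟩ := key u hSu
      obtain ⟨b, hb⟩ := key v hSv
      rw [← hM]
      exact ⟨a, b, ha, hb⟩
    · exfalso
      apply ht
      apply Cfsg.Agent.Lib.Helper63.S2718K.mem_clsPlus_of_anti h2 t c hc0
      · rw [← hM, hsq, hc]
      · intro w
        rw [← hM]
        have := hμ w
        rw [h, hc] at this
        exact this
  · -- `lam` is a nonsquare
    have hmo : Odd m := by
      by_contra hne
      rw [Nat.not_odd_iff_even] at hne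
      apply ht
      apply Cfsg.Agent.Lib.Helper96.S2718K.mem_clsPlus_of_sq_nonsquare hne t lam hl
      rw [← hM]
      exact hsq
    obtain ⟨i, hi⟩ := hneg1 hmo
    obtain ⟨u, hu, hpol⟩ := Cfsg.Agent.Lib.Helper22.S2718K.exists_nonsingular_orth_image (QPlus m F) h2 QPlus_nondegenerate m
      (by omega) hcard M lam μ hl hsq hμ
    have hv : QPlus m F (M *ᵥ u) ≠ 0 := by
      rw [hμ]
      exact mul_ne_zero hμ0 hu
    have hμns : ¬ IsSquare μ := by
      rintro ⟨r, hr⟩
      apply hl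
      rcases hcases with h | h
      · exact ⟨r, by rw [← h, hr]⟩
      · refine ⟨i * r, ?_⟩
        have : lam = -μ := by rw [h, neg_neg]
        rw [this, hr]
        linear_combination (r * r) * hi
    refine ⟨u, M *ᵥ u, hu, hv, ?_, ?_⟩
    · intro hsqr
      apply hμns
      rw [hμ] at hsqr
      apply isSquare_of_mul_sq hu
      have : QPlus m F u * (μ * QPlus m F u) = μ * (QPlus m F u * QPlus m F u) := by ring
      rw [← this]
      exact hsqr
    · apply Cfsg.Agent.Lib.Helper30.S2718K.reflPair_comm (QPlus m F) h2 t u (M *ᵥ u) hu hv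
      right
      rw [← hM]
      refine ⟨1, lam, by rw [one_smul], ?_, hpol⟩
      rw [Matrix.mulVec_mulVec, hsq, Matrix.smul_mulVec, Matrix.one_mulVec]

/-- elements of `Ω`, as similarities, preserve the classes -/
theorem inclP_mem_of_Omega [DecidableEq F] (h2 : (2 : F) ≠ 0) (hm : 3 ≤ m)
    (ω : ↥(Cfsg.isometryGroup F ⇑(QPlus m F)))
    (hω : ω ∈ Cfsg.Omega F ⇑(QPlus m F)) : inclP ω ∈ clsPlus (F := F) m := by
  obtain ⟨e, he⟩ : ∃ e : Fin 3 → (Fin m ⊕ Fin m → F),
      e = fun i => Pi.single (Sum.inl (Fin.castLE hm i)) 1 := ⟨_, rfl⟩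
  obtain ⟨f, hf⟩ : ∃ f : Fin 3 → (Fin m ⊕ Fin m → F),
      f = fun i => Pi.single (Sum.inr (Fin.castLE hm i)) 1 := ⟨_, rfl⟩
  have HT : HypTriple (QPlus m F) e f := by
    rw [he, hf]; exact hypTriple_plus (F := F) m hm
  have hu : QPlus m F (e 0 + f 0) = 1 := by
    rw [QuadraticMap.map_add (⇑(QPlus m F)), HT.qe 0, HT.qf 0, HT.ef]
    simp
  rw [mem_clsPlus_iff]
  apply (preserves_plus_iff m h2 (QPlus m F) rfl QPlus_nondegenerate hu (inclP ω)).mpr
  show delta (QPlus m F) hu m (inclGO (QPlus m F) ω) = 1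
  apply Units.ext
  rw [delta_apply, multFun_inclGO (QPlus m F) hu]
  have hdet := (mem_SO_iff_det (QPlus m F) ω).1 (Omega_le_SO (QPlus m F) hω)
  simp only [inv_one, one_pow, mul_one, detGO_val, Units.val_one]
  exact hdet

set_option maxHeartbeats 1600000 in
/-- S2718. -/
theorem s2718_main (hodd : Odd (Fintype.card F)) (hm : 4 ≤ m)
    (γ : MulAut (Cfsg.POmega F (Cfsg.quadFormPlus m F)))
    (hγ : Cfsg.IsSimilarityGraphAutPOmegaPlus m γ) (hγ2 : orderOf γ = 2) :
    (Cfsg.splitClassCount (Cfsg.inndiagPOmegaPlus m F)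
        (Cfsg.Inn (Cfsg.POmega F (Cfsg.quadFormPlus m F))) γ = 1 ∨
      Cfsg.splitClassCount (Cfsg.inndiagPOmegaPlus m F)
        (Cfsg.Inn (Cfsg.POmega F (Cfsg.quadFormPlus m F))) γ = 2) ∧
    (¬ (Odd m ∧ Fintype.card F % 4 = 3) →
      Cfsg.splitClassCount (Cfsg.inndiagPOmegaPlus m F)
        (Cfsg.Inn (Cfsg.POmega F (Cfsg.quadFormPlus m F))) γ = 2) := by
  classical
  have hm3 : 3 ≤ m := by omega
  have hm1 : 1 ≤ m := by omega
  have h2 : (2 : F) ≠ 0 := two_ne_zero_of_odd_card rfl hodd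
  obtain ⟨e, he⟩ : ∃ e : Fin 3 → (Fin m ⊕ Fin m → F),
      e = fun i => Pi.single (Sum.inl (Fin.castLE hm3 i)) 1 := ⟨_, rfl⟩
  obtain ⟨f, hf⟩ : ∃ f : Fin 3 → (Fin m ⊕ Fin m → F),
      f = fun i => Pi.single (Sum.inr (Fin.castLE hm3 i)) 1 := ⟨_, rfl⟩
  have HT : HypTriple (QPlus m F) e f := by
    rw [he, hf]; exact hypTriple_plus (F := F) m hm3
  have C : Cfsg.Agent.Lib.Helper07.OG.OC (QPlus m F) :=
    ⟨QPlus_nondegenerate, by rw [card_plus_index]; omega⟩
  -- the subgroups
  obtain ⟨I, hI⟩ : ∃ I, I = Cfsg.Inn (Cfsg.POmega F (Cfsg.quadFormPlus m F)) := ⟨_, rfl⟩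
  obtain ⟨D, hD⟩ : ∃ D, D = Cfsg.inndiagPOmegaPlus m F := ⟨_, rfl⟩
  have hDeq : D = (clsPlus m).map π := by rw [hD]; exact inndiagPOmegaPlus_eq m
  have hIeq : I = (Cfsg.Omega F ⇑(QPlus m F)).map (autO ⇑(QPlus m F)) := by
    rw [hI]; exact inn_eq ⇑(QPlus m F)
  have hIn : I.Normal := by rw [hI]; infer_instance
  have hID : I ≤ D := by
    rw [hIeq, hDeq]
    rintro _ ⟨ω, hω, rfl⟩
    exact ⟨inclP ω, inclP_mem_of_Omega h2 hm3 ω hω, rfl⟩
  rw [← hI, ← hD, Cfsg.Agent.Lib.Helper07.splitClassCount_eq_relIndex D I hID γ]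
  have hres := Cfsg.Agent.S2725.result (F := F) hodd hm
  rw [← hI, ← hD] at hres
  have hq4 : Fintype.card F % 4 = 1 ∨ Fintype.card F % 4 = 3 := by
    rcases hodd with ⟨r, hr⟩
    omega
  by_cases hcase : Odd m ∧ Fintype.card F % 4 = 3
  · -- `|D : I| = 2`
    obtain ⟨φ, hφ, hk⟩ := hres.1 hcase
    have h2' : I.relIndex D = 2 := by
      rw [relIndex_of_surj I D φ hφ hk]
      simp [Nat.card_eq_fintype_card]
    refine ⟨relIndex_one_or_two I D _ le_sup_left (sup_le hID inf_le_left) h2', ?_⟩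
    intro h
    exact absurd hcase h
  · -- `|D : I| = 4`
    have hfour : I.relIndex D = 4 ∧ ∀ a ∈ D, ∀ b ∈ D, a * b * a⁻¹ * b⁻¹ ∈ I := by
      by_cases hmo : Odd m
      · have h1 : Fintype.card F % 4 = 1 := by
          rcases hq4 with h | h
          · exact h
          · exact absurd ⟨hmo, h⟩ hcase
        obtain ⟨φ, hφ, hk⟩ := hres.2.1 ⟨hmo, h1⟩
        refine ⟨?_, comm_mem_of_surj I D φ hk⟩
        rw [relIndex_of_surj I D φ hφ hk]
        simp [Nat.card_eq_fintype_card]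
      · rw [Nat.not_odd_iff_even] at hmo
        obtain ⟨φ, hφ, hk⟩ := hres.2.2 hmo
        refine ⟨?_, comm_mem_of_surj I D φ hk⟩
        rw [relIndex_of_surj I D φ hφ hk]
        simp [Nat.card_eq_fintype_card]
    have hqm : Fintype.card F ^ m % 4 = 1 := by
      rcases hq4 with h | h
      · exact pow_mod_four_of_mod_one h m
      · have hme : Even m := by
          by_contra hne
          rw [Nat.not_even_iff_odd] at hne
          exact hcase ⟨hne, h⟩
        exact pow_mod_four_of_mod_three_even h hme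
    have hneg : ∃ g : ↥(Cfsg.isometryGroup F ⇑(QPlus m F)), g ∈ Cfsg.Omega F ⇑(QPlus m F) ∧
        ((g : GL (Fin m ⊕ Fin m) F) : MatP m F) = -1 :=
      (Cfsg.Agent.S0790.result (F := F) rfl hodd m hm1).mpr hqm
    have hneg1 : Odd m → IsSquare (-1 : F) := by
      intro hmo
      rw [FiniteField.isSquare_neg_one_iff]
      intro h
      exact hcase ⟨hmo, h⟩
    have hV6 := fun s => Cfsg.Agent.Lib.Helper50.S2717K.autO_mem_inn_iff_of_neg (QPlus m F) h2
      QPlus_nondegenerate e f HT hneg s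
    -- the similarity inducing `γ`
    obtain ⟨g, hg, hnp, hind⟩ := hγ
    obtain ⟨t, ht⟩ : ∃ t : SimP m F, t = ⟨g, hg⟩ := ⟨_, rfl⟩
    have hγt : γ = π t := by
      rw [ht]; exact (isInduced_iff (Cfsg.quadFormPlus m F) g hg γ).mp hind
    have htn : t ∉ clsPlus m := by
      rw [ht, mem_clsPlus_iff]; exact hnp
    have hγγ : γ * γ = 1 := by
      rw [← pow_two, ← hγ2]; exact pow_orderOf_eq_one γ
    obtain ⟨lam, hlam⟩ : ∃ lam : F, ((t : GL (Fin m ⊕ Fin m) F) : MatP m F) *
        ((t : GL (Fin m ⊕ Fin m) F) : MatP m F) = lam • 1 := by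
      have h1 : π (t * t) = 1 := by rw [map_mul, ← hγt, hγγ]
      obtain ⟨c, hc⟩ := (autPO_eq_one_iff_OC (QPlus m F) C (t * t)).mp h1
      exact ⟨c, hc⟩
    refine ⟨Or.inr ?_, fun _ => ?_⟩ <;>
    · apply Cfsg.Agent.Lib.Helper90.S2718K.relIndex_eq_two_of I D hID hfour.1 hfour.2 γ
      · -- upper bound
        obtain ⟨ζ, hζ⟩ := exists_nonsquare_of_two_ne_zero h2
        have hζ0 : ζ ≠ 0 := fun h => hζ (h ▸ ⟨0, by ring⟩)
        obtain ⟨t₀, d, A, ht₀, hd, hdet, hcomm⟩ := Cfsg.Agent.Lib.Helper82.S2718K.exists_comm_diag (F := F) hm1 ζ hζ0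
        refine ⟨π t₀, π (t₀⁻¹ * t), π d, ?_, ?_, ?_, ?_⟩
        · rw [← map_mul, mul_inv_cancel_left]; exact hγt
        · rw [hDeq]
          refine ⟨_, ?_, rfl⟩
          apply mul_mem_clsPlus_of_not
          · intro h; exact ht₀ ((clsPlus m).inv_mem_iff.mp h)
          · exact htn
        · rw [hDeq]; exact ⟨d, hd, rfl⟩
        · have h1 : π t₀ * π d * (π t₀)⁻¹ * (π d)⁻¹ = autO ⇑(QPlus m F) (diagPlusO A) := by
            rw [← map_inv, ← map_inv, ← map_mul, ← map_mul, ← map_mul]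
            show π _ = π (inclP (diagPlusO A))
            congr 1
            apply Subtype.ext
            exact hcomm
          rw [h1, hI]
          intro hmem
          have h5 := (hV6 (diagPlusO A)).mp hmem
          rw [diagPlusO_mem_Omega_iff h2] at h5
          rcases hdet with h | h
          · rw [h] at h5; exact hζ h5
          · rw [h] at h5
            apply hζ
            have := h5.inv
            rwa [inv_inv] at this
      · -- lower bound
        obtain ⟨u, v, hu, hv, hns, hcomm⟩ := exists_lower_pair h2 hm t htn lam hlam hneg1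
        refine ⟨autO ⇑(QPlus m F) (reflO (QPlus m F) u * reflO (QPlus m F) v), ?_, ?_, ?_⟩
        · rw [hDeq]
          exact ⟨_, inclP_reflPair_mem hm1 u v hu hv, rfl⟩
        · rw [hγt]
          show π (inclP _) * π t = π t * π (inclP _)
          rw [← map_mul, ← map_mul]
          congr 1
          apply Subtype.ext
          exact hcomm.symm
        · rw [hI]
          intro hmem
          exact reflPair_not_mem_Omega h2 u v hu hv hns ((hV6 _).mp hmem)

end plus

end Cfsg.Agent.Lib.Helper50.S2718K
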