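import Cfsg.Agent.Lib.Helper50.SpinorIndex
import Cfsg.Agent.Lib.Helper50.TwoFamilies

set_option autoImplicit false

/-! The centre of `Ω` in odd dimension (q odd) is trivial. -/

namespace Cfsg.Agent.Lib.Helper50

open Matrix Module QuadraticMap Cfsg.Agent.Lib.Helper19

variable {F : Type*} [Field F]

section spanned

variable {V : Type*} [AddCommGroup V] [Module F V]

/-- In the presence of a hyperbolic pair every vector is a combination of singular vectors:
concretely, a linear map acting as the scalar `c` on all singular vectors is the scalar `c`. -/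
theorem scalar_of_scalar_on_singular (Q : QuadraticForm F V) (W : Submodule F V) (e f : V)
    (heW : e ∈ W) (hfW : f ∈ W) (he : Q e = 0)
    (hf : Q f = 0) (hef : polar (⇑Q) e f = 1) (T : V →ₗ[F] V) (c : F)
    (hT : ∀ s ∈ W, Q s = 0 → T s = c • s) (x : V) (hxW : x ∈ W) : T x = c • x := by
  set a := polar (⇑Q) x f with ha
  set b := polar (⇑Q) x e with hb
  set x' := x - a • e - b • f with hx'
  have hee : polar (⇑Q) e e = 0 := by rw [polar_self, he]; simp
  have hff : polar (⇑Q) f f = 0 := by rw [polar_self, hf]; simp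
  have hfe : polar (⇑Q) f e = 1 := by rw [polar_comm]; exact hef
  have h1 : polar (⇑Q) x' e = 0 := by
    rw [hx', polar_sub_left, polar_sub_left, polar_smul_left, polar_smul_left, hee, hfe]
    simp [hb]
  have h2 : polar (⇑Q) x' f = 0 := by
    rw [hx', polar_sub_left, polar_sub_left, polar_smul_left, polar_smul_left, hef, hff]
    simp [ha]
  set s := x' - Q x' • e + f with hs
  have hQs : Q s = 0 := by
    have e1 : Q s = Q (x' + (-(Q x') • e + f)) := by rw [hs]; congr 1; rw [neg_smul]; abel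
    have e2 := QuadraticMap.map_add (⇑Q) x' (-(Q x') • e + f)
    have e3 := QuadraticMap.map_add (⇑Q) (-(Q x') • e) f
    rw [e1, e2, e3, QuadraticMap.map_smul, he, hf, polar_smul_left, hef, polar_add_right,
      polar_smul_right, h1, h2]
    simp
  have hxs : x = s + (Q x' + a) • e + (b - 1) • f := by
    rw [hs, hx', add_smul, sub_smul, one_smul]
    abel
  have hx'W : x' ∈ W := W.sub_mem (W.sub_mem hxW (W.smul_mem _ heW)) (W.smul_mem _ hfW)
  have hsW : s ∈ W := W.add_mem (W.sub_mem hx'W (W.smul_mem _ heW)) hfW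
  rw [hxs, map_add, map_add, map_smul, map_smul, hT s hsW hQs, hT e heW he, hT f hfW hf]
  simp only [smul_add, smul_smul]
  congr 1
  · congr 1
    rw [mul_comm]
  · rw [mul_comm]

end spanned

section center

variable {ι : Type} [Fintype ι] [DecidableEq ι] [Fintype F]

theorem negO_comm (Q : QuadraticForm F (ι → F)) (g : ↥(Cfsg.isometryGroup F (⇑Q))) :
    negO Q * g = g * negO Q := by
  apply O_ext
  simp only [Subgroup.coe_mul, Units.val_mul, negO_val]
  simp

theorem detHom_negO (Q : QuadraticForm F (ι → F)) (hodd : Odd (Fintype.card ι)) :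
    detHom (⇑Q) (negO Q) = -1 := by
  apply Units.ext
  rw [detHom_val, negO_val, Matrix.det_neg, Matrix.det_one, hodd.neg_one_pow]
  simp

/-- an isometry commuting with a reflection has the root as an eigenvector -/
theorem eigen_of_commute (h2 : (2 : F) ≠ 0) (Q : QuadraticForm F (ι → F))
    (z : ↥(Cfsg.isometryGroup F (⇑Q))) (u : ι → F) (hu : Q u ≠ 0)
    (hc : z * reflO Q u = reflO Q u * z) :
    ∃ t : F, ((z : GL ι F) : Matrix ι ι F) *ᵥ u = t • u := by
  have h1 := conj_reflO Q z u hu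
  rw [hc] at h1
  have h3 : reflO Q u = reflO Q (((z : GL ι F) : Matrix ι ι F) *ᵥ u) := mul_right_cancel h1
  have hgu : Q (((z : GL ι F) : Matrix ι ι F) *ᵥ u) ≠ 0 := by
    rw [O_isometry (⇑Q) z u]; exact hu
  have h4 : Cfsg.reflectionMatrix (⇑Q) u =
      Cfsg.reflectionMatrix (⇑Q) (((z : GL ι F) : Matrix ι ι F) *ᵥ u) := by
    rw [← reflO_val Q u hu, ← reflO_val Q _ hgu, ← h3]
  rw [← neg_refl_eq_iff h2 Q u _ hu, h4, ← Matrix.toLin'_apply, toLin'_reflectionMatrix,
    reflLin_self Q _ hgu, neg_neg]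

open scoped Classical in
/-- The centre of `Ω` in odd dimension at least five is trivial (odd characteristic). -/
theorem center_trivial_odd (h2 : (2 : F) ≠ 0) (Q : QuadraticForm F (ι → F))
    (hQ : (QuadraticMap.polarBilin Q).Nondegenerate) (hodd : Odd (Fintype.card ι))
    (hdim : 4 ≤ Fintype.card ι)
    (z : ↥(Cfsg.isometryGroup F (⇑Q)))
    (hz : z ∈ commutator ↥(Cfsg.isometryGroup F (⇑Q)))
    (hcomm : ∀ g ∈ commutator ↥(Cfsg.isometryGroup F (⇑Q)), z * g = g * z) : z = 1 := by
  obtain ⟨ζ, hζ⟩ := exists_nonsquare_of_two_ne_zero h2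
  have hζ0 : ζ ≠ 0 := fun h => hζ (h ▸ ⟨0, by ring⟩)
  -- choose the class
  obtain ⟨c₀, hc₀, hcls⟩ : ∃ c₀ : F, c₀ ≠ 0 ∧ ∀ u : ι → F, Q u = c₀ →
      theta (⇑Q) ζ (reflO Q u) = theta (⇑Q) ζ (negO Q) := by
    rcases Int.units_eq_one_or (theta (⇑Q) ζ (negO Q)) with h | h
    · refine ⟨1, one_ne_zero, fun u hu => ?_⟩
      rw [h, theta_nonsq_reflO h2 Q ζ hζ u (by rw [hu]; exact one_ne_zero), hu]
      simp
    · refine ⟨ζ, hζ0, fun u hu => ?_⟩
      rw [h, theta_nonsq_reflO h2 Q ζ hζ u (by rw [hu]; exact hζ0), hu]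
      simp [hζ]
  set A : Matrix ι ι F := ((z : GL ι F) : Matrix ι ι F) with hA
  have hAiso : ∀ v, Q (A *ᵥ v) = Q v := O_isometry (⇑Q) z
  -- eigen property on the class
  have heig : ∀ u : ι → F, Q u = c₀ → ∃ t : F, A *ᵥ u = t • u := by
    intro u hu
    have hu0 : Q u ≠ 0 := by rw [hu]; exact hc₀
    apply eigen_of_commute h2 Q z u hu0
    have hmem : negO Q * reflO Q u ∈ commutator ↥(Cfsg.isometryGroup F (⇑Q)) := by
      rw [mem_commutator_iff h2 Q hQ ζ hζ]
      constructor
      · rw [map_mul, detHom_negO Q hodd, detHom_reflO Q u hu0]; simp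
      · rw [map_mul, hcls u hu]; exact Int.units_mul_self _
    have h1 := hcomm _ hmem
    rw [← mul_assoc, ← negO_comm Q z, mul_assoc, mul_assoc] at h1
    exact mul_left_cancel h1
  obtain ⟨u₀, hu₀⟩ := exists_repr Q hQ
    (by rw [Module.finrank_fintype_fun_eq_card]; omega) c₀ hc₀
  obtain ⟨lam, hlam⟩ := heig u₀ hu₀
  set W : Submodule F (ι → F) :=
    LinearMap.BilinForm.orthogonal (QuadraticMap.polarBilin Q) (F ∙ u₀) with hW
  have hWmem : ∀ w : ι → F, w ∈ W ↔ polar (⇑Q) u₀ w = 0 := by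
    intro w
    rw [hW, LinearMap.BilinForm.mem_orthogonal_iff]
    constructor
    · intro h
      exact h u₀ (Submodule.mem_span_singleton_self u₀)
    · intro h n hn
      obtain ⟨t, rfl⟩ := Submodule.mem_span_singleton.mp hn
      change polar (⇑Q) (t • u₀) w = 0
      rw [polar_smul_left, h, smul_zero]
  have hpu : polar (⇑Q) u₀ u₀ = 2 * c₀ := by
    rw [polar_self, hu₀]; simp
  have hpu0 : polar (⇑Q) u₀ u₀ ≠ 0 := by
    rw [hpu]; exact mul_ne_zero h2 hc₀
  -- decomposition
  have hdec : ∀ x : ι → F, ∃ t : F, ∃ w ∈ W, x = t • u₀ + w := by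
    intro x
    refine ⟨polar (⇑Q) u₀ x / polar (⇑Q) u₀ u₀, x - (polar (⇑Q) u₀ x / polar (⇑Q) u₀ u₀) • u₀,
      ?_, by abel⟩
    rw [hWmem, polar_sub_right, polar_smul_right, smul_eq_mul, div_mul_cancel₀ _ hpu0, sub_self]
  -- singular vectors of W are eigenvectors
  have hsing : ∀ s ∈ W, Q s = 0 → A *ᵥ s = lam • s := by
    intro s hsW hs
    have hps : polar (⇑Q) u₀ s = 0 := (hWmem s).mp hsW
    have hQus : Q (u₀ + s) = c₀ := by
      have := QuadraticMap.map_add (⇑Q) u₀ s
      rw [this, hu₀, hs, hps]; simp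
    obtain ⟨mu, hmu⟩ := heig (u₀ + s) hQus
    have hAs : A *ᵥ s = (mu - lam) • u₀ + mu • s := by
      rw [Matrix.mulVec_add, hlam, smul_add] at hmu
      rw [sub_smul]
      rw [← sub_eq_zero] at hmu ⊢
      rw [← hmu]; abel
    have hQAs : Q (A *ᵥ s) = 0 := by rw [hAiso, hs]
    rw [hAs] at hQAs
    have e1 := QuadraticMap.map_add (⇑Q) ((mu - lam) • u₀) (mu • s)
    rw [e1, QuadraticMap.map_smul, QuadraticMap.map_smul, hu₀, hs, polar_smul_left,
      polar_smul_right, hps] at hQAs
    have hml : mu - lam = 0 := by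
      have : (mu - lam) * (mu - lam) * c₀ = 0 := by
        simpa using hQAs
      rcases mul_eq_zero.mp this with h | h
      · exact mul_self_eq_zero.mp h
      · exact absurd h hc₀
    rw [hAs, hml, zero_smul, zero_add, sub_eq_zero.mp hml]
  -- a hyperbolic pair in W
  have hfr : Module.finrank F ↥W = Fintype.card ι - 1 := by
    rw [hW, LinearMap.BilinForm.finrank_orthogonal hQ, Module.finrank_fintype_fun_eq_card,
      finrank_span_singleton]
    intro h0
    rw [h0, QuadraticMap.map_zero] at hu₀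
    exact hc₀ hu₀.symm
  set QW : QuadraticForm F ↥W := Q.comp W.subtype with hQW
  have hQWapp : ∀ w : ↥W, QW w = Q (w : ι → F) := fun w => rfl
  have hQWpol : ∀ v w : ↥W, polar (⇑QW) v w = polar (⇑Q) (v : ι → F) (w : ι → F) := by
    intro v w
    simp only [polar, hQWapp, Submodule.coe_add]
  have hQWnd : QND QW := by
    intro v hv
    apply Subtype.ext
    apply hQ.1 (v : ι → F)
    intro x
    obtain ⟨t, w, hw, rfl⟩ := hdec x
    change polar (⇑Q) (v : ι → F) (t • u₀ + w) = 0
    rw [polar_add_right, polar_smul_right, polar_comm, (hWmem _).mp v.2, smul_zero, zero_add]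
    have := hv ⟨w, hw⟩
    rw [hQWpol] at this
    exact this
  obtain ⟨e', he'ne, he'0⟩ := exists_isotropic QW (by rw [hfr]; omega)
  obtain ⟨f', hf'0, hef'⟩ := exists_hyperbolic_pair QW hQWnd e' he'ne he'0
  -- A is the scalar lam on W
  have hAW : ∀ x ∈ W, A *ᵥ x = lam • x := by
    intro x hx
    have := scalar_of_scalar_on_singular Q W (e' : ι → F) (f' : ι → F) e'.2 f'.2
      (by rw [← hQWapp]; exact he'0) (by rw [← hQWapp]; exact hf'0)
      (by rw [← hQWpol]; exact hef') (Matrix.toLin' A) lam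
      (fun s hs hs0 => by rw [Matrix.toLin'_apply]; exact hsing s hs hs0) x hx
    rw [Matrix.toLin'_apply] at this
    exact this
  have hAall : ∀ x : ι → F, A *ᵥ x = lam • x := by
    intro x
    obtain ⟨t, w, hw, rfl⟩ := hdec x
    rw [Matrix.mulVec_add, Matrix.mulVec_smul, hlam, hAW w hw, smul_add, smul_comm]
  have hAmat : A = lam • (1 : Matrix ι ι F) := by
    apply Matrix.toLin'.injective
    apply LinearMap.ext
    intro x
    rw [Matrix.toLin'_apply, hAall x, map_smul, Matrix.toLin'_one]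
    rfl
  -- lam ^ 2 = 1
  have hlam2 : lam * lam = 1 := by
    have := hAiso u₀
    rw [hlam, QuadraticMap.map_smul, hu₀, smul_eq_mul] at this
    exact mul_right_cancel₀ hc₀ (this.trans (one_mul c₀).symm)
  -- det = 1
  have hdet : lam ^ Fintype.card ι = 1 := by
    have h1 : detHom (⇑Q) z = 1 := Abelianization.commutator_subset_ker (detHom (⇑Q)) hz
    have h3 : A.det = 1 := by
      rw [hA, ← detHom_val, h1, Units.val_one]
    rw [hAmat, Matrix.det_smul, Matrix.det_one, mul_one] at h3
    exact h3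
  have hlam1 : lam = 1 := by
    obtain ⟨k, hk⟩ := hodd
    rw [hk, pow_succ, pow_mul, _root_.sq, hlam2, one_pow, one_mul] at hdet
    exact hdet
  apply O_ext
  change A = _
  rw [hAmat, hlam1, one_smul]
  rfl

end center

end Cfsg.Agent.Lib.Helper50
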