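import Mathlib
import Cfsg.Prelude.Def_Solvable

/-! K-GAG pack (S4839), leaf G07c `frattini_involution`. -/

set_option autoImplicit false

namespace Cfsg.Agent.Lib.Helper50.Gag

variable {G : Type*} [Group G] [Finite G]

/-- G07c: Frattini for the central involution of `G/N`: `G = N C_G(t)`, `C_N(t) = 1`. -/
theorem frattini_involution {p : ℕ} [Fact p.Prime] (hp2 : p ≠ 2) (N : Subgroup G) [N.Normal]
    (hNp : IsPGroup p N) (hcent : Subgroup.centralizer (N : Set G) ≤ N)
    (t : G) (ht : t * t = 1) (ht1 : t ≠ 1)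
    (hall : ∀ s : G, s * s = 1 → s ≠ 1 → ∀ n ∈ N, s * n * s⁻¹ = n⁻¹) :
    Subgroup.centralizer ({t} : Set G) ⊓ N = ⊥ ∧
      ∀ g : G, ∃ n ∈ N, ∃ l ∈ Subgroup.centralizer ({t} : Set G), g = n * l := by
  have hp : p.Prime := Fact.out
  have hpodd : Odd p := hp.odd_of_ne_two hp2
  have htinv : t⁻¹ = t := inv_eq_of_mul_eq_one_right ht
  -- orders of elements of `N` are odd
  have hoddN : ∀ x ∈ N, Odd (orderOf x) := by
    intro x hx
    obtain ⟨k, hk⟩ := (IsPGroup.iff_orderOf.mp hNp) ⟨x, hx⟩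
    rw [Subgroup.orderOf_mk] at hk
    rw [hk]
    exact hpodd.pow
  constructor
  · rw [eq_bot_iff]
    rintro x ⟨hxC, hxN⟩
    rw [Subgroup.mem_bot]
    have hxC' : x ∈ Subgroup.centralizer ({t} : Set G) := hxC
    have hxN' : x ∈ N := hxN
    rw [Subgroup.mem_centralizer_iff] at hxC'
    have h1 : t * x = x * t := hxC' t rfl
    have h2 : t * x * t⁻¹ = x⁻¹ := hall t ht ht1 x hxN'
    have h3 : x = x⁻¹ := by
      rw [← h2, h1]; group
    have h4 : x ^ 2 = 1 := by
      rw [pow_two]
      nth_rewrite 2 [h3]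
      exact mul_inv_cancel x
    have h5 : orderOf x ∣ 2 := orderOf_dvd_of_pow_eq_one h4
    have h6 : Odd (orderOf x) := hoddN x hxN'
    have h7 : orderOf x = 1 := by
      rcases (Nat.dvd_prime Nat.prime_two).mp h5 with h | h
      · exact h
      · rw [h] at h6; exact absurd h6 (by decide)
    exact orderOf_eq_one_iff.mp h7
  · intro g
    set s : G := g * t * g⁻¹ with hs_def
    have hs : s * s = 1 := by
      calc s * s = g * (t * t) * g⁻¹ := by rw [hs_def]; group
        _ = 1 := by rw [ht]; group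
    have hs1 : s ≠ 1 := by
      intro h
      exact ht1 (conj_eq_one_iff.mp h)
    set m : G := s * t with hm_def
    have hmC : m ∈ Subgroup.centralizer (N : Set G) := by
      rw [Subgroup.mem_centralizer_iff]
      intro n hn
      have hn' : n ∈ N := hn
      have h1 := hall t ht ht1 n hn'
      have h2 := hall s hs hs1 n⁻¹ (N.inv_mem hn')
      calc n * m = n⁻¹⁻¹ * s * t := by rw [hm_def, inv_inv]; group
        _ = (s * n⁻¹ * s⁻¹) * s * t := by rw [h2]
        _ = s * n⁻¹ * t := by group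
        _ = s * (t * n * t⁻¹) * t := by rw [h1]
        _ = m * n := by rw [hm_def]; group
    have hmN : m ∈ N := hcent hmC
    obtain ⟨j, hj⟩ := hoddN m hmN
    set n : G := m ^ (j + 1) with hn_def
    have hnN : n ∈ N := N.pow_mem hmN _
    have hnn : n * n = m := by
      rw [hn_def, ← pow_add]
      have : j + 1 + (j + 1) = orderOf m + 1 := by omega
      rw [this, pow_succ, pow_orderOf_eq_one, one_mul]
    have hsm : s = n * n * t := by
      rw [hnn, hm_def, mul_assoc, ht, mul_one]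
    have htn : t * n * t⁻¹ = n⁻¹ := hall t ht ht1 n hnN
    refine ⟨n, hnN, n⁻¹ * g, ?_, by group⟩
    rw [Subgroup.mem_centralizer_iff]
    intro h hh
    have hh' : h = t := hh
    rw [hh']
    have h1 : (n⁻¹ * g) * t * (n⁻¹ * g)⁻¹ = t := by
      calc (n⁻¹ * g) * t * (n⁻¹ * g)⁻¹ = n⁻¹ * (g * t * g⁻¹) * n := by group
        _ = n⁻¹ * (n * n * t) * n := by rw [← hs_def, hsm]
        _ = n * (t * n * t⁻¹) * t := by group
        _ = n * n⁻¹ * t := by rw [htn]
        _ = t := by group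
    calc t * (n⁻¹ * g) = ((n⁻¹ * g) * t * (n⁻¹ * g)⁻¹) * (n⁻¹ * g) := by rw [h1]
      _ = n⁻¹ * g * t := by group

end Cfsg.Agent.Lib.Helper50.Gag
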