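import Cfsg.Agent.Lib.Helper50.MinusLang
import Cfsg.Agent.Lib.Helper50.PlusCoset
import Cfsg.Agent.Lib.Helper50.PlusKer

set_option autoImplicit false

/-!
# `PΩ⁻`: the coset of a standard field automorphism, for a subgroup `I` of index two of the
similarity group (every characteristic)
-/

namespace Cfsg.Agent.Lib.Helper50

open Matrix Cfsg.Agent.Lib.Helper08 Cfsg.Agent.Lib.Helper26.LangGO

universe u

variable {F : Type u} [Field F] {ι : Type} [Fintype ι] [DecidableEq ι]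

theorem sigmaGO_mul (Q : (ι → F) → F) (σ : ↥(compatAut Q))
    (g h : ↥(Cfsg.Geo.quadSimilarityGroup (F := F) Q)) :
    sigmaGO Q σ (g * h) = sigmaGO Q σ g * sigmaGO Q σ h := by
  apply simGO_ext
  rw [Subgroup.coe_mul, Units.val_mul]
  change (((g * h : ↥(Cfsg.Geo.quadSimilarityGroup (F := F) Q)) : GL ι F) : Matrix ι ι F).map σ.1 =
    ((g : GL ι F) : Matrix ι ι F).map σ.1 * ((h : GL ι F) : Matrix ι ι F).map σ.1
  rw [Subgroup.coe_mul, Units.val_mul, map_mul_ra]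

variable [Fintype F] (m : ℕ) (a b : F)

omit [Fintype F] in
/-- a field automorphism compatible with the elliptic form fixes its two coefficients -/
theorem fixes_of_compat_minus (σ : RingAut F) (hσ : σ ∈ compatAut (Cfsg.quadFormMinus m F a b)) :
    σ a = a ∧ σ b = b := by
  rw [mem_compatAut] at hσ
  have hb : σ b = b := by
    have h := hσ (Pi.single (Sum.inr 1) 1)
    have e : (fun i => σ ((Pi.single (Sum.inr 1) (1 : F) : (Fin m ⊕ Fin m) ⊕ Fin 2 → F) i)) =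
        Pi.single (Sum.inr 1) 1 := by
      funext i
      by_cases hi : i = Sum.inr 1
      · subst hi; simp
      · simp [Pi.single_eq_of_ne hi]
    rw [e] at h
    unfold Cfsg.quadFormMinus at h
    simp at h
    exact h.symm
  refine ⟨?_, hb⟩
  have h := hσ (Pi.single (Sum.inr 0) 1 + Pi.single (Sum.inr 1) 1)
  have e : (fun i => σ ((Pi.single (Sum.inr 0) (1 : F) + Pi.single (Sum.inr 1) (1 : F) :
      (Fin m ⊕ Fin m) ⊕ Fin 2 → F) i)) = Pi.single (Sum.inr 0) 1 + Pi.single (Sum.inr 1) 1 := by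
    funext i
    rcases i with (i | i) | i
    · simp
    · simp
    · fin_cases i <;> simp
  rw [e] at h
  unfold Cfsg.quadFormMinus at h
  simp at h
  rw [hb] at h
  have := h.symm
  linear_combination this

set_option maxHeartbeats 3200000 in
/-- the model theorem: the coset of the standard field automorphism -/
theorem minus_core (hm : 3 ≤ m)
    (hab : ∀ z₁ z₂ : F, z₁ ^ 2 + a * z₁ * z₂ + b * z₂ ^ 2 = 0 → z₁ = 0 ∧ z₂ = 0)
    (σ : ↥(compatAut (Cfsg.quadFormMinus m F a b))) (hσ1 : σ ≠ 1) {r : ℕ} (hr : r.Prime)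
    (hxr : orderOf (fieldAutPO (Cfsg.quadFormMinus m F a b) σ) = r)
    (I : Subgroup ↥(Cfsg.Geo.quadSimilarityGroup (F := F) (Cfsg.quadFormMinus m F a b)))
    (hscal : ∀ z : ↥(Cfsg.Geo.quadSimilarityGroup (F := F) (Cfsg.quadFormMinus m F a b)),
      (∃ c : F, ((z : GL ((Fin m ⊕ Fin m) ⊕ Fin 2) F) :
        Matrix ((Fin m ⊕ Fin m) ⊕ Fin 2) ((Fin m ⊕ Fin m) ⊕ Fin 2) F) = c • 1) → z ∈ I)
    (w : ↥(Cfsg.Geo.quadSimilarityGroup (F := F) (Cfsg.quadFormMinus m F a b)))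
    (hwσ : sigmaGO (Cfsg.quadFormMinus m F a b) σ w = w)
    (hw : ∀ Z : ↥(Cfsg.Geo.quadSimilarityGroup (F := F) (Cfsg.quadFormMinus m F a b)),
      Z ∉ I → Z * w ∈ I)
    (g : ↥(Cfsg.Geo.quadSimilarityGroup (F := F) (Cfsg.quadFormMinus m F a b))) (hg : g ∈ I)
    (hord : orderOf (autPO (Cfsg.quadFormMinus m F a b) g *
      fieldAutPO (Cfsg.quadFormMinus m F a b) σ) = r) :
    ∃ Y : ↥(Cfsg.Geo.quadSimilarityGroup (F := F) (Cfsg.quadFormMinus m F a b)), Y ∈ I ∧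
      autPO (Cfsg.quadFormMinus m F a b) g * fieldAutPO (Cfsg.quadFormMinus m F a b) σ =
        autPO (Cfsg.quadFormMinus m F a b) Y * fieldAutPO (Cfsg.quadFormMinus m F a b) σ *
          (autPO (Cfsg.quadFormMinus m F a b) Y)⁻¹ := by
  haveI : Nonempty ((Fin m ⊕ Fin m) ⊕ Fin 2) := ⟨Sum.inr 0⟩
  have C : Cfsg.Agent.Lib.Helper07.OG.OC (QMinus m F a b) :=
    ⟨QMinus_nondeg_of_anis m a b hab, by rw [card_minus_index]; omega⟩
  have hker := autPO_eq_one_iff_OC (QMinus m F a b) C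
  obtain ⟨ha, hb⟩ := fixes_of_compat_minus m a b σ.1 σ.2
  have hσord : orderOf σ = r := by
    rw [← hxr]
    exact (orderOf_fieldAutPO_OC (QMinus m F a b) C σ).symm
  have hLang : ∀ g' : ↥(Cfsg.Geo.quadSimilarityGroup (F := F) (Cfsg.quadFormMinus m F a b)),
      g' ∈ I → twP σ.1 (((g' * 1 : ↥(Cfsg.Geo.quadSimilarityGroup (F := F)
        (Cfsg.quadFormMinus m F a b))) : GL ((Fin m ⊕ Fin m) ⊕ Fin 2) F) :
          Matrix ((Fin m ⊕ Fin m) ⊕ Fin 2) ((Fin m ⊕ Fin m) ⊕ Fin 2) F) r = 1 →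
      ∃ Y : ↥(Cfsg.Geo.quadSimilarityGroup (F := F) (Cfsg.quadFormMinus m F a b)), Y ∈ I ∧
        (g' * 1) * sigmaGO (Cfsg.quadFormMinus m F a b) σ Y = Y * 1 := by
    intro g' _ htw
    rw [mul_one] at htw
    obtain ⟨Z, hZ⟩ := lang_minus m a b hab σ ha hb hσord hr.pos g' htw
    by_cases hZI : Z ∈ I
    · exact ⟨Z, hZI, by rw [mul_one, mul_one]; exact hZ⟩
    · refine ⟨Z * w, hw Z hZI, ?_⟩
      rw [mul_one, mul_one, sigmaGO_mul, hwσ, ← mul_assoc, hZ]
  have hpow : (autPO (Cfsg.quadFormMinus m F a b) (g * 1) *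
      fieldAutPO (Cfsg.quadFormMinus m F a b) σ) ^ r = 1 := by
    rw [mul_one, ← hord]
    exact pow_orderOf_eq_one _
  obtain ⟨Y, hY, hconj⟩ := coset_conj_tw (QMinus m F a b) hker I hscal σ hr.pos hσord 1 hLang
    g hg hpow
  refine ⟨Y, hY, ?_⟩
  have h1 : autPO (Cfsg.quadFormMinus m F a b)
      (1 : ↥(Cfsg.Geo.quadSimilarityGroup (F := F) (Cfsg.quadFormMinus m F a b))) = 1 := map_one _
  have h2 : (g * 1 : ↥(Cfsg.Geo.quadSimilarityGroup (F := F) (Cfsg.quadFormMinus m F a b))) = g :=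
    mul_one g
  have hconj' : autPO (Cfsg.quadFormMinus m F a b)
      (g * 1 : ↥(Cfsg.Geo.quadSimilarityGroup (F := F) (Cfsg.quadFormMinus m F a b))) *
        fieldAutPO (Cfsg.quadFormMinus m F a b) σ =
      autPO (Cfsg.quadFormMinus m F a b) Y *
        (autPO (Cfsg.quadFormMinus m F a b) 1 * fieldAutPO (Cfsg.quadFormMinus m F a b) σ) *
          (autPO (Cfsg.quadFormMinus m F a b) Y)⁻¹ := hconj
  rw [h2, h1, one_mul] at hconj'
  exact hconj'

end Cfsg.Agent.Lib.Helper50
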