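import Cfsg.Agent.Lib.Helper50.MinusTwo
import Cfsg.Agent.Lib.Helper50.MinusCore

set_option autoImplicit false

/-!
# `PΩ⁻` in characteristic two: `Inndiag = Inn`, and the index-two data for the coset theorem
-/

namespace Cfsg.Agent.Lib.Helper50

open Matrix Module Cfsg.Agent.Lib.Helper08 Cfsg.Agent.Lib.Helper26.LangGO

universe u

variable {F : Type u} [Field F] [Fintype F] (m : ℕ) (a b : F)

/-- a root of the binary form in a quadratic extension -/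
theorem exists_root_quadratic {K : Type u} [Field K] [Algebra F K] (hK : finrank F K = 2) :
    ∃ θ : K, θ ^ 2 + algebraMap F K a * θ + algebraMap F K b = 0 := by
  have hfin : Module.Finite F K := Module.finite_of_finrank_pos (by rw [hK]; norm_num)
  have : Finite K := Module.finite_of_finite F
  exact Cfsg.Agent.Lib.Helper09.AnisoExt.exists_root_of_even_finrank (by rw [hK]; exact even_two)
    a b

/-- in characteristic two every similarity is a scalar times an isometry -/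
theorem exists_isom_of_sim_char_two [CharP F 2] (g : SimMinus m F a b) :
    ∃ (ν : F) (z : IsoMinus m F a b), ν ≠ 0 ∧
      ((g : GL ((Fin m ⊕ Fin m) ⊕ Fin 2) F) :
        Matrix ((Fin m ⊕ Fin m) ⊕ Fin 2) ((Fin m ⊕ Fin m) ⊕ Fin 2) F) =
      ν • ((z : GL ((Fin m ⊕ Fin m) ⊕ Fin 2) F) :
        Matrix ((Fin m ⊕ Fin m) ⊕ Fin 2) ((Fin m ⊕ Fin m) ⊕ Fin 2) F) := by
  obtain ⟨μ, hμ⟩ := g.2
  have hF : ringChar F = 2 := ringChar.eq F 2
  obtain ⟨ν, hν⟩ := FiniteField.isSquare_of_char_two hF (μ : F)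
  have hν0 : ν ≠ 0 := by
    rintro rfl
    rw [mul_zero] at hν
    exact μ.ne_zero hν
  have h1 : (ν⁻¹ • ((g : GL ((Fin m ⊕ Fin m) ⊕ Fin 2) F) :
        Matrix ((Fin m ⊕ Fin m) ⊕ Fin 2) ((Fin m ⊕ Fin m) ⊕ Fin 2) F)) *
      (ν • (((g : GL ((Fin m ⊕ Fin m) ⊕ Fin 2) F)⁻¹ : GL ((Fin m ⊕ Fin m) ⊕ Fin 2) F) :
        Matrix ((Fin m ⊕ Fin m) ⊕ Fin 2) ((Fin m ⊕ Fin m) ⊕ Fin 2) F)) = 1 := by
    rw [Matrix.smul_mul, Matrix.mul_smul, smul_smul, inv_mul_cancel₀ hν0, one_smul]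
    exact Units.mul_inv _
  have h2 : (ν • (((g : GL ((Fin m ⊕ Fin m) ⊕ Fin 2) F)⁻¹ : GL ((Fin m ⊕ Fin m) ⊕ Fin 2) F) :
        Matrix ((Fin m ⊕ Fin m) ⊕ Fin 2) ((Fin m ⊕ Fin m) ⊕ Fin 2) F)) *
      (ν⁻¹ • ((g : GL ((Fin m ⊕ Fin m) ⊕ Fin 2) F) :
        Matrix ((Fin m ⊕ Fin m) ⊕ Fin 2) ((Fin m ⊕ Fin m) ⊕ Fin 2) F)) = 1 := by
    rw [Matrix.smul_mul, Matrix.mul_smul, smul_smul, mul_inv_cancel₀ hν0, one_smul]
    exact Units.inv_mul _
  refine ⟨ν, ⟨⟨_, _, h1, h2⟩, (mem_isometryGroup_iff _ _).2 (fun u => ?_)⟩, hν0, ?_⟩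
  · change Cfsg.quadFormMinus m F a b ((ν⁻¹ • ((g : GL ((Fin m ⊕ Fin m) ⊕ Fin 2) F) :
      Matrix ((Fin m ⊕ Fin m) ⊕ Fin 2) ((Fin m ⊕ Fin m) ⊕ Fin 2) F)) *ᵥ u) = _
    rw [Matrix.smul_mulVec]
    change QMinus m F a b (ν⁻¹ • _) = _
    rw [QuadraticMap.map_smul, smul_eq_mul]
    change ν⁻¹ * ν⁻¹ * Cfsg.quadFormMinus m F a b _ = _
    rw [hμ, hν]
    field_simp
  · change _ = ν • (ν⁻¹ • _)
    rw [smul_smul, mul_inv_cancel₀ hν0, one_smul]

/-- scalar similarities -/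
theorem exists_scalar_simM (ν : F) (hν : ν ≠ 0) :
    ∃ s : SimMinus m F a b, ((s : GL ((Fin m ⊕ Fin m) ⊕ Fin 2) F) :
      Matrix ((Fin m ⊕ Fin m) ⊕ Fin 2) ((Fin m ⊕ Fin m) ⊕ Fin 2) F) = ν • 1 := by
  obtain ⟨s, hs⟩ := exists_scalar_sim (QMinus m F a b) ν hν
  exact ⟨s, hs⟩

/-- a similarity proportional to an isometry induces the same automorphism -/
theorem autPO_eq_autO_of_smul
    (hker : ∀ z : ↥(Cfsg.Geo.quadSimilarityGroup (F := F) ⇑(QMinus m F a b)),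
      autPO ⇑(QMinus m F a b) z = 1 ↔ ∃ c : F, ((z : GL ((Fin m ⊕ Fin m) ⊕ Fin 2) F) :
        Matrix ((Fin m ⊕ Fin m) ⊕ Fin 2) ((Fin m ⊕ Fin m) ⊕ Fin 2) F) = c • 1)
    (g : SimMinus m F a b) (ν : F) (hν : ν ≠ 0) (z : IsoMinus m F a b)
    (h : ((g : GL ((Fin m ⊕ Fin m) ⊕ Fin 2) F) :
        Matrix ((Fin m ⊕ Fin m) ⊕ Fin 2) ((Fin m ⊕ Fin m) ⊕ Fin 2) F) =
      ν • ((z : GL ((Fin m ⊕ Fin m) ⊕ Fin 2) F) :
        Matrix ((Fin m ⊕ Fin m) ⊕ Fin 2) ((Fin m ⊕ Fin m) ⊕ Fin 2) F)) :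
    autPO (Cfsg.quadFormMinus m F a b) g = autO (Cfsg.quadFormMinus m F a b) z := by
  obtain ⟨s, hs⟩ := exists_scalar_simM m a b ν hν
  have hs1 : autPO (Cfsg.quadFormMinus m F a b) s = 1 := (hker s).mpr ⟨ν, hs⟩
  have hg : g = s * inclM m a b z := by
    apply simGO_ext
    rw [Subgroup.coe_mul, Units.val_mul, inclM_val, h, hs, Matrix.smul_mul, Matrix.one_mul]
  rw [hg, map_mul, hs1, one_mul]
  rfl

variable [CharP F 2]

theorem index_Omega_minus (hm : 3 ≤ m)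
    (hab : ∀ z₁ z₂ : F, z₁ ^ 2 + a * z₁ * z₂ + b * z₂ ^ 2 = 0 → z₁ = 0 ∧ z₂ = 0) :
    (Cfsg.Omega F (Cfsg.quadFormMinus m F a b)).index = 2 := by
  haveI : Nonempty ((Fin m ⊕ Fin m) ⊕ Fin 2) := ⟨Sum.inr 0⟩
  exact Cfsg.Agent.Lib.Helper43.index_Omega_char_two (QMinus m F a b)
    (QMinus_nondeg_of_anis m a b hab) (Or.inr (by rw [card_minus_index]; omega))

/-- the standard reflection is not in `Ω` -/
theorem wIso_not_mem_Omega' (hab : ∀ z₁ z₂ : F, z₁ ^ 2 + a * z₁ * z₂ + b * z₂ ^ 2 = 0 →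
    z₁ = 0 ∧ z₂ = 0) : wIso m a b ∉ Cfsg.Omega F (Cfsg.quadFormMinus m F a b) := by
  obtain ⟨K, hKf, hKa, hK⟩ := exists_quadratic_extension a b hab
  obtain ⟨θ, hθ⟩ := exists_root_quadratic a b hK
  exact wIso_not_mem_Omega (algebraMap F K) m a b (disc_ne_zero_of_anis a b hab) θ hθ

set_option maxHeartbeats 1600000 in
/-- **characteristic two: `Inndiag(PΩ⁻) = Inn(PΩ⁻)`** -/
theorem inndiagMinus_eq_inn (hm : 3 ≤ m)
    (hab : ∀ z₁ z₂ : F, z₁ ^ 2 + a * z₁ * z₂ + b * z₂ ^ 2 = 0 → z₁ = 0 ∧ z₂ = 0) :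
    Cfsg.inndiagPOmegaMinus m F a b = Cfsg.Inn (Cfsg.POmega F (Cfsg.quadFormMinus m F a b)) := by
  have hd := disc_ne_zero_of_anis a b hab
  have C : Cfsg.Agent.Lib.Helper07.OG.OC (QMinus m F a b) :=
    ⟨QMinus_nondeg_of_anis m a b hab, by rw [card_minus_index]; omega⟩
  have hker := autPO_eq_one_iff_OC (QMinus m F a b) C
  have hidx := index_Omega_minus m a b hm hab
  apply le_antisymm
  · unfold Cfsg.inndiagPOmegaMinus Cfsg.autSubgroupOf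
    rw [Subgroup.closure_le]
    rintro β ⟨g, hg, ⟨K, hKf, hKa, hK, hP⟩, hind⟩
    have hβ : β = autPO (Cfsg.quadFormMinus m F a b) ⟨g, hg⟩ :=
      (isInduced_iff (Cfsg.quadFormMinus m F a b) g hg β).mp hind
    obtain ⟨θ, hθ⟩ := exists_root_quadratic a b hK
    obtain ⟨ν, z, hν, hgz⟩ := exists_isom_of_sim_char_two m a b (⟨g, hg⟩ : SimMinus m F a b)
    have h1 := autPO_eq_autO_of_smul m a b hker ⟨g, hg⟩ ν hν z hgz
    -- `z` lies in `Ω`
    have hgmem : (⟨g, hg⟩ : SimMinus m F a b) ∈ pscSub (algebraMap F K) m a b hd θ hθ := hP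
    obtain ⟨s, hs⟩ := exists_scalar_simM m a b ν hν
    have hsmem : s ∈ pscSub (algebraMap F K) m a b hd θ hθ := by
      rw [mem_pscSub, hs]
      exact pscK_scalar (algebraMap F K) m a b ν hν
    have hgs : (⟨g, hg⟩ : SimMinus m F a b) = s * inclM m a b z := by
      apply simGO_ext
      rw [Subgroup.coe_mul, Units.val_mul, inclM_val, hgz, hs, Matrix.smul_mul, Matrix.one_mul]
    have hzmem : inclM m a b z ∈ pscSub (algebraMap F K) m a b hd θ hθ := by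
      rw [hgs] at hgmem
      exact (Subgroup.mul_mem_cancel_left _ hsmem).mp hgmem
    have hzΩ : z ∈ Cfsg.Omega F (Cfsg.quadFormMinus m F a b) := by
      by_contra hz
      have hw := wIso_not_mem_Omega (algebraMap F K) m a b hd θ hθ
      have h3 : z * wIso m a b ∈ Cfsg.Omega F (Cfsg.quadFormMinus m F a b) :=
        (Subgroup.mul_mem_iff_of_index_two hidx).mpr ⟨fun h => absurd h hz, fun h => absurd h hw⟩
      have h4 : inclM m a b (z * wIso m a b) ∈ pscSub (algebraMap F K) m a b hd θ hθ :=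
        Omega_le_pscSub (algebraMap F K) m a b hd θ hθ ⟨_, h3, rfl⟩
      rw [map_mul, Subgroup.mul_mem_cancel_left _ hzmem] at h4
      exact wIso_not_mem_pscSub (algebraMap F K) m a b hd θ hθ h4
    rw [hβ, SetLike.mem_coe, h1, inn_eq]
    exact ⟨z, hzΩ, rfl⟩
  · rw [inn_eq]
    rintro _ ⟨z, hz, rfl⟩
    unfold Cfsg.inndiagPOmegaMinus Cfsg.autSubgroupOf
    apply Subgroup.subset_closure
    obtain ⟨K, hKf, hKa, hK⟩ := exists_quadratic_extension a b hab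
    obtain ⟨θ, hθ⟩ := exists_root_quadratic a b hK
    have h5 : inclM m a b z ∈ pscSub (algebraMap F K) m a b hd θ hθ :=
      Omega_le_pscSub (algebraMap F K) m a b hd θ hθ (Subgroup.mem_map_of_mem _ hz)
    have h6 : pscK (algebraMap F K) m a b ((z : GL ((Fin m ⊕ Fin m) ⊕ Fin 2) F) :
        Matrix ((Fin m ⊕ Fin m) ⊕ Fin 2) ((Fin m ⊕ Fin m) ⊕ Fin 2) F) := h5
    have h7 : Cfsg.IsInducedBySemilinearPOmega (Cfsg.quadFormMinus m F a b)
        (z : GL ((Fin m ⊕ Fin m) ⊕ Fin 2) F) (RingEquiv.refl F)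
        (autO (Cfsg.quadFormMinus m F a b) z) :=
      (isInduced_iff (Cfsg.quadFormMinus m F a b) _ (inclM m a b z).2 _).mpr rfl
    exact ⟨(z : GL ((Fin m ⊕ Fin m) ⊕ Fin 2) F), (inclM m a b z).2, ⟨K, hKf, hKa, hK, h6⟩, h7⟩

/-- the index-two property used in the coset theorem -/
theorem hw_char_two (hm : 3 ≤ m)
    (hab : ∀ z₁ z₂ : F, z₁ ^ 2 + a * z₁ * z₂ + b * z₂ ^ 2 = 0 → z₁ = 0 ∧ z₂ = 0)
    (Z : SimMinus m F a b)
    (hZ : autPO (Cfsg.quadFormMinus m F a b) Z ∉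
      Cfsg.Inn (Cfsg.POmega F (Cfsg.quadFormMinus m F a b))) :
    autPO (Cfsg.quadFormMinus m F a b) (Z * inclM m a b (wIso m a b)) ∈
      Cfsg.Inn (Cfsg.POmega F (Cfsg.quadFormMinus m F a b)) := by
  have C : Cfsg.Agent.Lib.Helper07.OG.OC (QMinus m F a b) :=
    ⟨QMinus_nondeg_of_anis m a b hab, by rw [card_minus_index]; omega⟩
  have hker := autPO_eq_one_iff_OC (QMinus m F a b) C
  have hidx := index_Omega_minus m a b hm hab
  obtain ⟨ν, z, hν, hgz⟩ := exists_isom_of_sim_char_two m a b Z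
  have h1 := autPO_eq_autO_of_smul m a b hker Z ν hν z hgz
  have hz : z ∉ Cfsg.Omega F (Cfsg.quadFormMinus m F a b) := by
    intro hz
    apply hZ
    rw [h1, inn_eq]
    exact ⟨z, hz, rfl⟩
  have hw := wIso_not_mem_Omega' m a b hab
  have h3 : z * wIso m a b ∈ Cfsg.Omega F (Cfsg.quadFormMinus m F a b) :=
    (Subgroup.mul_mem_iff_of_index_two hidx).mpr ⟨fun h => absurd h hz, fun h => absurd h hw⟩
  rw [map_mul, h1, inn_eq]
  exact ⟨z * wIso m a b, h3, by rw [map_mul]; rfl⟩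

end Cfsg.Agent.Lib.Helper50
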