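import Cfsg.Agent.Lib.Helper50.SpinorIndex
import Cfsg.Agent.Lib.Helper43.Dickson

set_option autoImplicit false

/-! Adjusting an isometry into `Ω` by elements of a prescribed subgroup; bridging the two
libraries of reflections. -/

namespace Cfsg.Agent.Lib.Helper50

open Matrix Cfsg.Agent.Lib.Helper19

variable {ι : Type} [Fintype ι] [DecidableEq ι] {F : Type*} [Field F]

/-- the two reflection constructions agree -/
theorem reflO_eq43 (Q : QuadraticForm F (ι → F)) (u : ι → F) :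
    Cfsg.Agent.Lib.Helper43.reflO Q u = reflO Q u := by
  by_cases hu : Q u ≠ 0
  · apply O_ext
    rw [Cfsg.Agent.Lib.Helper43.reflO_val Q u hu, reflO_val Q u hu]
  · unfold Cfsg.Agent.Lib.Helper43.reflO reflO reflGL
    rw [dif_neg hu]
    apply Subtype.ext
    simp only [dif_neg hu]
    rfl

section chartwo

variable [Fintype F] [CharP F 2]

/-- characteristic two: membership in `Ω` via the parity of the rank of `g - 1` -/
theorem mem_Omega_iff_even_rank' (Q : QuadraticForm F (ι → F))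
    (hQ : (QuadraticMap.polarBilin Q).Nondegenerate)
    (h24 : Fintype.card F ≠ 2 ∨ Fintype.card ι ≠ 4) (g : ↥(Cfsg.isometryGroup F ⇑Q)) :
    g ∈ Cfsg.Omega F ⇑Q ↔ Even (((g : GL ι F) : Matrix ι ι F) - 1).rank :=
  Cfsg.Agent.Lib.Helper43.mem_Omega_iff_even_rank Q hQ
    (Cfsg.Agent.Lib.Helper43.reflGenerated_char_two Q hQ h24) g

/-- characteristic two: one of `s`, `s * r_w` lies in `Ω` -/
theorem mem_or_mul_reflO_mem (Q : QuadraticForm F (ι → F))
    (hQ : (QuadraticMap.polarBilin Q).Nondegenerate)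
    (h24 : Fintype.card F ≠ 2 ∨ Fintype.card ι ≠ 4) (s : ↥(Cfsg.isometryGroup F ⇑Q))
    (w : ι → F) (hw : Q w ≠ 0) :
    s ∈ Cfsg.Omega F ⇑Q ∨ s * reflO Q w ∈ Cfsg.Omega F ⇑Q := by
  have hgen := Cfsg.Agent.Lib.Helper43.reflGenerated_char_two Q hQ h24
  rw [Cfsg.Agent.Lib.Helper43.Omega_eq_ker_dickson Q hQ hgen, MonoidHom.mem_ker, MonoidHom.mem_ker,
    map_mul, ← reflO_eq43, Cfsg.Agent.Lib.Helper43.dickson_reflO Q hQ hgen w hw]
  obtain ⟨y, hy⟩ := Multiplicative.ofAdd.surjective (Cfsg.Agent.Lib.Helper43.dickson Q hQ hgen s)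
  rw [← hy]
  have h01 : y = 0 ∨ y = 1 := by
    clear hy
    revert y; decide
  rcases h01 with rfl | rfl
  · left; rfl
  · right; rfl

/-- characteristic two: one of `s`, `r_w * s` lies in `Ω` -/
theorem mem_or_reflO_mul_mem (Q : QuadraticForm F (ι → F))
    (hQ : (QuadraticMap.polarBilin Q).Nondegenerate)
    (h24 : Fintype.card F ≠ 2 ∨ Fintype.card ι ≠ 4) (s : ↥(Cfsg.isometryGroup F ⇑Q))
    (w : ι → F) (hw : Q w ≠ 0) :
    s ∈ Cfsg.Omega F ⇑Q ∨ reflO Q w * s ∈ Cfsg.Omega F ⇑Q := by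
  have hgen := Cfsg.Agent.Lib.Helper43.reflGenerated_char_two Q hQ h24
  rw [Cfsg.Agent.Lib.Helper43.Omega_eq_ker_dickson Q hQ hgen, MonoidHom.mem_ker, MonoidHom.mem_ker,
    map_mul, ← reflO_eq43, Cfsg.Agent.Lib.Helper43.dickson_reflO Q hQ hgen w hw]
  obtain ⟨y, hy⟩ := Multiplicative.ofAdd.surjective (Cfsg.Agent.Lib.Helper43.dickson Q hQ hgen s)
  rw [← hy]
  have h01 : y = 0 ∨ y = 1 := by
    clear hy
    revert y; decide
  rcases h01 with rfl | rfl
  · left; rfl
  · right; rfl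

end chartwo

end Cfsg.Agent.Lib.Helper50
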