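import Cfsg.Agent.Lib.Helper50.SQOminusB
import Cfsg.Agent.Lib.Helper08.GOMinus

set_option autoImplicit false
set_option linter.unusedSectionVars false
set_option linter.unusedVariables false

/-!
K-SQ-Ominus (462506): a Sylow 2-subgroup of `PΩ⁻_{2m}(2^f)` in which every square is a product of
commutators (the subgroup generated by the Siegel involutions `E(x_i, z)`).
-/

namespace Cfsg.Agent.Lib.Helper50.SQ

open Cfsg.Agent.Lib.Helper38.SQ

theorem card_even_of_charTwo (F : Type*) [Field F] [Fintype F] [CharP F 2] :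
    ∃ f : ℕ, 1 ≤ f ∧ Fintype.card F = 2 ^ f := by
  obtain ⟨n, _, hn⟩ := FiniteField.card F 2
  exact ⟨n, n.2, hn⟩

theorem twoPart_Omega_minus {F : Type*} [Field F] [Fintype F] [CharP F 2] (r : ℕ) (hr : 3 ≤ r)
    (a b : F)
    (hab : ∀ z₁ z₂ : F, z₁ ^ 2 + a * z₁ * z₂ + b * z₂ ^ 2 = 0 → z₁ = 0 ∧ z₂ = 0) :
    TwoPart ↥(Cfsg.Omega F ⇑(QM r a b)) (Fintype.card F ^ (r * (r + 1))) := by
  classical
  have hQ := QMinus_nondeg_of_anis r a b hab
  have hne : Nonempty (Idx r) := ⟨Sum.inr 0⟩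
  have hidx : (Cfsg.Omega F ⇑(QM r a b)).index = 2 :=
    Helper43.index_Omega_char_two (QM r a b) hQ (Or.inr (by rw [card_idx]; omega))
  have hG : Nat.card ↥(Cfsg.isometryGroup F ⇑(QM r a b)) = _ :=
    Helper08.card_GOminus' (F := F) rfl r a b hab
  have hmul := Subgroup.card_mul_index (Cfsg.Omega F ⇑(QM r a b))
  rw [hidx, hG] at hmul
  obtain ⟨f, hf1, hf⟩ := card_even_of_charTwo F
  set q := Fintype.card F with hq
  have hqe : 2 ∣ q := by rw [hf]; exact dvd_pow_self 2 (by omega)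
  have hq2 : 2 ≤ q := by
    have := Fintype.one_lt_card (α := F)
    omega
  refine ⟨(q ^ (r + 1) + 1) * ∏ i ∈ Finset.range r, (q ^ (2 * (i + 1)) - 1), ?_, ?_⟩
  · intro h2
    rcases (Nat.Prime.dvd_mul Nat.prime_two).mp h2 with h | h
    · have h1 : 2 ∣ q ^ (r + 1) := dvd_pow hqe (by omega)
      have := (Nat.dvd_add_right h1).mp h
      omega
    · obtain ⟨i, hi, h3⟩ := (Prime.dvd_finsetProd_iff Nat.prime_two.prime _).mp h
      have h1 : 2 ∣ q ^ (2 * (i + 1)) := dvd_pow hqe (by omega)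
      have h4 : 1 ≤ q ^ (2 * (i + 1)) := Nat.one_le_pow _ _ (by omega)
      omega
  · have e : (r + 1) * r = r * (r + 1) := by ring
    rw [e] at hmul
    have : Nat.card ↥(Cfsg.Omega F ⇑(QM r a b)) * 2 =
        (q ^ (r * (r + 1)) * ((q ^ (r + 1) + 1) * ∏ i ∈ Finset.range r, (q ^ (2 * (i + 1)) - 1))) * 2 := by
      rw [hmul]; ring
    exact Nat.eq_of_mul_eq_mul_right (by norm_num) this

/-- the statement for the model of rank `r` -/
theorem sylSq_pomega_minus_rank {F : Type*} [Field F] [Fintype F] [CharP F 2] (r : ℕ) (hr : 3 ≤ r)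
    (a b : F)
    (hab : ∀ z₁ z₂ : F, z₁ ^ 2 + a * z₁ * z₂ + b * z₂ ^ 2 = 0 → z₁ = 0 ∧ z₂ = 0) :
    SylSq (Cfsg.POmega F (Cfsg.quadFormMinus r F a b)) := by
  have hQ := QMinus_nondeg_of_anis r a b hab
  obtain ⟨f, hf1, hf⟩ := card_even_of_charTwo F
  have hu := unip2_Omega_minus r a b hQ hr
  have ht := twoPart_Omega_minus r hr a b hab
  rw [hf, ← pow_mul] at hu ht
  have h := SylSq.of_unip_twoPart (X := ↥(Cfsg.Omega F ⇑(QM r a b))) _ hu ht
  exact SylSq.quotient (Subgroup.center ↥(Cfsg.Omega F ⇑(QM r a b))) h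

/-- K-SQ-Ominus: verbatim spec signature -/
theorem sylSq_pomega_minus (F : Type) [Field F] [Fintype F] [CharP F 2] (m : ℕ) (hm : 4 ≤ m)
    (a b : F) (hab : ∀ z₁ z₂ : F, z₁ ^ 2 + a * z₁ * z₂ + b * z₂ ^ 2 = 0 → z₁ = 0 ∧ z₂ = 0) :
    SylSq (Cfsg.POmega F (Cfsg.quadFormMinus (m - 1) F a b)) :=
  sylSq_pomega_minus_rank (m - 1) (by omega) a b hab

end Cfsg.Agent.Lib.Helper50.SQ
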