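import Mathlib
import Cfsg.Agent.Lib.Helper41.InvBDefs

set_option autoImplicit false

/-! K-IB leaf 16a (392825): distinct conjugates of a simple normal subgroup of a minimal normal subgroup
meet trivially and commute. -/

namespace Cfsg.Agent.Lib.Helper50.InvB

open Cfsg.Agent.Lib.Helper41.InvB

variable {Γ : Type*} [Group Γ]

theorem card_conjS [Finite Γ] (γ : Γ) (S : Subgroup Γ) : Nat.card (conjS γ S) = Nat.card S := by
  unfold conjS
  exact Subgroup.card_map_of_injective (MulAut.conj γ).injective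

/-- conjugates of `S ≤ N` lie in the normal subgroup `N` -/
theorem conjS_le_of_normal (N : Subgroup Γ) [N.Normal] (S : Subgroup Γ) (hSN : S ≤ N) (γ : Γ) :
    conjS γ S ≤ N := by
  intro x hx
  rw [mem_conjS_iff] at hx
  have h1 := hSN hx
  have h2 : x = γ * (γ⁻¹ * x * γ) * γ⁻¹ := by group
  rw [h2]
  exact Subgroup.Normal.conj_mem inferInstance _ h1 γ

/-- conjugates of `S` are normalised by `N` when `S` is -/
theorem conjS_conj_mem (N : Subgroup Γ) [N.Normal] (S : Subgroup Γ)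
    (hnorm : N ≤ Subgroup.normalizer (S : Set Γ)) (γ : Γ) (n : Γ) (hn : n ∈ N) (x : Γ)
    (hx : x ∈ conjS γ S) : n * x * n⁻¹ ∈ conjS γ S := by
  rw [mem_conjS_iff] at hx ⊢
  have h1 : γ⁻¹ * n * γ ∈ N := by
    have := Subgroup.Normal.conj_mem (inferInstance : N.Normal) n hn γ⁻¹
    rwa [inv_inv] at this
  have h2 := (Subgroup.mem_normalizer_iff.mp (hnorm h1)) (γ⁻¹ * x * γ)
  have h3 : γ⁻¹ * (n * x * n⁻¹) * γ = γ⁻¹ * n * γ * (γ⁻¹ * x * γ) * (γ⁻¹ * n * γ)⁻¹ := by group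
  rw [h3]
  exact h2.mp hx

theorem conj_disjoint_commute [Finite Γ] (N : Subgroup Γ) (hN : IsMinNormal N) (S : Subgroup Γ)
    (hSN : S ≤ N)
    (hnorm : N ≤ Subgroup.normalizer (S : Set Γ)) (hS : IsSimpleGroup S)
    (hna : ¬ ∀ x ∈ S, ∀ y ∈ S, x * y = y * x) (γ δ : Γ) (hne : conjS γ S ≠ conjS δ S) :
    conjS γ S ⊓ conjS δ S = ⊥ ∧ ∀ x ∈ conjS γ S, ∀ y ∈ conjS δ S, x * y = y * x := by
  have : N.Normal := hN.1
  have hRN := conjS_le_of_normal N S hSN γ
  have hR'N := conjS_le_of_normal N S hSN δ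
  -- the pull-back of the intersection to `S`
  have hD₀n : ((S ⊓ conjS γ⁻¹ (conjS δ S)).subgroupOf S).Normal := by
    constructor
    intro d hd s
    rw [Subgroup.mem_subgroupOf, Subgroup.mem_inf] at hd ⊢
    obtain ⟨hd1, hd2⟩ := hd
    refine ⟨?_, ?_⟩
    · exact S.mul_mem (S.mul_mem s.2 hd1) (S.inv_mem s.2)
    · rw [mem_conjS_iff, inv_inv] at hd2 ⊢
      have hs : γ * (s : Γ) * γ⁻¹ ∈ conjS γ S := by
        rw [mem_conjS_iff]
        have : γ⁻¹ * (γ * (s : Γ) * γ⁻¹) * γ = s := by group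
        rw [this]; exact s.2
      have := conjS_conj_mem N S hnorm δ _ (hRN hs) _ hd2
      have e : γ * ((s : Γ) * (d : Γ) * (s : Γ)⁻¹) * γ⁻¹ =
          γ * (s : Γ) * γ⁻¹ * (γ * (d : Γ) * γ⁻¹) * (γ * (s : Γ) * γ⁻¹)⁻¹ := by group
      simp only [Subgroup.coe_mul, Subgroup.coe_inv]
      rw [e]
      exact this
  have hbot : conjS γ S ⊓ conjS δ S = ⊥ := by
    rcases hD₀n.eq_bot_or_eq_top with h | h
    · rw [eq_bot_iff]
      intro x hx
      obtain ⟨hx1, hx2⟩ := hx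
      rw [Subgroup.mem_bot]
      have h1 : γ⁻¹ * x * γ ∈ S := mem_conjS_iff.mp hx1
      have h2 : (⟨γ⁻¹ * x * γ, h1⟩ : S) ∈ (S ⊓ conjS γ⁻¹ (conjS δ S)).subgroupOf S := by
        rw [Subgroup.mem_subgroupOf, Subgroup.mem_inf]
        refine ⟨h1, ?_⟩
        rw [mem_conjS_iff, inv_inv]
        have : γ * (γ⁻¹ * x * γ) * γ⁻¹ = x := by group
        show γ * (γ⁻¹ * x * γ) * γ⁻¹ ∈ conjS δ S
        rw [this]; exact hx2
      rw [h, Subgroup.mem_bot] at h2
      have h3 : γ⁻¹ * x * γ = 1 := congrArg Subtype.val h2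
      have : x = γ * (γ⁻¹ * x * γ) * γ⁻¹ := by group
      rw [this, h3]; group
    · exfalso
      apply hne
      have hle : conjS γ S ≤ conjS δ S := by
        intro x hx
        have h1 : γ⁻¹ * x * γ ∈ S := mem_conjS_iff.mp hx
        have h2 : (⟨γ⁻¹ * x * γ, h1⟩ : S) ∈ (S ⊓ conjS γ⁻¹ (conjS δ S)).subgroupOf S := by
          rw [h]; trivial
        rw [Subgroup.mem_subgroupOf, Subgroup.mem_inf] at h2
        have h3 := h2.2
        rw [mem_conjS_iff, inv_inv] at h3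
        have : γ * (γ⁻¹ * x * γ) * γ⁻¹ = x := by group
        change γ * (γ⁻¹ * x * γ) * γ⁻¹ ∈ conjS δ S at h3
        rwa [this] at h3
      exact Subgroup.eq_of_le_of_card_ge hle (by rw [card_conjS, card_conjS])
  refine ⟨hbot, ?_⟩
  intro x hx y hy
  have hc : x * y * x⁻¹ * y⁻¹ ∈ conjS γ S ⊓ conjS δ S := by
    constructor
    · have h1 := conjS_conj_mem N S hnorm γ y (hR'N hy) x⁻¹ ((conjS γ S).inv_mem hx)
      have : x * y * x⁻¹ * y⁻¹ = x * (y * x⁻¹ * y⁻¹) := by group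
      rw [this]
      exact (conjS γ S).mul_mem hx h1
    · have h1 := conjS_conj_mem N S hnorm δ x (hRN hx) y hy
      exact (conjS δ S).mul_mem h1 ((conjS δ S).inv_mem hy)
  rw [hbot, Subgroup.mem_bot] at hc
  have : x * y = x * y * x⁻¹ * y⁻¹ * (y * x) := by group
  rw [this, hc, one_mul]

end Cfsg.Agent.Lib.Helper50.InvB
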