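import Mathlib
import Cfsg.Agent.Lib.Helper41.InvBDefs

set_option autoImplicit false

/-! K-IB leaf 18 (392830): if `a` fixes all conjugates of `S` then `S` is normal. -/

namespace Cfsg.Agent.Lib.Helper50.InvB

open Cfsg.Agent.Lib.Helper41.InvB

variable {Γ : Type*} [Group Γ]

/-- `t * a = h * a * h⁻¹` for `t ∈ TG a`, `h := t ^ ((orderOf t + 1) / 2)` -/
theorem exists_conj_eq_mul (a : Γ) (t : Γ) (ht : t ∈ TG a) : ∃ h : Γ, t * a = h * a * h⁻¹ := by
  obtain ⟨hodd, hinv⟩ := ht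
  obtain ⟨k, hk⟩ := hodd
  refine ⟨t ^ (k + 1), ?_⟩
  have hh : t ^ (k + 1) ∈ TG a := pow_mem_TG ⟨⟨k, hk⟩, hinv⟩ (k + 1)
  have h2 : a * t ^ (k + 1) * a⁻¹ = (t ^ (k + 1))⁻¹ := hh.2
  have h3 : t ^ (k + 1) * t ^ (k + 1) = t := by
    rw [← pow_add]
    have : k + 1 + (k + 1) = orderOf t + 1 := by omega
    rw [this, pow_succ, pow_orderOf_eq_one, one_mul]
  -- a * h⁻¹ * a⁻¹ = h
  have h4 : a * (t ^ (k + 1))⁻¹ * a⁻¹ = t ^ (k + 1) := by
    have : a * (t ^ (k + 1))⁻¹ * a⁻¹ = (a * t ^ (k + 1) * a⁻¹)⁻¹ := by group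
    rw [this, h2, inv_inv]
  have h5 : (t ^ (k + 1))⁻¹ = a⁻¹ * t ^ (k + 1) * a := by
    have h6 : a⁻¹ * (a * (t ^ (k + 1))⁻¹ * a⁻¹) * a = a⁻¹ * t ^ (k + 1) * a := by rw [h4]
    rw [← h6]; group
  calc t * a = t ^ (k + 1) * t ^ (k + 1) * a := by rw [h3]
    _ = t ^ (k + 1) * a * (a⁻¹ * t ^ (k + 1) * a) := by group
    _ = t ^ (k + 1) * a * (t ^ (k + 1))⁻¹ := by rw [← h5]

theorem normal_of_conj_fixed [Finite Γ] (a : Γ) (hg : Gen a) (S : Subgroup Γ)
    (h : ∀ γ : Γ, conjS a (conjS γ S) = conjS γ S) : S.Normal := by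
  let K : Subgroup Γ :=
    { carrier := {g | ∀ γ : Γ, conjS g (conjS γ S) = conjS γ S}
      one_mem' := fun γ => conjS_one _
      mul_mem' := by
        intro g g' hg1 hg2 γ
        show conjS (g * g') (conjS γ S) = conjS γ S
        rw [conjS_mul, hg2 γ, hg1 γ]
      inv_mem' := by
        intro g hg1 γ
        show conjS g⁻¹ (conjS γ S) = conjS γ S
        conv_lhs => rw [← hg1 γ]
        rw [← conjS_mul, inv_mul_cancel, conjS_one] }
  have haK : a ∈ K := h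
  have hconj : ∀ x : Γ, x * a * x⁻¹ ∈ K := by
    intro x γ
    show conjS (x * a * x⁻¹) (conjS γ S) = conjS γ S
    rw [conjS_mul, conjS_mul, ← conjS_mul x⁻¹ γ, h, ← conjS_mul, mul_inv_cancel_left]
  have hK : K = ⊤ := by
    rw [eq_top_iff, ← hg.2, Subgroup.closure_le]
    rintro x (hx | hx)
    · obtain ⟨y, hy⟩ := exists_conj_eq_mul a x hx
      have h1 : x * a ∈ K := by rw [hy]; exact hconj y
      have h2 : x = x * a * a⁻¹ := by group
      rw [h2]
      exact K.mul_mem h1 (K.inv_mem haK)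
    · rw [Set.mem_singleton_iff] at hx
      rw [hx]; exact haK
  have hall : ∀ g : Γ, conjS g S = S := by
    intro g
    have hgK : g ∈ K := by rw [hK]; trivial
    have := hgK 1
    rwa [conjS_one] at this
  constructor
  intro n hn g
  have : g * n * g⁻¹ ∈ conjS g S := by
    rw [mem_conjS_iff]
    have : g⁻¹ * (g * n * g⁻¹) * g = n := by group
    rw [this]; exact hn
  rwa [hall g] at this

end Cfsg.Agent.Lib.Helper50.InvB
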