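import Mathlib
import Cfsg.Prelude.Def_LieTypeDatum

set_option autoImplicit false

/-! Transport of projective quotients `projQuot` (in particular `PGO`) along linear
equivalences of coordinate spaces, and along homomorphisms whose kernel is the scalars. -/

namespace Cfsg.Agent.Lib.Helper50

open Matrix

section
variable {F : Type*} [Field F] {ι κ : Type} [Fintype ι] [DecidableEq ι] [Fintype κ] [DecidableEq κ]

theorem toMatrix'_mul_toMatrix'_symm (e : (ι → F) ≃ₗ[F] (κ → F)) :
    LinearMap.toMatrix' (e : (ι → F) →ₗ[F] (κ → F)) *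
      LinearMap.toMatrix' (e.symm : (κ → F) →ₗ[F] (ι → F)) = 1 := by
  rw [← LinearMap.toMatrix'_comp, ← LinearMap.toMatrix'_id]
  congr 1
  ext u i
  simp

/-- conjugation by a pair of mutually inverse rectangular matrices -/
def glConjEquiv (A : Matrix κ ι F) (B : Matrix ι κ F) (hAB : A * B = 1) (hBA : B * A = 1) :
    GL ι F ≃* GL κ F where
  toFun g := ⟨A * g.val * B, A * g⁻¹.val * B, by
      rw [show A * g.val * B * (A * g⁻¹.val * B) = A * (g.val * ((B * A) * (g⁻¹.val * B))) by
        simp only [Matrix.mul_assoc]]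
      rw [hBA, Matrix.one_mul, ← Matrix.mul_assoc g.val, Units.mul_inv, Matrix.one_mul, hAB], by
      rw [show A * g⁻¹.val * B * (A * g.val * B) = A * (g⁻¹.val * ((B * A) * (g.val * B))) by
        simp only [Matrix.mul_assoc]]
      rw [hBA, Matrix.one_mul, ← Matrix.mul_assoc g⁻¹.val, Units.inv_mul, Matrix.one_mul, hAB]⟩
  invFun g := ⟨B * g.val * A, B * g⁻¹.val * A, by
      rw [show B * g.val * A * (B * g⁻¹.val * A) = B * (g.val * ((A * B) * (g⁻¹.val * A))) by
        simp only [Matrix.mul_assoc]]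
      rw [hAB, Matrix.one_mul, ← Matrix.mul_assoc g.val, Units.mul_inv, Matrix.one_mul, hBA], by
      rw [show B * g⁻¹.val * A * (B * g.val * A) = B * (g⁻¹.val * ((A * B) * (g.val * A))) by
        simp only [Matrix.mul_assoc]]
      rw [hAB, Matrix.one_mul, ← Matrix.mul_assoc g⁻¹.val, Units.inv_mul, Matrix.one_mul, hBA]⟩
  left_inv g := by
    apply Units.ext
    show B * (A * g.val * B) * A = g.val
    rw [show B * (A * g.val * B) * A = (B * A) * g.val * (B * A) by simp only [Matrix.mul_assoc]]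
    rw [hBA, Matrix.one_mul, Matrix.mul_one]
  right_inv g := by
    apply Units.ext
    show A * (B * g.val * A) * B = g.val
    rw [show A * (B * g.val * A) * B = (A * B) * g.val * (A * B) by simp only [Matrix.mul_assoc]]
    rw [hAB, Matrix.one_mul, Matrix.mul_one]
  map_mul' g h := by
    apply Units.ext
    show A * (g.val * h.val) * B = (A * g.val * B) * (A * h.val * B)
    rw [show (A * g.val * B) * (A * h.val * B) = A * (g.val * ((B * A) * (h.val * B))) by
      simp only [Matrix.mul_assoc]]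
    rw [hBA, Matrix.one_mul]
    simp only [Matrix.mul_assoc]

theorem glConjEquiv_val (A : Matrix κ ι F) (B : Matrix ι κ F) (hAB : A * B = 1) (hBA : B * A = 1)
    (g : GL ι F) : (glConjEquiv A B hAB hBA g).val = A * g.val * B := rfl

/-- transport of `GL` along a linear equivalence of coordinate spaces -/
noncomputable def glCongr (e : (ι → F) ≃ₗ[F] (κ → F)) : GL ι F ≃* GL κ F :=
  glConjEquiv (LinearMap.toMatrix' (e : (ι → F) →ₗ[F] (κ → F)))
    (LinearMap.toMatrix' (e.symm : (κ → F) →ₗ[F] (ι → F)))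
    (toMatrix'_mul_toMatrix'_symm e)
    (by simpa using toMatrix'_mul_toMatrix'_symm e.symm)

theorem glCongr_mulVec (e : (ι → F) ≃ₗ[F] (κ → F)) (g : GL ι F) (u : κ → F) :
    (glCongr e g).val *ᵥ u = e (g.val *ᵥ e.symm u) := by
  show (LinearMap.toMatrix' (e : (ι → F) →ₗ[F] (κ → F)) * g.val *
    LinearMap.toMatrix' (e.symm : (κ → F) →ₗ[F] (ι → F))) *ᵥ u = _
  rw [← Matrix.mulVec_mulVec, ← Matrix.mulVec_mulVec, LinearMap.toMatrix'_mulVec,
    LinearMap.toMatrix'_mulVec]
  rfl

theorem glCongr_mulVec_apply (e : (ι → F) ≃ₗ[F] (κ → F)) (g : GL ι F) (v : ι → F) :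
    (glCongr e g).val *ᵥ (e v) = e (g.val *ᵥ v) := by
  rw [glCongr_mulVec, LinearEquiv.symm_apply_apply]

theorem glCongr_mem_quadSimilarityGroup (e : (ι → F) ≃ₗ[F] (κ → F)) (Q : (ι → F) → F)
    (Q' : (κ → F) → F) (h : ∀ v, Q' (e v) = Q v) (g : GL ι F) :
    glCongr e g ∈ Cfsg.Geo.quadSimilarityGroup Q' ↔ g ∈ Cfsg.Geo.quadSimilarityGroup Q := by
  constructor
  · rintro ⟨c, hc⟩
    refine ⟨c, fun v => ?_⟩
    have := hc (e v)
    rw [glCongr_mulVec_apply, h, h] at this
    exact this
  · rintro ⟨c, hc⟩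
    refine ⟨c, fun u => ?_⟩
    obtain ⟨v, rfl⟩ := e.surjective u
    rw [glCongr_mulVec_apply, h, h]
    exact hc v

theorem glCongr_mem_scalars (e : (ι → F) ≃ₗ[F] (κ → F)) (g : GL ι F) :
    glCongr e g ∈ Cfsg.Geo.scalars κ F ↔ g ∈ Cfsg.Geo.scalars ι F := by
  rw [Cfsg.Geo.mem_scalars_iff, Cfsg.Geo.mem_scalars_iff]
  constructor
  · rintro ⟨c, hc⟩
    refine ⟨c, ?_⟩
    apply Matrix.toLin'.injective
    apply LinearMap.ext
    intro v
    apply e.injective
    rw [Matrix.toLin'_apply, ← glCongr_mulVec_apply, hc]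
    simp [Matrix.smul_mulVec]
  · rintro ⟨c, hc⟩
    refine ⟨c, ?_⟩
    apply Matrix.toLin'.injective
    apply LinearMap.ext
    intro u
    rw [Matrix.toLin'_apply, glCongr_mulVec, hc]
    simp [Matrix.smul_mulVec]

/-- the projective quotients of corresponding subgroups under a group isomorphism that
preserves scalars are isomorphic -/
theorem nonempty_projQuot_congr (Φ : GL ι F ≃* GL κ F)
    (hsc : ∀ g, Φ g ∈ Cfsg.Geo.scalars κ F ↔ g ∈ Cfsg.Geo.scalars ι F)
    (H : Subgroup (GL ι F)) (H' : Subgroup (GL κ F)) (hH : ∀ g, Φ g ∈ H' ↔ g ∈ H) :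
    Nonempty (Cfsg.projQuot H ≃* Cfsg.projQuot H') := by
  let r : ↥H →* ↥H' := (Φ.toMonoidHom.comp H.subtype).codRestrict H' (fun g => (hH g.1).mpr g.2)
  let ψ : ↥H →* Cfsg.projQuot H' := (QuotientGroup.mk' _).comp r
  have hsurj : Function.Surjective ψ := by
    intro x
    obtain ⟨g', rfl⟩ := QuotientGroup.mk_surjective x
    refine ⟨⟨Φ.symm g'.1, (hH _).mp (by rw [MulEquiv.apply_symm_apply]; exact g'.2)⟩, ?_⟩
    show QuotientGroup.mk (r _) = QuotientGroup.mk g'
    congr 1
    apply Subtype.ext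
    show Φ (Φ.symm g'.1) = g'.1
    rw [MulEquiv.apply_symm_apply]
  have hker : ψ.ker = (Cfsg.Geo.scalars ι F).subgroupOf H := by
    ext g
    rw [MonoidHom.mem_ker, Subgroup.mem_subgroupOf]
    show QuotientGroup.mk (r g) = 1 ↔ _
    rw [QuotientGroup.eq_one_iff, Subgroup.mem_subgroupOf]
    exact hsc g.1
  exact ⟨(QuotientGroup.quotientMulEquivOfEq hker).symm.trans
    (QuotientGroup.quotientKerEquivOfSurjective ψ hsurj)⟩

/-- isometric forms on coordinate spaces have isomorphic projective similarity groups -/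
theorem nonempty_pgo_congr (e : (ι → F) ≃ₗ[F] (κ → F)) (Q : (ι → F) → F) (Q' : (κ → F) → F)
    (h : ∀ v, Q' (e v) = Q v) : Nonempty (Cfsg.PGO F Q ≃* Cfsg.PGO F Q') :=
  nonempty_projQuot_congr (glCongr e) (glCongr_mem_scalars e) _ _
    (glCongr_mem_quadSimilarityGroup e Q Q' h)

/-- a homomorphism out of `GL` with kernel the scalars identifies the projective quotient of a
subgroup with its image -/
theorem nonempty_projQuot_equiv_map {A : Type*} [Group A] (f : GL ι F →* A)
    (hker : f.ker = Cfsg.Geo.scalars ι F) (S : Subgroup (GL ι F)) :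
    Nonempty (Cfsg.projQuot S ≃* ↥(S.map f)) := by
  have hk : (f.subgroupMap S).ker = (Cfsg.Geo.scalars ι F).subgroupOf S := by
    ext g
    rw [MonoidHom.mem_ker, Subgroup.mem_subgroupOf, ← hker, MonoidHom.mem_ker]
    constructor
    · intro h
      have := congrArg Subtype.val h
      exact this
    · intro h
      apply Subtype.ext
      exact h
  exact ⟨(QuotientGroup.quotientMulEquivOfEq hk).symm.trans
    (QuotientGroup.quotientKerEquivOfSurjective _ (f.subgroupMap_surjective S))⟩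

end

end Cfsg.Agent.Lib.Helper50
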