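import Cfsg.Agent.S0750
import Cfsg.Agent.Lib.Helper50.StdForms

set_option autoImplicit false

/-! Maximal totally singular subspaces of the hyperbolic form `Σ x_i y_i`. -/

namespace Cfsg.Agent.Lib.Helper50

open Module

variable {F : Type*} [Field F]

/-- vectors vanishing on a set of coordinates -/
def coordSub {ι : Type*} (S : Set ι) : Submodule F (ι → F) where
  carrier := {v | ∀ i ∈ S, v i = 0}
  add_mem' := by
    intro a b ha hb i hi
    simp [ha i hi, hb i hi]
  zero_mem' := by intro i _; rfl
  smul_mem' := by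
    intro c a ha i hi
    simp [ha i hi]

theorem mem_coordSub {ι : Type*} (S : Set ι) (v : ι → F) :
    v ∈ coordSub (F := F) S ↔ ∀ i ∈ S, v i = 0 := Iff.rfl

open scoped Classical in
/-- coordinates outside `S` -/
noncomputable def coordSubEquiv {ι : Type*} (S : Set ι) :
    coordSub (F := F) S ≃ₗ[F] ({i // i ∉ S} → F) where
  toFun v := fun i => v.1 i.1
  invFun x := ⟨fun i => if h : i ∉ S then x ⟨i, h⟩ else 0, by
    intro i hi
    simp [hi]⟩
  map_add' := by intro a b; rfl
  map_smul' := by intro c a; rfl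
  left_inv := by
    intro v
    apply Subtype.ext
    funext i
    by_cases h : i ∈ S
    · simp [h, v.2 i h]
    · simp [h]
  right_inv := by
    intro x
    funext i
    simp [i.2]

theorem finrank_coordSub {ι : Type*} [Fintype ι] (S : Set ι) [DecidablePred (· ∈ S)] :
    finrank F (coordSub (F := F) S) = Fintype.card {i // i ∉ S} := by
  rw [LinearEquiv.finrank_eq (coordSubEquiv S), Module.finrank_fintype_fun_eq_card]

section transfer

variable {V : Type*} [AddCommGroup V] [Module F V]

theorem map_symm_map (g : V ≃ₗ[F] V) (W : Submodule F V) :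
    (W.map (g : V →ₗ[F] V)).map (g.symm : V →ₗ[F] V) = W := by
  ext x
  simp only [Submodule.mem_map, LinearEquiv.coe_coe]
  constructor
  · rintro ⟨y, ⟨z, hz, rfl⟩, rfl⟩
    simpa using hz
  · intro hx
    exact ⟨g x, ⟨x, hx, rfl⟩, by simp⟩

/-- transfer of the set of totally singular `d`-spaces containing `U` along an isometry -/
theorem card_ts_map (Q : V → F) (g : V ≃ₗ[F] V) (hg : ∀ v, Q (g v) = Q v) (U : Submodule F V)
    (d : ℕ) :
    Nat.card {W : Submodule F V //
        finrank F W = d ∧ (∀ w ∈ W, Q w = 0) ∧ U.map (g : V →ₗ[F] V) ≤ W} =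
      Nat.card {W : Submodule F V // finrank F W = d ∧ (∀ w ∈ W, Q w = 0) ∧ U ≤ W} := by
  have hg' : ∀ v, Q (g.symm v) = Q v := by
    intro v
    have := hg (g.symm v)
    rw [LinearEquiv.apply_symm_apply] at this
    exact this.symm
  apply Nat.card_congr
  refine
    { toFun := fun W => ⟨W.1.map (g.symm : V →ₗ[F] V), ?_, ?_, ?_⟩
      invFun := fun W => ⟨W.1.map (g : V →ₗ[F] V), ?_, ?_, ?_⟩
      left_inv := ?_
      right_inv := ?_ }
  · rw [LinearEquiv.finrank_map_eq]; exact W.2.1
  · intro w hw
    rw [Submodule.mem_map] at hw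
    obtain ⟨y, hy, rfl⟩ := hw
    rw [LinearEquiv.coe_coe, hg']
    exact W.2.2.1 y hy
  · intro u hu
    rw [Submodule.mem_map]
    refine ⟨g u, W.2.2.2 (Submodule.mem_map_of_mem hu), by simp⟩
  · rw [LinearEquiv.finrank_map_eq]; exact W.2.1
  · intro w hw
    rw [Submodule.mem_map] at hw
    obtain ⟨y, hy, rfl⟩ := hw
    rw [LinearEquiv.coe_coe, hg]
    exact W.2.2.1 y hy
  · exact Submodule.map_mono W.2.2.2
  · intro W
    apply Subtype.ext
    have := map_symm_map g.symm W.1
    simpa using this
  · intro W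
    apply Subtype.ext
    exact map_symm_map g W.1

end transfer

theorem card_sum_subtype {α β : Type*} [Fintype α] [Fintype β] (p : α ⊕ β → Prop)
    [DecidablePred p] :
    Fintype.card {c // p c} =
      Fintype.card {a // p (Sum.inl a)} + Fintype.card {b // p (Sum.inr b)} := by
  rw [Fintype.card_congr (Equiv.subtypeSum (p := p)), Fintype.card_sum]

section standard

variable (k : ℕ)

/-- coordinates killed on `{y = 0}` -/
def setY : Set (Fin (k + 1) ⊕ Fin (k + 1)) := {i | i.isRight = true}

/-- coordinates killed on the standard submaximal subspace -/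
def setU : Set (Fin (k + 1) ⊕ Fin (k + 1)) := {i | i.isRight = true ∨ i = Sum.inl (Fin.last k)}

/-- coordinates killed on the second maximal subspace -/
def setZ : Set (Fin (k + 1) ⊕ Fin (k + 1)) :=
  {i | i = Sum.inl (Fin.last k) ∨ (i.isRight = true ∧ i ≠ Sum.inr (Fin.last k))}

instance : DecidablePred (· ∈ setY k) := fun i => by unfold setY; infer_instance
instance : DecidablePred (· ∈ setU k) := fun i => by unfold setU; infer_instance
instance : DecidablePred (· ∈ setZ k) := fun i => by unfold setZ; infer_instance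

theorem finrank_Y : finrank F (coordSub (F := F) (setY k)) = k + 1 := by
  rw [finrank_coordSub, card_sum_subtype]
  simp [setY]

theorem finrank_U : finrank F (coordSub (F := F) (setU k)) = k := by
  rw [finrank_coordSub, card_sum_subtype]
  simp [setU, Fintype.card_subtype_compl]

theorem finrank_Z : finrank F (coordSub (F := F) (setZ k)) = k + 1 := by
  rw [finrank_coordSub, card_sum_subtype]
  simp [setZ, Fintype.card_subtype_compl]

theorem U_le_Y : coordSub (F := F) (setU k) ≤ coordSub (setY k) := by
  intro v hv i hi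
  exact hv i (Or.inl hi)

theorem U_le_Z : coordSub (F := F) (setU k) ≤ coordSub (setZ k) := by
  intro v hv i hi
  rcases hi with hi | hi
  · exact hv i (Or.inr hi)
  · exact hv i (Or.inl hi.1)

theorem Y_singular (v : Fin (k + 1) ⊕ Fin (k + 1) → F) (hv : v ∈ coordSub (F := F) (setY k)) :
    Cfsg.quadFormPlus (k + 1) F v = 0 := by
  unfold Cfsg.quadFormPlus
  apply Finset.sum_eq_zero
  intro i _
  rw [hv (Sum.inr i) (by simp [setY]), mul_zero]

theorem Z_singular (v : Fin (k + 1) ⊕ Fin (k + 1) → F) (hv : v ∈ coordSub (F := F) (setZ k)) :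
    Cfsg.quadFormPlus (k + 1) F v = 0 := by
  unfold Cfsg.quadFormPlus
  apply Finset.sum_eq_zero
  intro i _
  by_cases hi : i = Fin.last k
  · rw [hi, hv (Sum.inl (Fin.last k)) (Or.inl rfl), zero_mul]
  · rw [hv (Sum.inr i) (Or.inr ⟨rfl, by simpa using hi⟩), mul_zero]

theorem Y_ne_Z : coordSub (F := F) (setY k) ≠ coordSub (setZ k) := by
  intro h
  have h1 : (Pi.single (Sum.inl (Fin.last k)) (1 : F) : Fin (k + 1) ⊕ Fin (k + 1) → F) ∈
      coordSub (F := F) (setY k) := by
    intro i hi
    have : i ≠ Sum.inl (Fin.last k) := by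
      intro h; rw [h] at hi; simp [setY] at hi
    simp [this]
  rw [h] at h1
  have := h1 (Sum.inl (Fin.last k)) (Or.inl rfl)
  simp at this

theorem polar_plus_single_inl (m : ℕ) (j : Fin m) (x : Fin m ⊕ Fin m → F) :
    QuadraticMap.polar (Cfsg.quadFormPlus m F) (Pi.single (Sum.inl j) 1) x = x (Sum.inr j) := by
  rw [polar_quadFormPlus]
  simp [Matrix.toBilin'_apply', Matrix.fromBlocks_mulVec]

/-- a totally singular `(k+1)`-space containing the standard submaximal subspace is one of the
two standard ones -/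
theorem ts_eq_Y_or_Z (W : Submodule F (Fin (k + 1) ⊕ Fin (k + 1) → F))
    (hd : finrank F W = k + 1) (hs : ∀ w ∈ W, Cfsg.quadFormPlus (k + 1) F w = 0)
    (hU : coordSub (F := F) (setU k) ≤ W) :
    W = coordSub (setY k) ∨ W = coordSub (setZ k) := by
  have h1 : ∀ w ∈ W, ∀ j : Fin (k + 1), j ≠ Fin.last k → w (Sum.inr j) = 0 := by
    intro w hw j hj
    have he : (Pi.single (Sum.inl j) (1 : F) : Fin (k + 1) ⊕ Fin (k + 1) → F) ∈ W := by
      apply hU
      intro i hi
      have : i ≠ Sum.inl j := by
        rintro rfl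
        rcases hi with hi | hi
        · simp at hi
        · exact hj (Sum.inl_injective hi)
      simp [this]
    have hp := polar_plus_single_inl (F := F) (k + 1) j w
    rw [← hp]
    unfold QuadraticMap.polar
    rw [hs _ (W.add_mem he hw), hs _ he, hs _ hw]
    ring
  have h2 : ∀ w ∈ W, w (Sum.inl (Fin.last k)) * w (Sum.inr (Fin.last k)) = 0 := by
    intro w hw
    have := hs w hw
    unfold Cfsg.quadFormPlus at this
    rw [Finset.sum_eq_single (Fin.last k)] at this
    · exact this
    · intro j _ hj
      rw [h1 w hw j hj, mul_zero]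
    · intro h; exact absurd (Finset.mem_univ _) h
  have h3 : (∀ w ∈ W, w (Sum.inr (Fin.last k)) = 0) ∨ (∀ w ∈ W, w (Sum.inl (Fin.last k)) = 0) := by
    by_contra hcon
    push Not at hcon
    obtain ⟨⟨w₁, hw₁, hb⟩, ⟨w₂, hw₂, ha⟩⟩ := hcon
    have e1 := h2 w₁ hw₁
    have e2 := h2 w₂ hw₂
    have e3 := h2 (w₁ + w₂) (W.add_mem hw₁ hw₂)
    have ha1 : w₁ (Sum.inl (Fin.last k)) = 0 := by
      rcases mul_eq_zero.mp e1 with h | h
      · exact h
      · exact absurd h hb
    have hb2 : w₂ (Sum.inr (Fin.last k)) = 0 := by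
      rcases mul_eq_zero.mp e2 with h | h
      · exact absurd h ha
      · exact h
    simp only [Pi.add_apply, ha1, hb2, zero_add, add_zero] at e3
    rcases mul_eq_zero.mp e3 with h | h
    · exact ha h
    · exact hb h
  rcases h3 with hb | ha
  · left
    apply Submodule.eq_of_le_of_finrank_eq
    · intro w hw i hi
      cases i with
      | inl j => simp [setY] at hi
      | inr j =>
        by_cases hj : j = Fin.last k
        · rw [hj]; exact hb w hw
        · exact h1 w hw j hj
    · rw [hd, finrank_Y]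
  · right
    apply Submodule.eq_of_le_of_finrank_eq
    · intro w hw i hi
      rcases hi with hi | hi
      · rw [hi]; exact ha w hw
      · cases i with
        | inl j => simp at hi
        | inr j =>
          apply h1 w hw j
          intro hj
          apply hi.2
          rw [hj]
    · rw [hd, finrank_Z]

/-- The standard submaximal totally singular subspace lies in exactly two maximal ones. -/
theorem card_ts_standard :
    Nat.card {W : Submodule F (Fin (k + 1) ⊕ Fin (k + 1) → F) //
      finrank F W = k + 1 ∧ (∀ w ∈ W, Cfsg.quadFormPlus (k + 1) F w = 0) ∧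
        coordSub (F := F) (setU k) ≤ W} = 2 := by
  classical
  have hset : {W : Submodule F (Fin (k + 1) ⊕ Fin (k + 1) → F) |
      finrank F W = k + 1 ∧ (∀ w ∈ W, Cfsg.quadFormPlus (k + 1) F w = 0) ∧
        coordSub (F := F) (setU k) ≤ W} = {coordSub (setY k), coordSub (setZ k)} := by
    ext W
    simp only [Set.mem_ofPred_eq, Set.mem_insert_iff, Set.mem_singleton_iff]
    constructor
    · rintro ⟨hd, hs, hU⟩
      exact ts_eq_Y_or_Z k W hd hs hU
    · rintro (rfl | rfl)
      · exact ⟨finrank_Y k, Y_singular k, U_le_Y k⟩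
      · exact ⟨finrank_Z k, Z_singular k, U_le_Z k⟩
  change Nat.card ↥{W : Submodule F (Fin (k + 1) ⊕ Fin (k + 1) → F) |
      finrank F W = k + 1 ∧ (∀ w ∈ W, Cfsg.quadFormPlus (k + 1) F w = 0) ∧
        coordSub (F := F) (setU k) ≤ W} = 2
  rw [hset, Nat.card_coe_set_eq, Set.ncard_pair (Y_ne_Z k)]

end standard

end Cfsg.Agent.Lib.Helper50
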