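import Cfsg.Agent.Lib.Helper50.ElusiveInv
import Cfsg.Agent.Lib.Helper50.MaxSingular

set_option autoImplicit false

/-! For `d` even and `q` even, an involution of `Ω⁺_{2d}(q)` whose fixed vectors are all singular. -/

namespace Cfsg.Agent.Lib.Helper50

open Matrix QuadraticMap Module Cfsg.Agent.Lib.Helper19

variable {F : Type*} [Field F] {d : ℕ}

/-- the matrix of `b ↦ b ∘ π` -/
def permMat (π : Fin d → Fin d) : Matrix (Fin d) (Fin d) F :=
  Matrix.of fun i k => if k = π i then 1 else 0

theorem permMat_mulVec (π : Fin d → Fin d) (b : Fin d → F) :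
    permMat π *ᵥ b = fun i => b (π i) := by
  funext i
  simp [permMat, Matrix.mulVec, dotProduct]

/-- the unipotent matrix `[[1, P], [0, 1]]` -/
def unipMat (π : Fin d → Fin d) : Matrix (Fin d ⊕ Fin d) (Fin d ⊕ Fin d) F :=
  Matrix.fromBlocks 1 (permMat π) 0 1

theorem unipMat_mulVec (π : Fin d → Fin d) (v : Fin d ⊕ Fin d → F) :
    unipMat π *ᵥ v =
      Sum.elim (fun i => v (Sum.inl i) + v (Sum.inr (π i))) (fun i => v (Sum.inr i)) := by
  unfold unipMat
  rw [Matrix.fromBlocks_mulVec, permMat_mulVec]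
  funext j
  cases j <;> simp

theorem unipMat_mul_self [CharP F 2] (π : Fin d → Fin d) :
    unipMat (F := F) π * unipMat π = 1 := by
  unfold unipMat
  rw [Matrix.fromBlocks_multiply]
  have : permMat (F := F) π + permMat π = 0 := by
    ext i k
    exact CharTwo.add_self_eq_zero _
  simp [this, Matrix.fromBlocks_one]

/-- the unipotent involution as an element of the general linear group -/
def unipGL [CharP F 2] (π : Fin d → Fin d) : GL (Fin d ⊕ Fin d) F :=
  ⟨unipMat π, unipMat π, unipMat_mul_self π, unipMat_mul_self π⟩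

theorem unipGL_val [CharP F 2] (π : Fin d → Fin d) :
    ((unipGL (F := F) π : GL (Fin d ⊕ Fin d) F) : Matrix (Fin d ⊕ Fin d) (Fin d ⊕ Fin d) F) =
      unipMat π := rfl

theorem sum_perm_mul_self_eq_zero [CharP F 2] (π : Fin d → Fin d) (hπ2 : ∀ i, π (π i) = i)
    (hπ : ∀ i, π i ≠ i) (b : Fin d → F) : ∑ i, b (π i) * b i = 0 := by
  refine Finset.sum_involution (fun i _ => π i) ?_ ?_ ?_ ?_
  · intro i _
    rw [hπ2, mul_comm (b i)]
    exact CharTwo.add_self_eq_zero _
  · intro i _ _
    exact hπ i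
  · intro i _
    exact Finset.mem_univ _
  · intro i _
    exact hπ2 i

theorem unipGL_mem_isometryGroup [CharP F 2] (π : Fin d → Fin d) (hπ2 : ∀ i, π (π i) = i)
    (hπ : ∀ i, π i ≠ i) : unipGL (F := F) π ∈ Cfsg.isometryGroup F (⇑(QPlus d F)) := by
  rw [mem_isometryGroup_iff]
  intro v
  rw [unipGL_val, unipMat_mulVec, QPlus_apply, QPlus_apply]
  simp only [Sum.elim_inl, Sum.elim_inr, add_mul, Finset.sum_add_distrib]
  rw [sum_perm_mul_self_eq_zero π hπ2 hπ (fun i => v (Sum.inr i)), add_zero]

/-- eigenvectors of the unipotent involution are singular -/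
theorem unipMat_eigen_singular (π : Fin d → Fin d) (hπ2 : ∀ i, π (π i) = i)
    (v : Fin d ⊕ Fin d → F) (c : F) (h : unipMat π *ᵥ v = c • v) : QPlus d F v = 0 := by
  rw [unipMat_mulVec] at h
  have hr : ∀ i, v (Sum.inr i) = c * v (Sum.inr i) := fun i => by
    simpa using congrFun h (Sum.inr i)
  have hl : ∀ i, v (Sum.inl i) + v (Sum.inr (π i)) = c * v (Sum.inl i) := fun i => by
    simpa using congrFun h (Sum.inl i)
  have hall : ∀ i, v (Sum.inr i) = 0 := by
    by_contra hcon
    push_neg at hcon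
    obtain ⟨i, hi⟩ := hcon
    have hc : c = 1 := by
      have := hr i
      have h2 : (c - 1) * v (Sum.inr i) = 0 := by rw [sub_mul, one_mul, ← this, sub_self]
      rcases mul_eq_zero.mp h2 with h3 | h3
      · exact sub_eq_zero.mp h3
      · exact absurd h3 hi
    apply hi
    have := hl (π i)
    rw [hc, one_mul, hπ2] at this
    exact add_left_cancel (a := v (Sum.inl (π i))) (by rw [this, add_zero])
  rw [QPlus_apply]
  exact Finset.sum_eq_zero fun i _ => by rw [hall i, mul_zero]

/-- coordinates on the right half -/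
def rightSet (d : ℕ) : Set (Fin d ⊕ Fin d) := {i | i.isRight = true}

instance (d : ℕ) : DecidablePred (· ∈ rightSet d) := fun i => by unfold rightSet; infer_instance

theorem finrank_coordSub_rightSet : finrank F (coordSub (F := F) (rightSet d)) = d := by
  rw [finrank_coordSub, card_sum_subtype]
  simp [rightSet]

theorem rank_unipMat_sub_one (π : Fin d → Fin d) (hπ2 : ∀ i, π (π i) = i) :
    (unipMat (F := F) π - 1).rank = d := by
  have hN : ∀ v : Fin d ⊕ Fin d → F, (unipMat π - 1) *ᵥ v =
      Sum.elim (fun i => v (Sum.inr (π i))) (fun _ => 0) := by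
    intro v
    rw [Matrix.sub_mulVec, Matrix.one_mulVec, unipMat_mulVec]
    funext j
    cases j <;> simp
  have hrange : LinearMap.range (unipMat (F := F) π - 1).mulVecLin = coordSub (rightSet d) := by
    ext w
    constructor
    · rintro ⟨v, rfl⟩
      intro j hj
      rw [Matrix.mulVecLin_apply, hN]
      cases j with
      | inl i => simp [rightSet] at hj
      | inr i => rfl
    · intro hw
      refine ⟨Sum.elim (fun _ => 0) (fun k => w (Sum.inl (π k))), ?_⟩
      rw [Matrix.mulVecLin_apply, hN]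
      funext j
      cases j with
      | inl i => simp [hπ2]
      | inr i => simpa using (hw (Sum.inr i) (by simp [rightSet])).symm
  show finrank F (LinearMap.range (unipMat (F := F) π - 1).mulVecLin) = d
  rw [hrange, finrank_coordSub_rightSet]

theorem exists_fpf_involution (hd : Even d) :
    ∃ π : Fin d → Fin d, (∀ i, π (π i) = i) ∧ ∀ i, π i ≠ i := by
  obtain ⟨j, rfl⟩ := hd
  refine ⟨fun i => finSumFinEquiv (Sum.swap (finSumFinEquiv.symm i)), ?_, ?_⟩
  · intro i
    simp
  · intro i h
    have h1 := congrArg finSumFinEquiv.symm h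
    rw [Equiv.symm_apply_apply] at h1
    cases hs : finSumFinEquiv.symm i with
    | inl a => rw [hs] at h1; simp at h1
    | inr a => rw [hs] at h1; simp at h1

/-- for `d` even there is an involution in `Ω⁺_{2d}(q)`, `q` even, fixing no nonsingular point -/
theorem exists_bad_involution_plus [Fintype F] [CharP F 2] (hd : Even d) (hd3 : 3 ≤ d) :
    ∃ x : GL (Fin d ⊕ Fin d) F, x ∈ Cfsg.Geo.omegaGL (Cfsg.quadFormPlus d F) ∧
      ((x ^ 2 : GL (Fin d ⊕ Fin d) F) : Matrix (Fin d ⊕ Fin d) (Fin d ⊕ Fin d) F) = 1 ∧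
      ∀ (v : Fin d ⊕ Fin d → F) (c : F),
        (x : Matrix (Fin d ⊕ Fin d) (Fin d ⊕ Fin d) F) *ᵥ v = c • v →
          Cfsg.quadFormPlus d F v = 0 := by
  obtain ⟨π, hπ2, hπ⟩ := exists_fpf_involution hd
  have hiso := unipGL_mem_isometryGroup (F := F) π hπ2 hπ
  have h24 : Fintype.card F ≠ 2 ∨ Fintype.card (Fin d ⊕ Fin d) ≠ 4 := by
    right
    rw [Fintype.card_sum, Fintype.card_fin]
    omega
  refine ⟨unipGL π, ?_, ?_, ?_⟩
  · have hΩ : (⟨unipGL π, hiso⟩ : ↥(Cfsg.isometryGroup F (⇑(QPlus d F)))) ∈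
        Cfsg.Omega F (⇑(QPlus d F)) := by
      rw [mem_Omega_iff_even_rank' (QPlus d F) QPlus_nondegenerate h24]
      show Even (unipMat (F := F) π - 1).rank
      rw [rank_unipMat_sub_one π hπ2]
      exact hd
    exact coe_mem_omegaGL _ _ hΩ
  · rw [pow_two, Units.val_mul, unipGL_val, unipMat_mul_self]
  · intro v c h
    rw [unipGL_val] at h
    exact unipMat_eigen_singular π hπ2 v c h

end Cfsg.Agent.Lib.Helper50
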