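import Cfsg.Agent.Lib.Helper49.StOpDefs
import Cfsg.Agent.Lib.Helper50.SpinorIndex
import Cfsg.Agent.Lib.Helper50.PlusForm
import Cfsg.Agent.Lib.Helper43.Dickson

/-!
# K-StOp pack (S2548, architect helper49), leaf IDX (keystone 254827): the index of `Ω⁺_{2m}(F)`

`Ω = [O, O]` has index `4` in the full isometry group of the plus form for odd `q`, and index `2` for
even `q` unless `(m, q) = (2, 2)`.
-/

set_option autoImplicit false
set_option linter.unusedSectionVars false
set_option linter.unusedVariables false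

namespace Cfsg.Agent.Lib.Helper50.StOp

open Cfsg Cfsg.Agent.Lib.Helper49.StOp

variable {m : ℕ} {F : Type*} [Field F]

/-- **K-StOp-IDX** (254827), odd characteristic. -/
theorem index_Omega_odd [Fintype F] (h2 : (2 : F) ≠ 0) (hm : 1 ≤ m) :
    (Cfsg.Omega F (Cfsg.quadFormPlus m F)).index = 4 := by
  have hdim : 2 ≤ Fintype.card (Fin m ⊕ Fin m) := by
    rw [Fintype.card_sum, Fintype.card_fin]; omega
  exact Cfsg.Agent.Lib.Helper50.index_commutator h2 (Cfsg.Agent.Lib.Helper50.QPlus m F)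
    Cfsg.Agent.Lib.Helper50.QPlus_nondegenerate hdim

/-- **K-StOp-IDX** (254827), characteristic two. -/
theorem index_Omega_even [Fintype F] (h2 : (2 : F) = 0) (hm : 1 ≤ m)
    (h : Fintype.card F ≠ 2 ∨ m ≠ 2) :
    (Cfsg.Omega F (Cfsg.quadFormPlus m F)).index = 2 := by
  have hc : CharP F 2 := CharTwo.of_one_ne_zero_of_two_eq_zero one_ne_zero h2
  have : Nonempty (Fin m ⊕ Fin m) := ⟨Sum.inl ⟨0, hm⟩⟩
  have h24 : Fintype.card F ≠ 2 ∨ Fintype.card (Fin m ⊕ Fin m) ≠ 4 := by
    rcases h with h | h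
    · exact Or.inl h
    · right
      rw [Fintype.card_sum, Fintype.card_fin]; omega
  exact Cfsg.Agent.Lib.Helper43.index_Omega_char_two (Cfsg.Agent.Lib.Helper50.QPlus m F)
    Cfsg.Agent.Lib.Helper50.QPlus_nondegenerate h24

end Cfsg.Agent.Lib.Helper50.StOp
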