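import Mathlib
import Cfsg.Agent.Lib.Helper03.PGroupFrattini
import Cfsg.Agent.Lib.Helper14.Frattini
import Cfsg.Agent.Lib.Helper72.Frattini

/-!
# K-4188 leaf A2 (S4188): sub-multiplicativity of the Frattini index in 2-groups
`|X : Φ(X)| ≤ |X/K : Φ(X/K)| · |K : Φ(K)|` for `K ⊴ X`, `X` a finite 2-group.
-/

set_option autoImplicit false

namespace Cfsg.Agent.Lib.Helper50.AG

/-- `Φ(K) ≤ Φ(X)` for `K ⊴ X` -/
theorem frattini_le_subgroupOf_frattini {X : Type*} [Group X] [Finite X] (K : Subgroup X)
    [K.Normal] : frattini ↥K ≤ (frattini X).subgroupOf K := by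
  have h : (frattini ↥K).map K.subtype ≤ frattini X :=
    Cfsg.Agent.Lib.Helper14.le_frattini_of_normal_of_le_map_frattini K
      ((frattini ↥K).map K.subtype) le_rfl
  exact Subgroup.map_le_iff_le_comap.1 h

theorem frattini_index_le_mul {X : Type*} [Group X] [Finite X] (hX : IsPGroup 2 X) (K : Subgroup X) [K.Normal] :
    (frattini X).index ≤ (frattini (X ⧸ K)).index * (frattini ↥K).index := by
  classical
  have : Fact (Nat.Prime 2) := ⟨Nat.prime_two⟩
  have h1 : (frattini X).relIndex (frattini X ⊔ K) * (frattini X ⊔ K).index = (frattini X).index :=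
    Subgroup.relIndex_mul_index le_sup_left
  have h2 : (frattini X).relIndex (frattini X ⊔ K) = (frattini X).relIndex K :=
    Subgroup.relIndex_sup_left _ _
  have h3 : (frattini X).relIndex K ≤ (frattini ↥K).index := by
    have hd : ((frattini X).subgroupOf K).index ∣ (frattini ↥K).index :=
      Subgroup.index_dvd_of_le (frattini_le_subgroupOf_frattini K)
    exact Nat.le_of_dvd (Nat.pos_of_ne_zero Subgroup.index_ne_zero_of_finite) hd
  have h4 : (frattini X ⊔ K).index ≤ (frattini (X ⧸ K)).index := by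
    have hsurj : Function.Surjective (QuotientGroup.mk' K) := QuotientGroup.mk'_surjective K
    have hNn : ((frattini X ⊔ K).map (QuotientGroup.mk' K)).Normal :=
      Subgroup.Normal.map inferInstance _ hsurj
    have hsq : ∀ y : X ⧸ K, y ^ 2 ∈ (frattini X ⊔ K).map (QuotientGroup.mk' K) := by
      intro y
      obtain ⟨x, rfl⟩ := hsurj y
      refine ⟨x ^ 2, ?_, map_pow _ _ _⟩
      exact (le_sup_left : frattini X ≤ frattini X ⊔ K)
        (Cfsg.Agent.Lib.Helper03.pow_mem_frattini_of_isPGroup hX x)
    have hle : frattini (X ⧸ K) ≤ (frattini X ⊔ K).map (QuotientGroup.mk' K) :=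
      Cfsg.Agent.Lib.Helper72.frattini_le_of_sq_mem _ hsq
    have hd : ((frattini X ⊔ K).map (QuotientGroup.mk' K)).index ∣ (frattini (X ⧸ K)).index :=
      Subgroup.index_dvd_of_le hle
    have hidx : ((frattini X ⊔ K).map (QuotientGroup.mk' K)).index = (frattini X ⊔ K).index := by
      apply Subgroup.index_map_eq _ hsurj
      rw [QuotientGroup.ker_mk']
      exact le_sup_right
    rw [← hidx]
    exact Nat.le_of_dvd (Nat.pos_of_ne_zero Subgroup.index_ne_zero_of_finite) hd
  calc (frattini X).index = (frattini X).relIndex K * (frattini X ⊔ K).index := by rw [← h1, h2]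
    _ ≤ (frattini ↥K).index * (frattini (X ⧸ K)).index := Nat.mul_le_mul h3 h4
    _ = (frattini (X ⧸ K)).index * (frattini ↥K).index := Nat.mul_comm _ _

end Cfsg.Agent.Lib.Helper50.AG
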