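import Mathlib

/-!
# K-4188 leaf A7 (S4188): `|W| = 3 ⟹ |MulAut W| ≤ 2`
-/

set_option autoImplicit false

namespace Cfsg.Agent.Lib.Helper50.AG

theorem card_mulAut_le_two {W : Type*} [Group W] (h : Nat.card W = 3) : Nat.card (MulAut W) ≤ 2 := by
  have hfin : Finite W := Nat.finite_of_card_ne_zero (by rw [h]; norm_num)
  have : Fact (Nat.Prime 3) := ⟨Nat.prime_three⟩
  have hcyc : IsCyclic W := isCyclic_of_prime_card h
  rw [IsCyclic.card_mulAut W, h]
  decide

end Cfsg.Agent.Lib.Helper50.AG
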