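import Mathlib
import Cfsg.Agent.Lib.Helper31.BG137Defs
import Cfsg.Agent.S1419

set_option autoImplicit false

/-!
# K-137N-C (helper50, for helper31's BG 13.7 pack): `C_A(P) = A ⊓ C(M_σ)` and `τ₂(M) = {q}`
-/

namespace Cfsg.Agent.Lib.Helper50.BG137

open Cfsg Cfsg.Agent.Lib.Helper55 Cfsg.Agent.Lib.Helper31.BG137 Cfsg.Agent.Lib.Helper15.BG139

variable {G : Type*} [Group G] [Finite G]

/-- KEYSTONE 137704  K-137N-C  (step (c)).  `R = C_A(M_σ)` and `τ₂(M) = {q}`. -/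
theorem Cfg.eq_A0 {M E P A : Subgroup G} {p q : ℕ} (c : Cfg M E P A p q)
    (hS : ∀ S : Sylow q G, ¬ IsMulCommutative (S : Subgroup G))
    (hR : Nat.card ↥(A ⊓ Subgroup.centralizer (P : Set G)) = q)
    (hR2 : sigmaCore M ⊓ Subgroup.centralizer ((A ⊓ Subgroup.centralizer (P : Set G) : Subgroup G) : Set G) ≠ ⊥) :
    A ⊓ Subgroup.centralizer (P : Set G) = A ⊓ Subgroup.centralizer (sigmaCore M : Set G) ∧ tau2 M = {q} := by
  have : Fact q.Prime := ⟨c.hq.1⟩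
  obtain ⟨h1, -, h3⟩ := Cfsg.Agent.S1419.result c.hG M c.hM E c.hE q c.hq hS A ⟨c.hAE, c.hAe, c.hAc⟩
  refine ⟨?_, h1⟩
  by_contra hne
  have hle : A ⊓ Subgroup.centralizer (P : Set G) ≤ E := inf_le_left.trans c.hAE
  exact hR2 (h3 _ hle hR hne).1

end Cfsg.Agent.Lib.Helper50.BG137
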