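import Cfsg.Agent.Lib.Helper50.SumForm

set_option autoImplicit false

/-! Block-diagonal isometries of an orthogonal sum, and the swap of two equal summands. -/

namespace Cfsg.Agent.Lib.Helper50

open Matrix Cfsg.Agent.Lib.Helper19 QuadraticMap

open scoped commutatorElement

variable {F : Type*} [Field F]
variable {κ₁ κ₂ : Type} [Fintype κ₁] [DecidableEq κ₁] [Fintype κ₂] [DecidableEq κ₂]

/-- block-diagonal element of the general linear group -/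
def blockGL (g₁ : GL κ₁ F) (g₂ : GL κ₂ F) : GL (κ₁ ⊕ κ₂) F where
  val := Matrix.fromBlocks (g₁ : Matrix κ₁ κ₁ F) 0 0 (g₂ : Matrix κ₂ κ₂ F)
  inv := Matrix.fromBlocks ((g₁⁻¹ : GL κ₁ F) : Matrix κ₁ κ₁ F) 0 0 ((g₂⁻¹ : GL κ₂ F) : Matrix κ₂ κ₂ F)
  val_inv := by
    rw [Matrix.fromBlocks_multiply]
    simp [Matrix.fromBlocks_one]
  inv_val := by
    rw [Matrix.fromBlocks_multiply]
    simp [Matrix.fromBlocks_one]

theorem sum_eta (x : κ₁ ⊕ κ₂ → F) : x = Sum.elim (x ∘ Sum.inl) (x ∘ Sum.inr) := by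
  funext i; cases i <;> rfl

/-- block-diagonal isometry of an orthogonal sum -/
def blockO (Q₁ : QuadraticForm F (κ₁ → F)) (Q₂ : QuadraticForm F (κ₂ → F))
    (g₁ : ↥(Cfsg.isometryGroup F (⇑Q₁))) (g₂ : ↥(Cfsg.isometryGroup F (⇑Q₂))) :
    ↥(Cfsg.isometryGroup F (⇑(sumForm Q₁ Q₂))) :=
  ⟨blockGL (g₁ : GL κ₁ F) (g₂ : GL κ₂ F), by
    rw [mem_isometryGroup_iff]
    intro u
    obtain ⟨u₁, u₂, rfl⟩ : ∃ u₁ u₂, u = Sum.elim u₁ u₂ := ⟨u ∘ Sum.inl, u ∘ Sum.inr, sum_eta u⟩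
    change sumForm Q₁ Q₂ ((Matrix.fromBlocks _ 0 0 _) *ᵥ (Sum.elim u₁ u₂)) = _
    rw [Matrix.fromBlocks_mulVec, sumForm_apply, sumForm_apply]
    simp only [Sum.elim_comp_inl, Sum.elim_comp_inr, Matrix.zero_mulVec, add_zero, zero_add]
    rw [O_isometry (⇑Q₁) g₁, O_isometry (⇑Q₂) g₂]⟩

theorem blockO_val (Q₁ : QuadraticForm F (κ₁ → F)) (Q₂ : QuadraticForm F (κ₂ → F))
    (g₁ : ↥(Cfsg.isometryGroup F (⇑Q₁))) (g₂ : ↥(Cfsg.isometryGroup F (⇑Q₂))) :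
    (((blockO Q₁ Q₂ g₁ g₂ : ↥(Cfsg.isometryGroup F (⇑(sumForm Q₁ Q₂)))) : GL (κ₁ ⊕ κ₂) F) :
      Matrix (κ₁ ⊕ κ₂) (κ₁ ⊕ κ₂) F) =
      Matrix.fromBlocks ((g₁ : GL κ₁ F) : Matrix κ₁ κ₁ F) 0 0 ((g₂ : GL κ₂ F) : Matrix κ₂ κ₂ F) :=
  rfl

theorem blockO_mul (Q₁ : QuadraticForm F (κ₁ → F)) (Q₂ : QuadraticForm F (κ₂ → F))
    (g₁ h₁ : ↥(Cfsg.isometryGroup F (⇑Q₁))) (g₂ h₂ : ↥(Cfsg.isometryGroup F (⇑Q₂))) :
    blockO Q₁ Q₂ g₁ g₂ * blockO Q₁ Q₂ h₁ h₂ = blockO Q₁ Q₂ (g₁ * h₁) (g₂ * h₂) := by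
  apply O_ext
  rw [Subgroup.coe_mul, Units.val_mul, blockO_val, blockO_val, blockO_val,
    Matrix.fromBlocks_multiply]
  simp

/-- the swap of two equal orthogonal summands -/
def swapGL : GL (κ₁ ⊕ κ₁) F where
  val := Matrix.fromBlocks 0 1 1 0
  inv := Matrix.fromBlocks 0 1 1 0
  val_inv := by
    rw [Matrix.fromBlocks_multiply]
    simp [Matrix.fromBlocks_one]
  inv_val := by
    rw [Matrix.fromBlocks_multiply]
    simp [Matrix.fromBlocks_one]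

def swapO (Q : QuadraticForm F (κ₁ → F)) : ↥(Cfsg.isometryGroup F (⇑(sumForm Q Q))) :=
  ⟨swapGL, by
    rw [mem_isometryGroup_iff]
    intro u
    obtain ⟨u₁, u₂, rfl⟩ : ∃ u₁ u₂, u = Sum.elim u₁ u₂ := ⟨u ∘ Sum.inl, u ∘ Sum.inr, sum_eta u⟩
    change sumForm Q Q ((Matrix.fromBlocks 0 1 1 0) *ᵥ (Sum.elim u₁ u₂)) = _
    rw [Matrix.fromBlocks_mulVec, sumForm_apply, sumForm_apply]
    simp only [Sum.elim_comp_inl, Sum.elim_comp_inr, Matrix.zero_mulVec, Matrix.one_mulVec,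
      add_zero, zero_add]
    rw [add_comm]⟩

theorem swapO_val (Q : QuadraticForm F (κ₁ → F)) :
    (((swapO Q : ↥(Cfsg.isometryGroup F (⇑(sumForm Q Q)))) : GL (κ₁ ⊕ κ₁) F) :
      Matrix (κ₁ ⊕ κ₁) (κ₁ ⊕ κ₁) F) = Matrix.fromBlocks 0 1 1 0 := rfl

theorem swapO_mul_self (Q : QuadraticForm F (κ₁ → F)) : swapO Q * swapO Q = 1 := by
  apply O_ext
  rw [Subgroup.coe_mul, Units.val_mul, swapO_val, Matrix.fromBlocks_multiply]
  simp [Matrix.fromBlocks_one]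

theorem blockO_diag_eq (Q : QuadraticForm F (κ₁ → F)) (g : ↥(Cfsg.isometryGroup F (⇑Q))) :
    blockO Q Q g g = blockO Q Q g 1 * (swapO Q * blockO Q Q g 1 * swapO Q) := by
  apply O_ext
  simp only [Subgroup.coe_mul, Units.val_mul, swapO_val, blockO_val, Matrix.fromBlocks_multiply]
  simp

section finite

variable [Fintype F]

/-- `diag(g, g)` lies in `Ω` of the doubled form -/
theorem blockO_diag_mem_Omega (Q : QuadraticForm F (κ₁ → F))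
    (hQ : (QuadraticMap.polarBilin Q).Nondegenerate)
    (h24 : Fintype.card F ≠ 2 ∨ Fintype.card (κ₁ ⊕ κ₁) ≠ 4)
    (g : ↥(Cfsg.isometryGroup F (⇑Q))) :
    blockO Q Q g g ∈ Cfsg.Omega F (⇑(sumForm Q Q)) := by
  have hnd := sumForm_nondegenerate Q Q hQ hQ
  set a := blockO Q Q g 1 with ha
  set σ := swapO Q with hσ
  have hσinv : σ⁻¹ = σ := inv_eq_of_mul_eq_one_left (swapO_mul_self Q)
  have e : blockO Q Q g g = (a * a) * ⁅a⁻¹, σ⁆ := by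
    rw [blockO_diag_eq, commutatorElement_def, hσinv, inv_inv, ← ha, ← hσ]
    group
  rw [e]
  apply Subgroup.mul_mem
  · exact mul_self_mem_Omega (sumForm Q Q) hnd h24 a
  · change _ ∈ commutator _
    rw [commutator_def]
    exact Subgroup.commutator_mem_commutator (Subgroup.mem_top _) (Subgroup.mem_top _)

end finite

end Cfsg.Agent.Lib.Helper50
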