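import Mathlib
import Cfsg.Agent.Lib.Helper38.CD3.Defs
import Cfsg.Agent.Lib.Helper42.CD3DIV
import Cfsg.Agent.Lib.Helper83.Quotient

/-!
S4460 pack K-CD3, leaf 446001 N1 `threeDeg_compl`: degrees of a normal `p`-complement are the `p'`-parts.
-/

set_option autoImplicit false

namespace Cfsg.Agent.Lib.Helper50.CD3

open Cfsg Cfsg.Agent.Lib.Helper97 Cfsg.Agent.Lib.Helper38.CD3

universe u

variable {G : Type u} [Group G] [Finite G]

/-- `c = p^i * d` with `p ∤ d` has `p'`-part `d` -/
theorem n1_arith (p : ℕ) (hp : p.Prime) (c d e k : ℕ) (hc : c = e * d) (he : e ∣ p ^ k)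
    (hd : d.Coprime p) (hd0 : d ≠ 0) : c / p ^ c.factorization p = d := by
  obtain ⟨i, _, rfl⟩ := (Nat.dvd_prime_pow hp).1 he
  have hpd : ¬ p ∣ d := fun h => by
    have h1 := Nat.Coprime.eq_one_of_dvd hd.symm h
    exact hp.one_lt.ne' h1
  have hf : c.factorization p = i := by
    rw [hc, Nat.factorization_mul (pow_ne_zero _ hp.ne_zero) hd0, Finsupp.add_apply,
      hp.factorization_pow, Finsupp.single_eq_same, Nat.factorization_eq_zero_of_not_dvd hpd,
      add_zero]
  rw [hf, hc, Nat.mul_div_cancel_left _ (pow_pos hp.pos _)]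

/-- 446001 N1 : degrees of a normal `p`-complement are the `p'`-parts. -/
theorem threeDeg_compl {m n : ℕ} (h : ThreeDeg G m n) (p : ℕ) (hp : p.Prime)
    (H : Subgroup G) [H.Normal] (hcop : (Nat.card H).Coprime p)
    (hidx : ∃ k : ℕ, H.index = p ^ k) :
    ThreeDeg H (m / p ^ m.factorization p) (n / p ^ n.factorization p) := by
  obtain ⟨k, hk⟩ := hidx
  intro θ
  obtain ⟨χ, hχ, e, hce, he⟩ := Cfsg.Agent.Lib.Helper42.CD3.exists_over H θ.2
  rw [hk] at he
  have hdvd : charDegree (θ : H → ℂ) ∣ Nat.card H :=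
    Cfsg.Agent.Lib.Helper83.irr_charDegree_dvd_card θ
  have hd : (charDegree (θ : H → ℂ)).Coprime p := Nat.Coprime.coprime_dvd_left hdvd hcop
  have hd0 : charDegree (θ : H → ℂ) ≠ 0 := by
    intro h0
    rw [h0] at hdvd
    have := Nat.eq_zero_of_zero_dvd hdvd
    exact Nat.card_pos.ne' this
  have key := n1_arith p hp (charDegree χ) (charDegree (θ : H → ℂ)) e k hce he hd hd0
  rcases h ⟨χ, hχ⟩ with h1 | h1 | h1
  · left
    have h2 : charDegree χ = 1 := h1
    rw [h2] at key
    rw [← key]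
    simp
  · right; left
    have h2 : charDegree χ = m := h1
    rw [h2] at key
    exact key.symm
  · right; right
    have h2 : charDegree χ = n := h1
    rw [h2] at key
    exact key.symm

end Cfsg.Agent.Lib.Helper50.CD3
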