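import Cfsg.Agent.Lib.Helper50.TwoFamilies
import Cfsg.Agent.Lib.Helper19.CartanDieudonne

set_option autoImplicit false

/-! Parity of `m - dim (Y ∩ gY)` for an isometry `g` written as a product of reflections. -/

namespace Cfsg.Agent.Lib.Helper50.TF

open Module QuadraticMap Cfsg.Agent.Lib.Helper19

variable {F : Type*} [Field F] {V : Type*} [AddCommGroup V] [Module F V]

theorem TS.map {Q : QuadraticForm F V} {W : Submodule F V} (h : TS Q W) (e : V ≃ₗ[F] V)
    (he : ∀ v, Q (e v) = Q v) : TS Q (W.map (e : V →ₗ[F] V)) := by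
  intro w hw
  rw [Submodule.mem_map] at hw
  obtain ⟨y, hy, rfl⟩ := hw
  rw [LinearEquiv.coe_coe, he]
  exact h y hy

theorem finrank_map_inf_map (e : V ≃ₗ[F] V) (A C : Submodule F V) :
    finrank F ↥(A.map (e : V →ₗ[F] V) ⊓ C.map (e : V →ₗ[F] V)) = finrank F ↥(A ⊓ C) := by
  rw [← Submodule.map_inf _ e.injective, LinearEquiv.finrank_map_eq]

section fd

variable [FiniteDimensional F V] (Q : QuadraticForm F V)
  (hQ : (polarBilin Q).Nondegenerate) (m : ℕ) (hV : finrank F V = 2 * m)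

include hQ hV

/-- additivity mod 2 of the class distance along a composition of isometries -/
theorem even_comp {Y : Submodule F V} (hY : TS Q Y) (hYd : finrank F Y = m)
    (e₁ e₂ : V ≃ₗ[F] V) (h₁ : ∀ v, Q (e₁ v) = Q v) (h₂ : ∀ v, Q (e₂ v) = Q v) :
    Even ((m - finrank F ↥(Y ⊓ Y.map (e₁ : V →ₗ[F] V))) +
      (m - finrank F ↥(Y ⊓ Y.map (e₂ : V →ₗ[F] V))) +
      (m - finrank F ↥(Y ⊓ Y.map ((e₂.trans e₁ : V ≃ₗ[F] V) : V →ₗ[F] V)))) := by
  have hY1 : TS Q (Y.map (e₁ : V →ₗ[F] V)) := hY.map e₁ h₁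
  have hY1d : finrank F ↥(Y.map (e₁ : V →ₗ[F] V)) = m := by
    rw [LinearEquiv.finrank_map_eq]; exact hYd
  have h12 : ∀ v, Q ((e₂.trans e₁) v) = Q v := by
    intro v; rw [LinearEquiv.trans_apply, h₁, h₂]
  have hY12 : TS Q (Y.map ((e₂.trans e₁ : V ≃ₗ[F] V) : V →ₗ[F] V)) := hY.map _ h12
  have hY12d : finrank F ↥(Y.map ((e₂.trans e₁ : V ≃ₗ[F] V) : V →ₗ[F] V)) = m := by
    rw [LinearEquiv.finrank_map_eq]; exact hYd
  have key := even_triple Q hQ m hV hY hYd hY1 hY1d hY12 hY12d
  have hmap : Y.map ((e₂.trans e₁ : V ≃ₗ[F] V) : V →ₗ[F] V) =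
      (Y.map (e₂ : V →ₗ[F] V)).map (e₁ : V →ₗ[F] V) := by
    rw [← Submodule.map_comp]
    rfl
  have h3 : finrank F ↥(Y.map (e₁ : V →ₗ[F] V) ⊓
      Y.map ((e₂.trans e₁ : V ≃ₗ[F] V) : V →ₗ[F] V)) =
      finrank F ↥(Y ⊓ Y.map (e₂ : V →ₗ[F] V)) := by
    rw [hmap, finrank_map_inf_map]
  rw [h3] at key
  exact key

end fd

/-- a reflection as a linear equivalence -/
noncomputable def reflEquiv (Q : QuadraticForm F V) (u : V) (hu : Q u ≠ 0) : V ≃ₗ[F] V :=
  LinearEquiv.ofLinearMap (reflLin Q u) (reflLin Q u) (reflLin_mul_self Q u hu)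
    (reflLin_mul_self Q u hu)

theorem reflEquiv_apply (Q : QuadraticForm F V) (u : V) (hu : Q u ≠ 0) (x : V) :
    reflEquiv Q u hu x = reflLin Q u x := rfl

open scoped Classical in
/-- the composite of the reflections in a list of vectors (singular vectors are skipped) -/
noncomputable def prodEquiv (Q : QuadraticForm F V) : List V → (V ≃ₗ[F] V)
  | [] => LinearEquiv.refl F V
  | a :: t => if ha : Q a ≠ 0 then (prodEquiv Q t).trans (reflEquiv Q a ha) else prodEquiv Q t

theorem prodEquiv_apply (Q : QuadraticForm F V) (l : List V) (hl : ∀ u ∈ l, Q u ≠ 0) (x : V) :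
    prodEquiv Q l x = (l.map (reflLin Q)).prod x := by
  induction l generalizing x with
  | nil => simp [prodEquiv]
  | cons a t ih =>
    have ha : Q a ≠ 0 := hl a List.mem_cons_self
    have ht : ∀ u ∈ t, Q u ≠ 0 := fun u hu => hl u (List.mem_cons_of_mem _ hu)
    rw [prodEquiv, dif_pos ha, LinearEquiv.trans_apply, ih ht, reflEquiv_apply, List.map_cons,
      List.prod_cons, Module.End.mul_apply]

theorem prodEquiv_isometry (Q : QuadraticForm F V) (l : List V) (hl : ∀ u ∈ l, Q u ≠ 0) (x : V) :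
    Q (prodEquiv Q l x) = Q x := by
  rw [prodEquiv_apply Q l hl]
  exact prod_isometry Q l hl x

section fd2

variable [FiniteDimensional F V] (Q : QuadraticForm F V)
  (hQ : (polarBilin Q).Nondegenerate) (m : ℕ) (hV : finrank F V = 2 * m)

include hQ hV

/-- a reflection moves a maximal totally singular subspace to an adjacent one -/
theorem finrank_inf_refl {Y : Submodule F V} (hY : TS Q Y) (hYd : finrank F Y = m)
    (u : V) (hu : Q u ≠ 0) :
    finrank F ↥(Y ⊓ Y.map (reflEquiv Q u hu : V →ₗ[F] V)) + 1 = m := by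
  have pY := hY.perp_eq Q hQ m hV hYd
  have huY : u ∉ Y := fun h => hu (hY u h)
  set S := Submodule.span F {u} with hS
  have hu0 : u ≠ 0 := fun h => huY (h ▸ Y.zero_mem)
  have hSd : finrank F S = 1 := finrank_span_singleton hu0
  have hYS : Y ⊓ S = ⊥ := by
    rw [eq_bot_iff]
    intro x hx
    rw [Submodule.mem_inf, hS, Submodule.mem_span_singleton] at hx
    obtain ⟨hxY, a, rfl⟩ := hx
    by_cases ha : a = 0
    · rw [ha, zero_smul]; exact Submodule.zero_mem _
    · exfalso
      apply huY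
      have := Y.smul_mem a⁻¹ hxY
      rwa [smul_smul, inv_mul_cancel₀ ha, one_smul] at this
  have hYSd : finrank F ↥(Y ⊔ S) = m + 1 := by
    have := Submodule.finrank_sup_add_finrank_inf_eq Y S
    rw [hYS, finrank_bot] at this
    omega
  have h1 : perp Q (Y ⊔ S) = Y ⊓ perp Q S := by rw [perp_sup, pY]
  have h1d : finrank F ↥(Y ⊓ perp Q S) + 1 = m := by
    have hm1 : 1 ≤ m := by
      have := finrank_le_two_mul Q hQ m hV (Y ⊔ S)
      omega
    rw [← h1, finrank_perp Q hQ m hV, hYSd]; omega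
  have hmem : ∀ x, x ∈ perp Q S ↔ polar (⇑Q) u x = 0 := by
    intro x
    rw [mem_perp]
    constructor
    · intro h; exact h u (Submodule.mem_span_singleton_self u)
    · intro h s hs
      rw [hS, Submodule.mem_span_singleton] at hs
      obtain ⟨a, rfl⟩ := hs
      rw [polar_smul_left, h, smul_zero]
  have heq : Y ⊓ Y.map (reflEquiv Q u hu : V →ₗ[F] V) = Y ⊓ perp Q S := by
    apply le_antisymm
    · intro y hy
      rw [Submodule.mem_inf] at hy
      obtain ⟨hyY, hyr⟩ := hy
      rw [Submodule.mem_map] at hyr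
      obtain ⟨y', hy'Y, hy'⟩ := hyr
      rw [LinearEquiv.coe_coe, reflEquiv_apply, reflLin_apply] at hy'
      have hpol : polar (⇑Q) u y' = 0 := by
        by_contra hne
        apply huY
        have hc : ((Q u)⁻¹ * polar (⇑Q) u y') ≠ 0 := mul_ne_zero (inv_ne_zero hu) hne
        have : u = ((Q u)⁻¹ * polar (⇑Q) u y')⁻¹ • (y' - y) := by
          rw [← hy', sub_sub_cancel, smul_smul, inv_mul_cancel₀ hc, one_smul]
        rw [this]
        exact Y.smul_mem _ (Y.sub_mem hy'Y hyY)
      rw [hpol, mul_zero, zero_smul, sub_zero] at hy'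
      rw [Submodule.mem_inf]
      refine ⟨hyY, ?_⟩
      rw [hmem, ← hy']
      exact hpol
    · intro y hy
      rw [Submodule.mem_inf] at hy
      obtain ⟨hyY, hyp⟩ := hy
      rw [Submodule.mem_inf]
      refine ⟨hyY, ?_⟩
      rw [Submodule.mem_map]
      refine ⟨y, hyY, ?_⟩
      rw [LinearEquiv.coe_coe, reflEquiv_apply]
      exact reflLin_fix Q u y ((hmem y).mp hyp)
  rw [heq]
  exact h1d

/-- the class distance of a product of reflections has the parity of the number of factors -/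
theorem parity_prodEquiv {Y : Submodule F V} (hY : TS Q Y) (hYd : finrank F Y = m)
    (l : List V) (hl : ∀ u ∈ l, Q u ≠ 0) :
    Even (m - finrank F ↥(Y ⊓ Y.map (prodEquiv Q l : V →ₗ[F] V))) ↔ Even l.length := by
  induction l with
  | nil =>
    have : Y.map ((prodEquiv Q ([] : List V) : V ≃ₗ[F] V) : V →ₗ[F] V) = Y := by
      ext x; simp [prodEquiv]
    rw [this, inf_idem, hYd]
    simp
  | cons a t ih =>
    have ha : Q a ≠ 0 := hl a List.mem_cons_self
    have ht : ∀ u ∈ t, Q u ≠ 0 := fun u hu => hl u (List.mem_cons_of_mem _ hu)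
    have hcomp := even_comp Q hQ m hV hY hYd (reflEquiv Q a ha) (prodEquiv Q t)
      (fun v => by rw [reflEquiv_apply]; exact reflLin_isometry Q a ha v)
      (prodEquiv_isometry Q t ht)
    have hr := finrank_inf_refl Q hQ m hV hY hYd a ha
    have hcons : prodEquiv Q (a :: t) = (prodEquiv Q t).trans (reflEquiv Q a ha) := by
      rw [prodEquiv, dif_pos ha]
    rw [hcons, List.length_cons, Nat.even_add_one, ← ih ht]
    have hle : finrank F ↥(Y ⊓ Y.map (prodEquiv Q t : V →ₗ[F] V)) ≤ m := by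
      have := Submodule.finrank_mono (inf_le_left : Y ⊓ Y.map (prodEquiv Q t : V →ₗ[F] V) ≤ Y)
      omega
    rw [Nat.even_iff] at hcomp ⊢
    rw [Nat.even_iff]
    omega

end fd2

end Cfsg.Agent.Lib.Helper50.TF
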