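import Cfsg.Agent.Lib.Helper08.AutOmegaKer

set_option autoImplicit false

/-! Field automorphisms of `PΩ(Q)` for a form `Q` commuting with the field automorphisms, and the
image of the semisimilarity group as the join of `pgoAut` with the field automorphisms. -/

namespace Cfsg.Agent.Lib.Helper50

open Matrix Cfsg.Agent.Lib.Helper19 Cfsg.Agent.Lib.Helper08

universe u

variable {F : Type u} [Field F] {ι : Type} [Fintype ι] [DecidableEq ι] (Q : (ι → F) → F)

/-- the field automorphisms commuting with `Q` -/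
def compatAut : Subgroup (RingAut F) where
  carrier := {σ | ∀ v : ι → F, Q (fun i => σ (v i)) = σ (Q v)}
  mul_mem' := by
    intro σ τ hσ hτ v
    have := hσ (fun i => τ (v i))
    rw [hτ] at this
    exact this
  one_mem' := fun v => rfl
  inv_mem' := by
    intro σ hσ v
    apply σ.injective
    rw [← hσ]
    have h1 : ∀ x : F, σ (σ⁻¹ x) = x := fun x => RingEquiv.apply_symm_apply σ x
    simp only [h1]

omit [Fintype ι] [DecidableEq ι] in
theorem mem_compatAut (σ : RingAut F) :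
    σ ∈ compatAut Q ↔ ∀ v : ι → F, Q (fun i => σ (v i)) = σ (Q v) := Iff.rfl

/-- entrywise field automorphism on `GL` -/
def sigmaGL (σ : RingAut F) : GL ι F ≃* GL ι F where
  toFun := Matrix.GeneralLinearGroup.map (σ : F →+* F)
  invFun := Matrix.GeneralLinearGroup.map ((σ⁻¹ : RingAut F) : F →+* F)
  left_inv g := by
    ext i j
    simp only [Matrix.GeneralLinearGroup.map_apply, RingHom.coe_coe]
    exact RingEquiv.symm_apply_apply σ _
  right_inv g := by
    ext i j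
    simp only [Matrix.GeneralLinearGroup.map_apply, RingHom.coe_coe]
    exact RingEquiv.apply_symm_apply σ _
  map_mul' := map_mul _

theorem sigmaGL_val (σ : RingAut F) (g : GL ι F) :
    ((sigmaGL σ g : GL ι F) : Matrix ι ι F) = (g : Matrix ι ι F).map σ := rfl

theorem sigmaGL_mul (σ τ : RingAut F) (g : GL ι F) :
    sigmaGL (σ * τ) g = sigmaGL σ (sigmaGL τ g) := by
  ext i j
  rfl

theorem sigmaGL_one (g : GL ι F) : sigmaGL (1 : RingAut F) g = g := by
  ext i j
  rfl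

omit [DecidableEq ι] in
theorem map_mulVec_sigma (σ : RingAut F) (A : Matrix ι ι F) (v : ι → F) :
    A.map σ *ᵥ (fun i => σ (v i)) = fun i => σ ((A *ᵥ v) i) := by
  funext i
  simp [Matrix.mulVec, dotProduct, map_sum, map_mul]

/-- the entrywise image of a similarity is a similarity -/
theorem sigmaGL_similarity {σ : RingAut F} (hσ : σ ∈ compatAut Q) (g : GL ι F) (c : F)
    (hg : ∀ v, Q ((g : Matrix ι ι F) *ᵥ v) = c * Q v) (w : ι → F) :
    Q (((sigmaGL σ g : GL ι F) : Matrix ι ι F) *ᵥ w) = σ c * Q w := by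
  obtain ⟨v, rfl⟩ : ∃ v : ι → F, w = fun i => σ (v i) :=
    ⟨fun i => σ⁻¹ (w i), by funext i; exact (RingEquiv.apply_symm_apply σ _).symm⟩
  rw [sigmaGL_val, map_mulVec_sigma, hσ, hσ, hg, map_mul]

theorem sigmaGL_mem_isometryGroup {σ : RingAut F} (hσ : σ ∈ compatAut Q) {g : GL ι F}
    (hg : g ∈ Cfsg.isometryGroup F Q) : sigmaGL σ g ∈ Cfsg.isometryGroup F Q := by
  rw [mem_isometryGroup_iff] at hg ⊢
  intro w
  have := sigmaGL_similarity Q hσ g 1 (fun v => by rw [hg, one_mul]) w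
  rw [this, map_one, one_mul]

theorem sigmaGL_mem_similarity {σ : RingAut F} (hσ : σ ∈ compatAut Q) {g : GL ι F}
    (hg : g ∈ Cfsg.Geo.quadSimilarityGroup (F := F) Q) :
    sigmaGL σ g ∈ Cfsg.Geo.quadSimilarityGroup (F := F) Q := by
  obtain ⟨c, hc⟩ := hg
  refine ⟨Units.map (σ : F →* F) c, fun w => ?_⟩
  exact sigmaGL_similarity Q hσ g c hc w

/-- entrywise field automorphism on the isometry group -/
def sigmaO (σ : ↥(compatAut Q)) : MulAut ↥(Cfsg.isometryGroup F Q) where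
  toFun s := ⟨sigmaGL σ.1 s.1, sigmaGL_mem_isometryGroup Q σ.2 s.2⟩
  invFun s := ⟨sigmaGL (σ⁻¹).1 s.1, sigmaGL_mem_isometryGroup Q (σ⁻¹).2 s.2⟩
  left_inv s := by
    apply Subtype.ext
    exact (sigmaGL σ.1).symm_apply_apply s.1
  right_inv s := by
    apply Subtype.ext
    exact (sigmaGL σ.1).apply_symm_apply s.1
  map_mul' s t := by
    apply Subtype.ext
    exact map_mul (sigmaGL σ.1) s.1 t.1

theorem sigmaO_val (σ : ↥(compatAut Q)) (s : ↥(Cfsg.isometryGroup F Q)) :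
    ((sigmaO Q σ s : ↥(Cfsg.isometryGroup F Q)) : GL ι F) = sigmaGL σ.1 s.1 := rfl

/-- the field automorphisms as automorphisms of the isometry group -/
def sigmaOHom : ↥(compatAut Q) →* MulAut ↥(Cfsg.isometryGroup F Q) where
  toFun := sigmaO Q
  map_one' := MulEquiv.ext fun s => Subtype.ext (sigmaGL_one s.1)
  map_mul' σ τ := MulEquiv.ext fun s => Subtype.ext (sigmaGL_mul σ.1 τ.1 s.1)

/-- automorphisms of the isometry group act on `PΩ` -/
def liftPO : MulAut ↥(Cfsg.isometryGroup F Q) →* MulAut (Cfsg.POmega F Q) :=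
  (autQuot (Subgroup.center ↥(Cfsg.Omega F Q))).comp (MulAut.characteristic (Cfsg.Omega F Q))

theorem autPO_eq_liftPO : autPO Q = (liftPO Q).comp (conjOHom Q) := rfl

theorem liftPO_mk (φ : MulAut ↥(Cfsg.isometryGroup F Q)) (s : ↥(Cfsg.Omega F Q)) :
    ∃ s' : ↥(Cfsg.Omega F Q), liftPO Q φ (QuotientGroup.mk s) = QuotientGroup.mk s' ∧
      (s' : ↥(Cfsg.isometryGroup F Q)) = φ s.1 :=
  ⟨MulAut.characteristic (Cfsg.Omega F Q) φ s, rfl, rfl⟩

/-- the field automorphisms as automorphisms of `PΩ` -/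
def fieldAutPO : ↥(compatAut Q) →* MulAut (Cfsg.POmega F Q) :=
  (liftPO Q).comp (sigmaOHom Q)

theorem fieldAutPO_mk (σ : ↥(compatAut Q)) (s : ↥(Cfsg.Omega F Q)) :
    ∃ s' : ↥(Cfsg.Omega F Q), fieldAutPO Q σ (QuotientGroup.mk s) = QuotientGroup.mk s' ∧
      (((s' : ↥(Cfsg.isometryGroup F Q)) : GL ι F) : Matrix ι ι F) =
        (((s : ↥(Cfsg.isometryGroup F Q)) : GL ι F) : Matrix ι ι F).map σ.1 := by
  obtain ⟨s', h1, h2⟩ := liftPO_mk Q (sigmaOHom Q σ) s
  exact ⟨s', h1, by rw [h2]; rfl⟩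

/-- entrywise field automorphism on the similarity group -/
def sigmaGO (σ : ↥(compatAut Q)) (g : ↥(Cfsg.Geo.quadSimilarityGroup (F := F) Q)) :
    ↥(Cfsg.Geo.quadSimilarityGroup (F := F) Q) :=
  ⟨sigmaGL σ.1 g.1, sigmaGL_mem_similarity Q σ.2 g.2⟩

theorem sigmaO_conjO (σ : ↥(compatAut Q)) (g : ↥(Cfsg.Geo.quadSimilarityGroup (F := F) Q)) :
    sigmaOHom Q σ * conjOHom Q g * (sigmaOHom Q σ)⁻¹ = conjOHom Q (sigmaGO Q σ g) := by
  rw [mul_inv_eq_iff_eq_mul]
  apply MulEquiv.ext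
  intro s
  apply Subtype.ext
  change sigmaGL σ.1 (g.1 * s.1 * g.1⁻¹) = sigmaGL σ.1 g.1 * sigmaGL σ.1 s.1 * (sigmaGL σ.1 g.1)⁻¹
  rw [map_mul, map_mul, map_inv]

theorem fieldAutPO_conj (σ : ↥(compatAut Q)) (g : ↥(Cfsg.Geo.quadSimilarityGroup (F := F) Q)) :
    fieldAutPO Q σ * autPO Q g * (fieldAutPO Q σ)⁻¹ = autPO Q (sigmaGO Q σ g) := by
  have := congrArg (liftPO Q) (sigmaO_conjO Q σ g)
  rw [map_mul, map_mul, map_inv] at this
  exact this

/-- the predicate of the definitions, for a semilinear map, is the graph of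
`autPO g * fieldAutPO σ` -/
theorem isInducedSemi_iff (g : GL ι F) (hg : g ∈ Cfsg.Geo.quadSimilarityGroup (F := F) Q)
    (σ : RingAut F) (hσ : σ ∈ compatAut Q) (β : Cfsg.POmega F Q ≃* Cfsg.POmega F Q) :
    Cfsg.IsInducedBySemilinearPOmega Q g σ β ↔ β = autPO Q ⟨g, hg⟩ * fieldAutPO Q ⟨σ, hσ⟩ := by
  have hkey : ∀ s : ↥(Cfsg.Omega F Q), ∃ s'' : ↥(Cfsg.Omega F Q),
      (autPO Q ⟨g, hg⟩ * fieldAutPO Q ⟨σ, hσ⟩) (QuotientGroup.mk s) = QuotientGroup.mk s'' ∧
      (((s'' : ↥(Cfsg.isometryGroup F Q)) : GL ι F) : Matrix ι ι F) =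
        (g : Matrix ι ι F) * ((((s : ↥(Cfsg.isometryGroup F Q)) : GL ι F) : Matrix ι ι F)).map σ *
          ((g⁻¹ : GL ι F) : Matrix ι ι F) := by
    intro s
    obtain ⟨s₁, h1, h2⟩ := fieldAutPO_mk Q ⟨σ, hσ⟩ s
    obtain ⟨s₂, h3, h4⟩ := autPO_mk_val Q ⟨g, hg⟩ s₁
    refine ⟨s₂, ?_, ?_⟩
    · rw [MulAut.mul_apply, h1, h3]
    · rw [h4, Units.val_mul, Units.val_mul, h2]
  constructor
  · intro h
    ext x
    induction x using QuotientGroup.induction_on with
    | H s =>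
      obtain ⟨s'', h1, h2⟩ := hkey s
      rw [h1]
      exact h s s'' h2
  · rintro rfl s s' hs'
    obtain ⟨s'', h1, h2⟩ := hkey s
    rw [h1]
    congr 1
    exact Omega_ext Q (h2.trans hs'.symm)

/-- a semisimilarity pair has a similarity as linear part -/
theorem similarity_of_semisimilarity (g : GL ι F) (σ : RingAut F) (hσ : σ ∈ compatAut Q)
    (h : Cfsg.IsSemisimilarityPair Q g σ) : g ∈ Cfsg.Geo.quadSimilarityGroup (F := F) Q := by
  obtain ⟨c, hc⟩ := h
  refine ⟨c, fun w => ?_⟩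
  obtain ⟨v, rfl⟩ : ∃ v : ι → F, w = fun i => σ (v i) :=
    ⟨fun i => σ⁻¹ (w i), by funext i; exact (RingEquiv.apply_symm_apply σ _).symm⟩
  rw [hc, hσ]

/-- the image of the semisimilarity group -/
theorem gammaPOmega_eq (hall : ∀ σ : RingAut F, σ ∈ compatAut Q) :
    Cfsg.gammaPOmega F Q = (autPO Q).range ⊔ (fieldAutPO Q).range := by
  unfold Cfsg.gammaPOmega Cfsg.autSubgroupOf
  apply le_antisymm
  · rw [Subgroup.closure_le]
    rintro β ⟨g, σ, hsemi, hind⟩
    have hg := similarity_of_semisimilarity Q g σ (hall σ) hsemi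
    rw [(isInducedSemi_iff Q g hg σ (hall σ) β).mp hind]
    exact Subgroup.mul_mem _ (Subgroup.mem_sup_left ⟨_, rfl⟩) (Subgroup.mem_sup_right ⟨_, rfl⟩)
  · apply sup_le
    · rintro _ ⟨g, rfl⟩
      apply Subgroup.subset_closure
      refine ⟨g.1, 1, ?_, ?_⟩
      · obtain ⟨c, hc⟩ := g.2
        exact ⟨c, fun v => hc v⟩
      · rw [isInducedSemi_iff Q g.1 g.2 1 (hall 1), ← Subtype.coe_eta g g.2]
        have : (⟨1, hall 1⟩ : ↥(compatAut Q)) = 1 := rfl
        rw [this, map_one, mul_one]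
    · rintro _ ⟨σ, rfl⟩
      apply Subgroup.subset_closure
      refine ⟨1, σ.1, ?_, ?_⟩
      · refine ⟨1, fun v => ?_⟩
        rw [Units.val_one, Matrix.one_mulVec, Units.val_one, one_mul]
        exact σ.2 v
      · rw [isInducedSemi_iff Q 1 (Subgroup.one_mem _) σ.1 σ.2]
        have : (⟨1, Subgroup.one_mem _⟩ : ↥(Cfsg.Geo.quadSimilarityGroup (F := F) Q)) = 1 := rfl
        rw [this, map_one, one_mul]

/-- `pgoAut` is normalised by the field automorphisms, hence normal in `gammaPOmega` -/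
theorem autPO_range_normal_of_top (h : (autPO Q).range ⊔ (fieldAutPO Q).range = ⊤) :
    (autPO Q).range.Normal := by
  have hN : Subgroup.normalizer ((autPO Q).range : Set (MulAut (Cfsg.POmega F Q))) = ⊤ := by
    rw [eq_top_iff, ← h]
    apply sup_le
    · exact Subgroup.le_normalizer
    · rintro _ ⟨σ, rfl⟩
      rw [Subgroup.mem_normalizer_iff]
      intro x
      constructor
      · rintro ⟨g, rfl⟩
        rw [fieldAutPO_conj]
        exact ⟨_, rfl⟩
      · intro hx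
        obtain ⟨g, hg⟩ := hx
        have e : x = (fieldAutPO Q σ)⁻¹ * autPO Q g * fieldAutPO Q σ := by
          rw [hg]; group
        have e2 : (fieldAutPO Q σ)⁻¹ * autPO Q g * fieldAutPO Q σ =
            fieldAutPO Q σ⁻¹ * autPO Q g * (fieldAutPO Q σ⁻¹)⁻¹ := by
          rw [map_inv, inv_inv]
        rw [e, e2, fieldAutPO_conj]
        exact ⟨_, rfl⟩
  exact Subgroup.normalizer_eq_top_iff.mp hN

end Cfsg.Agent.Lib.Helper50
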