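import Cfsg.Agent.Lib.Helper50.SingClass
import Cfsg.Agent.Lib.Helper50.FieldAutPO

set_option autoImplicit false

/-! Characteristic-free theory of the two classes of maximal totally singular subspaces of a
`2m`-dimensional quadratic space having a totally singular subspace of dimension `m`: the
similarities preserving the classes are closed under products, the product of two class-swapping
similarities is class-preserving, reflections swap the classes, entrywise field automorphisms
preserve them. -/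

namespace Cfsg.Agent.Lib.Helper50

open Matrix QuadraticMap Module Cfsg.Agent.Lib.Helper19

universe u

variable {F : Type u} [Field F] {ι : Type} [Fintype ι] [DecidableEq ι]

section generic

variable (Q : QuadraticForm F (ι → F))
  (hQ : (QuadraticMap.polarBilin Q).Nondegenerate) (m : ℕ) (hV : Fintype.card ι = 2 * m)

/-- a map on subspaces which respects total singularity, the dimension `m` and the dimensions of
intersections -/
structure ClsMap (T : Submodule F (ι → F) → Submodule F (ι → F)) : Prop where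
  ts : ∀ U : Submodule F (ι → F), TF.TS Q U → finrank F U = m → TF.TS Q (T U)
  dim : ∀ U : Submodule F (ι → F), TF.TS Q U → finrank F U = m → finrank F (T U) = m
  inf : ∀ U W : Submodule F (ι → F), TF.TS Q U → finrank F U = m → TF.TS Q W → finrank F W = m →
    finrank F ↥(T U ⊓ T W) = finrank F ↥(U ⊓ W)

include hQ hV

theorem finrank_inf_le' (U W : Submodule F (ι → F)) (hUd : finrank F U = m) :
    finrank F ↥(U ⊓ W) ≤ m := by
  have := Submodule.finrank_mono (inf_le_left : U ⊓ W ≤ U)
  omega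

/-- the class distance of a class map does not depend on the subspace -/
theorem parity_indep {T : Submodule F (ι → F) → Submodule F (ι → F)} (hT : ClsMap Q m T)
    (U W : Submodule F (ι → F)) (hU : TF.TS Q U) (hUd : finrank F U = m)
    (hW : TF.TS Q W) (hWd : finrank F W = m) :
    Even (m - finrank F ↥(U ⊓ T U)) ↔ Even (m - finrank F ↥(W ⊓ T W)) := by
  have hfr : finrank F (ι → F) = 2 * m := by rw [Module.finrank_fintype_fun_eq_card, hV]
  have hTU := hT.ts U hU hUd
  have hTUd := hT.dim U hU hUd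
  have hTW := hT.ts W hW hWd
  have hTWd := hT.dim W hW hWd
  have e1 := TF.even_triple Q hQ m hfr hU hUd hW hWd hTU hTUd
  have e2 := TF.even_triple Q hQ m hfr hW hWd hTU hTUd hTW hTWd
  have e3 := hT.inf U W hU hUd hW hWd
  rw [e3] at e2
  have l1 := finrank_inf_le' Q hQ m hV U W hUd
  have l2 := finrank_inf_le' Q hQ m hV W (T U) hWd
  have l3 := finrank_inf_le' Q hQ m hV U (T U) hUd
  have l4 := finrank_inf_le' Q hQ m hV W (T W) hWd
  rw [Nat.even_iff] at e1 e2 ⊢
  rw [Nat.even_iff]
  omega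

/-- composite of class maps: class distances add modulo two -/
theorem parity_comp {T S : Submodule F (ι → F) → Submodule F (ι → F)} (hT : ClsMap Q m T)
    (hS : ClsMap Q m S) (U : Submodule F (ι → F)) (hU : TF.TS Q U) (hUd : finrank F U = m) :
    Even (m - finrank F ↥(U ⊓ T (S U))) ↔
      (Even (m - finrank F ↥(U ⊓ T U)) ↔ Even (m - finrank F ↥(U ⊓ S U))) := by
  have hfr : finrank F (ι → F) = 2 * m := by rw [Module.finrank_fintype_fun_eq_card, hV]
  have hSU := hS.ts U hU hUd
  have hSUd := hS.dim U hU hUd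
  have hTU := hT.ts U hU hUd
  have hTUd := hT.dim U hU hUd
  have hTSU := hT.ts _ hSU hSUd
  have hTSUd := hT.dim _ hSU hSUd
  have e1 := TF.even_triple Q hQ m hfr hU hUd hTU hTUd hTSU hTSUd
  have e3 := hT.inf U (S U) hU hUd hSU hSUd
  rw [e3] at e1
  have l1 := finrank_inf_le' Q hQ m hV U (T U) hUd
  have l2 := finrank_inf_le' Q hQ m hV U (S U) hUd
  have l3 := finrank_inf_le' Q hQ m hV U (T (S U)) hUd
  rw [Nat.even_iff] at e1 ⊢
  rw [Nat.even_iff, Nat.even_iff]
  omega

end generic

section similarity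

variable (Q : QuadraticForm F (ι → F))

/-- a similarity is a class map -/
theorem clsMap_gmap (m : ℕ) (G : GL ι F) (μ : F)
    (hG : ∀ v, Q ((G : Matrix ι ι F) *ᵥ v) = μ * Q v) : ClsMap Q m (gmap G) where
  ts := by
    rintro U hU - w ⟨u, hu, rfl⟩
    rw [Matrix.mulVecLin_apply, hG, hU u hu, mul_zero]
  dim := fun U _ hUd => (finrank_gmap G U).trans hUd
  inf := fun U W _ _ _ _ => finrank_gmap_inf G U W

variable (hQ : (QuadraticMap.polarBilin Q).Nondegenerate) (m : ℕ) (hV : Fintype.card ι = 2 * m)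
  (Y : Submodule F (ι → F)) (hY : ∀ y ∈ Y, Q y = 0) (hYd : finrank F Y = m)

include hQ hV hY hYd

/-- a totally singular subspace of dimension `m` is maximal totally singular -/
theorem isMaxTS_of_finrank (U : Submodule F (ι → F)) (hU : ∀ u ∈ U, Q u = 0)
    (hUd : finrank F U = m) : Cfsg.IsMaxTotallySingular (⇑Q) U := by
  have hfr : finrank F (ι → F) = 2 * m := by rw [Module.finrank_fintype_fun_eq_card, hV]
  refine ⟨hU, fun W hW hle => ?_⟩
  symm
  apply Submodule.eq_of_le_of_finrank_le hle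
  rw [hUd]
  exact TF.TS.finrank_le Q hQ m hfr (W := W) hW

/-- the class-preservation predicate of the definitions, tested on one subspace -/
theorem psc_iff_even (G : GL ι F) (μ : F) (hG : ∀ v, Q ((G : Matrix ι ι F) *ᵥ v) = μ * Q v)
    (U : Submodule F (ι → F)) (hU : ∀ u ∈ U, Q u = 0) (hUd : finrank F U = m) :
    Cfsg.PreservesSingularClasses (⇑Q) (G : Matrix ι ι F) ↔
      Even (m - finrank F ↥(U ⊓ gmap G U)) := by
  have hT := clsMap_gmap Q m G μ hG
  constructor
  · intro hP
    have h1 := hP U (isMaxTS_of_finrank Q hQ m hV Y hY hYd U hU hUd)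
    unfold Cfsg.SameParityClass Cfsg.imageSubmodule at h1
    rw [Matrix.toLin'_apply', hUd] at h1
    exact h1
  · intro he W hW
    have hWd := maxTS_finrank Q hQ m hV Y hY hYd W hW
    unfold Cfsg.SameParityClass Cfsg.imageSubmodule
    rw [Matrix.toLin'_apply', hWd]
    exact (parity_indep Q hQ m hV hT U W hU hUd hW.1 hWd).mp he

theorem psc_mul_iff (G H : GL ι F) (μ ν : F)
    (hG : ∀ v, Q ((G : Matrix ι ι F) *ᵥ v) = μ * Q v)
    (hH : ∀ v, Q ((H : Matrix ι ι F) *ᵥ v) = ν * Q v) :
    Cfsg.PreservesSingularClasses (⇑Q) ((G * H : GL ι F) : Matrix ι ι F) ↔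
      (Cfsg.PreservesSingularClasses (⇑Q) (G : Matrix ι ι F) ↔
        Cfsg.PreservesSingularClasses (⇑Q) (H : Matrix ι ι F)) := by
  have hGH : ∀ v, Q (((G * H : GL ι F) : Matrix ι ι F) *ᵥ v) = (μ * ν) * Q v := by
    intro v
    rw [Units.val_mul, ← Matrix.mulVec_mulVec, hG, hH, mul_assoc]
  rw [psc_iff_even Q hQ m hV Y hY hYd (G * H) _ hGH Y hY hYd,
    psc_iff_even Q hQ m hV Y hY hYd G _ hG Y hY hYd,
    psc_iff_even Q hQ m hV Y hY hYd H _ hH Y hY hYd, gmap_mul]
  exact parity_comp Q hQ m hV (clsMap_gmap Q m G μ hG) (clsMap_gmap Q m H ν hH) Y hY hYd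

theorem psc_one : Cfsg.PreservesSingularClasses (⇑Q) ((1 : GL ι F) : Matrix ι ι F) := by
  rw [psc_iff_even Q hQ m hV Y hY hYd 1 1 (fun v => by simp) Y hY hYd, gmap_one, inf_idem, hYd]
  simp

theorem psc_inv_iff (G : GL ι F) (μ : F) (hμ : μ ≠ 0)
    (hG : ∀ v, Q ((G : Matrix ι ι F) *ᵥ v) = μ * Q v) :
    Cfsg.PreservesSingularClasses (⇑Q) ((G⁻¹ : GL ι F) : Matrix ι ι F) ↔
      Cfsg.PreservesSingularClasses (⇑Q) (G : Matrix ι ι F) := by
  have hGinv : ∀ v, Q (((G⁻¹ : GL ι F) : Matrix ι ι F) *ᵥ v) = μ⁻¹ * Q v := by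
    intro v
    have h := hG (((G⁻¹ : GL ι F) : Matrix ι ι F) *ᵥ v)
    rw [Matrix.mulVec_mulVec, ← Units.val_mul, mul_inv_cancel, Units.val_one,
      Matrix.one_mulVec] at h
    rw [h, ← mul_assoc, inv_mul_cancel₀ hμ, one_mul]
  have h1 := psc_mul_iff Q hQ m hV Y hY hYd G G⁻¹ μ μ⁻¹ hG hGinv
  rw [mul_inv_cancel] at h1
  have h2 := psc_one Q hQ m hV Y hY hYd
  exact ((h1.mp h2)).symm

/-- reflections interchange the classes -/
theorem not_psc_reflection (hm : 1 ≤ m) (G : GL ι F) (v : ι → F) (hv : Q v ≠ 0)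
    (hG : (G : Matrix ι ι F) = Cfsg.reflectionMatrix (⇑Q) v) :
    ¬ Cfsg.PreservesSingularClasses (⇑Q) (G : Matrix ι ι F) := by
  have hfr : finrank F (ι → F) = 2 * m := by rw [Module.finrank_fintype_fun_eq_card, hV]
  have hiso : ∀ x, Q ((G : Matrix ι ι F) *ᵥ x) = 1 * Q x := by
    intro x
    rw [hG, reflectionMatrix_mulVec, one_mul, ← reflLin_apply]
    exact reflLin_isometry Q v hv x
  rw [psc_iff_even Q hQ m hV Y hY hYd G 1 hiso Y hY hYd]
  have h1 := TF.finrank_inf_refl Q hQ m hfr (Y := Y) hY hYd v hv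
  have h2 : gmap G Y = Y.map (TF.reflEquiv Q v hv : (ι → F) →ₗ[F] (ι → F)) := by
    unfold gmap
    congr 1
    apply LinearMap.ext
    intro x
    rw [Matrix.mulVecLin_apply, hG, reflectionMatrix_mulVec, LinearEquiv.coe_coe,
      TF.reflEquiv_apply, reflLin_apply]
  rw [h2]
  intro he
  have : m - finrank F ↥(Y ⊓ Y.map (TF.reflEquiv Q v hv : (ι → F) →ₗ[F] (ι → F))) = 1 := by
    omega
  rw [this] at he
  exact Nat.not_even_one he

end similarity

end Cfsg.Agent.Lib.Helper50
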