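import Cfsg.Agent.Lib.Helper50.ClsPar

set_option autoImplicit false

/-! Entrywise field automorphisms and the two classes of maximal totally singular subspaces. -/

namespace Cfsg.Agent.Lib.Helper50

open Matrix QuadraticMap Module Cfsg.Agent.Lib.Helper19

universe u

variable {F : Type u} [Field F] {ι : Type} [Fintype ι] [DecidableEq ι]

/-- entrywise image of a subspace under a field automorphism -/
def smap (σ : RingAut F) (U : Submodule F (ι → F)) : Submodule F (ι → F) where
  carrier := {w | (fun i => σ⁻¹ (w i)) ∈ U}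
  add_mem' := by
    intro a b ha hb
    have : (fun i => σ⁻¹ ((a + b) i)) = (fun i => σ⁻¹ (a i)) + (fun i => σ⁻¹ (b i)) := by
      funext i; simp
    rw [Set.mem_ofPred_eq, this]
    exact U.add_mem ha hb
  zero_mem' := by
    have : (fun i => σ⁻¹ ((0 : ι → F) i)) = 0 := by funext i; simp
    rw [Set.mem_ofPred_eq, this]
    exact U.zero_mem
  smul_mem' := by
    intro c a ha
    have : (fun i => σ⁻¹ ((c • a) i)) = σ⁻¹ c • (fun i => σ⁻¹ (a i)) := by
      funext i; simp
    rw [Set.mem_ofPred_eq, this]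
    exact U.smul_mem _ ha

omit [Fintype ι] [DecidableEq ι] in
theorem mem_smap (σ : RingAut F) (U : Submodule F (ι → F)) (w : ι → F) :
    w ∈ smap σ U ↔ (fun i => σ⁻¹ (w i)) ∈ U := Iff.rfl

omit [Fintype ι] [DecidableEq ι] in
theorem map_mem_smap (σ : RingAut F) (U : Submodule F (ι → F)) {v : ι → F} (hv : v ∈ U) :
    (fun i => σ (v i)) ∈ smap σ U := by
  rw [mem_smap]
  have : (fun i => σ⁻¹ (σ (v i))) = v := by
    funext i; exact RingEquiv.symm_apply_apply σ _
  rw [this]; exact hv

omit [Fintype ι] [DecidableEq ι] in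
theorem smap_inf (σ : RingAut F) (U W : Submodule F (ι → F)) :
    smap σ (U ⊓ W) = smap σ U ⊓ smap σ W := by
  ext w
  simp only [mem_smap, Submodule.mem_inf]

omit [Fintype ι] [DecidableEq ι] in
theorem smap_smap_inv (σ : RingAut F) (U : Submodule F (ι → F)) :
    smap σ (smap σ⁻¹ U) = U := by
  ext w
  rw [mem_smap, mem_smap, inv_inv]
  have : (fun i => σ ((fun i => σ⁻¹ (w i)) i)) = w := by
    funext i; exact RingEquiv.apply_symm_apply σ _
  rw [this]

/-- the underlying bijection -/
def smapEquiv (σ : RingAut F) (U : Submodule F (ι → F)) : ↥U ≃ ↥(smap σ U) where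
  toFun v := ⟨fun i => σ (v.1 i), map_mem_smap σ U v.2⟩
  invFun w := ⟨fun i => σ⁻¹ (w.1 i), w.2⟩
  left_inv v := by
    apply Subtype.ext
    funext i
    exact RingEquiv.symm_apply_apply σ _
  right_inv w := by
    apply Subtype.ext
    funext i
    exact RingEquiv.apply_symm_apply σ _

theorem finrank_smap [Fintype F] (σ : RingAut F) (U : Submodule F (ι → F)) :
    finrank F ↥(smap σ U) = finrank F ↥U := by
  have h1 : Nat.card ↥(smap σ U) = Nat.card ↥U := (Nat.card_congr (smapEquiv σ U)).symm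
  have h2 := Module.natCard_eq_pow_finrank (K := F) (V := ↥U)
  have h3 := Module.natCard_eq_pow_finrank (K := F) (V := ↥(smap σ U))
  rw [h2, h3] at h1
  have hq : 2 ≤ Nat.card F := by
    rw [Nat.card_eq_fintype_card]; exact Fintype.one_lt_card
  exact Nat.pow_right_injective hq h1

section compat

variable (Q : QuadraticForm F (ι → F))

omit [DecidableEq ι] in
theorem ts_smap {σ : RingAut F} (hσ : σ ∈ compatAut ⇑Q) (U : Submodule F (ι → F))
    (hU : TF.TS Q U) : TF.TS Q (smap σ U) := by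
  intro w hw
  rw [mem_smap] at hw
  have h1 := hU _ hw
  have h2 : w = fun i => σ ((fun i => σ⁻¹ (w i)) i) := by
    funext i; exact (RingEquiv.apply_symm_apply σ _).symm
  rw [h2, hσ, h1, map_zero]

/-- an entrywise field automorphism is a class map -/
theorem clsMap_smap [Fintype F] (m : ℕ) {σ : RingAut F} (hσ : σ ∈ compatAut ⇑Q) :
    ClsMap Q m (smap σ) where
  ts := fun U hU _ => ts_smap Q hσ U hU
  dim := fun U _ hUd => (finrank_smap σ U).trans hUd
  inf := fun U W _ _ _ _ => by rw [← smap_inf, finrank_smap]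

omit [Fintype ι] in
theorem gmap_sigmaGL_smap [Fintype ι] (σ : RingAut F) (G : GL ι F) (U : Submodule F (ι → F)) :
    gmap (sigmaGL σ G) (smap σ U) = smap σ (gmap G U) := by
  ext w
  constructor
  · rintro ⟨x, hx, rfl⟩
    rw [mem_smap]
    refine ⟨fun i => σ⁻¹ (x i), hx, ?_⟩
    rw [Matrix.mulVecLin_apply, Matrix.mulVecLin_apply, sigmaGL_val]
    have h1 : x = fun i => σ ((fun i => σ⁻¹ (x i)) i) := by
      funext i; exact (RingEquiv.apply_symm_apply σ _).symm
    conv_rhs => rw [h1, map_mulVec_sigma]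
    funext i
    exact (RingEquiv.symm_apply_apply σ _).symm
  · intro hw
    rw [mem_smap] at hw
    obtain ⟨y, hy, hyw⟩ := hw
    refine ⟨fun i => σ (y i), map_mem_smap σ U hy, ?_⟩
    rw [Matrix.mulVecLin_apply, sigmaGL_val, map_mulVec_sigma]
    rw [Matrix.mulVecLin_apply] at hyw
    rw [hyw]
    funext i
    exact RingEquiv.apply_symm_apply σ _

variable [Fintype F] (hQ : (QuadraticMap.polarBilin Q).Nondegenerate) (m : ℕ)
  (hV : Fintype.card ι = 2 * m)
  (Y : Submodule F (ι → F)) (hY : ∀ y ∈ Y, Q y = 0) (hYd : finrank F Y = m)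

include hQ hV hY hYd

/-- entrywise field automorphisms respect class preservation -/
theorem psc_sigmaGL {σ : RingAut F} (hσ : σ ∈ compatAut ⇑Q) (G : GL ι F) (μ : F)
    (hG : ∀ v, Q ((G : Matrix ι ι F) *ᵥ v) = μ * Q v)
    (hP : Cfsg.PreservesSingularClasses (⇑Q) (G : Matrix ι ι F)) :
    Cfsg.PreservesSingularClasses (⇑Q) ((sigmaGL σ G : GL ι F) : Matrix ι ι F) := by
  have hG' : ∀ v, Q (((sigmaGL σ G : GL ι F) : Matrix ι ι F) *ᵥ v) = σ μ * Q v :=
    sigmaGL_similarity (⇑Q) hσ G μ hG
  have hYσ : TF.TS Q (smap σ Y) := ts_smap Q hσ Y hY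
  have hYσd : finrank F ↥(smap σ Y) = m := (finrank_smap σ Y).trans hYd
  rw [psc_iff_even Q hQ m hV Y hY hYd _ _ hG' (smap σ Y) hYσ hYσd, gmap_sigmaGL_smap,
    ← smap_inf, finrank_smap]
  exact (psc_iff_even Q hQ m hV Y hY hYd G μ hG Y hY hYd).mp hP

/-- an entrywise field automorphism fixing a maximal totally singular subspace preserves the
classes -/
theorem even_smap {σ : RingAut F} (hσ : σ ∈ compatAut ⇑Q) (hfix : smap σ Y = Y)
    (U : Submodule F (ι → F)) (hU : ∀ u ∈ U, Q u = 0) (hUd : finrank F U = m) :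
    Even (m - finrank F ↥(U ⊓ smap σ U)) := by
  rw [parity_indep Q hQ m hV (clsMap_smap Q m hσ) U Y hU hUd hY hYd, hfix, inf_idem, hYd]
  simp

end compat

end Cfsg.Agent.Lib.Helper50
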