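import Cfsg.Agent.Lib.Helper50.GeoBridge
import Cfsg.Agent.Lib.Helper50.DiagPlus
import Cfsg.Agent.Lib.Helper50.OmegaAdjust
import Cfsg.Agent.Lib.Helper43.OmegaParabolic

set_option autoImplicit false

/-! Involutions of `Ω⁺_{2d}(q)`, `q` even, `d` odd, fix a nonsingular vector. -/

namespace Cfsg.Agent.Lib.Helper50

open Matrix QuadraticMap Module Cfsg.Agent.Lib.Helper19

/-- an involutory matrix with `rank (M - 1)` even on a nondegenerate quadratic space of dimension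
`2d`, `d` odd, characteristic two, whose fixed vectors are all singular, does not exist -/
theorem exists_fixed_nonsingular {F : Type*} [Field F] [Fintype F] [CharP F 2] {ι : Type}
    [Fintype ι] [DecidableEq ι] (Q : QuadraticForm F (ι → F))
    (hQ : (polarBilin Q).Nondegenerate) (d : ℕ) (hcard : Fintype.card ι = 2 * d) (hd : Odd d)
    (M : Matrix ι ι F) (hM2 : M * M = 1) (hrank : Even (M - 1).rank) :
    ∃ v, Q v ≠ 0 ∧ M *ᵥ v = v := by
  by_contra hcon
  push_neg at hcon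
  obtain ⟨N, hN⟩ : ∃ N, N = M - 1 := ⟨_, rfl⟩
  rw [← hN] at hrank
  have h2 : ∀ w : ι → F, w + w = 0 := fun w => by
    funext i; exact CharTwo.add_self_eq_zero (w i)
  have hNv : ∀ v, N *ᵥ v = M *ᵥ v - v := by
    intro v; rw [hN, Matrix.sub_mulVec, Matrix.one_mulVec]
  have hNN : ∀ v, N *ᵥ (N *ᵥ v) = 0 := by
    intro v
    rw [hNv, hNv, Matrix.mulVec_sub, Matrix.mulVec_mulVec, hM2, Matrix.one_mulVec]
    have e : v - M *ᵥ v - (M *ᵥ v - v) = (v + v) - (M *ᵥ v + M *ᵥ v) := by abel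
    rw [e, h2, h2, sub_zero]
  have hle : LinearMap.range N.mulVecLin ≤ LinearMap.ker N.mulVecLin := by
    rintro w ⟨v, rfl⟩
    rw [LinearMap.mem_ker, Matrix.mulVecLin_apply, Matrix.mulVecLin_apply]
    exact hNN v
  have hker : ∀ t ∈ LinearMap.ker N.mulVecLin, Q t = 0 := by
    intro t ht
    rw [LinearMap.mem_ker, Matrix.mulVecLin_apply, hNv, sub_eq_zero] at ht
    by_contra h0
    exact hcon t h0 ht
  have h3 := Cfsg.Agent.Lib.Helper43.ts_finrank_le Q hQ _ hker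
  have h4 := LinearMap.finrank_range_add_finrank_ker N.mulVecLin
  rw [Module.finrank_fintype_fun_eq_card, hcard] at h4
  have h5 := Submodule.finrank_mono hle
  have h6 : N.rank = finrank F (LinearMap.range N.mulVecLin) := rfl
  rw [hcard] at h3
  obtain ⟨a, ha⟩ := hrank
  obtain ⟨b, hb⟩ := hd
  omega

/-- involutions of `Ω⁺_{2d}(q)`, `q` even, `d` odd, fix a nonsingular point -/
theorem exists_fixed_point_of_involution_plus {F : Type*} [Field F] [Fintype F] [CharP F 2]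
    (d : ℕ) (hd : Odd d) (hd4 : 3 ≤ d) (x : GL (Fin d ⊕ Fin d) F)
    (hx : x ∈ Cfsg.Geo.omegaGL (Cfsg.quadFormPlus d F))
    (hx2 : ∃ z : F, ((x ^ 2 : GL (Fin d ⊕ Fin d) F) : Matrix (Fin d ⊕ Fin d) (Fin d ⊕ Fin d) F) =
      z • (1 : Matrix (Fin d ⊕ Fin d) (Fin d ⊕ Fin d) F)) :
    ∃ W : Submodule F (Fin d ⊕ Fin d → F),
      (finrank F W = 1 ∧ ∃ v ∈ W, Cfsg.quadFormPlus d F v ≠ 0) ∧
        W.map (Matrix.toLin' (x : Matrix (Fin d ⊕ Fin d) (Fin d ⊕ Fin d) F)) ≤ W := by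
  obtain ⟨hiso, hΩ⟩ := (mem_omegaGL_iff _ x).mp hx
  have h24 : Fintype.card F ≠ 2 ∨ Fintype.card (Fin d ⊕ Fin d) ≠ 4 := by
    right
    rw [Fintype.card_sum, Fintype.card_fin]
    omega
  have hrank : Even ((x : Matrix (Fin d ⊕ Fin d) (Fin d ⊕ Fin d) F) - 1).rank :=
    (mem_Omega_iff_even_rank' (QPlus d F) QPlus_nondegenerate h24 ⟨x, hiso⟩).mp hΩ
  have hisov : ∀ u, QPlus d F ((x : Matrix (Fin d ⊕ Fin d) (Fin d ⊕ Fin d) F) *ᵥ u) =
      QPlus d F u := (mem_isometryGroup_iff _ x).mp hiso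
  obtain ⟨z, hz⟩ := hx2
  rw [pow_two, Units.val_mul] at hz
  obtain ⟨X, hX⟩ : ∃ X : Matrix (Fin d ⊕ Fin d) (Fin d ⊕ Fin d) F,
      X = (x : Matrix (Fin d ⊕ Fin d) (Fin d ⊕ Fin d) F) := ⟨_, rfl⟩
  rw [← hX] at hrank hisov hz ⊢
  have hz1 : z = 1 := by
    have i₀ : Fin d := ⟨0, by omega⟩
    have hv₁ : QPlus d F (Sum.elim (Pi.single i₀ 1) (Pi.single i₀ 1)) = 1 := by
      rw [QPlus_elim]; simp
    have h1 : QPlus d F (X *ᵥ (X *ᵥ (Sum.elim (Pi.single i₀ 1) (Pi.single i₀ 1)))) = 1 := by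
      exact ((hisov _).trans (hisov _)).trans hv₁
    rw [Matrix.mulVec_mulVec, hz, Matrix.smul_mulVec, Matrix.one_mulVec,
      QuadraticMap.map_smul, hv₁, smul_eq_mul, mul_one] at h1
    have h2 : (z + 1) * (z + 1) = 0 := by
      have : (z + 1) * (z + 1) = z * z + (z + z) + 1 := by ring
      rw [this, h1, CharTwo.add_self_eq_zero, add_zero, CharTwo.add_self_eq_zero]
    have h3 : z + 1 = 0 := mul_self_eq_zero.mp h2
    calc z = z + 1 + 1 := by rw [add_assoc, CharTwo.add_self_eq_zero, add_zero]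
      _ = 1 := by rw [h3, zero_add]
  rw [hz1, one_smul] at hz
  have hcard : Fintype.card (Fin d ⊕ Fin d) = 2 * d := by
    rw [Fintype.card_sum, Fintype.card_fin]; ring
  obtain ⟨v, hv, hfix⟩ := exists_fixed_nonsingular (QPlus d F) QPlus_nondegenerate d
    hcard hd X hz hrank
  have hv0 : v ≠ 0 := by
    rintro rfl
    exact hv (map_zero _)
  refine ⟨Submodule.span F {v}, ⟨finrank_span_singleton hv0,
    v, Submodule.mem_span_singleton_self v, hv⟩, ?_⟩
  rw [Submodule.map_span, Set.image_singleton, Matrix.toLin'_apply, hfix]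

end Cfsg.Agent.Lib.Helper50
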