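import Cfsg.Agent.Lib.Helper50.ElusiveInv

set_option autoImplicit false

/-! For an odd prime `r` dividing `q ^ d - 1`, an element of order `r` of `Ω⁺_{2d}(q)`, `q` even,
all of whose eigenvectors are singular. -/

namespace Cfsg.Agent.Lib.Helper50

open Matrix QuadraticMap Module Cfsg.Agent.Lib.Helper19

theorem exists_bad_odd_element_plus {F : Type*} [Field F] [Fintype F] [CharP F 2] (d : ℕ)
    (hd3 : 3 ≤ d) (r : ℕ) (hr : r.Prime) (hr2 : r ≠ 2) (hdiv : r ∣ Fintype.card F ^ d - 1) :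
    ∃ x : GL (Fin d ⊕ Fin d) F, x ∈ Cfsg.Geo.omegaGL (Cfsg.quadFormPlus d F) ∧
      ((x ^ r : GL (Fin d ⊕ Fin d) F) : Matrix (Fin d ⊕ Fin d) (Fin d ⊕ Fin d) F) = 1 ∧
      ∀ (v : Fin d ⊕ Fin d → F) (c : F),
        (x : Matrix (Fin d ⊕ Fin d) (Fin d ⊕ Fin d) F) *ᵥ v = c • v →
          Cfsg.quadFormPlus d F v = 0 := by
  classical
  have : NeZero d := ⟨by omega⟩
  have : Fact (Nat.Prime 2) := ⟨Nat.prime_two⟩
  have : Fact r.Prime := ⟨hr⟩
  have : Fintype (FiniteField.Extension F 2 d) := Fintype.ofFinite _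
  have hKcard : Fintype.card (FiniteField.Extension F 2 d)ˣ = Fintype.card F ^ d - 1 := by
    rw [Fintype.card_units, ← Nat.card_eq_fintype_card, FiniteField.natCard_extension,
      Nat.card_eq_fintype_card]
  obtain ⟨ζ, hζ⟩ := exists_prime_orderOf_dvd_card r (hKcard ▸ hdiv)
  obtain ⟨b⟩ : Nonempty (Basis (Fin d) F (FiniteField.Extension F 2 d)) :=
    ⟨Module.finBasisOfFinrankEq F _ (FiniteField.finrank_extension F 2 d)⟩
  obtain ⟨φ, hφ⟩ : ∃ φ : FiniteField.Extension F 2 d →ₐ[F] Matrix (Fin d) (Fin d) F,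
      φ = Algebra.leftMulMatrix b := ⟨_, rfl⟩
  obtain ⟨G, hG⟩ : ∃ G : GL (Fin d) F, G = Units.map (φ : _ →* Matrix (Fin d) (Fin d) F) ζ :=
    ⟨_, rfl⟩
  have hGval : (G : Matrix (Fin d) (Fin d) F) = φ (ζ : FiniteField.Extension F 2 d) := by
    rw [hG]; rfl
  have hGr : G ^ r = 1 := by
    rw [hG, ← map_pow, ← hζ, pow_orderOf_eq_one, map_one]
  have h24 : Fintype.card F ≠ 2 ∨ Fintype.card (Fin d ⊕ Fin d) ≠ 4 := by
    right
    rw [Fintype.card_sum, Fintype.card_fin]
    omega
  let Dhom : GL (Fin d) F →* ↥(Cfsg.isometryGroup F (⇑(QPlus d F))) :=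
    MonoidHom.mk' diagPlusO diagPlusO_mul
  have hxr : Dhom G ^ r = 1 := by rw [← map_pow, hGr, map_one]
  have hΩ : Dhom G ∈ Cfsg.Omega F (⇑(QPlus d F)) := by
    obtain ⟨k, hk⟩ := hr.odd_of_ne_two hr2
    have : Dhom G = Dhom G ^ (k + 1) * Dhom G ^ (k + 1) := by
      rw [← pow_add]
      have e : k + 1 + (k + 1) = r + 1 := by omega
      rw [e, pow_succ, hxr, one_mul]
    rw [this]
    exact mul_self_mem_Omega (QPlus d F) QPlus_nondegenerate h24 _
  refine ⟨(Dhom G : GL (Fin d ⊕ Fin d) F), coe_mem_omegaGL _ _ hΩ, ?_, ?_⟩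
  · rw [← Subgroup.coe_pow, hxr]
    rfl
  · intro v c hv
    have hval : ((Dhom G : GL (Fin d ⊕ Fin d) F) : Matrix (Fin d ⊕ Fin d) (Fin d ⊕ Fin d) F) =
        Matrix.fromBlocks (G : Matrix (Fin d) (Fin d) F) 0 0
          ((G⁻¹ : GL (Fin d) F) : Matrix (Fin d) (Fin d) F)ᵀ := diagPlusO_val G
    rw [hval] at hv
    obtain ⟨a, b', rfl⟩ : ∃ a b', v = Sum.elim a b' :=
      ⟨v ∘ Sum.inl, v ∘ Sum.inr, by funext i; cases i <;> rfl⟩
    rw [Matrix.fromBlocks_mulVec] at hv
    have hva : (G : Matrix (Fin d) (Fin d) F) *ᵥ a = c • a := by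
      funext i
      simpa using congrFun hv (Sum.inl i)
    have hvb : ((G⁻¹ : GL (Fin d) F) : Matrix (Fin d) (Fin d) F)ᵀ *ᵥ b' = c • b' := by
      funext i
      simpa using congrFun hv (Sum.inr i)
    show QPlus d F (Sum.elim a b') = 0
    rw [QPlus_elim]
    by_contra hne
    have ha : a ≠ 0 := by
      rintro rfl
      exact hne (zero_dotProduct _)
    have hb : b' ≠ 0 := by
      rintro rfl
      exact hne (dotProduct_zero _)
    -- `ζ` is the scalar `c`
    have hζc : (ζ : FiniteField.Extension F 2 d) = algebraMap F _ c := by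
      obtain ⟨α, hα⟩ : ∃ α : FiniteField.Extension F 2 d, (b.repr α : Fin d → F) = a :=
        ⟨b.equivFun.symm a, by rw [← Basis.equivFun_apply, LinearEquiv.apply_symm_apply]⟩
      have hα0 : α ≠ 0 := by
        rintro rfl
        apply ha
        rw [← hα]
        simp
      have h1 : (b.repr ((ζ : FiniteField.Extension F 2 d) * α) : Fin d → F) =
          (b.repr (c • α) : Fin d → F) := by
        rw [← Algebra.leftMulMatrix_mulVec_repr, ← hφ, ← hGval, hα, hva, ← hα]
        simp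
      have h2 : (ζ : FiniteField.Extension F 2 d) * α = c • α := by
        apply b.repr.injective
        exact DFunLike.coe_injective h1
      rw [Algebra.smul_def] at h2
      exact mul_right_cancel₀ hα0 h2
    have hc0 : c ≠ 0 := by
      rintro rfl
      rw [map_zero] at hζc
      exact ζ.ne_zero hζc
    have hGc : (G : Matrix (Fin d) (Fin d) F) = c • (1 : Matrix (Fin d) (Fin d) F) := by
      rw [hGval, hζc, AlgHom.commutes, Algebra.algebraMap_eq_smul_one]
    have hGinv : ((G⁻¹ : GL (Fin d) F) : Matrix (Fin d) (Fin d) F) =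
        c⁻¹ • (1 : Matrix (Fin d) (Fin d) F) := by
      have h1 : (G : Matrix (Fin d) (Fin d) F) * ((G⁻¹ : GL (Fin d) F) : Matrix (Fin d) (Fin d) F) =
          1 := by rw [← Units.val_mul, mul_inv_cancel, Units.val_one]
      rw [hGc, Matrix.smul_mul, Matrix.one_mul] at h1
      rw [← h1, smul_smul, inv_mul_cancel₀ hc0, one_smul]
    rw [hGinv, Matrix.transpose_smul, Matrix.transpose_one, Matrix.smul_mulVec,
      Matrix.one_mulVec] at hvb
    obtain ⟨i, hi⟩ : ∃ i, b' i ≠ 0 := by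
      by_contra hcon
      push_neg at hcon
      exact hb (funext hcon)
    have hcc : c⁻¹ = c := by
      have := congrFun hvb i
      simp only [Pi.smul_apply, smul_eq_mul] at this
      exact mul_right_cancel₀ hi this
    have hc1 : c = 1 := by
      have h1 : c * c = 1 := by
        nth_rewrite 1 [← hcc]
        exact inv_mul_cancel₀ hc0
      have h2 : (c + 1) * (c + 1) = 0 := by
        have : (c + 1) * (c + 1) = c * c + (c + c) + 1 := by ring
        rw [this, h1, CharTwo.add_self_eq_zero, add_zero, CharTwo.add_self_eq_zero]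
      have h3 : c + 1 = 0 := mul_self_eq_zero.mp h2
      calc c = c + 1 + 1 := by rw [add_assoc, CharTwo.add_self_eq_zero, add_zero]
        _ = 1 := by rw [h3, zero_add]
    rw [hc1, map_one] at hζc
    have hζ1 : ζ = 1 := Units.ext hζc
    rw [hζ1, orderOf_one] at hζ
    exact hr.one_lt.ne' hζ.symm

end Cfsg.Agent.Lib.Helper50
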