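import Cfsg.Agent.Lib.Helper44.ExtraRank
import Cfsg.Agent.Lib.Helper38.Extraspecial
import Cfsg.Agent.Lib.Helper19.QuadMat
import Cfsg.Prelude.Def_KGroupFacts

set_option autoImplicit false

/-! Automorphisms of the extraspecial group `CExt N`: the induced action on `F₂^κ` is by
isometries of `x ↦ x N xᵀ`, every isometry arises, and the kernel is the inner automorphisms. -/

namespace Cfsg.Agent.Lib.Helper50

open Matrix Cfsg.Agent.Lib.Helper44 Cfsg.Agent.Lib.Helper44.CExt

variable {κ : Type} [Fintype κ] [DecidableEq κ] (N : Matrix κ κ (ZMod 2))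

theorem zmod2_cases (t : ZMod 2) : t = 0 ∨ t = 1 := by
  revert t; decide

theorem cext_mul_central (b : CExt N) (t : ZMod 2) : b * ⟨0, t⟩ = ⟨b.v, b.c + t⟩ := by
  ext : 1
  · simp
  · simp

/-- automorphisms fix the centre pointwise -/
theorem aut_central [Nonempty κ] (hdet : (N + Nᵀ).det ≠ 0) (α : MulAut (CExt N)) (t : ZMod 2) :
    α ⟨0, t⟩ = ⟨0, t⟩ := by
  have hc : ∀ a : CExt N, a ∈ Subgroup.center (CExt N) → α a ∈ Subgroup.center (CExt N) := by
    intro a ha
    rw [Subgroup.mem_center_iff] at ha ⊢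
    intro b
    have h1 := ha (α.symm b)
    have h2 := congrArg α h1
    rw [map_mul, map_mul, MulEquiv.apply_symm_apply] at h2
    exact h2
  have hz : (⟨0, t⟩ : CExt N) ∈ Subgroup.center (CExt N) := by
    rw [center_eq N hdet, mem_zsub]
  have h1 := hc _ hz
  rw [center_eq N hdet, mem_zsub] at h1
  rcases zmod2_cases t with rfl | rfl
  · exact map_one α
  · ext : 1
    · exact h1
    · rcases zmod2_cases (α ⟨0, 1⟩).c with h | h
      · exfalso
        have h2 : α ⟨0, 1⟩ = 1 := by
          ext : 1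
          · exact h1
          · exact h
        have h3 : (⟨0, 1⟩ : CExt N) = 1 := by
          apply α.injective
          rw [h2, map_one]
        have := congrArg CExt.c h3
        simp at this
      · exact h

theorem aut_v [Nonempty κ] (hdet : (N + Nᵀ).det ≠ 0) (α : MulAut (CExt N)) (a b : CExt N)
    (h : a.v = b.v) : (α a).v = (α b).v := by
  have h1 : a = b * ⟨0, a.c + b.c⟩ := by
    rw [cext_mul_central]
    ext : 1
    · exact h
    · show a.c = b.c + (a.c + b.c)
      linear_combination (-b.c) * two_eq_zero'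
  rw [h1, map_mul, aut_central N hdet]
  simp

/-- the additive map induced on the vector part -/
def autAdd [Nonempty κ] (hdet : (N + Nᵀ).det ≠ 0) (α : MulAut (CExt N)) :
    (κ → ZMod 2) →+ (κ → ZMod 2) where
  toFun v := (α ⟨v, 0⟩).v
  map_zero' := by
    show (α 1).v = 0
    rw [map_one]; rfl
  map_add' v w := by
    have h1 : (α ⟨v + w, 0⟩).v = (α (⟨v, 0⟩ * ⟨w, 0⟩)).v := aut_v N hdet α _ _ rfl
    rw [h1, map_mul]
    rfl

theorem autAdd_apply [Nonempty κ] (hdet : (N + Nᵀ).det ≠ 0) (α : MulAut (CExt N)) (a : CExt N) :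
    autAdd N hdet α a.v = (α a).v := aut_v N hdet α _ _ rfl

/-- the matrix of an automorphism -/
noncomputable def autMat [Nonempty κ] (hdet : (N + Nᵀ).det ≠ 0) :
    MulAut (CExt N) →* Matrix κ κ (ZMod 2) where
  toFun α := LinearMap.toMatrix' ((autAdd N hdet α).toZModLinearMap 2)
  map_one' := by
    rw [← LinearMap.toMatrix'_id]
    congr 1
  map_mul' α β := by
    rw [← LinearMap.toMatrix'_comp]
    congr 1
    apply LinearMap.ext
    intro v
    show autAdd N hdet (α * β) v = autAdd N hdet α (autAdd N hdet β v)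
    have h1 : autAdd N hdet β v = (β ⟨v, 0⟩).v := rfl
    rw [h1, autAdd_apply]
    rfl

theorem autMat_mulVec [Nonempty κ] (hdet : (N + Nᵀ).det ≠ 0) (α : MulAut (CExt N))
    (v : κ → ZMod 2) : autMat N hdet α *ᵥ v = (α ⟨v, 0⟩).v := by
  show LinearMap.toMatrix' _ *ᵥ v = _
  rw [LinearMap.toMatrix'_mulVec]
  rfl

theorem autMat_isometry [Nonempty κ] (hdet : (N + Nᵀ).det ≠ 0) (α : MulAut (CExt N))
    (v : κ → ZMod 2) : bf N (autMat N hdet α *ᵥ v) (autMat N hdet α *ᵥ v) = bf N v v := by
  rw [autMat_mulVec]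
  have h1 : α (⟨v, 0⟩ * ⟨v, 0⟩) = α ⟨v, 0⟩ * α ⟨v, 0⟩ := map_mul α _ _
  rw [sq_eq, sq_eq, aut_central N hdet] at h1
  exact (congrArg CExt.c h1).symm

/-- the homomorphism `Aut (CExt N) → O(Q_N)` -/
noncomputable def autHom [Nonempty κ] (hdet : (N + Nᵀ).det ≠ 0) :
    MulAut (CExt N) →* ↥(Cfsg.isometryGroup (ZMod 2) (fun x : κ → ZMod 2 => bf N x x)) :=
  (autMat N hdet).toHomUnits.codRestrict _ (fun α => by
    rw [Cfsg.Agent.Lib.Helper19.mem_isometryGroup_iff]
    intro u
    rw [MonoidHom.coe_toHomUnits]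
    exact autMat_isometry N hdet α u)

theorem autHom_val [Nonempty κ] (hdet : (N + Nᵀ).det ≠ 0) (α : MulAut (CExt N)) :
    ((autHom N hdet α : GL κ (ZMod 2)) : Matrix κ κ (ZMod 2)) = autMat N hdet α := rfl

theorem autHom_ker [Nonempty κ] (hdet : (N + Nᵀ).det ≠ 0) :
    (autHom N hdet).ker = Cfsg.Inn (CExt N) := by
  ext α
  rw [MonoidHom.mem_ker]
  constructor
  · intro h
    have h1 : autMat N hdet α = 1 := by
      rw [← autHom_val, h]; rfl
    have h2 : ∀ a : CExt N, (α a).v = a.v := by
      intro a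
      have e1 := autMat_mulVec N hdet α a.v
      rw [h1, Matrix.one_mulVec] at e1
      calc (α a).v = (α ⟨a.v, 0⟩).v := aut_v N hdet α a ⟨a.v, 0⟩ rfl
        _ = a.v := e1.symm
    have hcomm : commutator (CExt N) ≤ Subgroup.center (CExt N) := by
      rw [center_eq N hdet]; exact commutator_le_zsub N
    have hcard : Nat.card (Subgroup.center (CExt N)) = 2 := by
      rw [center_eq N hdet]; exact card_zsub N
    obtain ⟨q, hq⟩ := Cfsg.Agent.Lib.Helper38.exists_inner_of_central_aut hcomm hcard α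
      (fun y => by
        rw [center_eq N hdet, mem_zsub]
        simp only [mul_v, inv_v, h2]
        exact vadd_self _)
      (fun c hc => by
        rw [center_eq N hdet, mem_zsub] at hc
        have : c = ⟨0, c.c⟩ := by
          ext : 1
          · exact hc
          · rfl
        rw [this, aut_central N hdet])
    refine ⟨q, ?_⟩
    apply MulEquiv.ext
    intro y
    rw [hq y]
    rfl
  · rintro ⟨q, rfl⟩
    apply Subtype.ext
    apply Units.ext
    rw [autHom_val]
    show autMat N hdet (MulAut.conj q) = 1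
    apply Matrix.toLin'.injective
    apply LinearMap.ext
    intro v
    rw [Matrix.toLin'_apply, autMat_mulVec, Matrix.toLin'_one]
    show (q * ⟨v, 0⟩ * q⁻¹).v = v
    simp only [mul_v, inv_v]
    rw [add_comm q.v, add_assoc, vadd_self, add_zero]

end Cfsg.Agent.Lib.Helper50
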