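import Cfsg.Agent.Lib.Helper50.ExtraOutA

set_option autoImplicit false
set_option linter.unusedSectionVars false

/-! Every isometry of `x ↦ x N xᵀ` lifts to an automorphism of `CExt N`; hence
`Out (CExt N) ≃* O(Q_N)`. -/

namespace Cfsg.Agent.Lib.Helper50

open Matrix Cfsg.Agent.Lib.Helper44 Cfsg.Agent.Lib.Helper44.CExt

variable {κ : Type} [Fintype κ] [DecidableEq κ] (N : Matrix κ κ (ZMod 2))

theorem bf_transpose (x y : κ → ZMod 2) : bf Nᵀ x y = bf N y x := by
  simp only [bf]
  rw [Matrix.mulVec_transpose, Matrix.dotProduct_mulVec y N x, dotProduct_comm]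

theorem bf_add_mat (A B : Matrix κ κ (ZMod 2)) (x y : κ → ZMod 2) :
    bf (A + B) x y = bf A x y + bf B x y := by
  simp only [bf, Matrix.add_mulVec, dotProduct_add]

theorem bf_conj (G : Matrix κ κ (ZMod 2)) (x y : κ → ZMod 2) :
    bf (Gᵀ * N * G) x y = bf N (G *ᵥ x) (G *ᵥ y) := by
  simp only [bf]
  rw [← Matrix.mulVec_mulVec, ← Matrix.mulVec_mulVec, Matrix.dotProduct_mulVec x Gᵀ,
    Matrix.vecMul_transpose]

theorem bf_single (D : Matrix κ κ (ZMod 2)) (i j : κ) :
    bf D (Pi.single i 1) (Pi.single j 1) = D i j := by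
  simp [bf]

theorem exists_quadratic_of_alternating (D : Matrix κ κ (ZMod 2)) (hD : ∀ v, bf D v v = 0) :
    ∃ γ : (κ → ZMod 2) → ZMod 2, ∀ v w, γ (v + w) = γ v + γ w + bf D v w := by
  have hDii : ∀ i, D i i = 0 := by
    intro i
    rw [← bf_single D i i]
    exact hD _
  have hDsymm : ∀ i j, D i j = D j i := by
    intro i j
    have h := hD (Pi.single i 1 + Pi.single j 1)
    rw [bf_add_left, bf_add_right, bf_add_right, bf_single, bf_single, bf_single, bf_single,
      hDii, hDii] at h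
    linear_combination h - (D j i) * two_eq_zero'
  let e := Fintype.equivFin κ
  let U : Matrix κ κ (ZMod 2) := Matrix.of fun i j => if e i < e j then D i j else 0
  have hU : U + Uᵀ = D := by
    ext i j
    simp only [Matrix.add_apply, Matrix.transpose_apply, U, Matrix.of_apply]
    rcases lt_trichotomy (e i) (e j) with h | h | h
    · rw [if_pos h, if_neg (not_lt.mpr h.le), add_zero]
    · have hij : i = j := e.injective h
      subst hij
      rw [if_neg (lt_irrefl _), add_zero, hDii]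
    · rw [if_neg (not_lt.mpr h.le), if_pos h, zero_add, hDsymm]
  refine ⟨fun v => bf U v v, fun v w => ?_⟩
  show bf U (v + w) (v + w) = bf U v v + bf U w w + bf D v w
  rw [← hU, bf_add_mat, bf_transpose, bf_add_left, bf_add_right, bf_add_right]
  ring

theorem autHom_surjective [Nonempty κ] (hdet : (N + Nᵀ).det ≠ 0) :
    Function.Surjective (autHom N hdet) := by
  rintro ⟨g, hg⟩
  have hiso : ∀ u, bf N ((g : Matrix κ κ (ZMod 2)) *ᵥ u) ((g : Matrix κ κ (ZMod 2)) *ᵥ u) =
      bf N u u := (Cfsg.Agent.Lib.Helper19.mem_isometryGroup_iff _ g).mp hg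
  obtain ⟨G, hG⟩ : ∃ G : Matrix κ κ (ZMod 2), G = (g : Matrix κ κ (ZMod 2)) := ⟨_, rfl⟩
  rw [← hG] at hiso
  have hD : ∀ v, bf (Gᵀ * N * G + N) v v = 0 := by
    intro v
    rw [bf_add_mat, bf_conj, hiso]
    exact CharTwo.add_self_eq_zero _
  obtain ⟨γ, hγ⟩ := exists_quadratic_of_alternating _ hD
  let f : CExt N → CExt N := fun a => ⟨G *ᵥ a.v, a.c + γ a.v⟩
  have hmul : ∀ a b, f (a * b) = f a * f b := by
    intro a b
    ext : 1
    · show G *ᵥ (a.v + b.v) = G *ᵥ a.v + G *ᵥ b.v
      rw [Matrix.mulVec_add]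
    · show a.c + b.c + bf N a.v b.v + γ (a.v + b.v) =
        a.c + γ a.v + (b.c + γ b.v) + bf N (G *ᵥ a.v) (G *ᵥ b.v)
      rw [hγ, bf_add_mat, bf_conj]
      linear_combination (bf N a.v b.v) * two_eq_zero'
  have hinj : Function.Injective f := by
    intro a b hab
    have h1 : G *ᵥ a.v = G *ᵥ b.v := congrArg CExt.v hab
    have h2 : a.v = b.v := by
      have := congrArg (fun u => ((g⁻¹ : GL κ (ZMod 2)) : Matrix κ κ (ZMod 2)) *ᵥ u) h1
      simp only [hG, Matrix.mulVec_mulVec, ← Units.val_mul, inv_mul_cancel, Units.val_one,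
        Matrix.one_mulVec] at this
      exact this
    have h3 : a.c + γ a.v = b.c + γ b.v := congrArg CExt.c hab
    ext : 1
    · exact h2
    · rw [h2] at h3
      exact add_right_cancel h3
  let α : MulAut (CExt N) := MulEquiv.ofBijective (MonoidHom.mk' f hmul)
    ⟨hinj, Finite.surjective_of_injective hinj⟩
  refine ⟨α, ?_⟩
  apply Subtype.ext
  apply Units.ext
  rw [autHom_val]
  show autMat N hdet α = (g : Matrix κ κ (ZMod 2))
  apply Matrix.toLin'.injective
  apply LinearMap.ext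
  intro v
  rw [Matrix.toLin'_apply, autMat_mulVec, Matrix.toLin'_apply, ← hG]
  rfl

/-- `Out (CExt N) ≃* O(Q_N)` -/
theorem nonempty_out_equiv [Nonempty κ] (hdet : (N + Nᵀ).det ≠ 0) :
    Nonempty (Cfsg.Out (CExt N) ≃*
      ↥(Cfsg.isometryGroup (ZMod 2) (fun x : κ → ZMod 2 => bf N x x))) :=
  ⟨(QuotientGroup.quotientMulEquivOfEq (autHom_ker N hdet).symm).trans
    (QuotientGroup.quotientKerEquivOfSurjective (autHom N hdet) (autHom_surjective N hdet))⟩

/-- outer automorphism groups of isomorphic groups -/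
theorem nonempty_out_congr {G G' : Type*} [Group G] [Group G'] (e : G ≃* G') :
    Nonempty (Cfsg.Out G ≃* Cfsg.Out G') := by
  have h : (Cfsg.Inn G).map (MulAut.congr e).toMonoidHom = Cfsg.Inn G' := by
    ext β
    constructor
    · rintro ⟨_, ⟨g, rfl⟩, rfl⟩
      refine ⟨e g, ?_⟩
      apply MulEquiv.ext
      intro x
      simp [MulAut.congr]
    · rintro ⟨g', rfl⟩
      refine ⟨MulAut.conj (e.symm g'), ⟨_, rfl⟩, ?_⟩
      apply MulEquiv.ext
      intro x
      simp [MulAut.congr]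
  exact ⟨QuotientGroup.congr _ _ (MulAut.congr e) h⟩

end Cfsg.Agent.Lib.Helper50
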