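import Cfsg.Agent.Lib.Helper50.ExtraOutB
import Cfsg.Agent.Lib.Helper50.MinusParam
import Cfsg.Agent.Lib.Helper32.XSRank
import Cfsg.Agent.Lib.Helper52.Extraspecial

set_option autoImplicit false
set_option linter.unusedSectionVars false

/-! The outer automorphism group of an extraspecial 2-group is the full orthogonal group. -/

namespace Cfsg.Agent.Lib.Helper50

open Matrix Cfsg.Agent.Lib.Helper44 Cfsg.Agent.Lib.Helper44.CExt

variable {κ : Type} [Fintype κ] [DecidableEq κ] (N : Matrix κ κ (ZMod 2))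

theorem card_sq_cext :
    Nat.card {a : CExt N // a ^ 2 = 1} = 2 * Nat.card {v : κ → ZMod 2 // bf N v v = 0} := by
  have hiff : ∀ a : CExt N, a ^ 2 = 1 ↔ bf N a.v a.v = 0 := by
    intro a
    rw [pow_two, sq_eq]
    constructor
    · intro h
      exact congrArg CExt.c h
    · intro h
      ext : 1
      · rfl
      · exact h
  have e : {a : CExt N // a ^ 2 = 1} ≃ {v : κ → ZMod 2 // bf N v v = 0} × ZMod 2 :=
    { toFun := fun a => (⟨a.1.v, (hiff a.1).mp a.2⟩, a.1.c)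
      invFun := fun p => ⟨⟨p.1.1, p.2⟩, (hiff _).mpr p.1.2⟩
      left_inv := fun a => rfl
      right_inv := fun p => rfl }
  rw [Nat.card_congr e, Nat.card_prod, mul_comm]
  simp

theorem card_sq_plus (n : ℕ) (hn : 1 ≤ n) :
    Nat.card {a : CExt (Nplus n) // a ^ 2 = 1} = 2 ^ (2 * n) + 2 ^ n := by
  rw [card_sq_cext]
  have h1 : Nat.card {v : Fin n ⊕ Fin n → ZMod 2 // bf (Nplus n) v v = 0} =
      Nat.card {v : Fin n ⊕ Fin n → ZMod 2 // Cfsg.quadFormPlus n (ZMod 2) v = 0} := by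
    apply Nat.card_congr
    apply Equiv.subtypeEquivRight
    intro v
    rw [← Nplus_form]
    rfl
  rw [h1, card_zeros_plus, ZMod.card]
  obtain ⟨k, rfl⟩ : ∃ k, n = k + 1 := ⟨n - 1, by omega⟩
  have h2 : 1 ≤ 2 ^ (k + 1) := Nat.one_le_pow _ _ (by norm_num)
  simp only [Nat.add_sub_cancel]
  zify [h2]
  ring

theorem card_sq_minus (m : ℕ) :
    Nat.card {a : CExt (Nminus m) // a ^ 2 = 1} + 2 ^ (m + 1) = 2 ^ (2 * (m + 1)) := by
  rw [card_sq_cext]
  have h1 : Nat.card {v : (Fin m ⊕ Fin m) ⊕ Fin 2 → ZMod 2 // bf (Nminus m) v v = 0} =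
      Nat.card {v : (Fin m ⊕ Fin m) ⊕ Fin 2 → ZMod 2 //
        Cfsg.quadFormMinus m (ZMod 2) 1 1 v = 0} := by
    apply Nat.card_congr
    apply Equiv.subtypeEquivRight
    intro v
    rw [← Nminus_form]
    rfl
  rw [h1]
  have h2 := card_zeros_minus (F := ZMod 2) m 1 1 (by decide)
  rw [ZMod.card] at h2
  have e1 : 2 ^ (2 * m + 1) = 2 * 2 ^ (2 * m) := by ring
  have e2 : 2 ^ (2 * (m + 1)) = 4 * 2 ^ (2 * m) := by ring
  have e3 : 2 ^ (m + 1) = 2 * 2 ^ m := by ring
  rw [e1, e3] at h2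
  rw [e2, e3]
  omega

theorem out_extraspecial {E : Type*} [Group E] [Finite E] (hE : Cfsg.IsExtraspecial 2 E) (n : ℕ)
    (hn : 1 ≤ n) (hcard : Nat.card E = 2 ^ (2 * n + 1)) :
    ((∃ A : Subgroup E, Cfsg.IsElementaryAbelian 2 A ∧ Nat.card ↥A = 2 ^ (n + 1)) →
      Nonempty (Cfsg.Out E ≃*
        Cfsg.isometryGroup (ZMod 2) (Cfsg.quadFormPlus n (ZMod 2)))) ∧
    ((¬ ∃ A : Subgroup E, Cfsg.IsElementaryAbelian 2 A ∧ Nat.card ↥A = 2 ^ (n + 1)) →
      Nonempty (Cfsg.Out E ≃*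
        Cfsg.isometryGroup (ZMod 2) (Cfsg.quadFormMinus (n - 1) (ZMod 2) 1 1))) := by
  constructor
  · rintro ⟨A, hA, hAc⟩
    have hcount := (Cfsg.Agent.Lib.Helper52.card_sq_eq_one_of_extraspecial_plus n hE hcard A hA
      hAc).1
    have : Nonempty (Fin n ⊕ Fin n) := ⟨Sum.inl ⟨0, by omega⟩⟩
    have hM := CExt.isExtraspecial (Nplus n) (Nplus_det n)
    have hMc : Nat.card (CExt (Nplus n)) = 2 ^ (2 * n + 1) := by
      rw [CExt.card_eq, Fintype.card_sum, Fintype.card_fin, two_mul]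
    obtain ⟨e⟩ := Cfsg.Agent.Lib.Helper32.extraspecial_two_iso hE hM (hcard.trans hMc.symm)
      (hcount.trans (card_sq_plus n hn).symm)
    obtain ⟨e1⟩ := nonempty_out_congr e
    obtain ⟨e2⟩ := nonempty_out_equiv (Nplus n) (Nplus_det n)
    have hfun : (fun x : Fin n ⊕ Fin n → ZMod 2 => bf (Nplus n) x x) =
        Cfsg.quadFormPlus n (ZMod 2) := by
      funext x
      rw [← Nplus_form]
      rfl
    rw [hfun] at e2
    exact ⟨e1.trans e2⟩
  · intro hno
    obtain ⟨m, -, hm, hcount⟩ := Cfsg.Agent.Lib.Helper32.extraspecial_two_card_count hE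
    have hmn : m = n := by
      rw [hcard] at hm
      have := Nat.pow_right_injective (le_refl 2) hm
      omega
    subst hmn
    have hcount' : Nat.card {x : E // x ^ 2 = 1} + 2 ^ m = 2 ^ (2 * m) := by
      rcases hcount with h | h
      · exfalso
        obtain ⟨A, hA1, hA2, hA3⟩ := Cfsg.Agent.Lib.Helper32.extraspecial_two_exists_elemAb hE
        rw [h, hcard] at hA3
        have e1 : 2 ^ (2 * m + 1) = 2 * 2 ^ (2 * m) := by ring
        rw [e1] at hA3
        rcases hA3 with h3 | h3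
        · apply hno
          refine ⟨A, ⟨hA1, hA2⟩, ?_⟩
          have e2 : 2 ^ (m + 1) = 2 * 2 ^ m := by ring
          rw [e2]
          omega
        · have : 0 < 2 ^ m := by positivity
          omega
      · exact h
    obtain ⟨k, rfl⟩ : ∃ k, m = k + 1 := ⟨m - 1, by omega⟩
    show Nonempty (Cfsg.Out E ≃*
      Cfsg.isometryGroup (ZMod 2) (Cfsg.quadFormMinus k (ZMod 2) 1 1))
    have hM := CExt.isExtraspecial (Nminus k) (Nminus_det k)
    have hMc : Nat.card (CExt (Nminus k)) = 2 ^ (2 * (k + 1) + 1) := by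
      rw [CExt.card_eq]
      simp only [Fintype.card_sum, Fintype.card_fin]
      congr 1
      ring
    have hMcount := card_sq_minus k
    obtain ⟨e⟩ := Cfsg.Agent.Lib.Helper32.extraspecial_two_iso hE hM (hcard.trans hMc.symm)
      (by omega)
    obtain ⟨e1⟩ := nonempty_out_congr e
    obtain ⟨e2⟩ := nonempty_out_equiv (Nminus k) (Nminus_det k)
    have hfun : (fun x : (Fin k ⊕ Fin k) ⊕ Fin 2 → ZMod 2 => bf (Nminus k) x x) =
        Cfsg.quadFormMinus k (ZMod 2) 1 1 := by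
      funext x
      rw [← Nminus_form]
      rfl
    rw [hfun] at e2
    exact ⟨e1.trans e2⟩

end Cfsg.Agent.Lib.Helper50
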