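import Cfsg.Agent.Lib.Helper50.Plane24

set_option autoImplicit false

/-! Non-maximality of the stabiliser of a decomposition into plus type spaces of dimension four
over the field with two elements: it preserves the finer decomposition into anisotropic planes. -/

namespace Cfsg.Agent.Lib.Helper50

open Matrix Module QuadraticMap Cfsg.Agent.Lib.Helper19

variable {F : Type*} [Field F] [Fintype F] {ι : Type} [Fintype ι] [DecidableEq ι]

omit [Fintype F] in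
/-- the case analysis over the field with two elements -/
theorem four2_cases (h01 : ∀ x : F, x = 0 ∨ x = 1) (h11 : (1 : F) + 1 = 0) (x0 y0 x1 y1 : F)
    (hQ : x0 * y0 + x1 * y1 = 1) :
    (x0 + y0 + x1 = 0 ∧ x0 + y0 + y1 = 0) ∨
      (x0 + (x0 + y0 + y1) + (x0 + y0 + x1) = 0 ∧ y0 + (x0 + y0 + y1) + (x0 + y0 + x1) = 0 ∧
        x1 + (x0 + y0 + x1) = 0 ∧ y1 + (x0 + y0 + y1) = 0 ∧
        ((x0 + y0 + y1) + (x0 + y0 + x1)) * ((x0 + y0 + y1) + (x0 + y0 + x1)) +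
          (x0 + y0 + x1) * (x0 + y0 + y1) = 1) := by
  rcases h01 x0 with rfl | rfl <;> rcases h01 y0 with rfl | rfl <;>
    rcases h01 x1 with rfl | rfl <;> rcases h01 y1 with rfl | rfl <;>
    simp [h11] at hQ ⊢

omit [Fintype F] in
theorem four2_aniso (h01 : ∀ x : F, x = 0 ∨ x = 1) (h11 : (1 : F) + 1 = 0) (x0 y0 x1 y1 : F)
    (ha : x0 + y0 + y1 = 0) (hb : x0 + y0 + x1 = 0) (hQ : x0 * y0 + x1 * y1 = 0) :
    x0 = 0 ∧ y0 = 0 ∧ x1 = 0 ∧ y1 = 0 := by
  rcases h01 x0 with rfl | rfl <;> rcases h01 y0 with rfl | rfl <;>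
    rcases h01 x1 with rfl | rfl <;> rcases h01 y1 with rfl | rfl <;>
    simp [h11] at ha hb hQ ⊢

/-- the stabiliser of a decomposition into plus type spaces of dimension four over the field with
two elements is not maximal -/
theorem nonmax_four2 (hq : Fintype.card F = 2) (Q : QuadraticForm F (ι → F))
    (hQ : (polarBilin Q).Nondegenerate) (hn : 13 ≤ Fintype.card ι) {t : ℕ}
    (D : Fin t → Submodule F (ι → F))
    (hD : Cfsg.Geo.IsOrthogonalMDecomposition (⇑Q) 4 D)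
    (hplus : ∀ i, Cfsg.Geo.IsPlusTypeOn (⇑Q) (D i)) :
    ∃ K : Subgroup (GL ι F), Cfsg.Geo.decompositionStabilizer D ⊓ Cfsg.Geo.omegaGL (⇑Q) < K ∧
      K < Cfsg.Geo.omegaGL (⇑Q) := by
  classical
  have h01 := zero_or_one_of_card_two hq
  have h11 := one_add_one_of_card_two hq
  have hn5 : 5 ≤ Fintype.card ι := by omega
  have ht : 4 ≤ t := by
    have h := card_le_mul_of_decomp 4 D hD.decomp.decomp
    omega
  have horth : ∀ i j, i ≠ j → ∀ u ∈ D i, ∀ w ∈ D j, polar (⇑Q) u w = 0 :=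
    fun i j hij => hD.decomp.orthogonal i j hij
  have hnd := hD.decomp.nondegenerate
  choose e0 f0 e1 f1 he0 hf0 he1 hf1 hQ4 hspan using fun i => four_coords Q (D i)
    (hD.decomp.decomp.finrank_eq i) (hD.decomp.nondegenerate i) (hplus i)
  obtain ⟨cv, hcv⟩ : ∃ cv : Fin t → F → F → F → F → ι → F, ∀ i x0 y0 x1 y1,
      cv i x0 y0 x1 y1 = x0 • e0 i + y0 • f0 i + x1 • e1 i + y1 • f1 i :=
    ⟨_, fun _ _ _ _ _ => rfl⟩
  have hcvD : ∀ i x0 y0 x1 y1, cv i x0 y0 x1 y1 ∈ D i := by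
    intro i x0 y0 x1 y1
    rw [hcv]
    exact (D i).add_mem ((D i).add_mem ((D i).add_mem ((D i).smul_mem _ (he0 i))
      ((D i).smul_mem _ (hf0 i))) ((D i).smul_mem _ (he1 i))) ((D i).smul_mem _ (hf1 i))
  have hcvQ : ∀ i x0 y0 x1 y1, Q (cv i x0 y0 x1 y1) = x0 * y0 + x1 * y1 := by
    intro i x0 y0 x1 y1
    rw [hcv]
    exact hQ4 i x0 y0 x1 y1
  have hcv_add : ∀ i x0 y0 x1 y1 x0' y0' x1' y1', cv i x0 y0 x1 y1 + cv i x0' y0' x1' y1' =
      cv i (x0 + x0') (y0 + y0') (x1 + x1') (y1 + y1') := by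
    intro i x0 y0 x1 y1 x0' y0' x1' y1'
    rw [hcv, hcv, hcv]
    module
  have hcv_smul : ∀ i (c : F) x0 y0 x1 y1, c • cv i x0 y0 x1 y1 =
      cv i (c * x0) (c * y0) (c * x1) (c * y1) := by
    intro i c x0 y0 x1 y1
    rw [hcv, hcv]
    module
  have hcv_zero : ∀ i, cv i 0 0 0 0 = 0 := by
    intro i
    rw [hcv]
    simp
  have hcvB : ∀ i x0 y0 x1 y1 x0' y0' x1' y1',
      polar (⇑Q) (cv i x0 y0 x1 y1) (cv i x0' y0' x1' y1') =
        x0 * y0' + x0' * y0 + x1 * y1' + x1' * y1 := by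
    intro i x0 y0 x1 y1 x0' y0' x1' y1'
    unfold polar
    rw [hcv_add, hcvQ, hcvQ, hcvQ]
    ring
  have hcv_span : ∀ i, ∀ w ∈ D i, ∃ x0 y0 x1 y1, w = cv i x0 y0 x1 y1 := by
    intro i w hw
    obtain ⟨x0, y0, x1, y1, h⟩ := hspan i w hw
    exact ⟨x0, y0, x1, y1, by rw [hcv]; exact h⟩
  have hcross : ∀ i j, i ≠ j → ∀ x0 y0 x1 y1 x0' y0' x1' y1',
      polar (⇑Q) (cv i x0 y0 x1 y1) (cv j x0' y0' x1' y1') = 0 :=
    fun i j hij x0 y0 x1 y1 x0' y0' x1' y1' => horth i j hij _ (hcvD i _ _ _ _) _ (hcvD j _ _ _ _)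
  -- two distinct indices
  set i1 : Fin t := ⟨0, by omega⟩ with hi1
  set i2 : Fin t := ⟨1, by omega⟩ with hi2
  have h12 : i1 ≠ i2 := by simp [hi1, hi2, Fin.ext_iff]
  -- the key computation
  have hkey : ∀ p q, p ≠ q → ∀ x0 y0 x1 y1 : F, x0 * y0 + x1 * y1 = 1 →
      cv p x0 y0 x1 y1 +
        polar (⇑Q) (cv p 1 1 1 0 + cv q 1 1 1 0) (cv p x0 y0 x1 y1) •
          (cv p 1 1 0 1 + cv q 1 1 0 1) +
        polar (⇑Q) (cv p 1 1 0 1 + cv q 1 1 0 1) (cv p x0 y0 x1 y1) •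
          (cv p 1 1 1 0 + cv q 1 1 1 0) ∈ normSet Q D 1 := by
    intro p q hpq x0 y0 x1 y1 hw1
    have e1 : polar (⇑Q) (cv p 1 1 1 0 + cv q 1 1 1 0) (cv p x0 y0 x1 y1) = x0 + y0 + y1 := by
      rw [polar_add_left, hcvB, hcross q p (Ne.symm hpq)]
      ring
    have e2 : polar (⇑Q) (cv p 1 1 0 1 + cv q 1 1 0 1) (cv p x0 y0 x1 y1) = x0 + y0 + x1 := by
      rw [polar_add_left, hcvB, hcross q p (Ne.symm hpq)]
      ring
    rw [e1, e2]
    rcases four2_cases h01 h11 x0 y0 x1 y1 hw1 with ⟨hα, hβ⟩ | ⟨c0, c1, c2, c3, c4⟩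
    · rw [hα, hβ, zero_smul, zero_smul, add_zero, add_zero]
      exact ⟨p, hcvD p _ _ _ _, by rw [hcvQ]; exact hw1⟩
    · have e3 : cv p x0 y0 x1 y1 + (x0 + y0 + y1) • (cv p 1 1 0 1 + cv q 1 1 0 1) +
          (x0 + y0 + x1) • (cv p 1 1 1 0 + cv q 1 1 1 0) =
          cv q ((x0 + y0 + y1) + (x0 + y0 + x1)) ((x0 + y0 + y1) + (x0 + y0 + x1))
            (x0 + y0 + x1) (x0 + y0 + y1) := by
        rw [smul_add, smul_add, hcv_smul, hcv_smul, hcv_smul, hcv_smul]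
        have hre : ∀ A B C B' C' : ι → F, A + (B + B') + (C + C') = (A + B + C) + (B' + C') := by
          intro A B C B' C'
          abel
        rw [hre, hcv_add, hcv_add, hcv_add]
        have hz : cv p (x0 + (x0 + y0 + y1) * 1 + (x0 + y0 + x1) * 1)
            (y0 + (x0 + y0 + y1) * 1 + (x0 + y0 + x1) * 1)
            (x1 + (x0 + y0 + y1) * 0 + (x0 + y0 + x1) * 1)
            (y1 + (x0 + y0 + y1) * 1 + (x0 + y0 + x1) * 0) = 0 := by
          rw [← hcv_zero p]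
          congr 1
          · linear_combination c0
          · linear_combination c1
          · linear_combination c2
          · linear_combination c3
        rw [hz, zero_add]
        congr 1 <;> ring
      rw [e3]
      exact ⟨q, hcvD q _ _ _ _, by rw [hcvQ]; linear_combination c4⟩
  -- the first Siegel element
  have hQu : Q (cv i1 1 1 1 0 + cv i2 1 1 1 0) = 0 := by
    rw [QuadraticMap.map_add Q, hcvQ, hcvQ, hcross i1 i2 h12]
    linear_combination h11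
  have hQv : Q (cv i1 1 1 0 1 + cv i2 1 1 0 1) = 0 := by
    rw [QuadraticMap.map_add Q, hcvQ, hcvQ, hcross i1 i2 h12]
    linear_combination h11
  have huv : polar (⇑Q) (cv i1 1 1 1 0 + cv i2 1 1 1 0) (cv i1 1 1 0 1 + cv i2 1 1 0 1) = 0 := by
    rw [polar_add_left, polar_add_right, polar_add_right, hcvB, hcvB, hcross i1 i2 h12,
      hcross i2 i1 h12.symm]
    linear_combination 3 * h11
  have hgΩ := siegelO_mem_Omega Q hQ hn5 _ _ hQu hQv huv 1
  have hgact := siegelO_one_mulVec h11 Q _ _ hQu hQv huv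
  -- the second Siegel element
  have hQe1 : Q (cv i1 1 0 0 0) = 0 := by rw [hcvQ]; ring
  have hQe2 : Q (cv i2 1 0 0 0) = 0 := by rw [hcvQ]; ring
  have hee : polar (⇑Q) (cv i1 1 0 0 0) (cv i2 1 0 0 0) = 0 := hcross i1 i2 h12 _ _ _ _ _ _ _ _
  have hg'Ω := siegelO_mem_Omega Q hQ hn5 _ _ hQe1 hQe2 hee 1
  have hg'act := siegelO_one_mulVec h11 Q _ _ hQe1 hQe2 hee
  refine nonmax_of_set Q D (normSet Q D 1) (decompStab_le_stabilizing_normSet Q D 1)
    _ hgΩ ?_ ?_ _ hg'Ω ?_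
  · apply siegelO_mem_stabilizing_of_maps h11
    rintro w ⟨i, hwD, hw1⟩
    rw [hgact]
    obtain ⟨x0, y0, x1, y1, rfl⟩ := hcv_span i w hwD
    rw [hcvQ] at hw1
    by_cases hi1' : i = i1
    · rw [hi1']
      exact hkey i1 i2 h12 x0 y0 x1 y1 hw1
    · by_cases hi2' : i = i2
      · rw [hi2']
        have := hkey i2 i1 h12.symm x0 y0 x1 y1 hw1
        rw [add_comm (cv i2 1 1 1 0) (cv i1 1 1 1 0), add_comm (cv i2 1 1 0 1) (cv i1 1 1 0 1)]
          at this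
        exact this
      · have e1 : polar (⇑Q) (cv i1 1 1 1 0 + cv i2 1 1 1 0) (cv i x0 y0 x1 y1) = 0 := by
          rw [polar_add_left, hcross i1 i (Ne.symm hi1'), hcross i2 i (Ne.symm hi2'), add_zero]
        have e2 : polar (⇑Q) (cv i1 1 1 0 1 + cv i2 1 1 0 1) (cv i x0 y0 x1 y1) = 0 := by
          rw [polar_add_left, hcross i1 i (Ne.symm hi1'), hcross i2 i (Ne.symm hi2'), add_zero]
        rw [e1, e2, zero_smul, zero_smul, add_zero, add_zero]
        exact ⟨i, hcvD i _ _ _ _, by rw [hcvQ]; exact hw1⟩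
  · -- the first element does not stabilise the decomposition
    have ea : (((siegelO Q _ _ hQu hQv huv 1 : ↥(Cfsg.isometryGroup F (⇑Q))) : GL ι F) :
        Matrix ι ι F) *ᵥ cv i1 1 1 1 0 = cv i2 1 1 1 0 := by
      have e1 : polar (⇑Q) (cv i1 1 1 1 0 + cv i2 1 1 1 0) (cv i1 1 1 1 0) = 0 := by
        rw [polar_add_left, hcvB, hcross i2 i1 h12.symm]
        linear_combination h11
      have e2 : polar (⇑Q) (cv i1 1 1 0 1 + cv i2 1 1 0 1) (cv i1 1 1 1 0) = 1 := by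
        rw [polar_add_left, hcvB, hcross i2 i1 h12.symm]
        linear_combination h11
      rw [hgact, e1, e2, zero_smul, one_smul, add_zero, ← add_assoc, hcv_add]
      have hz : cv i1 (1 + 1) (1 + 1) (1 + 1) (0 + 0) = 0 := by
        rw [h11, add_zero, hcv_zero]
      rw [hz, zero_add]
    have ed : (((siegelO Q _ _ hQu hQv huv 1 : ↥(Cfsg.isometryGroup F (⇑Q))) : GL ι F) :
        Matrix ι ι F) *ᵥ cv i1 1 1 0 0 = cv i1 1 1 0 0 := by
      have e1 : polar (⇑Q) (cv i1 1 1 1 0 + cv i2 1 1 1 0) (cv i1 1 1 0 0) = 0 := by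
        rw [polar_add_left, hcvB, hcross i2 i1 h12.symm]
        linear_combination h11
      have e2 : polar (⇑Q) (cv i1 1 1 0 1 + cv i2 1 1 0 1) (cv i1 1 1 0 0) = 0 := by
        rw [polar_add_left, hcvB, hcross i2 i1 h12.symm]
        linear_combination h11
      rw [hgact, e1, e2, zero_smul, zero_smul, add_zero, add_zero]
    have hne : ∀ i x0 y0 x1 y1, x0 * y0 + x1 * y1 = 1 → cv i x0 y0 x1 y1 ≠ 0 := by
      intro i x0 y0 x1 y1 h1 h0
      have := hcvQ i x0 y0 x1 y1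
      rw [h0, QuadraticMap.map_zero, h1] at this
      exact zero_ne_one this
    apply not_mem_decompStab_of_split Q horth hnd _ i1 i2 i1 h12.symm (cv i1 1 1 1 0)
      (cv i1 1 1 0 0) (hcvD i1 _ _ _ _) (hcvD i1 _ _ _ _)
    · rw [ea]; exact hcvD i2 _ _ _ _
    · rw [ea]; exact hne i2 _ _ _ _ (by ring)
    · rw [ed]; exact hcvD i1 _ _ _ _
    · rw [ed]; exact hne i1 _ _ _ _ (by ring)
  · intro hS
    have hdn : cv i1 1 1 0 0 ∈ normSet Q D 1 := ⟨i1, hcvD i1 _ _ _ _, by rw [hcvQ]; ring⟩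
    have hmem := (hS _).mp hdn
    change (((siegelO Q _ _ hQe1 hQe2 hee 1 : ↥(Cfsg.isometryGroup F (⇑Q))) : GL ι F) :
      Matrix ι ι F) *ᵥ cv i1 1 1 0 0 ∈ normSet Q D 1 at hmem
    have e1 : polar (⇑Q) (cv i1 1 0 0 0) (cv i1 1 1 0 0) = 1 := by rw [hcvB]; ring
    have e2 : polar (⇑Q) (cv i2 1 0 0 0) (cv i1 1 1 0 0) = 0 := hcross i2 i1 h12.symm _ _ _ _ _ _ _ _
    rw [hg'act, e1, e2, one_smul, zero_smul, add_zero] at hmem
    obtain ⟨l, hl, -⟩ := hmem
    have hd0 : cv i1 1 1 0 0 ≠ 0 := by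
      intro h0
      have := hcvQ i1 1 1 0 0
      rw [h0, QuadraticMap.map_zero] at this
      have h1 : (0 : F) = 1 := by rw [this]; ring
      exact zero_ne_one h1
    have he0' : cv i2 1 0 0 0 ≠ 0 := by
      intro h0
      have : polar (⇑Q) (cv i2 1 0 0 0) (cv i2 1 1 0 0) = 1 := by rw [hcvB]; ring
      rw [h0, polar_zero_left] at this
      exact zero_ne_one this
    refine add_not_mem_member Q horth hnd i1 _ _ (hcvD i1 _ _ _ _) hd0 he0' ?_ l hl
    intro x hx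
    exact horth i1 i2 h12 x hx _ (hcvD i2 _ _ _ _)

end Cfsg.Agent.Lib.Helper50
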