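import Mathlib
import Cfsg.Agent.Lib.Helper07.A8Final
import Cfsg.Agent.Lib.Helper07.SLCard

/-!
# K-G42 pack (S2553), leaf 255302 L2: transport of a subgroup of `GL_4(2)` to `A_8`
-/

set_option autoImplicit false

namespace Cfsg.Agent.Lib.Helper50.G42

open Matrix

/-- if the only unit of `R` is `1`, every invertible matrix has determinant one -/
theorem l2_toGL_surjective_gen {n : Type*} [Fintype n] [DecidableEq n] {R : Type*} [CommRing R]
    (h2 : ∀ x : R, IsUnit x → x = 1) :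
    Function.Surjective (SpecialLinearGroup.toGL : SpecialLinearGroup n R →* GL n R) := by
  intro g
  have hd : (g : Matrix n n R).det = 1 := h2 _ (Matrix.isUnits_det_units g)
  refine ⟨⟨g, hd⟩, ?_⟩
  apply Units.ext
  rfl

theorem l2_unit_zmod2 : ∀ x : ZMod 2, IsUnit x → x = 1 := by
  intro x hx
  have h01 : ∀ y : ZMod 2, y = 0 ∨ y = 1 := by decide
  rcases h01 x with rfl | rfl
  · exact absurd hx not_isUnit_zero
  · rfl

/-- over `ZMod 2` every invertible matrix has determinant one -/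
theorem l2_toGL_surjective :
    Function.Surjective
      (SpecialLinearGroup.toGL : SpecialLinearGroup (Fin 4) (ZMod 2) →* GL (Fin 4) (ZMod 2)) :=
  l2_toGL_surjective_gen l2_unit_zmod2

/-- `SL_4(2) ≃* GL_4(2)` -/
noncomputable def l2_slEquivGL : SpecialLinearGroup (Fin 4) (ZMod 2) ≃* GL (Fin 4) (ZMod 2) :=
  MulEquiv.ofBijective SpecialLinearGroup.toGL
    ⟨SpecialLinearGroup.toGL_injective, l2_toGL_surjective⟩

theorem l2_center_eq_bot : Subgroup.center (SpecialLinearGroup (Fin 4) (ZMod 2)) = ⊥ := by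
  have : Fact (Nat.Prime 2) := ⟨Nat.prime_two⟩
  apply Subgroup.eq_bot_of_card_eq
  rw [Cfsg.Agent.Lib.Helper07.card_center_sl (F := ZMod 2) 4 (by norm_num), ZMod.card]
  norm_num

/-- `PSL_4(2) ≃* SL_4(2)` -/
noncomputable def l2_pslEquivSL :
    ProjectiveSpecialLinearGroup (Fin 4) (ZMod 2) ≃* SpecialLinearGroup (Fin 4) (ZMod 2) :=
  (QuotientGroup.quotientMulEquivOfEq l2_center_eq_bot).trans QuotientGroup.quotientBot

/-- `GL_4(2) ≃* A_8` -/
theorem l2_gl_equiv_alt : Nonempty (GL (Fin 4) (ZMod 2) ≃* ↥(alternatingGroup (Fin 8))) := by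
  have : Fact (Nat.Prime 2) := ⟨Nat.prime_two⟩
  obtain ⟨e⟩ := Cfsg.Agent.Lib.Helper07.psl_four_two_equiv_alt (F := ZMod 2) (ZMod.card 2)
  exact ⟨(l2_slEquivGL.symm.trans l2_pslEquivSL.symm).trans e⟩

/-- 255302 L2: transport to `A_8` -/
theorem transport (H : Subgroup (GL (Fin 4) (ZMod 2))) :
    ∃ K : Subgroup (Equiv.Perm (Fin 8)), K ≤ alternatingGroup (Fin 8) ∧ Nonempty (↥H ≃* ↥K) := by
  obtain ⟨e⟩ := l2_gl_equiv_alt
  let f : GL (Fin 4) (ZMod 2) →* Equiv.Perm (Fin 8) :=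
    (alternatingGroup (Fin 8)).subtype.comp e.toMonoidHom
  have hf : Function.Injective f := by
    intro a b hab
    apply e.injective
    apply Subtype.ext
    exact hab
  refine ⟨H.map f, ?_, ⟨Subgroup.equivMapOfInjective H f hf⟩⟩
  rintro x ⟨h, _, rfl⟩
  exact (e h).2

end Cfsg.Agent.Lib.Helper50.G42
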