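import Mathlib
import Cfsg.Agent.S0495
import Cfsg.Agent.S0249
import Cfsg.Agent.S0445
import Cfsg.Agent.Lib.Helper07.SLCard

/-!
# K-G42 pack (S2553), leaf 255313 L9: a simple group of order 168 is `GL_3(2)`
-/

set_option autoImplicit false

namespace Cfsg.Agent.Lib.Helper50.G42

open Matrix

/-- over `ZMod 2` every invertible matrix has determinant one -/
theorem l9_toGL_surjective :
    Function.Surjective
      (SpecialLinearGroup.toGL : SpecialLinearGroup (Fin 3) (ZMod 2) →* GL (Fin 3) (ZMod 2)) := by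
  intro g
  have hd : (g : Matrix (Fin 3) (Fin 3) (ZMod 2)).det = 1 := by
    have hu : IsUnit (g : Matrix (Fin 3) (Fin 3) (ZMod 2)).det := Matrix.isUnits_det_units g
    have h2 : ∀ x : ZMod 2, IsUnit x → x = 1 := by decide
    exact h2 _ hu
  exact ⟨⟨g, hd⟩, Units.ext rfl⟩

/-- `SL_3(2) ≃* GL_3(2)` -/
noncomputable def l9_slEquivGL : SpecialLinearGroup (Fin 3) (ZMod 2) ≃* GL (Fin 3) (ZMod 2) :=
  MulEquiv.ofBijective SpecialLinearGroup.toGL
    ⟨SpecialLinearGroup.toGL_injective, l9_toGL_surjective⟩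

theorem l9_center_eq_bot : Subgroup.center (SpecialLinearGroup (Fin 3) (ZMod 2)) = ⊥ := by
  have : Fact (Nat.Prime 2) := ⟨Nat.prime_two⟩
  apply Subgroup.eq_bot_of_card_eq
  rw [Cfsg.Agent.Lib.Helper07.card_center_sl (F := ZMod 2) 3 (by norm_num), ZMod.card]
  norm_num

/-- `PSL_3(2) ≃* SL_3(2)` -/
noncomputable def l9_pslEquivSL :
    ProjectiveSpecialLinearGroup (Fin 3) (ZMod 2) ≃* SpecialLinearGroup (Fin 3) (ZMod 2) :=
  (QuotientGroup.quotientMulEquivOfEq l9_center_eq_bot).trans QuotientGroup.quotientBot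

theorem l9_gl_simple : IsSimpleGroup (GL (Fin 3) (ZMod 2)) := by
  have : Fact (Nat.Prime 2) := ⟨Nat.prime_two⟩
  have hs : IsSimpleGroup (ProjectiveSpecialLinearGroup (Fin 3) (ZMod 2)) :=
    Cfsg.Agent.S0249.result (F := ZMod 2) 3 le_rfl
  exact (l9_slEquivGL.symm.trans l9_pslEquivSL.symm).isSimpleGroup

theorem l9_gl_card : Nat.card (GL (Fin 3) (ZMod 2)) = 168 := by
  rw [← Nat.card_congr l9_slEquivGL.toEquiv]
  exact Cfsg.Agent.S0445.card_sl3

/-- 255313 L9: a simple group of order 168 is `GL_3(2)` -/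
theorem simple168_iso {K : Type*} [Group K] [Finite K] (hs : IsSimpleGroup K) (hc : Nat.card K = 168) :
    Nonempty (K ≃* GL (Fin 3) (ZMod 2)) := by
  have : Fact (Nat.Prime 7) := ⟨by norm_num⟩
  have : Fact (Nat.Prime 2) := ⟨Nat.prime_two⟩
  obtain ⟨e1⟩ := Cfsg.Agent.S0495.result (G := K) hc (F := ZMod 7) (ZMod.card 7)
  have hgs := l9_gl_simple
  have : Finite (GL (Fin 3) (ZMod 2)) := Nat.finite_of_card_ne_zero (by rw [l9_gl_card]; norm_num)
  obtain ⟨e2⟩ := Cfsg.Agent.S0495.result (G := GL (Fin 3) (ZMod 2)) l9_gl_card (F := ZMod 7)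
    (ZMod.card 7)
  exact ⟨e1.trans e2.symm⟩

end Cfsg.Agent.Lib.Helper50.G42
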