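import Cfsg.Agent.Lib.Helper50.PlusMain
import Cfsg.Agent.Lib.Helper07.AutPSL6

set_option autoImplicit false

/-!
# `PΩ⁺_{2m}(F)`, `m ≥ 5`: all involutory graph-field automorphisms are conjugate under `Inndiag`
-/

namespace Cfsg.Agent.Lib.Helper50

open Matrix Cfsg.Agent.Lib.Helper08 Cfsg.Agent.Lib.Helper26.LangGO

universe u

/-- commutators lie in a normal subgroup as soon as the generators commute modulo it -/
theorem comm_mod_of_generators {G : Type*} [Group G] (N : Subgroup G) [N.Normal] (S : Set G)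
    (hS : Subgroup.closure S = ⊤) (hcomm : ∀ a ∈ S, ∀ b ∈ S, a * b * a⁻¹ * b⁻¹ ∈ N) :
    ∀ a b : G, a * b * a⁻¹ * b⁻¹ ∈ N := by
  have key : ∀ a b : G, a * b * a⁻¹ * b⁻¹ ∈ N ↔
      (QuotientGroup.mk' N a) * (QuotientGroup.mk' N b) =
        (QuotientGroup.mk' N b) * (QuotientGroup.mk' N a) := by
    intro a b
    rw [← commutatorElement_eq_one_iff_mul_comm, commutatorElement_def, ← map_inv, ← map_inv,
      ← map_mul, ← map_mul, ← map_mul, QuotientGroup.mk'_apply, QuotientGroup.eq_one_iff]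
  have step1 : ∀ a ∈ S, ∀ b : G, (QuotientGroup.mk' N a) * (QuotientGroup.mk' N b) =
      (QuotientGroup.mk' N b) * (QuotientGroup.mk' N a) := by
    intro a ha b
    have hb : b ∈ Subgroup.closure S := by rw [hS]; exact Subgroup.mem_top b
    induction hb using Subgroup.closure_induction with
    | mem c hc => exact (key a c).mp (hcomm a ha c hc)
    | one => rw [map_one, mul_one, one_mul]
    | mul c d _ _ hc hd => rw [map_mul, ← mul_assoc, hc, mul_assoc, hd, mul_assoc]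
    | inv c _ hc =>
      rw [map_inv]
      exact (Commute.inv_right (show Commute _ _ from hc)).eq
  intro a b
  rw [key]
  have ha : a ∈ Subgroup.closure S := by rw [hS]; exact Subgroup.mem_top a
  induction ha using Subgroup.closure_induction generalizing b with
  | mem c hc => exact step1 c hc b
  | one => rw [map_one, mul_one, one_mul]
  | mul c d _ _ hc hd => rw [map_mul, mul_assoc, hd, ← mul_assoc, hc, mul_assoc]
  | inv c _ hc =>
    rw [map_inv]
    exact (Commute.inv_left (show Commute _ _ from hc b)).eq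

variable {F : Type u} [Field F] [Fintype F] (m : ℕ)

omit [Fintype F] in
theorem mul_mem_clsPlus_iff (g h : SimPlus m F) :
    g * h ∈ clsPlus m ↔ (g ∈ clsPlus m ↔ h ∈ clsPlus m) := by
  by_cases hg : g ∈ clsPlus m
  · rw [mul_mem_clsPlus_iff_right m g h hg]
    exact ⟨fun h1 => ⟨fun _ => h1, fun _ => hg⟩, fun h1 => h1.mp hg⟩
  · by_cases hh : h ∈ clsPlus m
    · rw [(clsPlus m).mul_mem_cancel_right hh]
      exact ⟨fun h1 => absurd h1 hg, fun h1 => h1.mpr hh⟩
    · exact ⟨fun _ => ⟨fun h1 => absurd h1 hg, fun h1 => absurd h1 hh⟩,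
        fun _ => mul_mem_clsPlus_of_not m g h hg hh⟩

omit [Fintype F] in
theorem comm_mem_clsPlus (g h : SimPlus m F) : g * h * g⁻¹ * h⁻¹ ∈ clsPlus m := by
  rw [mul_mem_clsPlus_iff, mul_mem_clsPlus_iff, mul_mem_clsPlus_iff, Subgroup.inv_mem_iff,
    Subgroup.inv_mem_iff]
  tauto

/-- the ring automorphisms of a finite field commute -/
theorem ringAut_comm (σ τ : RingAut F) : σ * τ = τ * σ := by
  obtain ⟨p, hp⟩ := CharP.exists F
  have := hp
  have : Fact p.Prime := ⟨CharP.char_is_prime F p⟩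
  have : IsCyclic (RingAut F) := Cfsg.Agent.Lib.Helper07.isCyclic_ringAut (F := F) p
  let _ := IsCyclic.commGroup (α := RingAut F)
  exact mul_comm σ τ

/-- a finite field has at most one involutory automorphism -/
theorem ringAut_invol_unique (σ τ : RingAut F) (hσ : σ ≠ 1) (hτ : τ ≠ 1) (hσ2 : σ ^ 2 = 1)
    (hτ2 : τ ^ 2 = 1) : σ = τ := by
  classical
  obtain ⟨p, hp⟩ := CharP.exists F
  have := hp
  have : Fact p.Prime := ⟨CharP.char_is_prime F p⟩
  have : IsCyclic (RingAut F) := Cfsg.Agent.Lib.Helper07.isCyclic_ringAut (F := F) p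
  have : Finite (RingAut F) :=
    Finite.of_injective (fun σ : RingAut F => (σ : F → F)) DFunLike.coe_injective
  have : Fintype (RingAut F) := Fintype.ofFinite _
  by_contra hne
  have h1 := IsCyclic.card_pow_eq_one_le (α := RingAut F) (n := 2) (by norm_num)
  have h2 : ({1, σ, τ} : Finset (RingAut F)) ⊆
      Finset.univ.filter (fun a : RingAut F => a ^ 2 = 1) := by
    intro a ha
    rw [Finset.mem_filter]
    refine ⟨Finset.mem_univ _, ?_⟩
    rw [Finset.mem_insert, Finset.mem_insert, Finset.mem_singleton] at ha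
    rcases ha with rfl | rfl | rfl
    · exact one_pow 2
    · exact hσ2
    · exact hτ2
  have h3 : ({1, σ, τ} : Finset (RingAut F)).card = 3 := by
    rw [Finset.card_insert_of_notMem, Finset.card_insert_of_notMem, Finset.card_singleton]
    · rw [Finset.mem_singleton]; exact hne
    · rw [Finset.mem_insert, Finset.mem_singleton]
      rintro (h | h)
      · exact hσ h.symm
      · exact hτ h.symm
  have h4 := Finset.card_le_card h2
  omega

/-- commutators of automorphisms of `PΩ⁺_{2m}(F)` are inner-diagonal -/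
theorem comm_mem_inndiagPlus {m : ℕ} (hm : 5 ≤ m)
    (a b : MulAut (Cfsg.POmega F (Cfsg.quadFormPlus m F))) :
    a * b * a⁻¹ * b⁻¹ ∈ Cfsg.inndiagPOmegaPlus m F := by
  have hAut := Cfsg.Agent.Lib.Helper07.OG.gamma_plus_eq_top (F := F) hm
  haveI hN := inndiagPOmegaPlus_normal m hAut
  have hsup : (autPO (Cfsg.quadFormPlus m F)).range ⊔
      (fieldAutPO (Cfsg.quadFormPlus m F)).range = ⊤ := by
    rw [← gammaPOmega_eq (Cfsg.quadFormPlus m F) (compat_plus m), hAut]
  have hS : Subgroup.closure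
      (((autPO (Cfsg.quadFormPlus m F)).range : Set (MulAut (Cfsg.POmega F (Cfsg.quadFormPlus m F)))) ∪
        ((fieldAutPO (Cfsg.quadFormPlus m F)).range :
          Set (MulAut (Cfsg.POmega F (Cfsg.quadFormPlus m F))))) = ⊤ := by
    rw [Subgroup.closure_union, Subgroup.closure_eq, Subgroup.closure_eq, hsup]
  have hmem : ∀ g : SimPlus m F, g ∈ clsPlus m →
      autPO (Cfsg.quadFormPlus m F) g ∈ Cfsg.inndiagPOmegaPlus m F := by
    intro g hg
    rw [inndiagPOmegaPlus_eq]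
    exact ⟨g, hg, rfl⟩
  refine comm_mod_of_generators (Cfsg.inndiagPOmegaPlus m F) _ hS ?_ a b
  rintro _ (⟨k, rfl⟩ | ⟨σ, rfl⟩) _ (⟨k', rfl⟩ | ⟨τ, rfl⟩)
  · rw [← map_inv, ← map_inv, ← map_mul, ← map_mul, ← map_mul]
    exact hmem _ (comm_mem_clsPlus m k k')
  · have e : autPO (Cfsg.quadFormPlus m F) k * fieldAutPO (Cfsg.quadFormPlus m F) τ *
        (autPO (Cfsg.quadFormPlus m F) k)⁻¹ * (fieldAutPO (Cfsg.quadFormPlus m F) τ)⁻¹ =
        autPO (Cfsg.quadFormPlus m F) (k * sigmaGO (Cfsg.quadFormPlus m F) τ k⁻¹) := by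
      rw [map_mul, ← fieldAutPO_conj, map_inv]
      group
    rw [e]
    apply hmem
    rw [mul_mem_clsPlus_iff, sigmaGO_mem_clsPlus_iff, Subgroup.inv_mem_iff]
  · have e : fieldAutPO (Cfsg.quadFormPlus m F) σ * autPO (Cfsg.quadFormPlus m F) k' *
        (fieldAutPO (Cfsg.quadFormPlus m F) σ)⁻¹ * (autPO (Cfsg.quadFormPlus m F) k')⁻¹ =
        autPO (Cfsg.quadFormPlus m F) (sigmaGO (Cfsg.quadFormPlus m F) σ k' * k'⁻¹) := by
      rw [map_mul, ← fieldAutPO_conj, map_inv]
    rw [e]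
    apply hmem
    rw [mul_mem_clsPlus_iff, sigmaGO_mem_clsPlus_iff, Subgroup.inv_mem_iff]
  · have hc : σ * τ = τ * σ := Subtype.ext (ringAut_comm σ.1 τ.1)
    have e : fieldAutPO (Cfsg.quadFormPlus m F) σ * fieldAutPO (Cfsg.quadFormPlus m F) τ *
        (fieldAutPO (Cfsg.quadFormPlus m F) σ)⁻¹ * (fieldAutPO (Cfsg.quadFormPlus m F) τ)⁻¹ = 1 := by
      rw [← map_mul, hc, map_mul]
      group
    rw [e]
    exact Subgroup.one_mem _

/-- **all involutory graph-field automorphisms of `PΩ⁺_{2m}(F)`, `m ≥ 5`, are conjugate under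
`Inndiag`** -/
theorem graphField_invol_conj {m : ℕ} (hm : 5 ≤ m)
    (x y : MulAut (Cfsg.POmega F (Cfsg.quadFormPlus m F)))
    (hx : Cfsg.IsGraphFieldAutClassPOmegaPlus m x) (hx2 : orderOf x = 2)
    (hy : Cfsg.IsGraphFieldAutClassPOmegaPlus m y) (hy2 : orderOf y = 2) :
    Cfsg.IsConjUnder (Cfsg.inndiagPOmegaPlus m F) x y := by
  have hm1 : 1 ≤ m := by omega
  haveI : Nonempty (Fin m ⊕ Fin m) := ⟨Sum.inl ⟨0, hm1⟩⟩
  have C : Cfsg.Agent.Lib.Helper07.OG.OC (QPlus m F) :=
    ⟨QPlus_nondegenerate, by rw [card_plus_index]; omega⟩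
  have hcomm := comm_mem_inndiagPlus (F := F) hm
  -- the standard form of an involutory graph-field automorphism
  have std : ∀ z : MulAut (Cfsg.POmega F (Cfsg.quadFormPlus m F)),
      Cfsg.IsGraphFieldAutClassPOmegaPlus m z → orderOf z = 2 →
      ∃ (σ : ↥(compatAut (Cfsg.quadFormPlus m F))) (t : SimPlus m F), σ ≠ 1 ∧ σ ^ 2 = 1 ∧
        t ∉ clsPlus m ∧
        (autPO (Cfsg.quadFormPlus m F) t * fieldAutPO (Cfsg.quadFormPlus m F) σ) * z⁻¹ ∈
          Cfsg.inndiagPOmegaPlus m F := by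
    rintro z ⟨α, γ, φ, σ, v, r₀, hσ, hv, hfix, hr₀, hγ, hφ, hα⟩ hz2
    have hv' : QPlus m F v ≠ 0 := hv
    have e : r₀ = ((reflGO (QPlus m F) v hv' : SimPlus m F) : GL (Fin m ⊕ Fin m) F) :=
      Units.ext hr₀
    subst e
    have h1 := (isInduced_iff (Cfsg.quadFormPlus m F) _
      (reflGO (QPlus m F) v hv' : SimPlus m F).2 γ).mp hγ
    have h2 := (isFieldAut_iff _ σ (compat_plus m σ) φ).mp hφ
    obtain ⟨t, htdef⟩ : ∃ t : SimPlus m F, t = reflGO (QPlus m F) v hv' := ⟨_, rfl⟩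
    obtain ⟨σ', hσ'⟩ : ∃ σ' : ↥(compatAut (Cfsg.quadFormPlus m F)),
        σ' = ⟨σ, compat_plus m σ⟩ := ⟨_, rfl⟩
    have hαz : α * z * α⁻¹ = autPO (Cfsg.quadFormPlus m F) t *
        fieldAutPO (Cfsg.quadFormPlus m F) σ' := by
      rw [hα, h1, h2, htdef, hσ']
      rfl
    have hσ1 : σ' ≠ 1 := by
      intro h
      rw [hσ'] at h
      exact hσ (congrArg Subtype.val h)
    have hpow : (autPO (Cfsg.quadFormPlus m F) t *
        fieldAutPO (Cfsg.quadFormPlus m F) σ') ^ 2 = 1 := by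
      rw [← hαz, ← orderOf_dvd_iff_pow_eq_one, orderOf_conj', hz2]
    rw [pow_coset] at hpow
    have hσ2 : σ' ^ 2 = 1 := by
      have h0 : fieldAutPO (Cfsg.quadFormPlus m F) (σ' ^ 2) =
          autPO (Cfsg.quadFormPlus m F) ((twG (Cfsg.quadFormPlus m F) σ' t 2)⁻¹) := by
        rw [map_inv]
        exact eq_inv_of_mul_eq_one_right hpow
      exact fieldAutPO_eq_autPO_imp_OC (QPlus m F) C _ _ h0
    refine ⟨σ', t, hσ1, hσ2,
      reflection_not_mem_clsPlus m hm1 t v hv (by rw [htdef]; rfl), ?_⟩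
    rw [← hαz]
    exact hcomm α z
  obtain ⟨σ, t, hσ1, hσ2, ht, hxs⟩ := std x hx hx2
  obtain ⟨τ, t', hτ1, hτ2, ht', hys⟩ := std y hy hy2
  have hστ : σ = τ := by
    apply Subtype.ext
    apply ringAut_invol_unique σ.1 τ.1
    · intro h; exact hσ1 (Subtype.ext h)
    · intro h; exact hτ1 (Subtype.ext h)
    · have := congrArg Subtype.val hσ2
      simpa using this
    · have := congrArg Subtype.val hτ2
      simpa using this
  subst hστ
  have hδ : y * x⁻¹ ∈ Cfsg.inndiagPOmegaPlus m F := by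
    have h1 : autPO (Cfsg.quadFormPlus m F) (t' * t⁻¹) ∈ Cfsg.inndiagPOmegaPlus m F := by
      rw [inndiagPOmegaPlus_eq]
      refine ⟨_, (?_ : t' * t⁻¹ ∈ clsPlus m), rfl⟩
      rw [mul_mem_clsPlus_iff, Subgroup.inv_mem_iff]
      exact ⟨fun h => absurd h ht', fun h => absurd h ht⟩
    have e : y * x⁻¹ =
        ((autPO (Cfsg.quadFormPlus m F) t' * fieldAutPO (Cfsg.quadFormPlus m F) σ) * y⁻¹)⁻¹ *
          autPO (Cfsg.quadFormPlus m F) (t' * t⁻¹) *
          ((autPO (Cfsg.quadFormPlus m F) t * fieldAutPO (Cfsg.quadFormPlus m F) σ) * x⁻¹) := by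
      rw [map_mul, map_inv]
      group
    rw [e]
    exact Subgroup.mul_mem _ (Subgroup.mul_mem _ (Subgroup.inv_mem _ hys) h1) hxs
  have hmain := (plus_coset_main hm x (y * x⁻¹) (Or.inr hx) Nat.prime_two hx2 hδ).mp
    (by rw [inv_mul_cancel_right]; exact hy2)
  rwa [inv_mul_cancel_right] at hmain

end Cfsg.Agent.Lib.Helper50
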