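import Cfsg.Agent.Lib.Helper50.GraphAutPSL

set_option autoImplicit false

/-! Matrix forms of the conditions on graph automorphisms `graphAut g` of `PSL_n(F)`. -/

namespace Cfsg.Agent.Lib.Helper50

open Matrix Cfsg.Agent.Lib.Helper07

section
variable {n : ℕ} {F : Type*} [Field F]

local notation "SLn" => SpecialLinearGroup (Fin n) F
local notation "G" => ProjectiveSpecialLinearGroup (Fin n) F

theorem inv_mul_mem_scalars_iff (a b : GL (Fin n) F) :
    a⁻¹ * b ∈ Cfsg.Geo.scalars (Fin n) F ↔ ∃ c : Fˣ, b.val = (c : F) • a.val := by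
  rw [Cfsg.Geo.mem_scalars_iff]
  constructor
  · rintro ⟨c, hc⟩
    refine ⟨c, ?_⟩
    rw [Units.val_mul] at hc
    calc b.val = a.val * (a⁻¹.val * b.val) := by
          rw [← Matrix.mul_assoc, Units.mul_inv, Matrix.one_mul]
      _ = _ := by rw [hc, Matrix.mul_smul, Matrix.mul_one]
  · rintro ⟨c, hc⟩
    refine ⟨c, ?_⟩
    rw [Units.val_mul, hc, Matrix.mul_smul, Units.inv_mul]

/-- the bilinear function with a given Gram matrix -/
def matBil (M : Matrix (Fin n) (Fin n) F) (u v : Fin n → F) : F := u ⬝ᵥ M *ᵥ v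

theorem matBil_mulVec (M P : Matrix (Fin n) (Fin n) F) (u v : Fin n → F) :
    matBil M (P *ᵥ u) (P *ᵥ v) = matBil (Pᵀ * M * P) u v := by
  unfold matBil
  rw [← Matrix.mulVec_mulVec, ← Matrix.mulVec_mulVec, Matrix.dotProduct_mulVec u Pᵀ,
    Matrix.vecMul_transpose]

theorem matBil_single (M : Matrix (Fin n) (Fin n) F) (i j : Fin n) :
    matBil M (Pi.single i 1) (Pi.single j 1) = M i j := by
  unfold matBil
  rw [Matrix.mulVec_single_one, single_dotProduct, one_mul]
  rfl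

theorem matBil_ext {M M' : Matrix (Fin n) (Fin n) F}
    (h : ∀ u v, matBil M u v = matBil M' u v) : M = M' := by
  ext i j
  rw [← matBil_single M, ← matBil_single M', h]

theorem matBil_smul (c : F) (M : Matrix (Fin n) (Fin n) F) (u v : Fin n → F) :
    matBil (c • M) u v = c * matBil M u v := by
  unfold matBil
  rw [Matrix.smul_mulVec, dotProduct_smul, smul_eq_mul]

theorem mem_similarityGroup_matBil_iff (M : Matrix (Fin n) (Fin n) F) (h : GL (Fin n) F) :
    h ∈ Cfsg.Geo.similarityGroup (matBil M) ↔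
      ∃ c : Fˣ, h.valᵀ * M * h.val = (c : F) • M := by
  constructor
  · rintro ⟨c, hc⟩
    refine ⟨c, matBil_ext fun u v => ?_⟩
    rw [← matBil_mulVec, matBil_smul]
    exact hc u v
  · rintro ⟨c, hc⟩
    refine ⟨c, fun u v => ?_⟩
    rw [matBil_mulVec, hc, matBil_smul]

/-- the quadratic function with a given Gram matrix -/
def matQuad (M : Matrix (Fin n) (Fin n) F) (v : Fin n → F) : F := v ⬝ᵥ M *ᵥ v

theorem matBil_comm {M : Matrix (Fin n) (Fin n) F} (hM : Mᵀ = M) (u v : Fin n → F) :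
    matBil M u v = matBil M v u := by
  unfold matBil
  rw [Matrix.dotProduct_mulVec, ← Matrix.mulVec_transpose, hM, dotProduct_comm]

theorem matQuad_add (M : Matrix (Fin n) (Fin n) F) (hM : Mᵀ = M) (u v : Fin n → F) :
    matQuad M (u + v) = matQuad M u + matQuad M v + 2 * matBil M u v := by
  have := matBil_comm hM v u
  unfold matQuad matBil at *
  rw [Matrix.mulVec_add, add_dotProduct, dotProduct_add, dotProduct_add, this]
  ring

theorem quadSimilarityGroup_matQuad (h2 : (2 : F) ≠ 0) (M : Matrix (Fin n) (Fin n) F)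
    (hM : Mᵀ = M) :
    Cfsg.Geo.quadSimilarityGroup (matQuad M) = Cfsg.Geo.similarityGroup (matBil M) := by
  ext h
  constructor
  · rintro ⟨c, hc⟩
    refine ⟨c, fun u v => ?_⟩
    have h1 := hc (u + v)
    rw [Matrix.mulVec_add, matQuad_add M hM, matQuad_add M hM, hc u, hc v] at h1
    have : (2 : F) * matBil M (h.val *ᵥ u) (h.val *ᵥ v) = 2 * ((c : F) * matBil M u v) := by
      linear_combination h1
    exact mul_left_cancel₀ h2 this
  · rintro ⟨c, hc⟩
    exact ⟨c, fun v => hc v v⟩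

/-- a matrix congruence with invertible target gives an invertible matrix -/
theorem exists_gl_of_congr (P M M' : Matrix (Fin n) (Fin n) F) (c : F)
    (h : Pᵀ * M' * P = c • M) (hc : c ≠ 0) (hM : M.det ≠ 0) :
    ∃ g : GL (Fin n) F, g.val = P := by
  have hdet : P.det ≠ 0 := by
    intro h0
    have := congrArg Matrix.det h
    rw [Matrix.det_mul, h0, mul_zero, Matrix.det_smul] at this
    exact mul_ne_zero (pow_ne_zero _ hc) hM this.symm
  exact ⟨Matrix.GeneralLinearGroup.mkOfDetNeZero P hdet, rfl⟩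

section char

theorem orderOf_graphAut_eq_two_iff' (p : ℕ) [Fact p.Prime] [CharP F p] (hn : 3 ≤ n) (g : GL (Fin n) F) :
    orderOf (graphAut g : MulAut G) = 2 ↔ ∃ c : Fˣ, g.val = (c : F) • g.valᵀ := by
  rw [orderOf_graphAut_eq_two_iff p hn, Cfsg.Geo.mem_scalars_iff]
  have h1 : g⁻¹.valᵀ * g.valᵀ = 1 := by
    rw [← Matrix.transpose_mul, Units.mul_inv, Matrix.transpose_one]
  have h2 : g.valᵀ * g⁻¹.valᵀ = 1 := by
    rw [← Matrix.transpose_mul, Units.inv_mul, Matrix.transpose_one]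
  constructor
  · rintro ⟨c, hc⟩
    refine ⟨c, ?_⟩
    rw [Units.val_mul, glInvT_val] at hc
    calc g.val = g.val * g⁻¹.valᵀ * g.valᵀ := by rw [Matrix.mul_assoc, h1, Matrix.mul_one]
      _ = _ := by rw [hc, Matrix.smul_mul, Matrix.one_mul]
  · rintro ⟨c, hc⟩
    refine ⟨c, ?_⟩
    rw [Units.val_mul, glInvT_val]
    conv_lhs => rw [hc]
    rw [Matrix.smul_mul, h2]

theorem isConjUnder_graphAut_iff' (p : ℕ) [Fact p.Prime] [CharP F p] (hn : 1 ≤ n) (g g' : GL (Fin n) F) :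
    Cfsg.IsConjUnder (Cfsg.inndiagPSL n F) (graphAut g : MulAut G) (graphAut g') ↔
      ∃ (h : GL (Fin n) F) (c : Fˣ), g'.val = (c : F) • (h.val * g.val * h.valᵀ) := by
  rw [isConjUnder_graphAut_iff p hn]
  constructor
  · rintro ⟨h, hh⟩
    rw [inv_mul_mem_scalars_iff] at hh
    obtain ⟨c, hc⟩ := hh
    refine ⟨h, c, ?_⟩
    rw [hc, Units.val_mul, Units.val_mul, glInvT_inv_val]
  · rintro ⟨h, c, hc⟩
    refine ⟨h, ?_⟩
    rw [inv_mul_mem_scalars_iff]
    refine ⟨c, ?_⟩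
    rw [hc, Units.val_mul, Units.val_mul, glInvT_inv_val]

theorem isConjUnder_graphAut_of_congr (p : ℕ) [Fact p.Prime] [CharP F p] (hn : 1 ≤ n) (g g' P : GL (Fin n) F) (c : Fˣ)
    (h : P.valᵀ * g'.val * P.val = (c : F) • g.val) :
    Cfsg.IsConjUnder (Cfsg.inndiagPSL n F) (graphAut g : MulAut G) (graphAut g') := by
  rw [isConjUnder_graphAut_iff' p hn]
  refine ⟨glInvT P, c, ?_⟩
  rw [glInvT_val, Matrix.transpose_transpose, Matrix.mul_assoc, ← Matrix.mul_smul,
    ← Matrix.smul_mul, ← h]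
  have h1 : P⁻¹.valᵀ * P.valᵀ = 1 := by
    rw [← Matrix.transpose_mul, Units.mul_inv, Matrix.transpose_one]
  rw [show P⁻¹.valᵀ * (P.valᵀ * g'.val * P.val * P⁻¹.val) =
    (P⁻¹.valᵀ * P.valᵀ) * g'.val * (P.val * P⁻¹.val) by simp only [Matrix.mul_assoc]]
  rw [h1, Units.mul_inv, Matrix.one_mul, Matrix.mul_one]

theorem conjGLn_glInvT_mem_centralizer_iff (p : ℕ) [Fact p.Prime] [CharP F p] (hn : 1 ≤ n) (g h : GL (Fin n) F) :
    conjGLn (glInvT h) ∈ Subgroup.centralizer {(graphAut g : MulAut G)} ↔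
      h ∈ Cfsg.Geo.similarityGroup (matBil g.val) := by
  rw [conjGLn_mem_centralizer_graphAut_iff p hn, glInvT_glInvT, inv_mul_mem_scalars_iff,
    mem_similarityGroup_matBil_iff]
  have h1 : h.valᵀ * h⁻¹.valᵀ = 1 := by
    rw [← Matrix.transpose_mul, Units.inv_mul, Matrix.transpose_one]
  have h2 : h⁻¹.valᵀ * h.valᵀ = 1 := by
    rw [← Matrix.transpose_mul, Units.mul_inv, Matrix.transpose_one]
  constructor
  · rintro ⟨c, hc⟩
    refine ⟨c⁻¹, ?_⟩
    rw [Units.val_mul, Units.val_mul, glInvT_val] at hc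
    have : g.val = (c : F) • (h.valᵀ * g.val * h.val) := by
      calc g.val = h.valᵀ * (h⁻¹.valᵀ * g.val) := by
            rw [← Matrix.mul_assoc, h1, Matrix.one_mul]
        _ = _ := by rw [hc, Matrix.mul_smul, Matrix.mul_assoc]
    conv_rhs => rw [this]
    rw [smul_smul, Units.val_inv_eq_inv_val, inv_mul_cancel₀ c.ne_zero, one_smul]
  · rintro ⟨c, hc⟩
    refine ⟨c⁻¹, ?_⟩
    rw [Units.val_mul, Units.val_mul, glInvT_val]
    have : g.val * h.val = h⁻¹.valᵀ * (h.valᵀ * g.val * h.val) := by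
      rw [Matrix.mul_assoc, ← Matrix.mul_assoc, h2, Matrix.one_mul]
    rw [this, hc, Matrix.mul_smul, smul_smul, Units.val_inv_eq_inv_val,
      inv_mul_cancel₀ c.ne_zero, one_smul]

theorem inndiag_inf_centralizer_graphAut (p : ℕ) [Fact p.Prime] [CharP F p] (hn : 1 ≤ n) (g : GL (Fin n) F) :
    Cfsg.inndiagPSL n F ⊓ Subgroup.centralizer {(graphAut g : MulAut G)} =
      (Cfsg.Geo.similarityGroup (matBil g.val)).map
        ((conjGLn (n := n) (F := F)).comp (glInvTEquiv (n := n) (F := F)).toMonoidHom) := by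
  rw [inndiagPSL_eq_range]
  ext β
  rw [Subgroup.mem_inf, Subgroup.mem_map]
  constructor
  · rintro ⟨⟨h, rfl⟩, hc⟩
    refine ⟨glInvT h, ?_, ?_⟩
    · rw [← conjGLn_glInvT_mem_centralizer_iff p hn, glInvT_glInvT]
      exact hc
    · show conjGLn (glInvT (glInvT h)) = _
      rw [glInvT_glInvT]
  · rintro ⟨h, hh, rfl⟩
    exact ⟨⟨glInvT h, rfl⟩, (conjGLn_glInvT_mem_centralizer_iff p hn g h).mpr hh⟩

theorem ker_conjGLn_comp_glInvT (p : ℕ) [Fact p.Prime] [CharP F p] (hn : 1 ≤ n) :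
    ((conjGLn (n := n) (F := F)).comp (glInvTEquiv (n := n) (F := F)).toMonoidHom).ker =
      Cfsg.Geo.scalars (Fin n) F := by
  ext h
  rw [MonoidHom.mem_ker]
  show conjGLn (glInvT h) = 1 ↔ _
  rw [conjGLn_eq_one_iff p hn, glInvT_mem_scalars_iff]

/-- the centralizer of a graph automorphism in `Inndiag(PSL_n(F))` -/
theorem nonempty_centralizer_graphAut_equiv (p : ℕ) [Fact p.Prime] [CharP F p] (hn : 1 ≤ n) (g : GL (Fin n) F) :
    Nonempty (↥(Cfsg.inndiagPSL n F ⊓ Subgroup.centralizer {(graphAut g : MulAut G)}) ≃*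
      Cfsg.projQuot (Cfsg.Geo.similarityGroup (matBil g.val))) := by
  obtain ⟨e⟩ := nonempty_projQuot_equiv_map _ (ker_conjGLn_comp_glInvT p hn)
    (Cfsg.Geo.similarityGroup (matBil g.val))
  exact ⟨(MulEquiv.subgroupCongr (inndiag_inf_centralizer_graphAut p hn g)).trans e.symm⟩

end char

end

end Cfsg.Agent.Lib.Helper50
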