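import Cfsg.Agent.Lib.Helper50.InvTCent

set_option autoImplicit false

/-! Graph automorphisms `conjGLn g * invT` of `PSL_n(F)`: squares, conjugacy under
`Inndiag`, centralizers in `Inndiag`. -/

namespace Cfsg.Agent.Lib.Helper50

open Matrix Cfsg.Agent.Lib.Helper07

section
variable {n : ℕ} {F : Type*} [Field F]

local notation "SLn" => SpecialLinearGroup (Fin n) F
local notation "G" => ProjectiveSpecialLinearGroup (Fin n) F

/-- the graph automorphism attached to an invertible matrix -/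
noncomputable def graphAut (g : GL (Fin n) F) : MulAut G := conjGLn g * invT

theorem isGraphAutClass_iff (γ : MulAut G) :
    Cfsg.IsGraphAutClassPSL γ ↔ 3 ≤ n ∧ ∃ g : GL (Fin n) F, γ = graphAut g := by
  constructor
  · rintro ⟨hn, δ, ι, ⟨g, hg⟩, hι, rfl⟩
    refine ⟨hn, g, ?_⟩
    rw [eq_conjGLn_of_isInnerDiagonal δ g hg, eq_invT_of_isInverseTranspose ι hι]
    rfl
  · rintro ⟨hn, g, rfl⟩
    exact ⟨hn, conjGLn g, invT, isInnerDiagonal_conjGLn g, isInverseTranspose_invT, rfl⟩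

theorem glInvT_mul (g h : GL (Fin n) F) : glInvT (g * h) = glInvT g * glInvT h := by
  apply Units.ext
  rw [Units.val_mul, glInvT_val, glInvT_val, glInvT_val, _root_.mul_inv_rev, Units.val_mul,
    Matrix.transpose_mul]

theorem glInvT_glInvT (g : GL (Fin n) F) : glInvT (glInvT g) = g := by
  apply Units.ext
  rw [glInvT_val, glInvT_inv_val, Matrix.transpose_transpose]

theorem glInvT_one : glInvT (1 : GL (Fin n) F) = 1 := by
  apply Units.ext
  rw [glInvT_val, inv_one, Units.val_one, Matrix.transpose_one]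

/-- inverse-transpose as an automorphism of `GL_n` -/
noncomputable def glInvTEquiv : GL (Fin n) F ≃* GL (Fin n) F where
  toFun := glInvT
  invFun := glInvT
  left_inv := glInvT_glInvT
  right_inv := glInvT_glInvT
  map_mul' := glInvT_mul

theorem glInvTEquiv_apply (g : GL (Fin n) F) : glInvTEquiv g = glInvT g := rfl

theorem glInvT_inv (g : GL (Fin n) F) : glInvT g⁻¹ = (glInvT g)⁻¹ :=
  map_inv (glInvTEquiv (n := n) (F := F)) g

theorem glInvT_mem_scalars_iff (g : GL (Fin n) F) :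
    glInvT g ∈ Cfsg.Geo.scalars (Fin n) F ↔ g ∈ Cfsg.Geo.scalars (Fin n) F := by
  have key : ∀ g : GL (Fin n) F, g ∈ Cfsg.Geo.scalars (Fin n) F →
      glInvT g ∈ Cfsg.Geo.scalars (Fin n) F := by
    intro g hg
    rw [Cfsg.Geo.mem_scalars_iff] at hg ⊢
    obtain ⟨c, hc⟩ := hg
    refine ⟨c⁻¹, ?_⟩
    have h1 : g⁻¹.val = ((c⁻¹ : Fˣ) : F) • (1 : Matrix (Fin n) (Fin n) F) := by
      have : g.val * (((c⁻¹ : Fˣ) : F) • (1 : Matrix (Fin n) (Fin n) F)) = 1 := by
        rw [hc, Matrix.smul_mul, Matrix.one_mul, smul_smul, ← Units.val_mul, mul_inv_cancel,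
          Units.val_one, one_smul]
      calc g⁻¹.val = g⁻¹.val * (g.val * (((c⁻¹ : Fˣ) : F) • (1 : Matrix (Fin n) (Fin n) F))) := by
            rw [this, Matrix.mul_one]
        _ = _ := by rw [← Matrix.mul_assoc, Units.inv_mul, Matrix.one_mul]
    rw [glInvT_val, h1, Matrix.transpose_smul, Matrix.transpose_one]
  constructor
  · intro h
    have := key _ h
    rwa [glInvT_glInvT] at this
  · exact key g

theorem graphAut_mul_graphAut (g h : GL (Fin n) F) :
    graphAut g * graphAut h = conjGLn (g * glInvT h) := by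
  unfold graphAut
  rw [mul_assoc, ← mul_assoc invT, invT_mul_conjGLn, mul_assoc, invT_mul_invT, mul_one,
    ← map_mul]

theorem conj_graphAut (h g : GL (Fin n) F) :
    conjGLn h * graphAut g * (conjGLn h)⁻¹ = graphAut (h * g * (glInvT h)⁻¹) := by
  unfold graphAut
  rw [← map_inv, mul_assoc, mul_assoc, invT_mul_conjGLn, ← mul_assoc, ← mul_assoc, ← map_mul,
    ← map_mul, glInvT_inv]

theorem graphAut_eq_iff (p : ℕ) [Fact p.Prime] [CharP F p] (hn : 1 ≤ n) (g h : GL (Fin n) F) :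
    graphAut g = graphAut h ↔ g⁻¹ * h ∈ Cfsg.Geo.scalars (Fin n) F := by
  unfold graphAut
  rw [mul_left_inj, ← conjGLn_ker_eq_scalars p hn, MonoidHom.mem_ker, map_mul, map_inv,
    inv_mul_eq_one]

theorem conjGLn_eq_one_iff (p : ℕ) [Fact p.Prime] [CharP F p] (hn : 1 ≤ n) (g : GL (Fin n) F) :
    conjGLn g = (1 : MulAut G) ↔ g ∈ Cfsg.Geo.scalars (Fin n) F := by
  rw [← conjGLn_ker_eq_scalars p hn, MonoidHom.mem_ker]

theorem invT_xr {i j : Fin n} (hij : i ≠ j) (t : F) :
    invT (xr i j t : G) = xr j i (-t) := by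
  rw [xr_eq_re, invT_re (eb_dot_eb_of_ne hij.symm), ← xr_eq_re]

theorem graphAut_ne_one (p : ℕ) [Fact p.Prime] [CharP F p] (hn : 3 ≤ n) (g : GL (Fin n) F) :
    graphAut g ≠ (1 : MulAut G) := by
  intro h
  have h1 : (invT : MulAut G) = conjGLn g⁻¹ := by
    unfold graphAut at h
    rw [map_inv]
    exact (eq_inv_of_mul_eq_one_right h)
  have h3 : ∀ i k : Fin n, ∃ j, j ≠ i ∧ j ≠ k := by
    intro i k
    by_contra hne
    push Not at hne
    have : (Finset.univ : Finset (Fin n)) ⊆ {i, k} := by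
      intro j _
      by_cases hji : j = i
      · simp [hji]
      · simp [hne j hji]
    have := Finset.card_le_card this
    rw [Finset.card_univ, Fintype.card_fin] at this
    have := (Finset.card_le_two (a := i) (b := k))
    omega
  exact not_conj_reverses p (g := g⁻¹) h3 ⟨0, by omega⟩
    (fun j hij => ⟨-1, by rw [← h1, invT_xr hij]⟩)

theorem orderOf_graphAut_eq_two_iff (p : ℕ) [Fact p.Prime] [CharP F p] (hn : 3 ≤ n)
    (g : GL (Fin n) F) :
    orderOf (graphAut g : MulAut G) = 2 ↔ g * glInvT g ∈ Cfsg.Geo.scalars (Fin n) F := by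
  rw [orderOf_eq_prime_iff (p := 2), pow_two, graphAut_mul_graphAut,
    conjGLn_eq_one_iff p (by omega)]
  exact ⟨fun h => h.1, fun h => ⟨h, graphAut_ne_one p hn g⟩⟩

theorem isConjUnder_graphAut_iff (p : ℕ) [Fact p.Prime] [CharP F p] (hn : 1 ≤ n)
    (g g' : GL (Fin n) F) :
    Cfsg.IsConjUnder (Cfsg.inndiagPSL n F) (graphAut g : MulAut G) (graphAut g') ↔
      ∃ h : GL (Fin n) F, (h * g * (glInvT h)⁻¹)⁻¹ * g' ∈ Cfsg.Geo.scalars (Fin n) F := by
  unfold Cfsg.IsConjUnder
  rw [inndiagPSL_eq_range]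
  constructor
  · rintro ⟨β, ⟨h, rfl⟩, hβ⟩
    rw [conj_graphAut, eq_comm, graphAut_eq_iff p hn] at hβ
    exact ⟨h, hβ⟩
  · rintro ⟨h, hh⟩
    refine ⟨conjGLn h, ⟨h, rfl⟩, ?_⟩
    rw [conj_graphAut, eq_comm, graphAut_eq_iff p hn]
    exact hh

/-- matrices commuting with a graph automorphism -/
theorem conjGLn_mem_centralizer_graphAut_iff (p : ℕ) [Fact p.Prime] [CharP F p] (hn : 1 ≤ n)
    (g h : GL (Fin n) F) :
    conjGLn h ∈ Subgroup.centralizer {(graphAut g : MulAut G)} ↔
      (g * glInvT h)⁻¹ * (h * g) ∈ Cfsg.Geo.scalars (Fin n) F := by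
  rw [Subgroup.mem_centralizer_iff]
  have : (∀ x ∈ ({(graphAut g : MulAut G)} : Set (MulAut G)), x * conjGLn h = conjGLn h * x) ↔
      graphAut g * conjGLn h = conjGLn h * graphAut g := by
    constructor
    · intro hx
      exact hx _ rfl
    · intro hx x hxm
      rw [Set.mem_singleton_iff] at hxm
      subst hxm
      exact hx
  rw [this]
  unfold graphAut
  rw [mul_assoc, invT_mul_conjGLn, ← mul_assoc, ← mul_assoc, ← map_mul, ← map_mul, mul_left_inj,
    ← conjGLn_ker_eq_scalars p hn, MonoidHom.mem_ker, map_mul _ (g * glInvT h)⁻¹, map_inv,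
    inv_mul_eq_one]

end

end Cfsg.Agent.Lib.Helper50
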