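import Mathlib

set_option autoImplicit false

/-! Non-alternating nondegenerate symmetric bilinear forms over a perfect field of characteristic
two have an orthonormal basis. -/

namespace Cfsg.Agent.Lib.Helper50

open Module Matrix

universe u v

section
variable {F : Type u} [Field F] {V : Type v} [AddCommGroup V] [Module F V]

/-- splitting off a vector of norm one -/
noncomputable def orthoSplit (B : LinearMap.BilinForm F V) (v₁ : V) (h1 : B v₁ v₁ = 1) :
    V ≃ₗ[F] F × ↥(LinearMap.ker (B v₁)) where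
  toFun v := (B v₁ v, ⟨v - B v₁ v • v₁, by
    rw [LinearMap.mem_ker, map_sub, map_smul, h1, smul_eq_mul, mul_one, sub_self]⟩)
  map_add' x y := by
    ext
    · simp
    · simp only [map_add, add_smul, Prod.snd_add, Submodule.coe_add]
      abel
  map_smul' a x := by
    ext
    · simp
    · simp only [map_smul, smul_eq_mul, RingHom.id_apply, Prod.smul_snd, Submodule.coe_smul,
        smul_sub, mul_smul]
  invFun p := p.1 • v₁ + p.2.1
  left_inv v := by simp
  right_inv p := by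
    have hp : B v₁ p.2.1 = 0 := LinearMap.mem_ker.mp p.2.2
    ext
    · simp [h1, hp]
    · simp [h1, hp]

theorem orthoSplit_fst (B : LinearMap.BilinForm F V) (v₁ : V) (h1 : B v₁ v₁ = 1) (v : V) :
    (orthoSplit B v₁ h1 v).1 = B v₁ v := rfl

theorem orthoSplit_form (B : LinearMap.BilinForm F V) (hs : ∀ u v, B u v = B v u) (v₁ : V)
    (h1 : B v₁ v₁ = 1) (u v : V) :
    B u v = B v₁ u * B v₁ v + B ((orthoSplit B v₁ h1 u).2 : V) ((orthoSplit B v₁ h1 v).2 : V) := by
  show B u v = B v₁ u * B v₁ v + B (u - B v₁ u • v₁) (v - B v₁ v • v₁)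
  simp only [map_sub, map_smul, LinearMap.sub_apply, LinearMap.smul_apply, smul_eq_mul, h1,
    hs u v₁]
  ring

theorem finrank_ker_of_split [FiniteDimensional F V] (B : LinearMap.BilinForm F V) (v₁ : V)
    (h1 : B v₁ v₁ = 1) (k : ℕ) (hV : finrank F V = k + 1) :
    finrank F ↥(LinearMap.ker (B v₁)) = k := by
  have := (orthoSplit B v₁ h1).finrank_eq
  rw [Module.finrank_prod, Module.finrank_self, hV] at this
  omega

theorem dot_of_split (B : LinearMap.BilinForm F V) (hs : ∀ u v, B u v = B v u) (v₁ : V)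
    (h1 : B v₁ v₁ = 1) (k : ℕ) (ψ : ↥(LinearMap.ker (B v₁)) ≃ₗ[F] (Fin k → F))
    (hψ : ∀ w w' : ↥(LinearMap.ker (B v₁)), B (w : V) (w' : V) = ψ w ⬝ᵥ ψ w') :
    ∃ φ : V ≃ₗ[F] (Fin (k + 1) → F), ∀ u v, B u v = φ u ⬝ᵥ φ v := by
  refine ⟨(orthoSplit B v₁ h1).trans ((LinearEquiv.prodCongr (LinearEquiv.refl F F) ψ).trans
    (Fin.consLinearEquiv F (fun _ : Fin (k + 1) => F))), fun u v => ?_⟩
  rw [orthoSplit_form B hs v₁ h1 u v, hψ]
  show _ = (Fin.cons (B v₁ u) (ψ (orthoSplit B v₁ h1 u).2) : Fin (k + 1) → F) ⬝ᵥ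
    (Fin.cons (B v₁ v) (ψ (orthoSplit B v₁ h1 v).2) : Fin (k + 1) → F)
  exact (Matrix.cons_dotProduct_cons _ _ _ _).symm

theorem ker_nondeg (B : LinearMap.BilinForm F V) (hs : ∀ u v, B u v = B v u)
    (hnd : ∀ u, (∀ v, B u v = 0) → u = 0) (v₁ : V) (h1 : B v₁ v₁ = 1)
    (w : ↥(LinearMap.ker (B v₁)))
    (hw : ∀ w' : ↥(LinearMap.ker (B v₁)), B (w : V) (w' : V) = 0) : w = 0 := by
  apply Subtype.ext
  apply hnd
  intro v
  have hw1 : B v₁ (w : V) = 0 := LinearMap.mem_ker.mp w.2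
  have := orthoSplit_form B hs v₁ h1 (w : V) v
  rw [this, hw1, zero_mul, zero_add]
  have h2 : ((orthoSplit B v₁ h1 (w : V)).2 : V) = (w : V) := by
    show (w : V) - B v₁ (w : V) • v₁ = w
    rw [hw1, zero_smul, sub_zero]
  rw [h2]
  exact hw _

/-- choice of a good vector of norm one -/
theorem exists_good_vector [CharP F 2] [FiniteDimensional F V] (hsq : ∀ a : F, ∃ b : F, b * b = a)
    (B : LinearMap.BilinForm F V) (hs : ∀ u v, B u v = B v u)
    (hnd : ∀ u, (∀ v, B u v = 0) → u = 0) (k : ℕ) (hV : finrank F V = k + 1)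
    (hna : ∃ v, B v v ≠ 0) :
    ∃ v₁ : V, B v₁ v₁ = 1 ∧ (k = 0 ∨ ∃ w ∈ LinearMap.ker (B v₁), B w w ≠ 0) := by
  have h11 : (1 : F) + 1 = 0 := CharTwo.add_self_eq_zero 1
  obtain ⟨v, hv⟩ := hna
  obtain ⟨b, hb⟩ := hsq (B v v)
  have hb0 : b ≠ 0 := by
    rintro rfl
    rw [mul_zero] at hb
    exact hv hb.symm
  have h1 : B (b⁻¹ • v) (b⁻¹ • v) = 1 := by
    simp only [map_smul, LinearMap.smul_apply, smul_eq_mul, ← hb]
    field_simp
  by_cases hk : k = 0
  · exact ⟨_, h1, Or.inl hk⟩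
  by_cases hgood : ∃ w ∈ LinearMap.ker (B (b⁻¹ • v)), B w w ≠ 0
  · exact ⟨_, h1, Or.inr hgood⟩
  push Not at hgood
  set v₁ := b⁻¹ • v with hv₁
  have hrank := finrank_ker_of_split B v₁ h1 k hV
  haveI : Nontrivial ↥(LinearMap.ker (B v₁)) := by
    apply Module.nontrivial_of_finrank_pos (R := F)
    omega
  obtain ⟨e, he⟩ := exists_ne (0 : ↥(LinearMap.ker (B v₁)))
  have hex : ∃ f' : ↥(LinearMap.ker (B v₁)), B (e : V) (f' : V) ≠ 0 := by
    by_contra hcon
    push Not at hcon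
    exact he (ker_nondeg B hs hnd v₁ h1 e hcon)
  obtain ⟨f', hf'⟩ := hex
  have hev : B v₁ (e : V) = 0 := LinearMap.mem_ker.mp e.2
  have hfv : B v₁ (f' : V) = 0 := LinearMap.mem_ker.mp f'.2
  have hee : B (e : V) (e : V) = 0 := hgood _ e.2
  have hff : B (f' : V) (f' : V) = 0 := hgood _ f'.2
  set c := B (e : V) (f' : V) with hc
  refine ⟨v₁ + e, ?_, Or.inr ⟨c⁻¹ • (f' : V) + v₁, ?_, ?_⟩⟩
  · simp only [map_add, LinearMap.add_apply, h1, hev, hs (e : V) v₁, hee]
    ring
  · rw [LinearMap.mem_ker]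
    simp only [map_add, LinearMap.add_apply, map_smul, smul_eq_mul, h1, hfv, hs (e : V) v₁, hev,
      ← hc]
    rw [zero_add, inv_mul_cancel₀ hf']
    linear_combination h11
  · simp only [map_add, LinearMap.add_apply, map_smul, LinearMap.smul_apply, smul_eq_mul, h1, hfv,
      hs (f' : V) v₁, hff]
    simp

/-- a nondegenerate symmetric non-alternating form over a perfect field of characteristic two
is the dot product in suitable coordinates -/
theorem exists_orthonormal_equiv [CharP F 2] (hsq : ∀ a : F, ∃ b : F, b * b = a) (n : ℕ) :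
    ∀ (V : Type v) [AddCommGroup V] [Module F V] [FiniteDimensional F V]
      (B : LinearMap.BilinForm F V), finrank F V = n → (∀ u v, B u v = B v u) →
      (∀ u, (∀ v, B u v = 0) → u = 0) → (n = 0 ∨ ∃ v, B v v ≠ 0) →
      ∃ φ : V ≃ₗ[F] (Fin n → F), ∀ u v, B u v = φ u ⬝ᵥ φ v := by
  induction n with
  | zero =>
    intro V _ _ _ B hV hs hnd _
    haveI : Subsingleton V := Module.finrank_zero_iff.mp hV
    refine ⟨LinearEquiv.ofFinrankEq V (Fin 0 → F) (by rw [hV, Module.finrank_fin_fun]), ?_⟩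
    intro u v
    rw [Subsingleton.elim u 0]
    simp
  | succ k ih =>
    intro V _ _ _ B hV hs hnd hna
    have hna' : ∃ v, B v v ≠ 0 := by
      rcases hna with h | h
      · omega
      · exact h
    obtain ⟨v₁, h1, hgood⟩ := exists_good_vector hsq B hs hnd k hV hna'
    have hrank := finrank_ker_of_split B v₁ h1 k hV
    obtain ⟨ψ, hψ⟩ := ih ↥(LinearMap.ker (B v₁)) (B.restrict (LinearMap.ker (B v₁))) hrank
      (fun u v => hs _ _) (fun w hw => ker_nondeg B hs hnd v₁ h1 w hw)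
      (by
        rcases hgood with h | ⟨w, hw, hww⟩
        · exact Or.inl h
        · exact Or.inr ⟨⟨w, hw⟩, hww⟩)
    exact dot_of_split B hs v₁ h1 k ψ hψ

end

end Cfsg.Agent.Lib.Helper50
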