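import Cfsg.Agent.Lib.Helper50.GraphClasses
import Cfsg.Agent.Lib.Helper50.OrthoChar2
import Cfsg.Agent.Lib.Helper50.SpTransvCent

set_option autoImplicit false

/-! Classes of involutory graph automorphisms of `PSL_{2m}(F)`, `F` finite of characteristic
two. -/

namespace Cfsg.Agent.Lib.Helper50

open Matrix Cfsg.Agent.Lib.Helper07

section conj
variable {X : Type*} [Group X]

theorem isConjUnder_symm (H : Subgroup X) {x y : X} (h : Cfsg.IsConjUnder H x y) :
    Cfsg.IsConjUnder H y x := by
  obtain ⟨g, hg, rfl⟩ := h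
  exact ⟨g⁻¹, inv_mem hg, by group⟩

theorem isConjUnder_trans (H : Subgroup X) {x y z : X} (h1 : Cfsg.IsConjUnder H x y)
    (h2 : Cfsg.IsConjUnder H y z) : Cfsg.IsConjUnder H x z := by
  obtain ⟨g, hg, rfl⟩ := h1
  obtain ⟨k, hk, rfl⟩ := h2
  exact ⟨k * g, mul_mem hk hg, by group⟩

end conj

section
variable {n : ℕ} {F : Type*} [Field F]

theorem matBil_add_mat (M N : Matrix (Fin n) (Fin n) F) (u v : Fin n → F) :
    matBil (M + N) u v = matBil M u v + matBil N u v := by
  unfold matBil
  rw [Matrix.add_mulVec, dotProduct_add]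

theorem matBil_single_mat (k : Fin n) (u v : Fin n → F) :
    matBil (Matrix.single k k (1 : F)) u v = u k * v k := by
  unfold matBil
  rw [Matrix.single_mulVec_eq, one_mul, dotProduct_smul, dotProduct_single, mul_one, smul_eq_mul,
    mul_comm]

theorem matBil_one (u v : Fin n → F) : matBil (1 : Matrix (Fin n) (Fin n) F) u v = u ⬝ᵥ v := by
  unfold matBil
  rw [Matrix.one_mulVec]

/-- in characteristic two a symmetric matrix with zero diagonal gives an alternating form -/
theorem matQuad_eq_zero_of_diag [CharP F 2] (M : Matrix (Fin n) (Fin n) F) (hM : Mᵀ = M)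
    (hd : ∀ i, M i i = 0) (v : Fin n → F) : matQuad M v = 0 := by
  have h2 : (2 : F) = 0 := CharTwo.two_eq_zero
  let q : (Fin n → F) →+ F := AddMonoidHom.mk' (matQuad M) (fun u v => by
    rw [matQuad_add M hM, h2, zero_mul, add_zero])
  have hq : ∀ w, q w = matQuad M w := fun w => rfl
  have hs : ∀ (i : Fin n) (a : F), matQuad M (Pi.single i a) = 0 := by
    intro i a
    have : (Pi.single i a : Fin n → F) = a • Pi.single i 1 := by
      ext j
      simp [Pi.single_apply]
    rw [this, matQuad_smul]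
    show a * a * matBil M (Pi.single i 1) (Pi.single i 1) = 0
    rw [matBil_single, hd, mul_zero]
  rw [← hq, ← Finset.univ_sum_single v, map_sum]
  apply Finset.sum_eq_zero
  intro i _
  rw [hq, hs]

end

section main
variable {F : Type*} [Field F] [Fintype F]

theorem isConj_J_of_isAlt (p : ℕ) [Fact p.Prime] [CharP F p] {m : ℕ}
    (hm : 2 ≤ m) (g : GL (Fin (2 * m)) F) (hA : (Matrix.toBilin' g.val).IsAlt) :
    Cfsg.IsConjUnder (Cfsg.inndiagPSL (2 * m) F) (graphAut (JGL m F)) (graphAut g) := by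
  classical
  have hB : (Matrix.toBilin' g.val).Nondegenerate :=
    Matrix.nondegenerate_toBilin'_iff.mpr (Matrix.nondegenerate_of_det_ne_zero (det_gl_ne_zero g))
  obtain ⟨b, hb⟩ := Cfsg.Agent.Lib.Helper20.exists_symplectic_basis (Matrix.toBilin' g.val) hA hB m
    (Module.finrank_fin_fun F)
  let P : Matrix (Fin (2 * m)) (Fin (2 * m)) F := Matrix.of (fun i j => b (idxE m j) i)
  have hPcol : ∀ j, P *ᵥ (Pi.single j 1) = b (idxE m j) := by
    intro j
    rw [Matrix.mulVec_single_one]
    rfl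
  have hP : Pᵀ * g.val * P = (1 : F) • Jmat m F := by
    rw [one_smul]
    ext i j
    rw [← matBil_single (Pᵀ * g.val * P), ← matBil_mulVec, hPcol, hPcol]
    have := congrFun (congrFun hb (idxE m i)) (idxE m j)
    rw [LinearMap.BilinForm.toMatrix_apply, Matrix.toBilin'_apply'] at this
    exact this
  obtain ⟨P', hP'⟩ := exists_gl_of_congr P (Jmat m F) g.val 1 hP one_ne_zero (det_Jmat_ne_zero m)
  apply isConjUnder_graphAut_of_congr p (by omega) (JGL m F) g P' 1
  rw [hP', Units.val_one, JGL_val]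
  exact hP

/-- symmetric non-alternating invertible matrices are congruent to the identity -/
theorem isConj_one_of_not_alt [CharP F 2] {n : ℕ} (hn : 1 ≤ n) (g : GL (Fin n) F)
    (hg : g.valᵀ = g.val) (hna : ∃ i, g.val i i ≠ 0) :
    Cfsg.IsConjUnder (Cfsg.inndiagPSL n F) (graphAut g) (graphAut (1 : GL (Fin n) F)) := by
  have hsq : ∀ a : F, ∃ b : F, b * b = a := by
    intro a
    obtain ⟨r, hr⟩ := FiniteField.isSquare_of_char_two (ringChar.eq F 2) a
    exact ⟨r, hr.symm⟩
  obtain ⟨i, hi⟩ := hna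
  obtain ⟨φ, hφ⟩ := exists_orthonormal_equiv hsq n (Fin n → F) (Matrix.toBilin' g.val)
    (Module.finrank_fin_fun F)
    (fun u v => by
      rw [Matrix.toBilin'_apply', Matrix.toBilin'_apply']
      exact matBil_comm hg u v)
    (fun u hu => by
      have hnd := Matrix.nondegenerate_of_det_ne_zero (det_gl_ne_zero g)
      apply hnd.eq_zero_of_ortho
      intro w
      have := hu w
      rwa [Matrix.toBilin'_apply'] at this)
    (Or.inr ⟨Pi.single i 1, by
      rw [Matrix.toBilin'_apply']
      show matBil g.val _ _ ≠ 0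
      rw [matBil_single]
      exact hi⟩)
  have hP : (LinearMap.toMatrix' (φ : (Fin n → F) →ₗ[F] (Fin n → F)))ᵀ * (1 : GL (Fin n) F).val *
      LinearMap.toMatrix' (φ : (Fin n → F) →ₗ[F] (Fin n → F)) = (1 : F) • g.val := by
    rw [one_smul, Units.val_one]
    apply matBil_ext
    intro u v
    rw [← matBil_mulVec, matBil_one, LinearMap.toMatrix'_mulVec, LinearMap.toMatrix'_mulVec]
    have := hφ u v
    rw [Matrix.toBilin'_apply'] at this
    exact this.symm
  obtain ⟨P', hP'⟩ := exists_gl_of_congr _ g.val (1 : GL (Fin n) F).val 1 hP one_ne_zero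
    (det_gl_ne_zero g)
  haveI : Fact (Nat.Prime 2) := ⟨Nat.prime_two⟩
  apply isConjUnder_graphAut_of_congr 2 hn g 1 P' 1
  rw [hP', Units.val_one (α := F)]
  exact hP

end main

section third
variable {F : Type*} [Field F] [Fintype F] (m : ℕ) (hm : 0 < m)

/-- the index of the distinguished coordinate in `Fin (2m)` -/
def k0 : Fin (2 * m) := (idxE m).symm (i0 m hm)

/-- a symmetric non-alternating matrix adapted to the standard symplectic form -/
def M3 (F : Type*) [Field F] : Matrix (Fin (2 * m)) (Fin (2 * m)) F :=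
  Jmat m F + Matrix.single (k0 m hm) (k0 m hm) 1

theorem matBil_M3 (u v : Fin (2 * m) → F) :
    matBil (M3 m hm F) u v = bForm m hm (idxL m F u) (idxL m F v) := by
  unfold M3 bForm
  rw [matBil_add_mat, matBil_Jmat, matBil_single_mat]
  rfl

theorem M3_transpose [CharP F 2] : (M3 m hm F)ᵀ = M3 m hm F := by
  unfold M3
  rw [Matrix.transpose_add, Jmat_transpose, Matrix.transpose_single]
  congr 1
  ext i j
  rw [Matrix.neg_apply, CharTwo.neg_eq]

theorem M3_diag : (M3 m hm F) (k0 m hm) (k0 m hm) ≠ 0 := by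
  rw [← matBil_single (M3 m hm F) (k0 m hm) (k0 m hm), matBil_M3, bForm_self]
  simp [idxL_apply, k0]

theorem det_M3_ne_zero [CharP F 2] : (M3 m hm F).det ≠ 0 := by
  intro h0
  obtain ⟨v, hv, hv0⟩ := Matrix.exists_vecMul_eq_zero_iff.mpr h0
  apply hv
  have h1 : ∀ w, matBil (M3 m hm F) v w = 0 := by
    intro w
    unfold matBil
    rw [Matrix.dotProduct_mulVec, hv0, zero_dotProduct]
  have h2 : idxL m F v = 0 := by
    apply bForm_left_nondeg m hm
    intro w
    obtain ⟨w', rfl⟩ := (idxL m F).surjective w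
    rw [← matBil_M3]
    exact h1 w'
  exact (idxL m F).map_eq_zero_iff.mp h2

/-- the matrix `M3` as an invertible matrix -/
noncomputable def G3 [CharP F 2] : GL (Fin (2 * m)) F :=
  Matrix.GeneralLinearGroup.mkOfDetNeZero (M3 m hm F) (det_M3_ne_zero m hm)

theorem G3_val [CharP F 2] : (G3 m hm (F := F)).val = M3 m hm F := rfl

theorem nonempty_projQuot_M3 :
    Nonempty (Cfsg.projQuot (Cfsg.Geo.similarityGroup (matBil (M3 m hm F))) ≃*
      Cfsg.projQuot (Cfsg.Geo.similarityGroup (bForm m hm (F := F)))) :=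
  nonempty_projQuot_congr (glCongr (idxL m F)) (glCongr_mem_scalars (idxL m F)) _ _
    (glCongr_mem_similarityGroup (idxL m F) _ _ (fun u v => (matBil_M3 m hm u v).symm))

theorem not_isConj_J_M3 [CharP F 2] (hm2 : 2 ≤ m) :
    ¬ Cfsg.IsConjUnder (Cfsg.inndiagPSL (2 * m) F) (graphAut (JGL m F))
      (graphAut (G3 m hm (F := F))) := by
  haveI : Fact (Nat.Prime 2) := ⟨Nat.prime_two⟩
  rw [isConjUnder_graphAut_iff' 2 (by omega)]
  rintro ⟨h, c, hc⟩
  apply M3_diag m hm (F := F)
  rw [← G3_val, hc, Matrix.smul_apply, JGL_val]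
  have : h.val * Jmat m F * h.valᵀ = (h.valᵀ)ᵀ * Jmat m F * h.valᵀ := by
    rw [Matrix.transpose_transpose]
  rw [this, ← matBil_single ((h.valᵀ)ᵀ * Jmat m F * h.valᵀ), ← matBil_mulVec, matBil_Jmat,
    Cfsg.Agent.Lib.Helper18.sf_self, smul_zero]

end third

end Cfsg.Agent.Lib.Helper50
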