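import Cfsg.Agent.Lib.Helper50.MatType
import Cfsg.Agent.Lib.Helper20.SympEmbed

set_option autoImplicit false

/-! Classes of involutory graph automorphisms of `PSL_{2m}(F)`, `F` finite of odd order. -/

namespace Cfsg.Agent.Lib.Helper50

open Matrix Cfsg.Agent.Lib.Helper07

section
variable {F : Type*} [Field F]

theorem exists_prime_char [Finite F] : ∃ p : ℕ, p.Prime ∧ CharP F p := by
  obtain ⟨p, hp⟩ := CharP.exists F
  refine ⟨p, (CharP.char_is_prime_or_zero F p).resolve_right (fun h0 => ?_), hp⟩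
  subst h0
  haveI : CharZero F := CharP.charP_to_charZero F
  exact not_finite F

/-- the index equivalence -/
def idxE (m : ℕ) : Fin (2 * m) ≃ Fin m ⊕ Fin m := (finCongr (two_mul m)).trans finSumFinEquiv.symm

/-- the standard alternating matrix on `Fin (2m)` -/
def Jmat (m : ℕ) (F : Type*) [Field F] : Matrix (Fin (2 * m)) (Fin (2 * m)) F :=
  (Matrix.J (Fin m) F).submatrix (idxE m) (idxE m)

theorem Jmat_transpose (m : ℕ) : (Jmat m F)ᵀ = - Jmat m F := by
  unfold Jmat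
  rw [Matrix.transpose_submatrix, Matrix.J_transpose]
  rfl

theorem Jmat_mul_self (m : ℕ) : Jmat m F * Jmat m F = -1 := by
  unfold Jmat
  rw [Matrix.submatrix_mul_equiv, Matrix.J_squared]
  ext i j
  simp [Matrix.one_apply]

/-- the standard alternating matrix as an invertible matrix -/
def JGL (m : ℕ) (F : Type*) [Field F] : GL (Fin (2 * m)) F :=
  ⟨Jmat m F, - Jmat m F, by rw [Matrix.mul_neg, Jmat_mul_self, neg_neg],
    by rw [Matrix.neg_mul, Jmat_mul_self, neg_neg]⟩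

theorem JGL_val (m : ℕ) : (JGL m F).val = Jmat m F := rfl

theorem det_Jmat_ne_zero (m : ℕ) : (Jmat m F).det ≠ 0 := by
  have : IsUnit (JGL m F).val := (JGL m F).isUnit
  rw [Matrix.isUnit_iff_isUnit_det] at this
  exact this.ne_zero

/-- reindexing of coordinates -/
def idxL (m : ℕ) (F : Type*) [Field F] : (Fin (2 * m) → F) ≃ₗ[F] (Fin m ⊕ Fin m → F) :=
  LinearEquiv.funCongrLeft F F (idxE m).symm

theorem idxL_apply (m : ℕ) (u : Fin (2 * m) → F) : idxL m F u = u ∘ (idxE m).symm := rfl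

theorem matBil_Jmat (m : ℕ) (u v : Fin (2 * m) → F) :
    matBil (Jmat m F) u v = Cfsg.sympForm m F (idxL m F u) (idxL m F v) := by
  unfold matBil Cfsg.sympForm Jmat
  rw [idxL_apply, idxL_apply, Matrix.submatrix_mulVec_equiv, comp_equiv_symm_dotProduct]

theorem glCongr_mem_similarityGroup {ι κ : Type} [Fintype ι] [DecidableEq ι] [Fintype κ]
    [DecidableEq κ] (e : (ι → F) ≃ₗ[F] (κ → F)) (f : (ι → F) → (ι → F) → F)
    (f' : (κ → F) → (κ → F) → F) (h : ∀ u v, f' (e u) (e v) = f u v) (g : GL ι F) :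
    glCongr e g ∈ Cfsg.Geo.similarityGroup f' ↔ g ∈ Cfsg.Geo.similarityGroup f := by
  constructor
  · rintro ⟨c, hc⟩
    refine ⟨c, fun u v => ?_⟩
    have := hc (e u) (e v)
    rw [glCongr_mulVec_apply, glCongr_mulVec_apply, h, h] at this
    exact this
  · rintro ⟨c, hc⟩
    refine ⟨c, fun u v => ?_⟩
    obtain ⟨u, rfl⟩ := e.surjective u
    obtain ⟨v, rfl⟩ := e.surjective v
    rw [glCongr_mulVec_apply, glCongr_mulVec_apply, h, h]
    exact hc u v

theorem nonempty_projQuot_Jmat (m : ℕ) :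
    Nonempty (Cfsg.projQuot (Cfsg.Geo.similarityGroup (matBil (Jmat m F))) ≃* Cfsg.PGSp m F) :=
  nonempty_projQuot_congr (glCongr (idxL m F)) (glCongr_mem_scalars (idxL m F)) _ _
    (glCongr_mem_similarityGroup (idxL m F) _ _ (fun u v => (matBil_Jmat m u v).symm))

end

section main
variable {F : Type*} [Field F] [Fintype F]

local notation "PSLm" m => ProjectiveSpecialLinearGroup (Fin (2 * m)) F

theorem orderOf_graphAut_JGL (p : ℕ) [Fact p.Prime] [CharP F p] {m : ℕ} (hm : 2 ≤ m) :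
    orderOf (graphAut (JGL m F)) = 2 := by
  rw [orderOf_graphAut_eq_two_iff' p (by omega)]
  refine ⟨-1, ?_⟩
  rw [JGL_val, Jmat_transpose]
  simp

theorem nonempty_centralizer_JGL (p : ℕ) [Fact p.Prime] [CharP F p] {m : ℕ} (hm : 2 ≤ m) :
    Nonempty (↥(Cfsg.inndiagPSL (2 * m) F ⊓ Subgroup.centralizer {graphAut (JGL m F)}) ≃*
      Cfsg.PGSp m F) := by
  obtain ⟨e⟩ := nonempty_centralizer_graphAut_equiv p (by omega) (JGL m F)
  obtain ⟨e'⟩ := nonempty_projQuot_Jmat (F := F) m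
  exact ⟨e.trans e'⟩

theorem orderOf_graphAut_symm (p : ℕ) [Fact p.Prime] [CharP F p] {m : ℕ} (hm : 2 ≤ m)
    (g : GL (Fin (2 * m)) F) (hg : g.valᵀ = g.val) : orderOf (graphAut g) = 2 := by
  rw [orderOf_graphAut_eq_two_iff' p (by omega)]
  exact ⟨1, by rw [hg, Units.val_one, one_smul]⟩

theorem nonempty_centralizer_symm (p : ℕ) [Fact p.Prime] [CharP F p] (h2 : (2 : F) ≠ 0)
    {m : ℕ} (hm : 2 ≤ m) (g : GL (Fin (2 * m)) F) (hg : g.valᵀ = g.val) :
    Nonempty (↥(Cfsg.inndiagPSL (2 * m) F ⊓ Subgroup.centralizer {graphAut g}) ≃*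
      Cfsg.PGO F (matQuad g.val)) := by
  obtain ⟨e⟩ := nonempty_centralizer_graphAut_equiv p (by omega) g
  have := quadSimilarityGroup_matQuad h2 g.val hg
  unfold Cfsg.PGO
  rw [this]
  exact ⟨e⟩

theorem det_gl_ne_zero {n : ℕ} (g : GL (Fin n) F) : g.val.det ≠ 0 := by
  have : IsUnit g.val := g.isUnit
  rw [Matrix.isUnit_iff_isUnit_det] at this
  exact this.ne_zero

/-- a symmetric invertible matrix with prescribed determinant -/
theorem exists_symm_gl_det {n : ℕ} (hn : 1 ≤ n) (ν : F) (hν : ν ≠ 0) :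
    ∃ g : GL (Fin n) F, g.valᵀ = g.val ∧ g.val.det = ν := by
  obtain ⟨D, hD⟩ : ∃ D : Matrix (Fin n) (Fin n) F,
      D = Matrix.diagonal (Function.update (fun _ : Fin n => (1 : F)) ⟨0, hn⟩ ν) := ⟨_, rfl⟩
  have hdet : D.det = ν := by
    rw [hD, Matrix.det_diagonal, Finset.prod_update_of_mem (Finset.mem_univ _)]
    simp
  refine ⟨Matrix.GeneralLinearGroup.mkOfDetNeZero D (by rw [hdet]; exact hν), ?_, hdet⟩
  show Dᵀ = D
  rw [hD]
  exact Matrix.diagonal_transpose _

theorem not_isConj_J_symm (p : ℕ) [Fact p.Prime] [CharP F p] (h2 : (2 : F) ≠ 0) {m : ℕ}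
    (hm : 2 ≤ m) (g : GL (Fin (2 * m)) F) (hg : g.valᵀ = g.val) :
    ¬ Cfsg.IsConjUnder (Cfsg.inndiagPSL (2 * m) F) (graphAut (JGL m F)) (graphAut g) := by
  rw [isConjUnder_graphAut_iff' p (by omega)]
  rintro ⟨h, c, hc⟩
  have h1 : g.valᵀ = - g.val := by
    rw [hc, Matrix.transpose_smul, Matrix.transpose_mul, Matrix.transpose_mul,
      Matrix.transpose_transpose, JGL_val, Jmat_transpose]
    simp [Matrix.mul_assoc]
  rw [hg] at h1
  have h3 : g.val = 0 := by
    have : (2 : F) • g.val = 0 := by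
      rw [two_smul]
      nth_rewrite 1 [h1]
      exact neg_add_cancel _
    rcases smul_eq_zero.mp this with h | h
    · exact absurd h h2
    · exact h
  have := det_gl_ne_zero g
  haveI hne : Nonempty (Fin (2 * m)) := ⟨⟨0, by omega⟩⟩
  rw [h3, Matrix.det_zero] at this
  exact this rfl

theorem isSquare_det_of_isConj (p : ℕ) [Fact p.Prime] [CharP F p] {m : ℕ} (hm : 2 ≤ m)
    (g g' : GL (Fin (2 * m)) F)
    (h : Cfsg.IsConjUnder (Cfsg.inndiagPSL (2 * m) F) (graphAut g) (graphAut g')) :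
    IsSquare g'.val.det ↔ IsSquare g.val.det := by
  rw [isConjUnder_graphAut_iff' p (by omega)] at h
  obtain ⟨h, c, hc⟩ := h
  have hh := det_gl_ne_zero h
  rw [hc, Matrix.det_smul, Fintype.card_fin, Matrix.det_mul, Matrix.det_mul, Matrix.det_transpose,
    show (c : F) ^ (2 * m) * (h.val.det * g.val.det * h.val.det) =
      ((c : F) ^ m * h.val.det) ^ 2 * g.val.det by ring]
  exact isSquare_sq_mul_iff (mul_ne_zero (pow_ne_zero _ c.ne_zero) hh)

theorem isConj_J_of_skew (p : ℕ) [Fact p.Prime] [CharP F p] (h2 : (2 : F) ≠ 0) {m : ℕ}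
    (hm : 2 ≤ m) (g : GL (Fin (2 * m)) F) (hg : g.valᵀ = - g.val) :
    Cfsg.IsConjUnder (Cfsg.inndiagPSL (2 * m) F) (graphAut (JGL m F)) (graphAut g) := by
  classical
  have hB : (Matrix.toBilin' g.val).Nondegenerate :=
    Matrix.nondegenerate_toBilin'_iff.mpr (Matrix.nondegenerate_of_det_ne_zero (det_gl_ne_zero g))
  have hA : (Matrix.toBilin' g.val).IsAlt := by
    intro v
    rw [Matrix.toBilin'_apply']
    have h1 : v ⬝ᵥ g.val *ᵥ v = v ⬝ᵥ g.valᵀ *ᵥ v := by
      rw [Matrix.mulVec_transpose, Matrix.dotProduct_mulVec, dotProduct_comm]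
    rw [hg, Matrix.neg_mulVec, dotProduct_neg] at h1
    have : (2 : F) * (v ⬝ᵥ g.val *ᵥ v) = 0 := by linear_combination h1
    rcases mul_eq_zero.mp this with h | h
    · exact absurd h h2
    · exact h
  obtain ⟨b, hb⟩ := Cfsg.Agent.Lib.Helper20.exists_symplectic_basis (Matrix.toBilin' g.val) hA hB m
    (Module.finrank_fin_fun F)
  let P : Matrix (Fin (2 * m)) (Fin (2 * m)) F := Matrix.of (fun i j => b (idxE m j) i)
  have hPcol : ∀ j, P *ᵥ (Pi.single j 1) = b (idxE m j) := by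
    intro j
    rw [Matrix.mulVec_single_one]
    rfl
  have hP : Pᵀ * g.val * P = (1 : F) • Jmat m F := by
    rw [one_smul]
    ext i j
    rw [← matBil_single (Pᵀ * g.val * P), ← matBil_mulVec, hPcol, hPcol]
    have := congrFun (congrFun hb (idxE m i)) (idxE m j)
    rw [LinearMap.BilinForm.toMatrix_apply, Matrix.toBilin'_apply'] at this
    exact this
  obtain ⟨P', hP'⟩ := exists_gl_of_congr P (Jmat m F) g.val 1 hP one_ne_zero (det_Jmat_ne_zero m)
  apply isConjUnder_graphAut_of_congr p (by omega) (JGL m F) g P' 1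
  rw [hP', Units.val_one, JGL_val]
  exact hP

theorem isConj_of_det (p : ℕ) [Fact p.Prime] [CharP F p] (h2 : (2 : F) ≠ 0) {m : ℕ}
    (hm : 2 ≤ m) (g g' : GL (Fin (2 * m)) F) (hg : g.valᵀ = g.val) (hg' : g'.valᵀ = g'.val)
    (hsq : IsSquare (g.val.det * g'.val.det)) :
    Cfsg.IsConjUnder (Cfsg.inndiagPSL (2 * m) F) (graphAut g) (graphAut g') := by
  obtain ⟨P, hP⟩ := congr_of_det h2 hg hg' (det_gl_ne_zero g) (det_gl_ne_zero g') hsq
  apply isConjUnder_graphAut_of_congr p (by omega) g g' P 1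
  rw [hP, Units.val_one, one_smul]

end main

end Cfsg.Agent.Lib.Helper50
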