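import Cfsg.Agent.Lib.Helper50.GraphChar2
import Cfsg.Agent.Lib.Helper08.OddSp

set_option autoImplicit false

/-! Involutory graph automorphisms of `PSL_n(F)`, `n` odd: one class, centralizer `PGO_n`. -/

namespace Cfsg.Agent.Lib.Helper50

open Matrix Cfsg.Agent.Lib.Helper07

section conj
variable {X : Type*} [Group X]

/-- conjugate elements have isomorphic centralizers in the conjugating subgroup -/
theorem nonempty_centralizer_equiv_of_isConjUnder (H : Subgroup X) {x y : X}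
    (h : Cfsg.IsConjUnder H x y) :
    Nonempty (↥(H ⊓ Subgroup.centralizer {x}) ≃* ↥(H ⊓ Subgroup.centralizer {y})) := by
  obtain ⟨g, hg, rfl⟩ := h
  have key : (H ⊓ Subgroup.centralizer {x}).map (MulAut.conj g).toMonoidHom =
      H ⊓ Subgroup.centralizer {g * x * g⁻¹} := by
    ext k
    rw [Subgroup.mem_map, Subgroup.mem_inf, Subgroup.mem_centralizer_iff]
    constructor
    · rintro ⟨k₀, hk₀, rfl⟩
      rw [Subgroup.mem_inf, Subgroup.mem_centralizer_iff] at hk₀
      refine ⟨?_, ?_⟩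
      · show g * k₀ * g⁻¹ ∈ H
        exact mul_mem (mul_mem hg hk₀.1) (inv_mem hg)
      · intro z hz
        rw [Set.mem_singleton_iff] at hz
        subst hz
        have := hk₀.2 x rfl
        show g * x * g⁻¹ * (g * k₀ * g⁻¹) = g * k₀ * g⁻¹ * (g * x * g⁻¹)
        calc g * x * g⁻¹ * (g * k₀ * g⁻¹) = g * (x * k₀) * g⁻¹ := by group
          _ = g * (k₀ * x) * g⁻¹ := by rw [this]
          _ = _ := by group
    · rintro ⟨hkH, hkc⟩
      refine ⟨g⁻¹ * k * g, ?_, ?_⟩
      · rw [Subgroup.mem_inf, Subgroup.mem_centralizer_iff]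
        refine ⟨mul_mem (mul_mem (inv_mem hg) hkH) hg, ?_⟩
        intro z hz
        rw [Set.mem_singleton_iff] at hz
        subst hz
        have := hkc (g * z * g⁻¹) rfl
        calc z * (g⁻¹ * k * g) = g⁻¹ * (g * z * g⁻¹ * k) * g := by group
          _ = g⁻¹ * (k * (g * z * g⁻¹)) * g := by rw [this]
          _ = _ := by group
      · show g * (g⁻¹ * k * g) * g⁻¹ = k
        group
  exact ⟨((MulAut.conj g).subgroupMap (H ⊓ Subgroup.centralizer {x})).trans
    (MulEquiv.subgroupCongr key)⟩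

end conj

section pgo
variable {F : Type*} [Field F] {ι κ : Type} [Fintype ι] [DecidableEq ι] [Fintype κ] [DecidableEq κ]

theorem glCongr_mem_quadSimilarityGroup' (e : (ι → F) ≃ₗ[F] (κ → F)) (Q : (ι → F) → F)
    (Q' : (κ → F) → F) (c : F) (hc : c ≠ 0) (h : ∀ v, Q' (e v) = c * Q v) (g : GL ι F) :
    glCongr e g ∈ Cfsg.Geo.quadSimilarityGroup Q' ↔ g ∈ Cfsg.Geo.quadSimilarityGroup Q := by
  constructor
  · rintro ⟨d, hd⟩
    refine ⟨d, fun v => ?_⟩
    have := hd (e v)
    rw [glCongr_mulVec_apply, h, h] at this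
    have h2 : c * Q (g.val *ᵥ v) = c * ((d : F) * Q v) := by rw [this]; ring
    exact mul_left_cancel₀ hc h2
  · rintro ⟨d, hd⟩
    refine ⟨d, fun u => ?_⟩
    obtain ⟨v, rfl⟩ := e.surjective u
    rw [glCongr_mulVec_apply, h, h, hd v]
    ring

/-- similar forms on coordinate spaces have isomorphic projective similarity groups -/
theorem nonempty_pgo_congr_similar (e : (ι → F) ≃ₗ[F] (κ → F)) (Q : (ι → F) → F)
    (Q' : (κ → F) → F) (c : F) (hc : c ≠ 0) (h : ∀ v, Q' (e v) = c * Q v) :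
    Nonempty (Cfsg.PGO F Q ≃* Cfsg.PGO F Q') :=
  nonempty_projQuot_congr (glCongr e) (glCongr_mem_scalars e) _ _
    (glCongr_mem_quadSimilarityGroup' e Q Q' c hc h)

/-- scaling the first hyperbolic coordinates turns `c x₀² + Σ xᵢ yᵢ` into `c (x₀² + Σ xᵢ yᵢ)` -/
noncomputable def oddScale (m : ℕ) (c : F) (hc : c ≠ 0) :
    (Unit ⊕ (Fin m ⊕ Fin m) → F) ≃ₗ[F] (Unit ⊕ (Fin m ⊕ Fin m) → F) :=
  LinearEquiv.piCongrRight (fun j : Unit ⊕ (Fin m ⊕ Fin m) =>
    LinearEquiv.smulOfNeZero F F (Sum.elim (fun _ => (1 : F)) (Sum.elim (fun _ => c⁻¹)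
      (fun _ => (1 : F))) j)
      (by rcases j with j | j | j <;> simp [hc]))

theorem oddScale_apply (m : ℕ) (c : F) (hc : c ≠ 0) (v : Unit ⊕ (Fin m ⊕ Fin m) → F)
    (j : Unit ⊕ (Fin m ⊕ Fin m)) :
    oddScale m c hc v j = (Sum.elim (fun _ => (1 : F)) (Sum.elim (fun _ => c⁻¹)
      (fun _ => (1 : F))) j) * v j := rfl

theorem quadFormOdd_oddScale (m : ℕ) (c : F) (hc : c ≠ 0) (v : Unit ⊕ (Fin m ⊕ Fin m) → F) :
    Cfsg.quadFormOdd m F (oddScale m c hc v) = c⁻¹ * oddForm m c v := by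
  unfold Cfsg.quadFormOdd oddForm
  simp only [oddScale_apply, Sum.elim_inl, Sum.elim_inr, one_mul]
  rw [mul_add, Finset.mul_sum, ← mul_assoc, inv_mul_cancel₀ hc, one_mul]
  congr 1
  apply Finset.sum_congr rfl
  intro i _
  ring

end pgo

section oddq
variable {F : Type*} [Field F] [Fintype F]

theorem nonempty_centralizer_symm' (p : ℕ) [Fact p.Prime] [CharP F p] (h2 : (2 : F) ≠ 0)
    {n : ℕ} (hn : 1 ≤ n) (g : GL (Fin n) F) (hg : g.valᵀ = g.val) :
    Nonempty (↥(Cfsg.inndiagPSL n F ⊓ Subgroup.centralizer {graphAut g}) ≃*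
      Cfsg.PGO F (matQuad g.val)) := by
  obtain ⟨e⟩ := nonempty_centralizer_graphAut_equiv p hn g
  have := quadSimilarityGroup_matQuad h2 g.val hg
  unfold Cfsg.PGO
  rw [this]
  exact ⟨e⟩

theorem det_eq_zero_of_skew_odd (h2 : (2 : F) ≠ 0) {n : ℕ} (hn : Odd n)
    (M : Matrix (Fin n) (Fin n) F) (hM : Mᵀ = -M) : M.det = 0 := by
  have h1 : M.det = -M.det := by
    conv_lhs => rw [← Matrix.det_transpose, hM, Matrix.det_neg, Fintype.card_fin, hn.neg_one_pow]
    ring
  have : (2 : F) * M.det = 0 := by linear_combination h1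
  rcases mul_eq_zero.mp this with h | h
  · exact absurd h h2
  · exact h

/-- in odd dimension any two symmetric invertible matrices are congruent up to a scalar -/
theorem isConj_symm_odd (p : ℕ) [Fact p.Prime] [CharP F p] (h2 : (2 : F) ≠ 0) {n : ℕ}
    (hn : Odd n) (g g' : GL (Fin n) F) (hg : g.valᵀ = g.val) (hg' : g'.valᵀ = g'.val) :
    Cfsg.IsConjUnder (Cfsg.inndiagPSL n F) (graphAut g) (graphAut g') := by
  have hd := det_gl_ne_zero g
  have hd' := det_gl_ne_zero g'
  have hn1 : 1 ≤ n := hn.pos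
  set c : F := g.val.det * g'.val.det with hc
  have hc0 : c ≠ 0 := mul_ne_zero hd hd'
  obtain ⟨k, hk⟩ := hn
  have hsq : IsSquare ((c • g.val).det * g'.val.det) := by
    rw [Matrix.det_smul, Fintype.card_fin]
    refine ⟨c ^ (k + 1), ?_⟩
    have e1 : c ^ n = c ^ (2 * k + 1) := by rw [hk]
    rw [e1, show c ^ (2 * k + 1) * g.val.det * g'.val.det = c ^ (2 * k + 1) * c by rw [hc]; ring]
    ring
  have hdc : (c • g.val).det ≠ 0 := by
    rw [Matrix.det_smul]
    exact mul_ne_zero (pow_ne_zero _ hc0) hd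
  obtain ⟨P, hP⟩ := congr_of_det h2 (M := c • g.val) (M' := g'.val)
    (by rw [Matrix.transpose_smul, hg]) hg' hdc hd' hsq
  exact isConjUnder_graphAut_of_congr p hn1 g g' P (Units.mk0 c hc0) hP

/-- the form of a symmetric invertible matrix of odd size is similar to the standard one -/
theorem nonempty_pgo_matQuad_odd (h2 : (2 : F) ≠ 0) (m : ℕ)
    (M : Matrix (Fin (2 * m + 1)) (Fin (2 * m + 1)) F) (hM : Mᵀ = M) (hdet : M.det ≠ 0) :
    Nonempty (Cfsg.PGO F (matQuad M) ≃* Cfsg.PGO F (Cfsg.quadFormOdd m F)) := by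
  have hn : Module.finrank F (Fin (2 * m + 1) → F) = 2 * m + 1 := Module.finrank_fin_fun F
  rcases witt_type (2 * m + 1) (qfMat M hM) hn (qfMat_QND h2 M hM hdet) with
    ⟨m', hm', -⟩ | ⟨k, ζ, hk, -, -⟩ | ⟨k, c, hk, hc, φ, hφ⟩
  · omega
  · omega
  · obtain rfl : k = m := by omega
    apply nonempty_pgo_congr_similar (φ.trans (oddScale k c hc)) (matQuad M)
      (Cfsg.quadFormOdd k F) c⁻¹ (inv_ne_zero hc)
    intro v
    rw [LinearEquiv.trans_apply, quadFormOdd_oddScale, hφ]
    rfl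

end oddq

section evenq
variable {F : Type*} [Field F] (m : ℕ)

local notation "Idx" => Unit ⊕ (Fin m ⊕ Fin m)
local notation "Sp" => Matrix.symplecticGroup (Fin m) F

open Cfsg.Agent.Lib.Helper18

/-- the symmetric form `x₀ y₀ + f(x', y')` -/
def b0Form (u v : Idx → F) : F :=
  u (Sum.inl ()) * v (Sum.inl ()) + Cfsg.sympForm m F (u ∘ Sum.inr) (v ∘ Sum.inr)

theorem b0Form_self (v : Idx → F) : b0Form m v v = v (Sum.inl ()) * v (Sum.inl ()) := by
  unfold b0Form
  rw [sf_self, add_zero]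

theorem b0Form_smul (a : F) (u v : Idx → F) :
    b0Form m (a • u) (a • v) = a * a * b0Form m u v := by
  unfold b0Form
  have e : ∀ w : Idx → F, (a • w) ∘ Sum.inr = a • (w ∘ Sum.inr) := fun w => rfl
  rw [e, e, sf_smul_smul, Pi.smul_apply, Pi.smul_apply, smul_eq_mul, smul_eq_mul]
  ring

theorem b0Form_ne_zero : ∃ u v : Idx → F, b0Form m u v ≠ 0 := by
  refine ⟨Pi.single (Sum.inl ()) 1, Pi.single (Sum.inl ()) 1, ?_⟩
  rw [b0Form_self]
  simp

theorem b0Form_sub_left (a b y : Idx → F) :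
    b0Form m (a - b) y = b0Form m a y - b0Form m b y := by
  unfold b0Form
  have e : (a - b) ∘ Sum.inr = a ∘ Sum.inr - b ∘ Sum.inr := rfl
  rw [e, sf_sub_left, Pi.sub_apply]
  ring

theorem b0Form_left_nondeg (v : Idx → F) (h : ∀ w, b0Form m v w = 0) : v = 0 := by
  have h0 : v (Sum.inl ()) = 0 := by
    have := h (Pi.single (Sum.inl ()) 1)
    unfold b0Form at this
    have e : (Pi.single (Sum.inl ()) (1 : F) : Idx → F) ∘ Sum.inr = 0 := by
      ext j
      simp
    rw [e, sf_zero_right, add_zero, Pi.single_eq_same, mul_one] at this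
    exact this
  have h1 : v ∘ Sum.inr = 0 := by
    by_contra hne
    obtain ⟨y, hy⟩ := sf_nondeg_top m (v ∘ Sum.inr) hne
    apply hy
    have := h (Sum.elim 0 y)
    unfold b0Form at this
    rw [h0, zero_mul, zero_add] at this
    exact this
  ext j
  rcases j with j | j
  · exact h0
  · exact congrFun h1 j

/-- block diagonal embedding of matrices -/
def blockHom : Matrix (Fin m ⊕ Fin m) (Fin m ⊕ Fin m) F →* Matrix Idx Idx F where
  toFun A := Matrix.fromBlocks 1 0 0 A
  map_one' := Matrix.fromBlocks_one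
  map_mul' A B := by
    rw [Matrix.fromBlocks_multiply]
    simp

/-- block diagonal embedding of the symplectic group -/
noncomputable def spBlock : ↥Sp →* GL Idx F :=
  ((blockHom m).comp (Submonoid.subtype _)).toHomUnits

theorem spBlock_val (A : ↥Sp) : (spBlock m A).val = Matrix.fromBlocks 1 0 0 A.1 := rfl

theorem fromBlocks_act_inl (δ : Matrix (Fin m ⊕ Fin m) (Fin m ⊕ Fin m) F) (u : Idx → F) :
    ((Matrix.fromBlocks 1 0 0 δ : Matrix Idx Idx F) *ᵥ u) (Sum.inl ()) = u (Sum.inl ()) := by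
  rw [Matrix.fromBlocks_mulVec]
  simp

theorem fromBlocks_act_inr (δ : Matrix (Fin m ⊕ Fin m) (Fin m ⊕ Fin m) F) (u : Idx → F) :
    ((Matrix.fromBlocks 1 0 0 δ : Matrix Idx Idx F) *ᵥ u) ∘ Sum.inr = δ *ᵥ (u ∘ Sum.inr) := by
  rw [Matrix.fromBlocks_mulVec]
  ext j
  simp

theorem spBlock_mem (A : ↥Sp) :
    spBlock m A ∈ Cfsg.preserving (Cfsg.glToMat Idx F) (b0Form m) := by
  intro u v
  show b0Form m ((spBlock m A).val *ᵥ u) ((spBlock m A).val *ᵥ v) = b0Form m u v
  unfold b0Form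
  rw [spBlock_val, fromBlocks_act_inl, fromBlocks_act_inl, fromBlocks_act_inr, fromBlocks_act_inr,
    sf_mulVec_of_mem m A.1 A.2]

theorem block_of_preserving [CharP F 2] (h : GL Idx F)
    (hh : h ∈ Cfsg.preserving (Cfsg.glToMat Idx F) (b0Form m)) :
    ∃ A : ↥Sp, spBlock m A = h := by
  have hh' : ∀ u v : Idx → F, b0Form m (h.val *ᵥ u) (h.val *ᵥ v) = b0Form m u v := hh
  have h1 : ∀ v : Idx → F, (h.val *ᵥ v) (Sum.inl ()) = v (Sum.inl ()) := by
    intro v
    have := hh' v v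
    rw [b0Form_self, b0Form_self] at this
    exact sq_eq_sq_char_two this
  have hsurj : ∀ y : Idx → F, y = h.val *ᵥ (h⁻¹.val *ᵥ y) := by
    intro y
    rw [Matrix.mulVec_mulVec, ← Units.val_mul, mul_inv_cancel, Units.val_one, Matrix.one_mulVec]
  have he : ∀ w : Idx → F, b0Form m (Pi.single (Sum.inl ()) 1) w = w (Sum.inl ()) := by
    intro w
    unfold b0Form
    have e : (Pi.single (Sum.inl ()) (1 : F) : Idx → F) ∘ Sum.inr = 0 := by
      ext j
      simp
    rw [e, sf_zero_left, add_zero, Pi.single_eq_same, one_mul]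
  have h2 : h.val *ᵥ (Pi.single (Sum.inl ()) 1) = Pi.single (Sum.inl ()) 1 := by
    have : h.val *ᵥ (Pi.single (Sum.inl ()) 1) - Pi.single (Sum.inl ()) 1 = 0 := by
      apply b0Form_left_nondeg
      intro y
      rw [b0Form_sub_left, he]
      nth_rewrite 1 [hsurj y]
      rw [hh', he]
      nth_rewrite 2 [hsurj y]
      rw [h1, sub_self]
    exact sub_eq_zero.mp this
  have hcol : ∀ i j, h.val i j = (h.val *ᵥ (Pi.single j 1)) i := by
    intro i j
    rw [Matrix.mulVec_single_one]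
    rfl
  have hblock : h.val = Matrix.fromBlocks 1 0 0 h.val.toBlocks₂₂ := by
    ext i j
    rcases i with i | i <;> rcases j with j | j
    · rw [hcol, h2]
      simp
    · rw [hcol, h1]
      simp
    · rw [hcol, h2]
      simp
    · rfl
  have hsp : h.val.toBlocks₂₂ ∈ Sp := by
    apply Cfsg.Agent.S0270.mem_symplectic_of_preserving
    intro x y
    have := hh' (Sum.elim 0 x) (Sum.elim 0 y)
    unfold b0Form at this
    rw [hblock, fromBlocks_act_inl, fromBlocks_act_inl, fromBlocks_act_inr,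
      fromBlocks_act_inr] at this
    simpa using this
  refine ⟨⟨_, hsp⟩, ?_⟩
  apply Units.ext
  rw [spBlock_val]
  exact hblock.symm

theorem nonempty_sp_equiv_preserving_b0 [CharP F 2] :
    Nonempty (↥Sp ≃* ↥(Cfsg.preserving (Cfsg.glToMat Idx F) (b0Form m))) := by
  let ρ : ↥Sp →* ↥(Cfsg.preserving (Cfsg.glToMat Idx F) (b0Form m)) :=
    (spBlock m).codRestrict _ (spBlock_mem m)
  have hinj : Function.Injective ρ := by
    intro A B hAB
    have h1 : (spBlock m A).val = (spBlock m B).val := by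
      have := congrArg (fun x : ↥(Cfsg.preserving (Cfsg.glToMat Idx F) (b0Form m)) =>
        (x : GL Idx F).val) hAB
      exact this
    rw [spBlock_val, spBlock_val] at h1
    apply Subtype.ext
    have := congrArg Matrix.toBlocks₂₂ h1
    rwa [Matrix.toBlocks_fromBlocks₂₂, Matrix.toBlocks_fromBlocks₂₂] at this
  have hsurj : Function.Surjective ρ := by
    intro h
    obtain ⟨A, hA⟩ := block_of_preserving m h.1 h.2
    exact ⟨A, Subtype.ext hA⟩
  exact ⟨MulEquiv.ofBijective ρ ⟨hinj, hsurj⟩⟩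

theorem nonempty_isometry_equiv_pgo_odd [CharP F 2] (hsq : ∀ a : F, ∃ b : F, b * b = a) :
    Nonempty (↥(Cfsg.isometryGroup F (Cfsg.quadFormOdd m F)) ≃*
      Cfsg.PGO F (Cfsg.quadFormOdd m F)) := by
  obtain ⟨e⟩ := nonempty_preserving_equiv_projQuot hsq
    (fun (u : Idx → F) (_ : Idx → F) => Cfsg.quadFormOdd m F u)
    (fun a u _ => quadFormOdd_smul m a u)
    ⟨Pi.single (Sum.inl ()) 1, 0, by simp [Cfsg.quadFormOdd]⟩
  have hS : Cfsg.Geo.similarityGroup (fun (u : Idx → F) (_ : Idx → F) => Cfsg.quadFormOdd m F u) =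
      Cfsg.Geo.quadSimilarityGroup (Cfsg.quadFormOdd m F) := by
    ext g
    constructor
    · rintro ⟨c, hc⟩
      exact ⟨c, fun v => hc v v⟩
    · rintro ⟨c, hc⟩
      exact ⟨c, fun u _ => hc u⟩
  rw [hS] at e
  exact ⟨e⟩

/-- `Sp_{2m}(F) ≃* PGO_{2m+1}(F)` in characteristic two -/
theorem nonempty_sp_equiv_pgo_odd [CharP F 2] [Finite F] (hsq : ∀ a : F, ∃ b : F, b * b = a) :
    Nonempty (↥Sp ≃* Cfsg.PGO F (Cfsg.quadFormOdd m F)) := by
  obtain ⟨e⟩ := nonempty_isometry_equiv_pgo_odd m hsq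
  exact ⟨(MulEquiv.ofBijective (Cfsg.Agent.Lib.Helper08.oddToSp F m)
    ⟨Cfsg.Agent.Lib.Helper08.oddToSp_injective, Cfsg.Agent.Lib.Helper08.oddToSp_surjective⟩).symm.trans
      e⟩

end evenq

section rep
variable {F : Type*} [Field F] [Fintype F] (m : ℕ)

local notation "Idx" => Unit ⊕ (Fin m ⊕ Fin m)

open Cfsg.Agent.Lib.Helper18

/-- an index equivalence -/
noncomputable def idxO : Fin (2 * m + 1) ≃ Idx :=
  (Fintype.equivFinOfCardEq (by
    simp only [Fintype.card_sum, Fintype.card_unique, Fintype.card_fin]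
    omega)).symm

/-- reindexing of coordinates -/
noncomputable def idxLO (F : Type*) [Field F] : (Fin (2 * m + 1) → F) ≃ₗ[F] (Idx → F) :=
  LinearEquiv.funCongrLeft F F (idxO m).symm

theorem idxLO_apply (u : Fin (2 * m + 1) → F) : idxLO m F u = u ∘ (idxO m).symm := rfl

/-- the representative symmetric non-alternating matrix -/
noncomputable def M0 (F : Type*) [Field F] : Matrix (Fin (2 * m + 1)) (Fin (2 * m + 1)) F :=
  (Matrix.fromBlocks (1 : Matrix Unit Unit F) 0 0 (Matrix.J (Fin m) F)).submatrix (idxO m) (idxO m)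

theorem dot_sum_type (x w : Idx → F) :
    x ⬝ᵥ w = x (Sum.inl ()) * w (Sum.inl ()) + (x ∘ Sum.inr) ⬝ᵥ (w ∘ Sum.inr) := by
  unfold dotProduct
  rw [Fintype.sum_sum_type]
  simp

theorem matBil_M0 (u v : Fin (2 * m + 1) → F) :
    matBil (M0 m F) u v = b0Form m (idxLO m F u) (idxLO m F v) := by
  unfold matBil M0 b0Form Cfsg.sympForm
  rw [idxLO_apply, idxLO_apply, Matrix.submatrix_mulVec_equiv, ← comp_equiv_symm_dotProduct,
    dot_sum_type, fromBlocks_act_inl, fromBlocks_act_inr]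

theorem M0_transpose [CharP F 2] : (M0 m F)ᵀ = M0 m F := by
  unfold M0
  have hJ : -(Matrix.J (Fin m) F) = Matrix.J (Fin m) F := by
    ext i j
    rw [Matrix.neg_apply, CharTwo.neg_eq]
  rw [Matrix.transpose_submatrix, Matrix.fromBlocks_transpose, Matrix.J_transpose,
    Matrix.transpose_one, Matrix.transpose_zero, Matrix.transpose_zero, hJ]

theorem M0_diag : (M0 m F) ((idxO m).symm (Sum.inl ())) ((idxO m).symm (Sum.inl ())) ≠ 0 := by
  unfold M0
  simp

theorem det_M0_ne_zero : (M0 m F).det ≠ 0 := by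
  intro h0
  obtain ⟨v, hv, hv0⟩ := Matrix.exists_vecMul_eq_zero_iff.mpr h0
  apply hv
  have h1 : ∀ w, matBil (M0 m F) v w = 0 := by
    intro w
    unfold matBil
    rw [Matrix.dotProduct_mulVec, hv0, zero_dotProduct]
  have h2 : idxLO m F v = 0 := by
    apply b0Form_left_nondeg m
    intro w
    obtain ⟨w', rfl⟩ := (idxLO m F).surjective w
    rw [← matBil_M0]
    exact h1 w'
  exact (idxLO m F).map_eq_zero_iff.mp h2

/-- the representative as an invertible matrix -/
noncomputable def G0 : GL (Fin (2 * m + 1)) F :=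
  Matrix.GeneralLinearGroup.mkOfDetNeZero (M0 m F) (det_M0_ne_zero m)

theorem G0_val : (G0 m (F := F)).val = M0 m F := rfl

theorem nonempty_projQuot_M0 :
    Nonempty (Cfsg.projQuot (Cfsg.Geo.similarityGroup (matBil (M0 m F))) ≃*
      Cfsg.projQuot (Cfsg.Geo.similarityGroup (b0Form m (F := F)))) :=
  nonempty_projQuot_congr (glCongr (idxLO m F)) (glCongr_mem_scalars (idxLO m F)) _ _
    (glCongr_mem_similarityGroup (idxLO m F) _ _ (fun u v => (matBil_M0 m u v).symm))

theorem nonempty_centralizer_G0 [CharP F 2] :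
    Nonempty (↥(Cfsg.inndiagPSL (2 * m + 1) F ⊓
      Subgroup.centralizer {graphAut (G0 m (F := F))}) ≃* Cfsg.PGO F (Cfsg.quadFormOdd m F)) := by
  haveI : Fact (Nat.Prime 2) := ⟨Nat.prime_two⟩
  have hsq : ∀ a : F, ∃ b : F, b * b = a := by
    intro a
    obtain ⟨r, hr⟩ := FiniteField.isSquare_of_char_two (ringChar.eq F 2) a
    exact ⟨r, hr.symm⟩
  obtain ⟨e⟩ := nonempty_centralizer_graphAut_equiv 2 (n := 2 * m + 1) (by omega) (G0 m (F := F))
  obtain ⟨e1⟩ := nonempty_projQuot_M0 (F := F) m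
  obtain ⟨e2⟩ := nonempty_preserving_equiv_projQuot hsq (b0Form m (F := F)) (b0Form_smul m)
    (b0Form_ne_zero m)
  obtain ⟨e3⟩ := nonempty_sp_equiv_preserving_b0 (F := F) m
  obtain ⟨e4⟩ := nonempty_sp_equiv_pgo_odd (F := F) m hsq
  exact ⟨(e.trans e1).trans ((e2.symm.trans e3.symm).trans e4)⟩

/-- no invertible alternating matrices of odd size -/
theorem not_isAlt_odd (g : GL (Fin (2 * m + 1)) F) (hA : (Matrix.toBilin' g.val).IsAlt) :
    False := by
  classical
  have hB : (Matrix.toBilin' g.val).Nondegenerate :=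
    Matrix.nondegenerate_toBilin'_iff.mpr (Matrix.nondegenerate_of_det_ne_zero (det_gl_ne_zero g))
  obtain ⟨m', k, b, -, -, -, h4⟩ := Cfsg.Agent.S0752.result (Matrix.toBilin' g.val) hA
  obtain rfl : k = 0 := by
    by_contra hk
    have hk' : 0 < k := Nat.pos_of_ne_zero hk
    have h0 : b (Sum.inr ⟨0, hk'⟩) = 0 := hB.1 _ (h4 ⟨0, hk'⟩)
    exact b.ne_zero _ h0
  have hcard : Module.finrank F (Fin (2 * m + 1) → F) = 2 * m' := by
    rw [Module.finrank_eq_card_basis b]
    simp [two_mul]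
  rw [Module.finrank_fin_fun] at hcard
  omega

theorem symm_of_order_two (p : ℕ) [Fact p.Prime] [CharP F p] {n : ℕ} (hn : 3 ≤ n)
    (g : GL (Fin n) F) (h : orderOf (graphAut g) = 2) :
    g.valᵀ = g.val ∨ g.valᵀ = - g.val := by
  rw [orderOf_graphAut_eq_two_iff' p hn] at h
  obtain ⟨c, hc⟩ := h
  have hdg := det_gl_ne_zero g
  have hT : g.valᵀ = (c : F) • g.val := by
    have := congrArg Matrix.transpose hc
    rw [Matrix.transpose_smul, Matrix.transpose_transpose] at this
    exact this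
  have hcc : (c : F) * c = 1 := by
    have h1 : g.val = ((c : F) * c) • g.val := by
      rw [← smul_smul, ← hT, ← hc]
    have hne : g.val ≠ 0 := by
      intro h0
      haveI : Nonempty (Fin n) := ⟨⟨0, by omega⟩⟩
      rw [h0, Matrix.det_zero] at hdg
      exact hdg rfl
    by_contra hne1
    apply hne
    have h3 : (((c : F) * c) - 1) • g.val = 0 := by
      rw [sub_smul, one_smul, ← h1, sub_self]
    rcases smul_eq_zero.mp h3 with h | h
    · exact absurd (sub_eq_zero.mp h) hne1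
    · exact h
  have : ((c : F) - 1) * ((c : F) + 1) = 0 := by linear_combination hcc
  rcases mul_eq_zero.mp this with h | h
  · left
    rw [hT, sub_eq_zero.mp h, one_smul]
  · right
    rw [hT, eq_neg_of_add_eq_zero_left h, neg_one_smul]

/-- involutory graph automorphisms in odd dimension, characteristic two -/
theorem graph_odd_char_two [CharP F 2] (hm : 1 ≤ m) (g : GL (Fin (2 * m + 1)) F)
    (hord : orderOf (graphAut g) = 2) :
    Nonempty (↥(Cfsg.inndiagPSL (2 * m + 1) F ⊓ Subgroup.centralizer {graphAut g}) ≃*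
      Cfsg.PGO F (Cfsg.quadFormOdd m F)) ∧
    Cfsg.IsConjUnder (Cfsg.inndiagPSL (2 * m + 1) F) (graphAut g)
      (graphAut (1 : GL (Fin (2 * m + 1)) F)) := by
  haveI : Fact (Nat.Prime 2) := ⟨Nat.prime_two⟩
  have hs : g.valᵀ = g.val := by
    rcases symm_of_order_two 2 (by omega) g hord with h | h
    · exact h
    · rw [h]
      ext i j
      rw [Matrix.neg_apply, CharTwo.neg_eq]
  have hna : ∃ i, g.val i i ≠ 0 := by
    by_contra hd
    push Not at hd
    apply not_isAlt_odd m g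
    intro v
    rw [Matrix.toBilin'_apply']
    exact matQuad_eq_zero_of_diag g.val hs hd v
  have h1 := isConj_one_of_not_alt (n := 2 * m + 1) (by omega) g hs hna
  have h0 := isConj_one_of_not_alt (n := 2 * m + 1) (by omega) (G0 m (F := F)) (M0_transpose m)
    ⟨_, M0_diag m⟩
  refine ⟨?_, h1⟩
  obtain ⟨e⟩ := nonempty_centralizer_equiv_of_isConjUnder _
    (isConjUnder_trans _ h1 (isConjUnder_symm _ h0))
  obtain ⟨e'⟩ := nonempty_centralizer_G0 (F := F) m
  exact ⟨e.trans e'⟩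

/-- involutory graph automorphisms in odd dimension, odd characteristic -/
theorem graph_odd_char_odd (p : ℕ) [Fact p.Prime] [CharP F p] (h2 : (2 : F) ≠ 0) (hm : 1 ≤ m)
    (g : GL (Fin (2 * m + 1)) F) (hord : orderOf (graphAut g) = 2) :
    g.valᵀ = g.val ∧
    Nonempty (↥(Cfsg.inndiagPSL (2 * m + 1) F ⊓ Subgroup.centralizer {graphAut g}) ≃*
      Cfsg.PGO F (Cfsg.quadFormOdd m F)) := by
  have hs : g.valᵀ = g.val := by
    rcases symm_of_order_two p (by omega) g hord with h | h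
    · exact h
    · exact absurd (det_eq_zero_of_skew_odd h2 ⟨m, rfl⟩ g.val h) (det_gl_ne_zero g)
  refine ⟨hs, ?_⟩
  obtain ⟨e⟩ := nonempty_centralizer_symm' p h2 (n := 2 * m + 1) (by omega) g hs
  obtain ⟨e'⟩ := nonempty_pgo_matQuad_odd h2 m g.val hs (det_gl_ne_zero g)
  exact ⟨e.trans e'⟩

end rep

end Cfsg.Agent.Lib.Helper50
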