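import Cfsg.Agent.Lib.Helper50.GraphOdd
import Cfsg.Agent.Lib.Helper07.SplitClass

set_option autoImplicit false

/-! Splitting of the `Inndiag`-class of an involutory graph automorphism of `PSL_n(F)`
into `PSL`-classes: reduction to the determinants of the similarity group. -/

namespace Cfsg.Agent.Lib.Helper50

open Matrix Cfsg.Agent.Lib.Helper07

section
variable {n : ℕ} {F : Type*} [Field F]

local notation "G" => ProjectiveSpecialLinearGroup (Fin n) F

theorem det_glInvT (h : GL (Fin n) F) :
    GeneralLinearGroup.det (glInvT h) = (GeneralLinearGroup.det h)⁻¹ := by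
  apply Units.ext
  rw [Units.val_inv_eq_inv_val]
  show (glInvT h).val.det = (h.val.det)⁻¹
  rw [glInvT_val, Matrix.det_transpose]
  have h1 : h⁻¹.val.det * h.val.det = 1 := by
    rw [← Matrix.det_mul, Units.inv_mul, Matrix.det_one]
  exact eq_inv_of_mul_eq_one_left h1

theorem relIndex_graphAut (p : ℕ) [Fact p.Prime] [CharP F p] (hn : 1 ≤ n) (g : GL (Fin n) F) :
    (Cfsg.Inn G ⊔ ((conjGLn (n := n) (F := F)).range ⊓
        Subgroup.centralizer {(graphAut g : MulAut G)})).relIndex
          (conjGLn (n := n) (F := F)).range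
      = ((powMonoidHom n : Fˣ →* Fˣ).range ⊔
          (Cfsg.Geo.similarityGroup (matBil g.val)).map
            (GeneralLinearGroup.det : GL (Fin n) F →* Fˣ)).index := by
  set C : Subgroup (MulAut G) :=
    (conjGLn (n := n) (F := F)).range ⊓ Subgroup.centralizer {(graphAut g : MulAut G)} with hC
  set M : Subgroup (MulAut G) := Cfsg.Inn G ⊔ C with hM
  rw [← Subgroup.index_comap]
  set Mt : Subgroup (GL (Fin n) F) := M.comap (conjGLn (n := n) (F := F)) with hMt
  have hne : Nonempty (Fin n) := ⟨⟨0, hn⟩⟩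
  have hdet : Function.Surjective (GeneralLinearGroup.det : GL (Fin n) F →* Fˣ) :=
    GeneralLinearGroup.det_surjective
  have hker : (GeneralLinearGroup.det : GL (Fin n) F →* Fˣ).ker ≤ Mt := by
    intro k hk
    rw [MonoidHom.mem_ker] at hk
    have hdet1 : k.val.det = 1 := by
      have := congrArg Units.val hk
      simpa using this
    obtain ⟨s, hgs⟩ : ∃ s : SpecialLinearGroup (Fin n) F, k = SpecialLinearGroup.toGL s :=
      ⟨⟨k.val, hdet1⟩, Units.ext rfl⟩
    show conjGLn k ∈ M
    rw [hgs, conjGLn_toGL]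
    exact Subgroup.mem_sup_left ⟨_, rfl⟩
  rw [← Subgroup.index_map_eq Mt hdet hker]
  congr 1
  apply le_antisymm
  · rintro _ ⟨k, hk, rfl⟩
    have hk' : conjGLn k ∈ M := hk
    rw [hM, ← SetLike.mem_coe, Subgroup.normal_mul, Set.mem_mul] at hk'
    obtain ⟨a, ⟨z, rfl⟩, b, ⟨⟨h, rfl⟩, hbc⟩, hab⟩ := hk'
    obtain ⟨s, rfl⟩ := prjN_surjective z
    have hbc' : (conjGLn h : MulAut G) ∈ Subgroup.centralizer {(graphAut g : MulAut G)} := hbc
    have hh : glInvT h ∈ Cfsg.Geo.similarityGroup (matBil g.val) := by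
      rw [← conjGLn_glInvT_mem_centralizer_iff p hn, glInvT_glInvT]
      exact hbc'
    have hz : (SpecialLinearGroup.toGL s * h)⁻¹ * k ∈ (conjGLn (n := n) (F := F)).ker := by
      rw [MonoidHom.mem_ker, map_mul, map_inv, map_mul, conjGLn_toGL]
      show (MulAut.conj (prjN s) * conjGLn h)⁻¹ * conjGLn k = 1
      rw [← hab, inv_mul_cancel]
    rw [conjGLn_ker p hn, GeneralLinearGroup.center_eq_range_scalar] at hz
    obtain ⟨u, hu⟩ := hz
    have hk2 : k = SpecialLinearGroup.toGL s * h * GeneralLinearGroup.scalar (Fin n) u := by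
      rw [hu, ← mul_assoc, mul_inv_cancel, one_mul]
    have hdets : GeneralLinearGroup.det (SpecialLinearGroup.toGL s) = 1 := by
      apply Units.ext
      show (s : Matrix (Fin n) (Fin n) F).det = 1
      exact s.2
    have hdetk : GeneralLinearGroup.det k
        = u ^ n * (GeneralLinearGroup.det (glInvT h))⁻¹ := by
      rw [hk2, map_mul, map_mul, hdets, one_mul, GeneralLinearGroup.det_scalar,
        Fintype.card_fin, det_glInvT, inv_inv, mul_comm]
    rw [hdetk]
    refine Subgroup.mul_mem _ (Subgroup.mem_sup_left ⟨u, rfl⟩) (Subgroup.mem_sup_right ?_)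
    exact Subgroup.inv_mem _ ⟨glInvT h, hh, rfl⟩
  · rw [sup_le_iff]
    constructor
    · rintro _ ⟨u, rfl⟩
      refine ⟨GeneralLinearGroup.scalar (Fin n) u, ?_, ?_⟩
      · show conjGLn (GeneralLinearGroup.scalar (Fin n) u) ∈ M
        have : (conjGLn (GeneralLinearGroup.scalar (Fin n) u) : MulAut G) = 1 := by
          have h1 : GeneralLinearGroup.scalar (Fin n) u ∈ (conjGLn (n := n) (F := F)).ker := by
            rw [conjGLn_ker p hn, GeneralLinearGroup.center_eq_range_scalar]
            exact ⟨u, rfl⟩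
          exact h1
        rw [this]
        exact Subgroup.one_mem _
      · rw [GeneralLinearGroup.det_scalar, Fintype.card_fin]
        rfl
    · rintro _ ⟨h, hh, rfl⟩
      refine ⟨glInvT h⁻¹, ?_, ?_⟩
      · show conjGLn (glInvT h⁻¹) ∈ M
        apply Subgroup.mem_sup_right
        refine ⟨⟨_, rfl⟩, ?_⟩
        show (conjGLn (glInvT h⁻¹) : MulAut G) ∈ Subgroup.centralizer {(graphAut g : MulAut G)}
        rw [conjGLn_glInvT_mem_centralizer_iff p hn]
        exact Subgroup.inv_mem _ hh
      · rw [det_glInvT, map_inv, inv_inv]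

theorem splitClassCount_graphAut (p : ℕ) [Fact p.Prime] [CharP F p] (hn : 1 ≤ n)
    (g : GL (Fin n) F) :
    Cfsg.splitClassCount (Cfsg.inndiagPSL n F) (Cfsg.Inn G) (graphAut g : MulAut G)
      = ((powMonoidHom n : Fˣ →* Fˣ).range ⊔
          (Cfsg.Geo.similarityGroup (matBil g.val)).map
            (GeneralLinearGroup.det : GL (Fin n) F →* Fˣ)).index := by
  rw [inndiagPSL_eq_range, splitClassCount_eq_relIndex _ _ inn_le_conjGLn_range,
    relIndex_graphAut p hn]

end

end Cfsg.Agent.Lib.Helper50
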