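import Cfsg.Agent.Lib.Helper50.GraphSplit
import Cfsg.Agent.Lib.Helper50.Similitude
import Cfsg.Agent.Lib.Helper49.SpDet

set_option autoImplicit false

/-! Determinants of similarity groups of (skew-)symmetric matrices. -/

namespace Cfsg.Agent.Lib.Helper50

open Matrix Cfsg.Agent.Lib.Helper07

section
variable {n : ℕ} {F : Type*} [Field F]

/-- the determinants of the similarities of the bilinear form of a matrix -/
def detS (M : Matrix (Fin n) (Fin n) F) : Subgroup Fˣ :=
  (Cfsg.Geo.similarityGroup (matBil M)).map (GeneralLinearGroup.det : GL (Fin n) F →* Fˣ)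

theorem mem_detS_iff (M : Matrix (Fin n) (Fin n) F) (d : Fˣ) :
    d ∈ detS M ↔ ∃ (h : GL (Fin n) F) (c : Fˣ), h.valᵀ * M * h.val = (c : F) • M ∧
      GeneralLinearGroup.det h = d := by
  unfold detS
  constructor
  · rintro ⟨h, hh, rfl⟩
    obtain ⟨c, hc⟩ := (mem_similarityGroup_matBil_iff M h).mp hh
    exact ⟨h, c, hc, rfl⟩
  · rintro ⟨h, c, hc, rfl⟩
    exact ⟨h, (mem_similarityGroup_matBil_iff M h).mpr ⟨c, hc⟩, rfl⟩

theorem det_sq_of_sim (M : Matrix (Fin n) (Fin n) F) (hM : M.det ≠ 0) (h : GL (Fin n) F) (c : Fˣ)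
    (hc : h.valᵀ * M * h.val = (c : F) • M) : (GeneralLinearGroup.det h) ^ 2 = c ^ n := by
  apply Units.ext
  rw [Units.val_pow_eq_pow_val, Units.val_pow_eq_pow_val]
  show h.val.det ^ 2 = (c : F) ^ n
  have := congrArg Matrix.det hc
  rw [Matrix.det_mul, Matrix.det_mul, Matrix.det_transpose, Matrix.det_smul, Fintype.card_fin] at this
  have h2 : (h.val.det ^ 2 - (c : F) ^ n) * M.det = 0 := by linear_combination this
  rcases mul_eq_zero.mp h2 with h3 | h3
  · exact sub_eq_zero.mp h3
  · exact absurd h3 hM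

theorem detS_le_of_odd (M : Matrix (Fin n) (Fin n) F) (hM : M.det ≠ 0) (hn : Odd n) :
    detS M ≤ (powMonoidHom n : Fˣ →* Fˣ).range := by
  intro d hd
  obtain ⟨h, c, hc, rfl⟩ := (mem_detS_iff M d).mp hd
  have h1 := det_sq_of_sim M hM h c hc
  obtain ⟨k, hk⟩ := hn
  set d := GeneralLinearGroup.det h with hd'
  refine ⟨d * (c ^ k)⁻¹, ?_⟩
  show (d * (c ^ k)⁻¹) ^ n = d
  rw [mul_pow, inv_pow, ← pow_mul]
  have h3 : d ^ n = d * c ^ (n * k) := by
    conv_lhs => rw [hk, pow_succ, pow_mul, h1, ← pow_mul]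
    rw [mul_comm]
  rw [h3, mul_comm k n, mul_assoc, mul_inv_cancel, mul_one]

theorem detS_le_of_char_two [Finite F] [CharP F 2] (M : Matrix (Fin n) (Fin n) F)
    (hM : M.det ≠ 0) : detS M ≤ (powMonoidHom n : Fˣ →* Fˣ).range := by
  intro d hd
  obtain ⟨h, c, hc, rfl⟩ := (mem_detS_iff M d).mp hd
  have h1 := det_sq_of_sim M hM h c hc
  have hr : ringChar F = 2 := ringChar.eq F 2
  obtain ⟨e, he⟩ := FiniteField.isSquare_of_char_two hr (c : F)
  have he0 : e ≠ 0 := by
    rintro rfl
    rw [mul_zero] at he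
    exact c.ne_zero he
  refine ⟨Units.mk0 e he0, ?_⟩
  apply Units.ext
  show (Units.mk0 e he0 ^ n : Fˣ).val = _
  rw [Units.val_pow_eq_pow_val, Units.val_mk0]
  have h2 := congrArg Units.val h1
  rw [Units.val_pow_eq_pow_val, Units.val_pow_eq_pow_val, he] at h2
  apply sq_eq_sq_char_two
  rw [← pow_two, ← pow_two, ← pow_mul, mul_comm, pow_mul, pow_two e]
  exact h2.symm

end

section symp
variable {F : Type*} [Field F]

/-- the diagonal similarity of the standard alternating form -/
def dMat (m : ℕ) (c : F) : Matrix (Fin m ⊕ Fin m) (Fin m ⊕ Fin m) F :=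
  Matrix.fromBlocks (c • (1 : Matrix (Fin m) (Fin m) F)) 0 0 1

theorem dMat_transpose (m : ℕ) (c : F) : (dMat m c)ᵀ = dMat m c := by
  unfold dMat
  rw [Matrix.fromBlocks_transpose, Matrix.transpose_smul, Matrix.transpose_one,
    Matrix.transpose_zero]

theorem dMat_J (m : ℕ) (c : F) : dMat m c * Matrix.J (Fin m) F * dMat m c = c • Matrix.J (Fin m) F := by
  unfold dMat Matrix.J
  rw [Matrix.fromBlocks_multiply, Matrix.fromBlocks_multiply, Matrix.fromBlocks_smul]
  simp

theorem det_dMat (m : ℕ) (c : F) : (dMat m c).det = c ^ m := by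
  unfold dMat
  rw [Matrix.det_fromBlocks_zero₂₁, Matrix.det_smul, Matrix.det_one, mul_one,
    mul_one, Fintype.card_fin]

theorem dMat_mul (m : ℕ) (c c' : F) : dMat m c * dMat m c' = dMat m (c * c') := by
  unfold dMat
  rw [Matrix.fromBlocks_multiply]
  simp [mul_smul, smul_comm c' c]

theorem dMat_one (m : ℕ) : dMat m (1 : F) = 1 := by
  unfold dMat
  rw [one_smul, Matrix.fromBlocks_one]

theorem Jmat_submatrix (m : ℕ) :
    (Jmat m F).submatrix (idxE m).symm (idxE m).symm = Matrix.J (Fin m) F := by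
  unfold Jmat
  rw [Matrix.submatrix_submatrix]
  simp

theorem detS_Jmat (m : ℕ) : detS (Jmat m F) = (powMonoidHom m : Fˣ →* Fˣ).range := by
  apply le_antisymm
  · intro d hd
    obtain ⟨h, c, hc, rfl⟩ := (mem_detS_iff _ d).mp hd
    refine ⟨c, ?_⟩
    apply Units.ext
    show (c ^ m : Fˣ).val = h.val.det
    rw [Units.val_pow_eq_pow_val]
    set h' : Matrix (Fin m ⊕ Fin m) (Fin m ⊕ Fin m) F :=
      h.val.submatrix (idxE m).symm (idxE m).symm with hh'
    have hdet' : h'.det = h.val.det := Matrix.det_submatrix_equiv_self _ _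
    have h1 : h'ᵀ * Matrix.J (Fin m) F * h' = (c : F) • Matrix.J (Fin m) F := by
      have := congrArg (fun X => X.submatrix (idxE m).symm (idxE m).symm) hc
      rw [← Matrix.submatrix_mul_equiv _ _ _ (idxE m).symm, ← Matrix.submatrix_mul_equiv _ _ _ (idxE m).symm,
        Jmat_submatrix] at this
      have h5 : ((c : F) • Jmat m F).submatrix (idxE m).symm (idxE m).symm
          = (c : F) • Matrix.J (Fin m) F := by
        rw [← Jmat_submatrix (F := F) m]
        rfl
      rw [h5] at this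
      exact this
    set Y : Matrix (Fin m ⊕ Fin m) (Fin m ⊕ Fin m) F := h' * dMat m ((c : F)⁻¹) with hY
    have hYJ : Yᵀ * Matrix.J (Fin m) F * Y = Matrix.J (Fin m) F := by
      rw [hY, Matrix.transpose_mul, dMat_transpose]
      calc dMat m ((c : F)⁻¹) * h'ᵀ * Matrix.J (Fin m) F * (h' * dMat m ((c : F)⁻¹))
          = dMat m ((c : F)⁻¹) * (h'ᵀ * Matrix.J (Fin m) F * h') * dMat m ((c : F)⁻¹) := by
            simp only [Matrix.mul_assoc]
        _ = _ := by
            rw [h1, Matrix.mul_smul, Matrix.smul_mul, dMat_J, smul_smul,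
              mul_inv_cancel₀ c.ne_zero, one_smul]
    have hmem : Yᵀ ∈ Matrix.symplecticGroup (Fin m) F := by
      rw [SymplecticGroup.mem_iff, Matrix.transpose_transpose]
      exact hYJ
    have hdetY := Cfsg.Agent.Lib.Helper49.det_eq_one_of_mem_symplecticGroup ⟨Yᵀ, hmem⟩
    simp only at hdetY
    rw [Matrix.det_transpose, hY, Matrix.det_mul, det_dMat, hdet', inv_pow] at hdetY
    have hc0 : (c : F) ^ m ≠ 0 := pow_ne_zero _ c.ne_zero
    field_simp at hdetY
    exact hdetY.symm
  · rintro _ ⟨u, rfl⟩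
    rw [mem_detS_iff]
    have hdet : ((dMat m (u : F)).submatrix (idxE m) (idxE m)).det ≠ 0 := by
      rw [Matrix.det_submatrix_equiv_self, det_dMat]
      exact pow_ne_zero _ u.ne_zero
    refine ⟨Matrix.GeneralLinearGroup.mkOfDetNeZero _ hdet, u, ?_, ?_⟩
    · show ((dMat m (u : F)).submatrix (idxE m) (idxE m))ᵀ * Jmat m F *
        (dMat m (u : F)).submatrix (idxE m) (idxE m) = (u : F) • Jmat m F
      unfold Jmat
      rw [Matrix.transpose_submatrix, dMat_transpose, Matrix.submatrix_mul_equiv,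
        Matrix.submatrix_mul_equiv, dMat_J]
      rfl
    · apply Units.ext
      show ((dMat m (u : F)).submatrix (idxE m) (idxE m)).det = ((u ^ m : Fˣ) : F)
      rw [Matrix.det_submatrix_equiv_self, det_dMat, Units.val_pow_eq_pow_val]

end symp

end Cfsg.Agent.Lib.Helper50
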