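import Cfsg.Agent.Lib.Helper50.GraphSplit2

set_option autoImplicit false

/-! Determinants of the similarity group of a symmetric matrix (odd characteristic, even
dimension), and the index computations in the cyclic group `Fˣ`. -/

namespace Cfsg.Agent.Lib.Helper50

open Matrix Cfsg.Agent.Lib.Helper07

section
variable {F : Type*} [Field F]

theorem matQuad_smul_mat {n : ℕ} (c : F) (M : Matrix (Fin n) (Fin n) F) (v : Fin n → F) :
    matQuad (c • M) v = c * matQuad M v := by
  unfold matQuad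
  rw [Matrix.smul_mulVec, dotProduct_smul, smul_eq_mul]

/-- a similarity of a symmetric matrix with determinant `-1` (and multiplier `1`) -/
theorem exists_sim_det_neg_one [Fintype F] (h2 : (2 : F) ≠ 0) {n : ℕ} (hn : 1 ≤ n)
    (g : GL (Fin n) F) (hg : g.valᵀ = g.val) :
    ∃ h : GL (Fin n) F, h.valᵀ * g.val * h.val = g.val ∧ h.val.det = -1 := by
  set ν : F := g.val.det with hν
  have hν0 : ν ≠ 0 := det_gl_ne_zero g
  set D : Matrix (Fin n) (Fin n) F :=
    Matrix.diagonal (Function.update (fun _ : Fin n => (1 : F)) ⟨0, hn⟩ ν) with hD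
  set r : Matrix (Fin n) (Fin n) F :=
    Matrix.diagonal (Function.update (fun _ : Fin n => (1 : F)) ⟨0, hn⟩ (-1)) with hr
  have hDdet : D.det = ν := by
    rw [hD, Matrix.det_diagonal, Finset.prod_update_of_mem (Finset.mem_univ _)]
    simp
  have hrdet : r.det = -1 := by
    rw [hr, Matrix.det_diagonal, Finset.prod_update_of_mem (Finset.mem_univ _)]
    simp
  have hDt : Dᵀ = D := Matrix.diagonal_transpose _
  have hrt : rᵀ = r := Matrix.diagonal_transpose _
  have hrDr : r * D * r = D := by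
    rw [hr, hD, Matrix.diagonal_mul_diagonal, Matrix.diagonal_mul_diagonal]
    congr 1
    funext i
    by_cases hi : i = ⟨0, hn⟩
    · subst hi
      simp
    · simp [Function.update_of_ne hi]
  obtain ⟨P, hP⟩ := congr_of_det h2 hg hDt (det_gl_ne_zero g) (by rw [hDdet]; exact hν0)
    (by rw [hDdet]; exact ⟨ν, rfl⟩)
  have hrdet0 : r.det ≠ 0 := by rw [hrdet]; exact neg_ne_zero.mpr one_ne_zero
  set R : GL (Fin n) F := Matrix.GeneralLinearGroup.mkOfDetNeZero r hrdet0 with hR
  have hRv : R.val = r := rfl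
  refine ⟨P⁻¹ * R * P, ?_, ?_⟩
  · rw [Units.val_mul, Units.val_mul, hRv, Matrix.transpose_mul, Matrix.transpose_mul, hrt]
    have h1 : P⁻¹.valᵀ * P.valᵀ = 1 := by
      rw [← Matrix.transpose_mul, Units.mul_inv, Matrix.transpose_one]
    have h3 : P.val * P⁻¹.val = 1 := Units.mul_inv P
    calc P.valᵀ * (r * P⁻¹.valᵀ) * g.val * (P⁻¹.val * r * P.val)
        = P.valᵀ * (r * P⁻¹.valᵀ) * (P.valᵀ * D * P.val) * (P⁻¹.val * r * P.val) := by rw [hP]
      _ = P.valᵀ * (r * ((P⁻¹.valᵀ * P.valᵀ) * D * (P.val * P⁻¹.val) * r)) * P.val := by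
          simp only [Matrix.mul_assoc]
      _ = P.valᵀ * (r * D * r) * P.val := by
          rw [h1, h3, Matrix.one_mul, Matrix.mul_one]
          simp only [Matrix.mul_assoc]
      _ = g.val := by rw [hrDr, hP]
  · rw [Units.val_mul, Units.val_mul, hRv, Matrix.det_mul, Matrix.det_mul, hrdet]
    have : P⁻¹.val.det * P.val.det = 1 := by
      rw [← Matrix.det_mul, Units.inv_mul, Matrix.det_one]
    linear_combination (-1 : F) * this

/-- every multiplier occurs for a symmetric matrix of even size over a finite field -/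
theorem exists_sim_mult [Fintype F] (h2 : (2 : F) ≠ 0) {m : ℕ} (g : GL (Fin (2 * m)) F)
    (hg : g.valᵀ = g.val) (u : Fˣ) :
    ∃ h : GL (Fin (2 * m)) F, h.valᵀ * g.val * h.val = (u : F) • g.val := by
  have hQ := qfMat_QND h2 g.val hg (det_gl_ne_zero g)
  have he : Even (Module.finrank F (Fin (2 * m) → F)) := by
    rw [Module.finrank_fin_fun]
    exact even_two_mul m
  obtain ⟨φ, hφ⟩ := exists_similarity_even (qfMat g.val hg) hQ he (u : F) u.ne_zero
  have hM : ((u : F) • g.val)ᵀ = (u : F) • g.val := by rw [Matrix.transpose_smul, hg]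
  have hdet : ((u : F) • g.val).det ≠ 0 := by
    rw [Matrix.det_smul]
    exact mul_ne_zero (pow_ne_zero _ u.ne_zero) (det_gl_ne_zero g)
  refine congr_of_isometry h2 hM hg hdet φ (fun v => ?_)
  have := hφ v
  rw [qfMat_apply, qfMat_apply] at this
  rw [this, matQuad_smul_mat]

theorem detS_symm [Fintype F] (h2 : (2 : F) ≠ 0) {m : ℕ} (hm : 1 ≤ m) (g : GL (Fin (2 * m)) F)
    (hg : g.valᵀ = g.val) :
    detS g.val = Subgroup.zpowers (-1 : Fˣ) ⊔ (powMonoidHom m : Fˣ →* Fˣ).range := by
  obtain ⟨h₀, hh₀, hdet₀⟩ := exists_sim_det_neg_one h2 (by omega : 1 ≤ 2 * m) g hg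
  have hneg : (-1 : Fˣ) ∈ detS g.val := by
    rw [mem_detS_iff]
    refine ⟨h₀, 1, by rw [Units.val_one, one_smul]; exact hh₀, ?_⟩
    apply Units.ext
    show h₀.val.det = ((-1 : Fˣ) : F)
    rw [hdet₀]
    simp
  have hcases : ∀ (h : GL (Fin (2 * m)) F) (c : Fˣ), h.valᵀ * g.val * h.val = (c : F) • g.val →
      GeneralLinearGroup.det h = c ^ m ∨ GeneralLinearGroup.det h = -1 * c ^ m := by
    intro h c hc
    have h1 := det_sq_of_sim g.val (det_gl_ne_zero g) h c hc
    have h3 : ((GeneralLinearGroup.det h : Fˣ) : F) ^ 2 = (((c ^ m : Fˣ) : Fˣ) : F) ^ 2 := by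
      have := congrArg Units.val h1
      rw [Units.val_pow_eq_pow_val, Units.val_pow_eq_pow_val] at this
      rw [this, Units.val_pow_eq_pow_val, ← pow_mul, mul_comm]
    rcases sq_eq_sq_iff_eq_or_eq_neg.mp h3 with h4 | h4
    · left
      exact Units.ext h4
    · right
      apply Units.ext
      rw [h4]
      simp
  apply le_antisymm
  · intro d hd
    obtain ⟨h, c, hc, rfl⟩ := (mem_detS_iff _ d).mp hd
    rcases hcases h c hc with h4 | h4
    · rw [h4]
      exact Subgroup.mem_sup_right ⟨c, rfl⟩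
    · rw [h4]
      exact Subgroup.mul_mem _ (Subgroup.mem_sup_left (Subgroup.mem_zpowers _))
        (Subgroup.mem_sup_right ⟨c, rfl⟩)
  · rw [sup_le_iff]
    constructor
    · rw [Subgroup.zpowers_le]
      exact hneg
    · rintro _ ⟨u, rfl⟩
      show u ^ m ∈ detS g.val
      obtain ⟨h, hh⟩ := exists_sim_mult h2 g hg u
      have hmem : GeneralLinearGroup.det h ∈ detS g.val := (mem_detS_iff _ _).mpr ⟨h, u, hh, rfl⟩
      rcases hcases h u hh with h4 | h4
      · rw [← h4]
        exact hmem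
      · have : u ^ m = -1 * GeneralLinearGroup.det h := by
          rw [h4, ← mul_assoc]
          simp
        rw [this]
        exact Subgroup.mul_mem _ hneg hmem

end

section index
variable {F : Type*} [Field F] [Fintype F]

theorem card_units_eq : Nat.card Fˣ = Fintype.card F - 1 := by
  classical
  rw [Nat.card_eq_fintype_card, Fintype.card_units]

theorem index_pow_range (n : ℕ) :
    (powMonoidHom n : Fˣ →* Fˣ).range.index = Nat.gcd n (Fintype.card F - 1) := by
  rw [IsCyclic.index_powMonoidHom_range, card_units_eq, Nat.gcd_comm]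

theorem index_sup_of_le (n : ℕ) (B : Subgroup Fˣ) (hB : B ≤ (powMonoidHom n : Fˣ →* Fˣ).range) :
    ((powMonoidHom n : Fˣ →* Fˣ).range ⊔ B).index = Nat.gcd n (Fintype.card F - 1) := by
  rw [sup_eq_left.mpr hB, index_pow_range]

theorem index_sup_pow_pow (m : ℕ) :
    ((powMonoidHom (2 * m) : Fˣ →* Fˣ).range ⊔ (powMonoidHom m : Fˣ →* Fˣ).range).index
      = Nat.gcd m (Fintype.card F - 1) := by
  rw [range_pow_sup, index_pow_range]
  congr 1
  exact Nat.gcd_eq_right (dvd_mul_left m 2)

theorem zpowers_neg_one_eq (h2 : (2 : F) ≠ 0) :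
    Subgroup.zpowers (-1 : Fˣ)
      = (powMonoidHom ((Fintype.card F - 1) / 2) : Fˣ →* Fˣ).range := by
  have hord : orderOf (-1 : Fˣ) = 2 := by
    rw [orderOf_eq_iff (by norm_num)]
    refine ⟨by simp, ?_⟩
    intro k hk hk0
    have : k = 1 := by omega
    subst this
    rw [pow_one]
    intro h
    have := congrArg Units.val h
    simp only [Units.val_neg, Units.val_one] at this
    apply h2
    linear_combination (-1 : F) * this
  have hcard : Nat.card (Subgroup.zpowers (-1 : Fˣ)) = 2 := by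
    rw [Nat.card_zpowers, hord]
  have hidx : (Subgroup.zpowers (-1 : Fˣ)).index = (Fintype.card F - 1) / 2 := by
    have := Subgroup.card_mul_index (Subgroup.zpowers (-1 : Fˣ))
    rw [hcard, card_units_eq] at this
    omega
  conv_lhs => rw [eq_range_pow_index (Subgroup.zpowers (-1 : Fˣ)), hidx]

theorem two_dvd_card_sub_one (h2 : (2 : F) ≠ 0) : 2 ∣ Fintype.card F - 1 := by
  have hord : orderOf (-1 : Fˣ) = 2 := by
    rw [orderOf_eq_iff (by norm_num)]
    refine ⟨by simp, ?_⟩
    intro k hk hk0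
    have : k = 1 := by omega
    subst this
    rw [pow_one]
    intro h
    have := congrArg Units.val h
    simp only [Units.val_neg, Units.val_one] at this
    apply h2
    linear_combination (-1 : F) * this
  rw [← card_units_eq, ← hord]
  exact orderOf_dvd_natCard _

theorem index_sup_symm (h2 : (2 : F) ≠ 0) (m : ℕ) :
    ((powMonoidHom (2 * m) : Fˣ →* Fˣ).range ⊔
      (Subgroup.zpowers (-1 : Fˣ) ⊔ (powMonoidHom m : Fˣ →* Fˣ).range)).index
      = Nat.gcd (2 * m) (Fintype.card F - 1) / 2 := by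
  obtain ⟨N', hN'⟩ := two_dvd_card_sub_one (F := F) h2
  have hle : (powMonoidHom (2 * m) : Fˣ →* Fˣ).range ≤ (powMonoidHom m : Fˣ →* Fˣ).range := by
    rintro _ ⟨x, rfl⟩
    refine ⟨x ^ 2, ?_⟩
    show (x ^ 2) ^ m = x ^ (2 * m)
    rw [← pow_mul]
  rw [sup_eq_right.mpr (hle.trans le_sup_right), zpowers_neg_one_eq h2, range_pow_sup,
    index_pow_range, hN']
  rw [Nat.mul_div_cancel_left _ (by norm_num : 0 < 2), Nat.gcd_mul_left,
    Nat.mul_div_cancel_left _ (by norm_num : 0 < 2)]
  rw [Nat.gcd_comm N' m]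
  apply Nat.gcd_eq_left
  exact (Nat.gcd_dvd_right m N').trans (dvd_mul_left N' 2)

end index

end Cfsg.Agent.Lib.Helper50
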