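import Cfsg.Agent.Lib.Helper50.GraphSplit4
import Cfsg.Agent.Lib.Helper07.PSLnK

set_option autoImplicit false

/-! Splitting of the class of an involutory graph automorphism of `PSL_n(q)`: main theorem. -/

namespace Cfsg.Agent.Lib.Helper50

open Matrix Cfsg.Agent.Lib.Helper07

section iso
variable {ι κ : Type} [Fintype ι] [DecidableEq ι] [Fintype κ] [DecidableEq κ]
variable {F : Type*} [Field F]

theorem mem_isometryGroup_iff'' (Q : (ι → F) → F) (g : GL ι F) :
    g ∈ Cfsg.isometryGroup F Q ↔ ∀ u, Q (g.val *ᵥ u) = Q u := by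
  constructor
  · intro h u
    exact h u 0
  · intro h u _
    exact h u

theorem glCongr_mem_isometryGroup (e : (ι → F) ≃ₗ[F] (κ → F)) (Q : (ι → F) → F)
    (Q' : (κ → F) → F) (h : ∀ v, Q' (e v) = Q v) (g : GL ι F) :
    glCongr e g ∈ Cfsg.isometryGroup F Q' ↔ g ∈ Cfsg.isometryGroup F Q := by
  rw [mem_isometryGroup_iff'', mem_isometryGroup_iff'']
  constructor
  · intro hc v
    have := hc (e v)
    rw [glCongr_mulVec_apply, h, h] at this
    exact this
  · intro hc u
    obtain ⟨v, rfl⟩ := e.surjective u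
    rw [glCongr_mulVec_apply, h, h]
    exact hc v

theorem card_isometryGroup_congr' (e : (ι → F) ≃ₗ[F] (κ → F)) (Q : (ι → F) → F)
    (Q' : (κ → F) → F) (h : ∀ v, Q' (e v) = Q v) :
    Nat.card (Cfsg.isometryGroup F Q) = Nat.card (Cfsg.isometryGroup F Q') :=
  Nat.card_congr ((glCongr e).toEquiv.subtypeEquiv
    (fun g => (glCongr_mem_isometryGroup e Q Q' h g).symm))

end iso

section main
variable {F : Type*} [Field F] [Fintype F]

theorem card_pgo_matQuad (h2 : (2 : F) ≠ 0) {m : ℕ} (hm : 1 ≤ m) (g : GL (Fin (2 * m)) F)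
    (hg : g.valᵀ = g.val) :
    Nat.card (Cfsg.PGO F (matQuad g.val)) = Nat.card (Cfsg.isometryGroup F (matQuad g.val)) := by
  haveI : Nonempty (Fin (2 * m)) := ⟨⟨0, by omega⟩⟩
  apply card_pgo
  · by_contra hne
    push Not at hne
    have : g.val = (0 : Matrix (Fin (2 * m)) (Fin (2 * m)) F) := by
      apply matQuad_ext h2 hg (by simp)
      intro v
      rw [hne v]
      unfold matQuad
      simp
    have hd := det_gl_ne_zero g
    rw [this, Matrix.det_zero] at hd
    exact hd rfl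
  · intro c
    obtain ⟨h, hh⟩ := exists_sim_mult h2 g hg c
    refine ⟨h, fun u => ?_⟩
    rw [matQuad_mulVec, hh, matQuad_smul_mat]
  · intro a u
    exact matQuad_smul g.val a u

theorem card_isometryGroup_matQuad (h2 : (2 : F) ≠ 0) {q : ℕ} (hF : Fintype.card F = q)
    {m : ℕ} (hm : 1 ≤ m) (g : GL (Fin (2 * m)) F) (hg : g.valᵀ = g.val) :
    Nat.card (Cfsg.isometryGroup F (matQuad g.val))
        = 2 * q ^ (m * (m - 1)) * (q ^ m - 1) *
          ∏ i ∈ Finset.range (m - 1), (q ^ (2 * (i + 1)) - 1) ∨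
    Nat.card (Cfsg.isometryGroup F (matQuad g.val))
        = 2 * q ^ ((m - 1 + 1) * (m - 1)) * (q ^ (m - 1 + 1) + 1) *
          ∏ i ∈ Finset.range (m - 1), (q ^ (2 * (i + 1)) - 1) := by
  obtain ⟨hplus, hminus⟩ := qfMat_type h2 m g.val hg (det_gl_ne_zero g)
  by_cases hsq : IsSquare g.val.det ↔ IsSquare ((-1 : F) ^ m)
  · left
    obtain ⟨φ, hφ⟩ := hplus hsq
    rw [card_isometryGroup_congr' φ (matQuad g.val) (Cfsg.quadFormPlus m F)
      (fun v => by rw [hφ v, qfMat_apply])]
    exact Cfsg.Agent.Lib.Helper08.card_GOplus hF m hm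
  · right
    obtain ⟨ζ, hζ, φ, hφ⟩ := hminus hsq
    rw [card_isometryGroup_congr' φ (matQuad g.val) (Cfsg.quadFormMinus (m - 1) F 1 ζ)
      (fun v => by rw [hφ v, qfMat_apply])]
    exact Cfsg.Agent.Lib.Helper08.card_GOminus' hF (m - 1) 1 ζ (anis_of_irred ζ hζ)

theorem not_pgo_equiv_pgsp (h2 : (2 : F) ≠ 0) {m : ℕ} (hm : 1 ≤ m) (g : GL (Fin (2 * m)) F)
    (hg : g.valᵀ = g.val) :
    ¬ Nonempty (Cfsg.PGO F (matQuad g.val) ≃* Cfsg.PGSp m F) := by
  rintro ⟨e⟩
  have h1 := Nat.card_congr e.toEquiv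
  rw [card_pgo_matQuad h2 hm g hg, card_pgsp rfl (by omega)] at h1
  have hq3 : 3 ≤ Fintype.card F := by
    have h1 := Fintype.one_lt_card (α := F)
    by_contra hlt
    have h2' : Fintype.card F = 2 := by omega
    have h0 := Nat.cast_card_eq_zero F
    rw [h2'] at h0
    exact h2 (by exact_mod_cast h0)
  rcases card_isometryGroup_matQuad h2 rfl hm g hg with h3 | h3
  · rw [h3] at h1
    exact card_ne_plus _ m hq3 hm h1
  · rw [h3] at h1
    exact card_ne_minus _ m hq3 hm h1

theorem sq_eq_one_of_smul_transpose {n : ℕ} (hn : 1 ≤ n) (g : GL (Fin n) F) (c : Fˣ)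
    (hc : g.val = (c : F) • g.valᵀ) : (c : F) = 1 ∨ (c : F) = -1 := by
  have hT : g.valᵀ = (c : F) • g.val := by
    conv_lhs => rw [hc]
    rw [Matrix.transpose_smul, Matrix.transpose_transpose]
  have h1 : g.val = ((c : F) * c) • g.val := by
    conv_lhs => rw [hc, hT]
    rw [smul_smul]
  have hne : g.val ≠ 0 := by
    intro h0
    have hd := det_gl_ne_zero g
    haveI : Nonempty (Fin n) := ⟨⟨0, hn⟩⟩
    rw [h0, Matrix.det_zero] at hd
    exact hd rfl
  obtain ⟨i, j, hij⟩ : ∃ i j, g.val i j ≠ 0 := by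
    by_contra hcon
    push Not at hcon
    apply hne
    ext i j
    exact hcon i j
  have h3 := congrFun (congrFun h1 i) j
  rw [Matrix.smul_apply, smul_eq_mul] at h3
  have h4 : ((c : F) * c - 1) * g.val i j = 0 := by linear_combination -h3
  have h5 : (c : F) * c = 1 := by
    rcases mul_eq_zero.mp h4 with h | h
    · exact sub_eq_zero.mp h
    · exact absurd h hij
  exact mul_self_eq_one_iff.mp h5

theorem graph_split_main {p f : ℕ} [Fact p.Prime] (hF : Fintype.card F = p ^ f) (hf : 1 ≤ f)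
    {n : ℕ} (hn : 3 ≤ n) (γ : MulAut (ProjectiveSpecialLinearGroup (Fin n) F))
    (hγ : Cfsg.IsGraphAutClassPSL γ) (hγ2 : orderOf γ = 2) :
    ((Even n ∧ Odd p ∧ Nonempty (↥(Cfsg.inndiagPSL n F ⊓ Subgroup.centralizer {γ}) ≃*
        Cfsg.PGSp (n / 2) F)) →
      Cfsg.splitClassCount (Cfsg.inndiagPSL n F)
        (Cfsg.Inn (ProjectiveSpecialLinearGroup (Fin n) F)) γ = Nat.gcd (n / 2) (p ^ f - 1)) ∧
    ((Even n ∧ Odd p ∧ ¬ Nonempty (↥(Cfsg.inndiagPSL n F ⊓ Subgroup.centralizer {γ}) ≃*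
        Cfsg.PGSp (n / 2) F)) →
      Cfsg.splitClassCount (Cfsg.inndiagPSL n F)
        (Cfsg.Inn (ProjectiveSpecialLinearGroup (Fin n) F)) γ = Nat.gcd n (p ^ f - 1) / 2) ∧
    (¬ (Even n ∧ Odd p) →
      Cfsg.splitClassCount (Cfsg.inndiagPSL n F)
        (Cfsg.Inn (ProjectiveSpecialLinearGroup (Fin n) F)) γ = Nat.gcd n (p ^ f - 1)) := by
  have hchar : CharP F p := charP_of_card_eq_prime_pow hF
  obtain ⟨-, g, rfl⟩ := (isGraphAutClass_iff γ).mp hγ
  obtain ⟨c, hc⟩ := (orderOf_graphAut_eq_two_iff' p hn g).mp hγ2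
  have hcount := splitClassCount_graphAut p (by omega : 1 ≤ n) g
  have hcard : Fintype.card F - 1 = p ^ f - 1 := by rw [hF]
  have hT : g.valᵀ = (c : F) • g.val := by
    conv_lhs => rw [hc]
    rw [Matrix.transpose_smul, Matrix.transpose_transpose]
  -- the even, odd characteristic case
  have key : Even n → Odd p →
      (Nonempty (↥(Cfsg.inndiagPSL n F ⊓ Subgroup.centralizer {(graphAut g : MulAut _)}) ≃*
          Cfsg.PGSp (n / 2) F) ∧
        Cfsg.splitClassCount (Cfsg.inndiagPSL n F)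
          (Cfsg.Inn (ProjectiveSpecialLinearGroup (Fin n) F)) (graphAut g)
            = Nat.gcd (n / 2) (p ^ f - 1)) ∨
      (¬ Nonempty (↥(Cfsg.inndiagPSL n F ⊓ Subgroup.centralizer {(graphAut g : MulAut _)}) ≃*
          Cfsg.PGSp (n / 2) F) ∧
        Cfsg.splitClassCount (Cfsg.inndiagPSL n F)
          (Cfsg.Inn (ProjectiveSpecialLinearGroup (Fin n) F)) (graphAut g)
            = Nat.gcd n (p ^ f - 1) / 2) := by
    intro hev hodd
    obtain ⟨m, hm⟩ : ∃ m, n = 2 * m := by
      obtain ⟨r, hr⟩ := hev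
      exact ⟨r, by omega⟩
    subst hm
    have hm2 : 2 ≤ m := by omega
    have hdiv : 2 * m / 2 = m := Nat.mul_div_cancel_left m (by norm_num)
    rw [hdiv]
    have hqodd : Odd (Fintype.card F) := by
      rw [hF]
      exact hodd.pow
    have h2 : (2 : F) ≠ 0 := two_ne_zero_of_odd_card rfl hqodd
    rcases sq_eq_one_of_smul_transpose (by omega) g c hc with h1 | h1
    · -- symmetric
      right
      have hg : g.valᵀ = g.val := by rw [hT, h1, one_smul]
      constructor
      · rintro ⟨e⟩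
        obtain ⟨e'⟩ := nonempty_centralizer_symm p h2 hm2 g hg
        exact not_pgo_equiv_pgsp h2 (by omega) g hg ⟨e'.symm.trans e⟩
      · rw [hcount]
        show ((powMonoidHom (2 * m) : Fˣ →* Fˣ).range ⊔ detS g.val).index = _
        rw [detS_symm h2 (by omega) g hg, index_sup_symm h2, hcard]
    · -- skew
      left
      have hg : g.valᵀ = - g.val := by rw [hT, h1, neg_smul, one_smul]
      have hconj := isConj_J_of_skew p h2 hm2 g hg
      constructor
      · obtain ⟨e⟩ := nonempty_centralizer_equiv_of_isConjUnder _ hconj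
        obtain ⟨e'⟩ := nonempty_centralizer_JGL (F := F) p hm2
        exact ⟨e.symm.trans e'⟩
      · obtain ⟨h, hh, heq⟩ := hconj
        have hDn : (conjGLn (n := 2 * m) (F := F)).range.Normal :=
          conjGLn_range_normal' hF hf (by omega)
        have hcJ := splitClassCount_graphAut p (by omega : 1 ≤ 2 * m) (JGL m F)
        rw [heq]
        rw [inndiagPSL_eq_range] at hcJ ⊢
        rw [splitClassCount_conj _ _ inn_le_conjGLn_range h, hcJ]
        show ((powMonoidHom (2 * m) : Fˣ →* Fˣ).range ⊔ detS (JGL m F).val).index = _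
        rw [JGL_val, detS_Jmat, index_sup_pow_pow, hcard]
  refine ⟨?_, ?_, ?_⟩
  · rintro ⟨hev, hodd, hne⟩
    rcases key hev hodd with ⟨-, h⟩ | ⟨h, -⟩
    · exact h
    · exact absurd hne h
  · rintro ⟨hev, hodd, hne⟩
    rcases key hev hodd with ⟨h, -⟩ | ⟨-, h⟩
    · exact absurd h hne
    · exact h
  · intro hcase
    rw [hcount, ← hcard]
    show ((powMonoidHom n : Fˣ →* Fˣ).range ⊔ detS g.val).index = _
    apply index_sup_of_le
    by_cases hev : Even n
    · have hp2 : p = 2 := by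
        have hnodd : ¬ Odd p := fun h => hcase ⟨hev, h⟩
        rw [Nat.not_odd_iff_even] at hnodd
        exact ((Nat.Prime.even_iff (Fact.out)).mp hnodd)
      subst hp2
      exact detS_le_of_char_two g.val (det_gl_ne_zero g)
    · rw [Nat.not_even_iff_odd] at hev
      exact detS_le_of_odd g.val (det_gl_ne_zero g) hev

end main

end Cfsg.Agent.Lib.Helper50
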