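import Cfsg.Agent.Lib.Helper50.SpinorIndex
import Cfsg.Agent.Lib.Helper50.StdForms

set_option autoImplicit false

/-! Negating hyperbolic pairs: the involution `diag(-1 on pairs, 1 elsewhere)` and its
membership in `Ω`. -/

namespace Cfsg.Agent.Lib.Helper50

open Matrix Cfsg.Agent.Lib.Helper19

variable {ι : Type} [Fintype ι] [DecidableEq ι] {F : Type*} [Field F]

/-- The product of the reflections in `e_a + e_b` and `e_a - e_b` for a standard hyperbolic pair
of coordinates. -/
noncomputable def hypNeg (Q : QuadraticForm F (ι → F)) (a b : ι) : ↥(Cfsg.isometryGroup F (⇑Q)) :=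
  reflO Q (Pi.single a 1 + Pi.single b 1) * reflO Q (Pi.single a 1 - Pi.single b 1)

section

variable (Q : QuadraticForm F (ι → F)) (a b : ι) (hab : a ≠ b)
  (ha : Q (Pi.single a 1) = 0) (hb : Q (Pi.single b 1) = 0)
  (hpa : ∀ x : ι → F, QuadraticMap.polar (⇑Q) (Pi.single a 1) x = x b)
  (hpb : ∀ x : ι → F, QuadraticMap.polar (⇑Q) (Pi.single b 1) x = x a)

include hab ha hb hpa hpb

theorem hyp_plus : Q (Pi.single a 1 + Pi.single b 1) = 1 := by
  have h := QuadraticMap.map_add (⇑Q) (Pi.single a 1) (Pi.single b 1)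
  rw [h, ha, hb, hpa]
  simp

theorem hyp_minus : Q (Pi.single a 1 - Pi.single b 1) = -1 := by
  have h := QuadraticMap.map_add (⇑Q) (Pi.single a 1) (-Pi.single b 1)
  rw [sub_eq_add_neg, h, ha, QuadraticMap.map_neg, hb, hpa]
  simp

theorem hypNeg_mulVec (x : ι → F) :
    (((hypNeg Q a b : ↥(Cfsg.isometryGroup F (⇑Q))) : GL ι F) : Matrix ι ι F) *ᵥ x =
      fun k => (if k = a ∨ k = b then (-1 : F) else 1) * x k := by
  have hp := hyp_plus Q a b hab ha hb hpa hpb
  have hm := hyp_minus Q a b hab ha hb hpa hpb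
  have hp0 : Q (Pi.single a 1 + Pi.single b 1) ≠ 0 := by rw [hp]; exact one_ne_zero
  have hm0 : Q (Pi.single a 1 - Pi.single b 1) ≠ 0 := by
    rw [hm]; exact neg_ne_zero.mpr one_ne_zero
  unfold hypNeg
  rw [Subgroup.coe_mul, Units.val_mul, reflO_val Q _ hp0, reflO_val Q _ hm0,
    ← Matrix.mulVec_mulVec, reflectionMatrix_mulVec, reflectionMatrix_mulVec, hp, hm]
  simp only [QuadraticMap.polar_add_left, QuadraticMap.polar_sub_left, hpa, hpb,
    QuadraticMap.polar_sub_right, QuadraticMap.polar_smul_right]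
  funext k
  simp only [Pi.sub_apply, Pi.smul_apply, Pi.add_apply, Pi.single_apply, smul_eq_mul]
  by_cases hka : k = a
  · subst hka
    have hab' : b ≠ k := Ne.symm hab
    simp [hab, hab']
    try ring
  · by_cases hkb : k = b
    · subst hkb
      have hab' : k ≠ a := Ne.symm hab
      simp [hab, hab']
      try ring
    · simp [hka, hkb]

theorem hypNeg_val :
    (((hypNeg Q a b : ↥(Cfsg.isometryGroup F (⇑Q))) : GL ι F) : Matrix ι ι F) =
      Matrix.diagonal (fun k => if k = a ∨ k = b then (-1 : F) else 1) := by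
  apply Matrix.toLin'.injective
  apply LinearMap.ext
  intro x
  rw [Matrix.toLin'_apply, Matrix.toLin'_apply, hypNeg_mulVec Q a b hab ha hb hpa hpb]
  funext k
  rw [Matrix.mulVec_diagonal]

theorem detHom_hypNeg [Fintype F] : detHom (⇑Q) (hypNeg Q a b) = 1 := by
  have hp := hyp_plus Q a b hab ha hb hpa hpb
  have hm := hyp_minus Q a b hab ha hb hpa hpb
  have hp0 : Q (Pi.single a 1 + Pi.single b 1) ≠ 0 := by rw [hp]; exact one_ne_zero
  have hm0 : Q (Pi.single a 1 - Pi.single b 1) ≠ 0 := by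
    rw [hm]; exact neg_ne_zero.mpr one_ne_zero
  unfold hypNeg
  rw [map_mul, detHom_reflO Q _ hp0, detHom_reflO Q _ hm0]
  simp

open scoped Classical in
theorem theta_hypNeg [Fintype F] (h2 : (2 : F) ≠ 0) (ζ : F) (hζ : ¬ IsSquare ζ) :
    theta (⇑Q) ζ (hypNeg Q a b) = if IsSquare (-1 : F) then 1 else -1 := by
  have hp := hyp_plus Q a b hab ha hb hpa hpb
  have hm := hyp_minus Q a b hab ha hb hpa hpb
  have hp0 : Q (Pi.single a 1 + Pi.single b 1) ≠ 0 := by rw [hp]; exact one_ne_zero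
  have hm0 : Q (Pi.single a 1 - Pi.single b 1) ≠ 0 := by
    rw [hm]; exact neg_ne_zero.mpr one_ne_zero
  unfold hypNeg
  rw [map_mul, theta_nonsq_reflO h2 Q ζ hζ _ hp0, theta_nonsq_reflO h2 Q ζ hζ _ hm0, hp, hm]
  simp

end

open scoped Classical in
/-- The involution negating the coordinates of the first `i` standard hyperbolic pairs. -/
theorem exists_diag_involution [Fintype F] (h2 : (2 : F) ≠ 0) (Q : QuadraticForm F (ι → F))
    (ζ : F) (hζ : ¬ IsSquare ζ) (idx : ι → ℕ) (N : ℕ) (a b : Fin N → ι)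
    (hidx : ∀ (j : Fin N) (k : ι), idx k = j.val ↔ (k = a j ∨ k = b j))
    (hab : ∀ j, a j ≠ b j)
    (ha : ∀ j, Q (Pi.single (a j) 1) = 0) (hb : ∀ j, Q (Pi.single (b j) 1) = 0)
    (hpa : ∀ j (x : ι → F), QuadraticMap.polar (⇑Q) (Pi.single (a j) 1) x = x (b j))
    (hpb : ∀ j (x : ι → F), QuadraticMap.polar (⇑Q) (Pi.single (b j) 1) x = x (a j))
    (i : ℕ) (hi : i ≤ N) :
    ∃ g : ↥(Cfsg.isometryGroup F (⇑Q)),
      ((g : GL ι F) : Matrix ι ι F) = Matrix.diagonal (fun k => if idx k < i then (-1 : F) else 1) ∧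
      detHom (⇑Q) g = 1 ∧
      theta (⇑Q) ζ g = (if IsSquare (-1 : F) then 1 else -1) ^ i := by
  induction i with
  | zero =>
    refine ⟨1, ?_, map_one _, by rw [map_one, pow_zero]⟩
    simp
  | succ i ih =>
    obtain ⟨g, hg1, hg2, hg3⟩ := ih (Nat.le_of_succ_le hi)
    set j : Fin N := ⟨i, hi⟩ with hj
    refine ⟨g * hypNeg Q (a j) (b j), ?_, ?_, ?_⟩
    · rw [Subgroup.coe_mul, Units.val_mul, hg1,
        hypNeg_val Q (a j) (b j) (hab j) (ha j) (hb j) (hpa j) (hpb j),
        Matrix.diagonal_mul_diagonal]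
      congr 1
      funext k
      have hk := hidx j k
      by_cases h1 : idx k < i
      · have h3 : ¬ (k = a j ∨ k = b j) := by
          rw [← hk]; simp only [hj]; omega
        have h4 : idx k < i + 1 := by omega
        simp [h1, h3, h4]
      · by_cases h5 : idx k = i
        · have h3 : (k = a j ∨ k = b j) := by
            rw [← hk]; exact h5
          have h4 : idx k < i + 1 := by omega
          simp [h1, h3, h4]
        · have h3 : ¬ (k = a j ∨ k = b j) := by
            rw [← hk]; exact h5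
          have h4 : ¬ idx k < i + 1 := by omega
          simp [h1, h3, h4]
    · rw [map_mul, hg2, detHom_hypNeg Q (a j) (b j) (hab j) (ha j) (hb j) (hpa j) (hpb j), one_mul]
    · rw [map_mul, hg3, theta_hypNeg Q (a j) (b j) (hab j) (ha j) (hb j) (hpa j) (hpb j) h2 ζ hζ,
        pow_succ]

open scoped Classical in
theorem eps_pow_eq_one_iff [Fintype F] {q : ℕ} (hF : Fintype.card F = q) (hq : Odd q) (i : ℕ) :
    ((if IsSquare (-1 : F) then 1 else -1 : ℤˣ)) ^ i = 1 ↔ q ^ i % 4 = 1 := by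
  rw [← even_mul_half_iff hq, ← isSquare_neg_one_pow_iff hF hq]
  by_cases h : IsSquare (-1 : F)
  · simp only [h, if_true, one_pow, true_iff]
    exact h.pow i
  · simp only [h, if_false]
    rw [neg_one_pow_eq_one_iff_even (by decide)]
    constructor
    · intro he
      rw [he.neg_one_pow]
      exact IsSquare.one
    · intro hs
      by_contra hne
      rw [Nat.not_even_iff_odd] at hne
      rw [hne.neg_one_pow] at hs
      exact h hs

/-- Criterion for the involution negating `i` hyperbolic pairs to lie in `Ω`, for a function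
`R` with polar form given by a matrix. -/
theorem hyp_pairs_involution_iff {κ : Type} [Fintype κ] [DecidableEq κ] [Fintype F] {q : ℕ}
    (hF : Fintype.card F = q) (hq : Odd q) (R : (κ → F) → F) (M : Matrix κ κ F)
    (hsm : ∀ (a : F) x, R (a • x) = a * a * R x)
    (hM : ∀ u v, QuadraticMap.polar R u v = Matrix.toBilin' M u v) (hdet : M.det ≠ 0)
    (idx : κ → ℕ) (N : ℕ) (a b : Fin N → κ)
    (hidx : ∀ (j : Fin N) (k : κ), idx k = j.val ↔ (k = a j ∨ k = b j))
    (hab : ∀ j, a j ≠ b j)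
    (ha : ∀ j, R (Pi.single (a j) 1) = 0) (hb : ∀ j, R (Pi.single (b j) 1) = 0)
    (hpa : ∀ j (x : κ → F), QuadraticMap.polar R (Pi.single (a j) 1) x = x (b j))
    (hpb : ∀ j (x : κ → F), QuadraticMap.polar R (Pi.single (b j) 1) x = x (a j))
    (i : ℕ) (hi : i ≤ N) :
    (∃ g : ↥(Cfsg.isometryGroup F R), g ∈ Cfsg.Omega F R ∧
      ((g : Matrix.GeneralLinearGroup κ F) : Matrix κ κ F) =
        Matrix.diagonal (fun k => if idx k < i then (-1 : F) else 1)) ↔ q ^ i % 4 = 1 := by
  have h2 : (2 : F) ≠ 0 := two_ne_zero_of_odd_card hF hq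
  have hnd := qfOfPolar_nondegenerate R M hsm hM hdet
  obtain ⟨ζ, hζ⟩ := exists_nonsquare_of_two_ne_zero h2
  obtain ⟨g', hg1, hg2, hg3⟩ := exists_diag_involution h2 (qfOfPolar R M hsm hM) ζ hζ idx N a b
    hidx hab ha hb hpa hpb i hi
  have key : g' ∈ commutator ↥(Cfsg.isometryGroup F (⇑(qfOfPolar R M hsm hM))) ↔
      q ^ i % 4 = 1 := by
    rw [mem_commutator_iff h2 _ hnd ζ hζ g', hg3, eps_pow_eq_one_iff hF hq]
    exact ⟨fun h => h.2, fun h => ⟨hg2, h⟩⟩
  constructor
  · rintro ⟨g, hgm, hg⟩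
    have : g = g' := O_ext _ _ _ (hg.trans hg1.symm)
    rw [this] at hgm
    exact key.mp hgm
  · intro h
    exact ⟨g', key.mpr h, hg1⟩

end Cfsg.Agent.Lib.Helper50
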