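import Mathlib
import Cfsg.Prelude.Def_Blocks
import Cfsg.Agent.Lib.Helper70.IPDefs
import Cfsg.Agent.Lib.Helper83.Decompose
import Cfsg.Agent.Lib.Helper83.Orthogonality
import Cfsg.Agent.Lib.Helper83.CharBasic

/-!
# S4463 pack K-IP, case A, leaf 446322 IPA-MUL: `χ θ` is irreducible when `θ` is fully ramified over `Z`
-/

set_option autoImplicit false

namespace Cfsg.Agent.Lib.Helper50.IPA

open Cfsg Cfsg.Agent.Lib.Helper70.IP Cfsg.Agent.Lib.Helper83
open scoped ComplexConjugate

universe u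

/-- 446322 IPA-MUL -/
theorem irr_mul_of_vanish {G : Type u} [Group G] [Finite G] (Z : Subgroup G)
    {χ θ : G → ℂ} (hχ : IsIrrCharacter G χ) (hθ : IsIrrCharacter G θ)
    (hχZ : IsIrrCharacter Z (fun z : Z => χ z))
    (hvan : ∀ g : G, g ∉ Z → θ g = 0)
    (hnorm : ∀ z : G, z ∈ Z → ‖θ z‖ = (charDegree θ : ℝ))
    (hidx : (charDegree θ) ^ 2 = Z.index) :
    IsIrrCharacter G (χ * θ) ∧ charDegree (χ * θ) = charDegree χ * charDegree θ := by
  classical
  have : Fintype G := Fintype.ofFinite G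
  have : Fintype Z := Fintype.ofFinite Z
  have hcχ := isCharacter_of_irr hχ
  have hcθ := isCharacter_of_irr hθ
  have hchar : IsCharacter G (χ * θ) := isCharacter_mul hcχ hcθ
  have hpt : ∀ g : G, (χ * θ) g * conj ((χ * θ) g) =
      if g ∈ Z then ((charDegree θ : ℕ) : ℂ) ^ 2 * (χ g * conj (χ g)) else 0 := by
    intro g
    simp only [Pi.mul_apply, map_mul]
    split_ifs with hg
    · have h1 : θ g * conj (θ g) = ((charDegree θ : ℕ) : ℂ) ^ 2 := by
        rw [Complex.mul_conj, Complex.normSq_eq_norm_sq, hnorm g hg]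
        push_cast
        ring
      calc χ g * θ g * (conj (χ g) * conj (θ g))
          = (θ g * conj (θ g)) * (χ g * conj (χ g)) := by ring
        _ = _ := by rw [h1]
    · rw [hvan g hg]
      simp
  have hinnerZ := irr_inner_self (⟨_, hχZ⟩ : IrrCharacter Z)
  have hZ0 : (Nat.card Z : ℂ) ≠ 0 := by exact_mod_cast Nat.card_pos.ne'
  have hsumZ : ∑ z : Z, χ z * conj (χ z) = (Nat.card Z : ℂ) := by
    unfold classInner at hinnerZ
    have h2 := congrArg (fun t => (Nat.card Z : ℂ) * t) hinnerZ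
    simp only [mul_one] at h2
    rw [← mul_assoc, mul_inv_cancel₀ hZ0, one_mul] at h2
    exact h2
  have hsum : ∑ g : G, (χ * θ) g * conj ((χ * θ) g) =
      ((charDegree θ : ℕ) : ℂ) ^ 2 * (Nat.card Z : ℂ) := by
    simp_rw [hpt]
    rw [← Finset.sum_filter,
      Finset.sum_subtype (p := fun g => g ∈ Z) (Finset.univ.filter (· ∈ Z)) (by simp),
      ← Finset.mul_sum]
    rw [← hsumZ]
  have hinner : classInner (χ * θ) (χ * θ) = 1 := by
    unfold classInner
    rw [hsum]
    have hcard : (Nat.card G : ℂ) = (Z.index : ℂ) * (Nat.card Z : ℂ) := by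
      rw [← Nat.cast_mul, Subgroup.index_mul_card]
    have hidx0 : (Z.index : ℂ) ≠ 0 := by
      exact_mod_cast Subgroup.index_ne_zero_of_finite
    rw [hcard, ← hidx]
    push_cast
    rw [← hidx] at hidx0
    push_cast at hidx0
    have hd0 : ((charDegree θ : ℕ) : ℂ) ≠ 0 := fun h => hidx0 (by rw [h]; ring)
    field_simp
  refine ⟨isIrrCharacter_of_norm_one hchar hinner, ?_⟩
  have h1 : (χ * θ) 1 = ((charDegree χ * charDegree θ : ℕ) : ℂ) := by
    rw [Pi.mul_apply, ← charDegree_cast hcχ, ← charDegree_cast hcθ]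
    push_cast
    ring
  show ⌊((χ * θ) 1).re⌋₊ = _
  rw [h1, Complex.natCast_re, Nat.floor_natCast]

end Cfsg.Agent.Lib.Helper50.IPA
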