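import Cfsg.Agent.Lib.Helper50.SpinorIndex

set_option autoImplicit false

/-! Subgroups of index two in an orthogonal group (q odd): there are exactly three. -/

namespace Cfsg.Agent.Lib.Helper50

open Matrix Cfsg.Agent.Lib.Helper19

open scoped commutatorElement

/-- a subgroup of index two contains the commutator subgroup -/
theorem commutator_le_of_index_two {G : Type*} [Group G] (H : Subgroup G) (hH : H.index = 2) :
    commutator G ≤ H := by
  rw [commutator_eq_closure, Subgroup.closure_le]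
  rintro x ⟨a, b, rfl⟩
  rw [commutatorElement_def]
  have h1 := Subgroup.mul_mem_iff_of_index_two hH (a := a * b * a⁻¹) (b := b⁻¹)
  have h2 := Subgroup.mul_mem_iff_of_index_two hH (a := a * b) (b := a⁻¹)
  have h3 := Subgroup.mul_mem_iff_of_index_two hH (a := a) (b := b)
  simp only [SetLike.mem_coe]
  rw [h1, h2, h3, Subgroup.inv_mem_iff, Subgroup.inv_mem_iff]
  tauto

variable {ι : Type} [Fintype ι] [DecidableEq ι] {F : Type*} [Field F] [Fintype F]

section

variable (h2 : (2 : F) ≠ 0) (Q : QuadraticForm F (ι → F))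
  (hQ : (QuadraticMap.polarBilin Q).Nondegenerate) (ζ : F) (hζ : ¬ IsSquare ζ)
  (s t : ↥(Cfsg.isometryGroup F (⇑Q)))
  (hs1 : theta (⇑Q) 1 s = -1) (hs2 : theta (⇑Q) ζ s = 1)
  (ht1 : theta (⇑Q) 1 t = 1) (ht2 : theta (⇑Q) ζ t = -1)

include h2 hQ hζ hs1 hs2 ht1 ht2

theorem mem_index_two_iff (H : Subgroup ↥(Cfsg.isometryGroup F (⇑Q))) (hH : H.index = 2)
    (g : ↥(Cfsg.isometryGroup F (⇑Q))) :
    g ∈ H ↔ ((theta (⇑Q) 1 g = 1 ∨ s ∈ H) ↔ (theta (⇑Q) ζ g = 1 ∨ t ∈ H)) := by
  classical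
  have hΩ : ∀ x, thetaPair (⇑Q) ζ x = 1 → x ∈ H := by
    intro x hx
    apply commutator_le_of_index_two H hH
    rw [← ker_thetaPair h2 Q hQ ζ hζ]
    exact hx
  set a : ↥(Cfsg.isometryGroup F (⇑Q)) := if theta (⇑Q) 1 g = 1 then 1 else s with ha
  set b : ↥(Cfsg.isometryGroup F (⇑Q)) := if theta (⇑Q) ζ g = 1 then 1 else t with hb
  have e1 : theta (⇑Q) 1 (g * a * b) = 1 := by
    rw [map_mul, map_mul, ha, hb]
    rcases Int.units_eq_one_or (theta (⇑Q) 1 g) with h | h <;>
      rcases Int.units_eq_one_or (theta (⇑Q) ζ g) with h' | h' <;>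
      simp [h, h', hs1, ht1]
  have e2 : theta (⇑Q) ζ (g * a * b) = 1 := by
    rw [map_mul, map_mul, ha, hb]
    rcases Int.units_eq_one_or (theta (⇑Q) 1 g) with h | h <;>
      rcases Int.units_eq_one_or (theta (⇑Q) ζ g) with h' | h' <;>
      simp [h, h', hs2, ht2]
  have hmem : g * a * b ∈ H := by
    apply hΩ
    unfold thetaPair
    rw [MonoidHom.prod_apply, e1, e2]
    rfl
  rw [Subgroup.mul_mem_iff_of_index_two hH, Subgroup.mul_mem_iff_of_index_two hH] at hmem
  have haH : a ∈ H ↔ (theta (⇑Q) 1 g = 1 ∨ s ∈ H) := by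
    rw [ha]
    by_cases h : theta (⇑Q) 1 g = 1
    · simp [h, H.one_mem]
    · simp [h]
  have hbH : b ∈ H ↔ (theta (⇑Q) ζ g = 1 ∨ t ∈ H) := by
    rw [hb]
    by_cases h : theta (⇑Q) ζ g = 1
    · simp [h, H.one_mem]
    · simp [h]
  rw [← haH, ← hbH]
  clear_value a b
  clear haH hbH hΩ e1 e2 hs1 hs2 ht1 ht2
  generalize (a ∈ H) = A at *
  generalize (b ∈ H) = B at *
  generalize (g ∈ H) = G at *
  by_cases hG : G <;> by_cases hA : A <;> by_cases hB : B <;> simp_all

end

theorem index_ker_of_neg_one {G : Type*} [Group G] (χ : G →* ℤˣ) (x : G) (hx : χ x = -1) :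
    χ.ker.index = 2 := by
  have hsurj : Function.Surjective χ := by
    intro y
    rcases Int.units_eq_one_or y with rfl | rfl
    · exact ⟨1, map_one _⟩
    · exact ⟨x, hx⟩
  rw [Subgroup.index_ker, MonoidHom.range_eq_top.mpr hsurj,
    Nat.card_congr (Subgroup.topEquiv (G := ℤˣ)).toEquiv]
  simp

/-- An orthogonal group in dimension at least two over a finite field of odd order has exactly
three subgroups of index two. -/
theorem card_index_two (h2 : (2 : F) ≠ 0) (Q : QuadraticForm F (ι → F))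
    (hQ : (QuadraticMap.polarBilin Q).Nondegenerate) (hdim : 2 ≤ Fintype.card ι) :
    Nat.card {H : Subgroup ↥(Cfsg.isometryGroup F (⇑Q)) // H.index = 2} = 3 := by
  classical
  obtain ⟨ζ, hζ⟩ := exists_nonsquare_of_two_ne_zero h2
  obtain ⟨s, hs⟩ := thetaPair_surjective h2 Q hQ hdim ζ hζ (-1, 1)
  obtain ⟨t, ht⟩ := thetaPair_surjective h2 Q hQ hdim ζ hζ (1, -1)
  have hs1 : theta (⇑Q) 1 s = -1 := congrArg Prod.fst hs
  have hs2 : theta (⇑Q) ζ s = 1 := congrArg Prod.snd hs
  have ht1 : theta (⇑Q) 1 t = 1 := congrArg Prod.fst ht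
  have ht2 : theta (⇑Q) ζ t = -1 := congrArg Prod.snd ht
  have key := mem_index_two_iff h2 Q hQ ζ hζ s t hs1 hs2 ht1 ht2
  have hne : (-1 : ℤˣ) ≠ 1 := by decide
  let f : {H : Subgroup ↥(Cfsg.isometryGroup F (⇑Q)) // H.index = 2} →
      {p : Bool × Bool // p ≠ (true, true)} := fun H =>
    ⟨(decide (s ∈ H.1), decide (t ∈ H.1)), by
      intro hp
      have h1 : s ∈ H.1 := by simpa using congrArg Prod.fst hp
      have h3 : t ∈ H.1 := by simpa using congrArg Prod.snd hp
      have htop : H.1 = ⊤ := by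
        rw [Subgroup.eq_top_iff']
        intro g
        rw [key H.1 H.2 g]
        simp [h1, h3]
      have := H.2
      rw [htop, Subgroup.index_top] at this
      omega⟩
  have hbij : Function.Bijective f := by
    constructor
    · intro H H' hff
      have e1 : decide (s ∈ H.1) = decide (s ∈ H'.1) :=
        congrArg Prod.fst (congrArg Subtype.val hff)
      have e2 : decide (t ∈ H.1) = decide (t ∈ H'.1) :=
        congrArg Prod.snd (congrArg Subtype.val hff)
      have e1' : s ∈ H.1 ↔ s ∈ H'.1 := by simpa using e1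
      have e2' : t ∈ H.1 ↔ t ∈ H'.1 := by simpa using e2
      apply Subtype.ext
      ext g
      rw [key H.1 H.2 g, key H'.1 H'.2 g, e1', e2']
    · rintro ⟨⟨x, y⟩, hp⟩
      cases x <;> cases y
      · refine ⟨⟨(theta (⇑Q) 1 * theta (⇑Q) ζ).ker,
          index_ker_of_neg_one _ s (by rw [MonoidHom.mul_apply, hs1, hs2]; rfl)⟩, ?_⟩
        apply Subtype.ext
        simp only [f, MonoidHom.mem_ker, MonoidHom.mul_apply, hs1, hs2, ht1, ht2]
        simp
      · refine ⟨⟨(theta (⇑Q) 1).ker, index_ker_of_neg_one _ s hs1⟩, ?_⟩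
        apply Subtype.ext
        simp only [f, MonoidHom.mem_ker, hs1, ht1]
        simp
      · refine ⟨⟨(theta (⇑Q) ζ).ker, index_ker_of_neg_one _ t ht2⟩, ?_⟩
        apply Subtype.ext
        simp only [f, MonoidHom.mem_ker, hs2, ht2]
        simp
      · exact absurd rfl hp
  rw [Nat.card_eq_of_bijective f hbij, Nat.card_eq_fintype_card]
  decide

end Cfsg.Agent.Lib.Helper50
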