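import Cfsg.Agent.Lib.Helper50.QuotSmall
import Cfsg.Agent.Lib.Helper08.PgoModInn

set_option autoImplicit false

/-! The image in `Aut(PΩ)` of the similarities with `det = μ^m`, modulo the inner automorphisms
(even dimension `2m`, `q` odd): of order two, cyclic of order four, or a four-group. -/

namespace Cfsg.Agent.Lib.Helper50

open Matrix Cfsg.Agent.Lib.Helper19 Cfsg.Agent.Lib.Helper43 Cfsg.Agent.Lib.Helper08

universe u

variable {F : Type u} [Field F] [Fintype F] [DecidableEq F] {ι : Type} [Fintype ι] [DecidableEq ι]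
variable (Q : QuadraticForm F (ι → F))

set_option maxHeartbeats 1600000 in
theorem inndiag_mod_inn (m : ℕ) (h2 : (2 : F) ≠ 0)
    (hQ : (QuadraticMap.polarBilin Q).Nondegenerate)
    (hcard : Fintype.card ι = 2 * m) (e f : Fin 3 → ι → F) (HT : HypTriple Q e f)
    (hu : Q (e 0 + f 0) = 1)
    (g0 : ↥(Cfsg.Geo.quadSimilarityGroup (F := F) ⇑Q)) (hg0 : ¬ IsSquare (multFun Q g0 : F))
    (hsq : ∃ a : F, ((g0 : GL ι F) : Matrix ι ι F) * ((g0 : GL ι F) : Matrix ι ι F) = a • 1)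
    (P : Subgroup (MulAut (Cfsg.POmega F ⇑Q)))
    (hP : P = (delta Q hu m).ker.map (autPO ⇑Q)) :
    ((¬ ∃ g : ↥(Cfsg.isometryGroup F ⇑Q), g ∈ Cfsg.Omega F ⇑Q ∧
        ((g : GL ι F) : Matrix ι ι F) = -1) →
      ∃ φ : ↥P →* Multiplicative (ZMod 2), Function.Surjective φ ∧
        φ.ker = (Cfsg.Inn (Cfsg.POmega F ⇑Q)).subgroupOf P) ∧
    ((∃ g : ↥(Cfsg.isometryGroup F ⇑Q), g ∈ Cfsg.Omega F ⇑Q ∧
        ((g : GL ι F) : Matrix ι ι F) = -1) → delta Q hu m g0 = -1 →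
      ∃ φ : ↥P →* Multiplicative (ZMod 4), Function.Surjective φ ∧
        φ.ker = (Cfsg.Inn (Cfsg.POmega F ⇑Q)).subgroupOf P) ∧
    ((∃ g : ↥(Cfsg.isometryGroup F ⇑Q), g ∈ Cfsg.Omega F ⇑Q ∧
        ((g : GL ι F) : Matrix ι ι F) = -1) → delta Q hu m g0 = 1 →
      ∃ φ : ↥P →* Multiplicative (ZMod 2 × ZMod 2), Function.Surjective φ ∧
        φ.ker = (Cfsg.Inn (Cfsg.POmega F ⇑Q)).subgroupOf P) := by
  subst hP
  have heven : Even (Fintype.card ι) := ⟨m, by rw [hcard]; ring⟩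
  have RP := reflPairs_of_two_ne_zero Q h2
  obtain ⟨v, hv⟩ : ∃ v, v = e 0 + f 0 := ⟨_, rfl⟩
  obtain ⟨c, hc⟩ : ∃ c, c = autPO (⇑Q) := ⟨_, rfl⟩
  obtain ⟨N, hN⟩ : ∃ N, N = (Cfsg.Inn (Cfsg.POmega F ⇑Q)).comap c := ⟨_, rfl⟩
  obtain ⟨B, hB⟩ : ∃ B, B = (Cfsg.Omega F ⇑Q).map (inclGO Q) := ⟨_, rfl⟩
  obtain ⟨D, hD⟩ : ∃ D, D = (delta Q hu m).ker := ⟨_, rfl⟩
  have hBc : B.map c = Cfsg.Inn (Cfsg.POmega F ⇑Q) := by
    rw [hB, Subgroup.map_map, inn_eq, hc]; rfl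
  have hNeq : N = B ⊔ c.ker := by rw [hN, ← hBc, Subgroup.comap_map_eq]
  have hNn : N.Normal := by rw [hN]; infer_instance
  obtain ⟨ψ₀, hψ₀⟩ : ∃ ψ₀, ψ₀ = psiGO Q hu m h2 hQ hcard := ⟨_, rfl⟩
  have hK : ψ₀.ker = (Cfsg.specialIsometryGroup F ⇑Q).map (inclGO Q) ⊔ c.ker := by
    rw [hψ₀, hc]; exact psiGO_ker_le Q hu m h2 hQ hcard e f HT
  have hNK : N ≤ ψ₀.ker := by
    rw [hNeq, hK, hB]; exact sup_le_sup_right (Subgroup.map_mono (Omega_le_SO Q)) _
  have hKmap : ψ₀.ker.map c = Cfsg.psoAut F ⇑Q := by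
    rw [hK, Subgroup.map_sup, Subgroup.map_map, psoAut_eq,
      (Subgroup.map_eq_bot_iff _).mpr (le_refl c.ker), sup_bot_eq, hc]
    rfl
  have hsurj : Function.Surjective ψ₀ := by
    rw [hψ₀]; exact psiGO_surjective Q hu m h2 hQ hcard g0 hg0
  have hKidx : ψ₀.ker.index = 4 := by
    rw [Subgroup.index_ker, MonoidHom.range_eq_top.mpr hsurj,
      Nat.card_congr (Subgroup.topEquiv (G := ℤˣ × ℤˣ)).toEquiv, Nat.card_prod]
    simp
  -- the second coordinate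
  obtain ⟨χ, hχ⟩ : ∃ χ, χ = (MonoidHom.snd ℤˣ ℤˣ).comp ψ₀ := ⟨_, rfl⟩
  have hχker : χ.ker = D := by
    ext g
    rw [hχ, hD, MonoidHom.mem_ker, MonoidHom.comp_apply, hψ₀, MonoidHom.mem_ker]
    unfold psiGO
    rw [MonoidHom.prod_apply]
    exact signHom_eq_one_iff (delta Q hu m) (delta_cases Q hu m hQ hcard)
      (one_ne_neg_one_units h2) g
  have hχsurj : Function.Surjective χ := by
    rw [hχ]
    have hs2 : Function.Surjective (MonoidHom.snd ℤˣ ℤˣ) := fun x => ⟨((1 : ℤˣ), x), rfl⟩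
    exact hs2.comp hsurj
  have hDidx : D.index = 2 := by
    rw [← hχker, Subgroup.index_ker, MonoidHom.range_eq_top.mpr hχsurj,
      Nat.card_congr (Subgroup.topEquiv (G := ℤˣ)).toEquiv]
    simp
  have hKD : ψ₀.ker ≤ D := by
    intro g hg
    rw [← hχker, MonoidHom.mem_ker, hχ, MonoidHom.comp_apply]
    rw [MonoidHom.mem_ker] at hg
    rw [hg]; rfl
  have hKrelD : ψ₀.ker.relIndex D = 2 := by
    have h1 := Subgroup.relIndex_mul_index hKD
    rw [hKidx, hDidx] at h1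
    omega
  have hrelNK : N.relIndex ψ₀.ker = (Cfsg.Inn (Cfsg.POmega F ⇑Q)).relIndex (Cfsg.psoAut F ⇑Q) := by
    rw [hN, Subgroup.relIndex_comap, hKmap]
  have hrelND : N.relIndex D = N.relIndex ψ₀.ker * 2 := by
    rw [← hKrelD, Subgroup.relIndex_mul_relIndex _ _ _ hNK hKD]
  have hNle : N ≤ D := hNK.trans hKD
  -- transfer to the image
  have hidxP : ((Cfsg.Inn (Cfsg.POmega F ⇑Q)).subgroupOf (D.map c)).index = N.relIndex D := by
    rw [hN, Subgroup.relIndex_comap]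
    rfl
  have hmemP : ∀ g : ↥(Cfsg.Geo.quadSimilarityGroup (F := F) ⇑Q), g ∈ D → c g ∈ D.map c :=
    fun g hg => ⟨g, hg, rfl⟩
  have hmemI : ∀ (g : ↥(Cfsg.Geo.quadSimilarityGroup (F := F) ⇑Q)) (hg : g ∈ D),
      ((⟨c g, hmemP g hg⟩ : ↥(D.map c)) ∈
        (Cfsg.Inn (Cfsg.POmega F ⇑Q)).subgroupOf (D.map c)) ↔ g ∈ N := by
    intro g hg
    rw [Subgroup.mem_subgroupOf, hN, Subgroup.mem_comap]
  have hInorm : ((Cfsg.Inn (Cfsg.POmega F ⇑Q)).subgroupOf (D.map c)).Normal := inferInstance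
  have hkerN : c.ker ≤ N := by rw [hNeq]; exact le_sup_right
  have hz : g0 * g0 ∈ c.ker := by
    rw [MonoidHom.mem_ker, hc, autPO_eq_one_iff Q hQ h2 e f HT RP]
    obtain ⟨a, ha⟩ := hsq
    exact ⟨a, by rw [Subgroup.coe_mul, Units.val_mul]; exact ha⟩
  have hx : g0 * g0 ∈ N := hkerN hz
  have hx1 : g0 ∉ ψ₀.ker := fun h3 => by
    rw [MonoidHom.mem_ker, hψ₀, psiGO_eq_one_iff] at h3
    exact hg0 h3.1
  rw [← hD, ← hc]
  refine ⟨?_, ?_, ?_⟩
  · intro hno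
    have hrel := (relIndex_inn_psoAut Q h2 hQ e f HT heven).2 hno
    apply exists_hom_zmod_two
    rw [hidxP, hrelND, hrelNK, hrel]
  · rintro ⟨gm, hgmΩ, hgmv⟩ hδ0
    have hrel := (relIndex_inn_psoAut Q h2 hQ e f HT heven).1 ⟨gm, hgmΩ, hgmv⟩
    have hkerΩ : (autO (⇑Q)).ker ≤ Cfsg.Omega F ⇑Q := by
      intro k hk
      rw [MonoidHom.mem_ker, autO_eq_one_iff Q hQ h2 e f HT RP] at hk
      rcases hk with h1 | h1
      · have : k = 1 := Subtype.ext (Units.ext h1)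
        rw [this]; exact one_mem _
      · have : k = gm := Subtype.ext (Units.ext (h1.trans hgmv.symm))
        rw [this]; exact hgmΩ
    have hmemN : ∀ h : ↥(Cfsg.isometryGroup F ⇑Q), inclGO Q h ∈ N ↔ h ∈ Cfsg.Omega F ⇑Q := by
      intro h
      rw [hN, Subgroup.mem_comap, hc]
      change autO (⇑Q) h ∈ Cfsg.Inn _ ↔ _
      rw [inn_eq, ← Subgroup.mem_comap, Subgroup.comap_map_eq, sup_eq_left.mpr hkerΩ]
    have huv : Q v = 1 := by rw [hv]; exact hu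
    have hv0 : Q v ≠ 0 := by rw [huv]; exact one_ne_zero
    obtain ⟨r, hr⟩ : ∃ r, r = Cfsg.Agent.Lib.Helper50.reflO Q v := ⟨_, rfl⟩
    have hrv : ((r : GL ι F) : Matrix ι ι F) = Cfsg.reflectionMatrix (⇑Q) v := by
      rw [hr]; exact Cfsg.Agent.Lib.Helper50.reflO_val Q v hv0
    obtain ⟨w, hw⟩ : ∃ w, w = ((g0 : GL ι F) : Matrix ι ι F) *ᵥ v := ⟨_, rfl⟩
    have hQw : Q w = (multFun Q g0 : F) := by rw [hw, multFun_spec, huv, mul_one]
    have hw0 : Q w ≠ 0 := by rw [hQw]; exact Units.ne_zero _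
    obtain ⟨r', hr'⟩ : ∃ r', r' = Cfsg.Agent.Lib.Helper50.reflO Q w := ⟨_, rfl⟩
    have hrw : ((r' : GL ι F) : Matrix ι ι F) = Cfsg.reflectionMatrix (⇑Q) w := by
      rw [hr']; exact Cfsg.Agent.Lib.Helper50.reflO_val Q w hw0
    have hcomm : g0 * inclGO Q r = inclGO Q r' * g0 := by
      apply Subtype.ext; apply Units.ext
      simp only [Subgroup.coe_mul, Units.val_mul, inclGO_val]
      rw [hrv, hrw, hw]
      exact similarity_mul_reflection Q g0 v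
    have hxy : (g0 * inclGO Q r) * (g0 * inclGO Q r) ∉ N := by
      intro h
      have e1 : (g0 * inclGO Q r) * (g0 * inclGO Q r) =
          (inclGO Q r' * (g0 * g0) * (inclGO Q r')⁻¹) * inclGO Q (r' * r) := by
        rw [map_mul]
        nth_rewrite 1 [hcomm]
        group
      rw [e1] at h
      have h5 : inclGO Q r' * (g0 * g0) * (inclGO Q r')⁻¹ ∈ N := hNn.conj_mem _ hx _
      have h6 := (Subgroup.mul_mem_cancel_left N h5).mp h
      rw [hmemN] at h6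
      have h7 := (Cfsg.Agent.Lib.Helper50.spinor_criterion h2 Q (r' * r) [w, v]
        (by
          intro z hz
          simp only [List.mem_cons, List.not_mem_nil, or_false] at hz
          rcases hz with rfl | rfl
          · exact hw0
          · exact hv0)
        (by
          rw [Subgroup.coe_mul, Units.val_mul, hrv, hrw]
          simp)).mp h6
      apply hg0
      have h8 := h7.2
      simp only [List.map_cons, List.map_nil, List.prod_cons, List.prod_nil, hQw, huv,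
        mul_one] at h8
      exact h8
    have hδr : delta Q hu m (inclGO Q r) = -1 := by
      apply Units.ext
      rw [delta_apply, multFun_inclGO Q hu]
      simp only [inv_one, one_pow, mul_one, detGO_val, inclGO_val, Units.val_neg, Units.val_one]
      rw [hrv, Cfsg.Agent.Lib.Helper19.reflectionMatrix_det Q v hv0]
    have hxD : g0 * inclGO Q r ∈ D := by
      rw [hD, MonoidHom.mem_ker, map_mul, hδ0, hδr]
      simp
    apply exists_hom_zmod_four _ (by rw [hidxP, hrelND, hrelNK, hrel])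
      (⟨c (g0 * inclGO Q r), hmemP _ hxD⟩ : ↥(D.map c))
    have : (⟨c (g0 * inclGO Q r), hmemP _ hxD⟩ : ↥(D.map c)) *
        ⟨c (g0 * inclGO Q r), hmemP _ hxD⟩ =
        ⟨c ((g0 * inclGO Q r) * (g0 * inclGO Q r)), hmemP _ (D.mul_mem hxD hxD)⟩ :=
      Subtype.ext (map_mul c _ _).symm
    rw [this, hmemI _ (D.mul_mem hxD hxD)]
    exact hxy
  · rintro ⟨gm, hgmΩ, hgmv⟩ hδ0
    have hrel := (relIndex_inn_psoAut Q h2 hQ e f HT heven).1 ⟨gm, hgmΩ, hgmv⟩
    have hg0D : g0 ∈ D := by rw [hD, MonoidHom.mem_ker]; exact hδ0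
    -- an element of `K` outside `N`
    have hrel2 : N.relIndex ψ₀.ker = 2 := by rw [hrelNK, hrel]
    obtain ⟨k, hkK, hkN⟩ : ∃ k, k ∈ ψ₀.ker ∧ k ∉ N := by
      by_contra hcon
      push Not at hcon
      have : ψ₀.ker ≤ N := hcon
      rw [Subgroup.relIndex_eq_one.mpr this] at hrel2
      omega
    have hkk : k * k ∈ N := by
      have h1 : (N.subgroupOf ψ₀.ker).index = 2 := hrel2
      have h3 := Subgroup.mul_self_mem_of_index_two h1 ⟨k, hkK⟩
      rw [Subgroup.mem_subgroupOf] at h3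
      exact h3
    have hkD : k ∈ D := hKD hkK
    have hg0N : g0 ∉ N := fun h => hx1 (hNK h)
    have hgk : g0⁻¹ * k ∉ N := by
      intro h
      have h3 : g0⁻¹ * k ∈ ψ₀.ker := hNK h
      have h4 : g0⁻¹ ∈ ψ₀.ker := (Subgroup.mul_mem_cancel_right _ hkK).mp h3
      exact hx1 (by simpa using ψ₀.ker.inv_mem h4)
    apply exists_hom_klein _ (by rw [hidxP, hrelND, hrelNK, hrel])
      (⟨c g0, hmemP _ hg0D⟩ : ↥(D.map c)) (⟨c k, hmemP _ hkD⟩ : ↥(D.map c))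
    · rw [hmemI _ hg0D]; exact hg0N
    · rw [hmemI _ hkD]; exact hkN
    · have : (⟨c g0, hmemP _ hg0D⟩ : ↥(D.map c))⁻¹ * ⟨c k, hmemP _ hkD⟩ =
          ⟨c (g0⁻¹ * k), hmemP _ (D.mul_mem (D.inv_mem hg0D) hkD)⟩ :=
        Subtype.ext ((map_mul c _ _).trans (by rw [map_inv]; rfl)).symm
      rw [this, hmemI _ (D.mul_mem (D.inv_mem hg0D) hkD)]
      exact hgk
    · have : (⟨c g0, hmemP _ hg0D⟩ : ↥(D.map c)) * ⟨c g0, hmemP _ hg0D⟩ =
          ⟨c (g0 * g0), hmemP _ (D.mul_mem hg0D hg0D)⟩ :=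
        Subtype.ext (map_mul c _ _).symm
      rw [this, hmemI _ (D.mul_mem hg0D hg0D)]
      exact hx
    · have : (⟨c k, hmemP _ hkD⟩ : ↥(D.map c)) * ⟨c k, hmemP _ hkD⟩ =
          ⟨c (k * k), hmemP _ (D.mul_mem hkD hkD)⟩ :=
        Subtype.ext (map_mul c _ _).symm
      rw [this, hmemI _ (D.mul_mem hkD hkD)]
      exact hkk

end Cfsg.Agent.Lib.Helper50
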