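import Cfsg.Agent.Lib.Helper07.PSLnJ
import Cfsg.Agent.Lib.Helper07.PSLnI
import Cfsg.Agent.Lib.Helper50.PgoCongr

set_option autoImplicit false

/-! The centralizer of the inverse-transpose automorphism in `Inndiag(PSL_n(F))` is the
projective similarity group of the sum-of-squares form. -/

namespace Cfsg.Agent.Lib.Helper50

open Matrix Cfsg.Agent.Lib.Helper07

section
variable {n : ℕ} {F : Type*} [Field F]

local notation "SLn" => SpecialLinearGroup (Fin n) F
local notation "G" => ProjectiveSpecialLinearGroup (Fin n) F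

theorem eq_conjGLn_of_isInnerDiagonal (β : MulAut G) (g : GL (Fin n) F)
    (h : ∀ s s' : SLn, (s' : Matrix (Fin n) (Fin n) F) =
        ((g : GL (Fin n) F) : Matrix (Fin n) (Fin n) F) * (s : Matrix (Fin n) (Fin n) F) *
          ((g⁻¹ : GL (Fin n) F) : Matrix (Fin n) (Fin n) F) →
      β (QuotientGroup.mk s) = QuotientGroup.mk s') : β = conjGLn g := by
  ext z
  obtain ⟨A, rfl⟩ := prjN_surjective z
  rw [conjGLn_prjN]
  exact h A (conjSLn g A) (conjSLn_val g A)

theorem inndiagPSL_eq_range : Cfsg.inndiagPSL n F = (conjGLn (n := n) (F := F)).range := by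
  unfold Cfsg.inndiagPSL Cfsg.autSubgroupOf
  have : {β : MulAut G | Cfsg.IsInnerDiagonalAutPSL β} =
      ((conjGLn (n := n) (F := F)).range : Set (MulAut G)) := by
    ext β
    constructor
    · rintro ⟨g, hg⟩
      exact ⟨g, (eq_conjGLn_of_isInnerDiagonal β g hg).symm⟩
    · rintro ⟨g, rfl⟩
      exact isInnerDiagonal_conjGLn g
  rw [this, Subgroup.closure_eq]

theorem eq_invT_of_isInverseTranspose (β : MulAut G) (h : Cfsg.IsInverseTransposeAutPSL β) :
    β = invT := by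
  ext z
  obtain ⟨A, rfl⟩ := prjN_surjective z
  rw [invT_prjN]
  exact h A (invTSL A) (invTSL_val A)

theorem scalars_eq_center : Cfsg.Geo.scalars (Fin n) F = Subgroup.center (GL (Fin n) F) :=
  GeneralLinearGroup.center_eq_range_scalar.symm

theorem conjGLn_ker_eq_scalars (p : ℕ) [Fact p.Prime] [CharP F p] (hn : 1 ≤ n) :
    (conjGLn (n := n) (F := F)).ker = Cfsg.Geo.scalars (Fin n) F := by
  rw [conjGLn_ker p hn, scalars_eq_center]

/-- similarities of the sum of squares, in matrix terms -/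
theorem mem_sim_dot_iff (h2 : (2 : F) ≠ 0) (g : GL (Fin n) F) :
    g ∈ Cfsg.Geo.quadSimilarityGroup (fun v : Fin n → F => v ⬝ᵥ v) ↔
      ∃ c : Fˣ, g.valᵀ * g.val = (c : F) • (1 : Matrix (Fin n) (Fin n) F) := by
  constructor
  · rintro ⟨c, hc⟩
    refine ⟨c, ?_⟩
    have hpol : ∀ u v : Fin n → F, (g.val *ᵥ u) ⬝ᵥ (g.val *ᵥ v) = (c : F) * (u ⬝ᵥ v) := by
      intro u v
      have h1 := hc (u + v)
      have h2' := hc u
      have h3 := hc v
      simp only [Matrix.mulVec_add, add_dotProduct, dotProduct_add] at h1 h2' h3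
      rw [dotProduct_comm (g.val *ᵥ v) (g.val *ᵥ u), dotProduct_comm v u] at h1
      have : (2 : F) * ((g.val *ᵥ u) ⬝ᵥ (g.val *ᵥ v)) = 2 * ((c : F) * (u ⬝ᵥ v)) := by
        linear_combination h1 - h2' - h3
      exact mul_left_cancel₀ h2 this
    ext i j
    have := hpol (Pi.single i 1) (Pi.single j 1)
    rw [Matrix.mulVec_single_one, Matrix.mulVec_single_one] at this
    rw [Matrix.mul_apply, Matrix.smul_apply, Matrix.one_apply, smul_eq_mul]
    simp only [Matrix.transpose_apply]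
    rw [dotProduct] at this
    simp only [Matrix.col_apply] at this
    rw [this, single_dotProduct, one_mul, Pi.single_apply]
  · rintro ⟨c, hc⟩
    refine ⟨c, fun v => ?_⟩
    show (g.val *ᵥ v) ⬝ᵥ (g.val *ᵥ v) = (c : F) * (v ⬝ᵥ v)
    rw [Matrix.dotProduct_mulVec, Matrix.vecMul_mulVec, ← Matrix.mulVec_transpose,
      Matrix.transpose_mul, Matrix.transpose_transpose, hc]
    rw [Matrix.smul_mulVec, Matrix.one_mulVec, smul_dotProduct, smul_eq_mul]

theorem conjGLn_mem_centralizer_iff (p : ℕ) [Fact p.Prime] [CharP F p] (hn : 1 ≤ n)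
    (h2 : (2 : F) ≠ 0) (g : GL (Fin n) F) :
    conjGLn g ∈ Subgroup.centralizer {(invT : MulAut G)} ↔
      g ∈ Cfsg.Geo.quadSimilarityGroup (fun v : Fin n → F => v ⬝ᵥ v) := by
  rw [Subgroup.mem_centralizer_iff, mem_sim_dot_iff h2]
  have key : (∀ h ∈ ({(invT : MulAut G)} : Set (MulAut G)), h * conjGLn g = conjGLn g * h) ↔
      g⁻¹ * glInvT g ∈ Cfsg.Geo.scalars (Fin n) F := by
    rw [← conjGLn_ker_eq_scalars p hn, MonoidHom.mem_ker, map_mul, map_inv, inv_mul_eq_one]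
    constructor
    · intro h
      have := h invT rfl
      rw [invT_mul_conjGLn] at this
      exact (mul_right_cancel this).symm
    · intro h x hx
      rw [Set.mem_singleton_iff] at hx
      subst hx
      rw [invT_mul_conjGLn, ← h]
  rw [key, Cfsg.Geo.mem_scalars_iff]
  constructor
  · rintro ⟨c, hc⟩
    refine ⟨c⁻¹, ?_⟩
    rw [Units.val_mul, glInvT_val] at hc
    -- g⁻¹ * g⁻¹ᵀ = c • 1, so gᵀ * g = c⁻¹ • 1
    have h1 : g.valᵀ * g.val * (g⁻¹.val * g⁻¹.valᵀ) = 1 := by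
      rw [Matrix.mul_assoc, ← Matrix.mul_assoc g.val, Units.mul_inv, Matrix.one_mul,
        ← Matrix.transpose_mul, Units.inv_mul, Matrix.transpose_one]
    rw [hc, Matrix.mul_smul, Matrix.mul_one] at h1
    have : g.valᵀ * g.val = (c : F)⁻¹ • ((c : F) • (g.valᵀ * g.val)) := by
      rw [smul_smul, inv_mul_cancel₀ c.ne_zero, one_smul]
    rw [this, h1, Units.val_inv_eq_inv_val]
  · rintro ⟨c, hc⟩
    refine ⟨c⁻¹, ?_⟩
    rw [Units.val_mul, glInvT_val]
    have h1 : g⁻¹.val * g⁻¹.valᵀ * (g.valᵀ * g.val) = 1 := by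
      rw [Matrix.mul_assoc, ← Matrix.mul_assoc g⁻¹.valᵀ, ← Matrix.transpose_mul, Units.mul_inv,
        Matrix.transpose_one, Matrix.one_mul, Units.inv_mul]
    rw [hc, Matrix.mul_smul, Matrix.mul_one] at h1
    have : g⁻¹.val * g⁻¹.valᵀ = (c : F)⁻¹ • ((c : F) • (g⁻¹.val * g⁻¹.valᵀ)) := by
      rw [smul_smul, inv_mul_cancel₀ c.ne_zero, one_smul]
    rw [this, h1, Units.val_inv_eq_inv_val]

theorem inndiag_inf_centralizer_eq (p : ℕ) [Fact p.Prime] [CharP F p] (hn : 1 ≤ n)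
    (h2 : (2 : F) ≠ 0) :
    Cfsg.inndiagPSL n F ⊓ Subgroup.centralizer {(invT : MulAut G)} =
      (Cfsg.Geo.quadSimilarityGroup (fun v : Fin n → F => v ⬝ᵥ v)).map conjGLn := by
  rw [inndiagPSL_eq_range]
  ext β
  rw [Subgroup.mem_inf, Subgroup.mem_map]
  constructor
  · rintro ⟨⟨g, rfl⟩, hc⟩
    exact ⟨g, (conjGLn_mem_centralizer_iff p hn h2 g).mp hc, rfl⟩
  · rintro ⟨g, hg, rfl⟩
    exact ⟨⟨g, rfl⟩, (conjGLn_mem_centralizer_iff p hn h2 g).mpr hg⟩

/-- the centralizer of an inverse-transpose automorphism in `Inndiag(PSL_n(F))` -/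
theorem nonempty_centralizer_equiv_pgo [Finite F] (hn : 1 ≤ n) (h2 : (2 : F) ≠ 0)
    (ι : MulAut G) (hι : Cfsg.IsInverseTransposeAutPSL ι) :
    Nonempty (↥(Cfsg.inndiagPSL n F ⊓ Subgroup.centralizer {ι}) ≃*
      Cfsg.PGO F (fun v : Fin n → F => v ⬝ᵥ v)) := by
  obtain ⟨p, hp⟩ := CharP.exists F
  haveI := hp
  haveI : Fact p.Prime := ⟨(CharP.char_is_prime_or_zero F p).resolve_right
    (fun h0 => by
      subst h0
      haveI : CharZero F := CharP.charP_to_charZero F
      exact not_finite F)⟩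
  obtain rfl := eq_invT_of_isInverseTranspose ι hι
  obtain ⟨e⟩ := nonempty_projQuot_equiv_map (conjGLn (n := n) (F := F))
    (conjGLn_ker_eq_scalars p hn) (Cfsg.Geo.quadSimilarityGroup (fun v : Fin n → F => v ⬝ᵥ v))
  exact ⟨(MulEquiv.subgroupCongr (inndiag_inf_centralizer_eq p hn h2)).trans e.symm⟩

end

end Cfsg.Agent.Lib.Helper50
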