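import Cfsg.Agent.Lib.Helper08.AutOmega

set_option autoImplicit false

/-!
# The isomorphism `PΩ(Q) ≃* PΩ(Q')` induced by an isometry `P : Q → Q'`
-/

namespace Cfsg.Agent.Lib.Helper50

open Matrix Cfsg.Agent.Lib.Helper08

universe u

section grp

variable {G H : Type*} [Group G] [Group H]

theorem map_center_equiv (e : G ≃* H) :
    (Subgroup.center G).map (e : G →* H) = Subgroup.center H := by
  ext y
  constructor
  · rintro ⟨z, hz, rfl⟩
    rw [SetLike.mem_coe, Subgroup.mem_center_iff] at hz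
    rw [Subgroup.mem_center_iff]
    intro h
    obtain ⟨g, rfl⟩ := e.surjective h
    change e g * e z = e z * e g
    rw [← map_mul, ← map_mul, hz g]
  · intro hy
    refine ⟨e.symm y, ?_, e.apply_symm_apply y⟩
    rw [Subgroup.mem_center_iff] at hy
    rw [SetLike.mem_coe, Subgroup.mem_center_iff]
    intro g
    apply e.injective
    rw [map_mul, map_mul, e.apply_symm_apply]
    exact hy (e g)

theorem map_commutator_equiv (e : G ≃* H) :
    (commutator G).map (e : G →* H) = commutator H := by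
  rw [commutator_def, commutator_def, Subgroup.map_commutator,
    Subgroup.map_top_of_surjective _ e.surjective]

/-- the induced isomorphism of commutator subgroups -/
noncomputable def commEquiv (e : G ≃* H) : ↥(commutator G) ≃* ↥(commutator H) :=
  (e.subgroupMap (commutator G)).trans (MulEquiv.subgroupCongr (map_commutator_equiv e))

theorem commEquiv_val (e : G ≃* H) (s : ↥(commutator G)) :
    ((commEquiv e s : ↥(commutator H)) : H) = e (s : G) := rfl

theorem commEquiv_symm_val (e : G ≃* H) (s : ↥(commutator H)) :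
    (((commEquiv e).symm s : ↥(commutator G)) : G) = e.symm (s : H) := by
  apply e.injective
  rw [← commEquiv_val, MulEquiv.apply_symm_apply, MulEquiv.apply_symm_apply]

end grp

section form

variable {F : Type u} [Field F] {ι : Type} [Fintype ι] [DecidableEq ι]
  (Q Q' : (ι → F) → F) (P : GL ι F) (hP : ∀ v, Q' ((P : Matrix ι ι F) *ᵥ v) = Q v)

include hP

theorem isom_inv (v : ι → F) : Q (((P⁻¹ : GL ι F) : Matrix ι ι F) *ᵥ v) = Q' v := by
  rw [← hP, Matrix.mulVec_mulVec, ← Units.val_mul, mul_inv_cancel, Units.val_one,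
    Matrix.one_mulVec]

theorem conj_mem_isometryGroup (g : GL ι F) (hg : g ∈ Cfsg.isometryGroup F Q) :
    P * g * P⁻¹ ∈ Cfsg.isometryGroup F Q' := by
  intro u _
  change Q' (((P * g * P⁻¹ : GL ι F) : Matrix ι ι F) *ᵥ u) = Q' u
  rw [Units.val_mul, Units.val_mul, ← Matrix.mulVec_mulVec, ← Matrix.mulVec_mulVec, hP]
  have := hg (((P⁻¹ : GL ι F) : Matrix ι ι F) *ᵥ u) (((P⁻¹ : GL ι F) : Matrix ι ι F) *ᵥ u)
  change Q (((g : GL ι F) : Matrix ι ι F) *ᵥ _) = Q _ at this
  rw [this, isom_inv Q Q' P hP]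

end form

section iso

variable {F : Type u} [Field F] {ι : Type} [Fintype ι] [DecidableEq ι]
  (Q Q' : (ι → F) → F) (P : GL ι F) (hP : ∀ v, Q' ((P : Matrix ι ι F) *ᵥ v) = Q v)

/-- conjugation by an isometry, on the isometry groups -/
def isoO : ↥(Cfsg.isometryGroup F Q) ≃* ↥(Cfsg.isometryGroup F Q') where
  toFun g := ⟨P * g.1 * P⁻¹, conj_mem_isometryGroup Q Q' P hP g.1 g.2⟩
  invFun g := ⟨P⁻¹ * g.1 * P, by
    have := conj_mem_isometryGroup Q' Q P⁻¹ (isom_inv Q Q' P hP) g.1 g.2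
    rwa [inv_inv] at this⟩
  left_inv g := by
    apply Subtype.ext
    change P⁻¹ * (P * g.1 * P⁻¹) * P = g.1
    group
  right_inv g := by
    apply Subtype.ext
    change P * (P⁻¹ * g.1 * P) * P⁻¹ = g.1
    group
  map_mul' g h := by
    apply Subtype.ext
    change P * (g.1 * h.1) * P⁻¹ = (P * g.1 * P⁻¹) * (P * h.1 * P⁻¹)
    group

theorem isoO_val (g : ↥(Cfsg.isometryGroup F Q)) :
    ((isoO Q Q' P hP g : ↥(Cfsg.isometryGroup F Q')) : GL ι F) = P * g.1 * P⁻¹ := rfl

theorem isoO_symm_val (g : ↥(Cfsg.isometryGroup F Q')) :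
    (((isoO Q Q' P hP).symm g : ↥(Cfsg.isometryGroup F Q)) : GL ι F) = P⁻¹ * g.1 * P := rfl

/-- the induced isomorphism on `Ω` -/
noncomputable def isoOmega : ↥(Cfsg.Omega F Q) ≃* ↥(Cfsg.Omega F Q') :=
  commEquiv (isoO Q Q' P hP)

/-- the induced isomorphism on `PΩ` -/
noncomputable def isoPO : Cfsg.POmega F Q ≃* Cfsg.POmega F Q' :=
  QuotientGroup.congr (Subgroup.center ↥(Cfsg.Omega F Q)) (Subgroup.center ↥(Cfsg.Omega F Q'))
    (isoOmega Q Q' P hP) (map_center_equiv (isoOmega Q Q' P hP))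

theorem isoPO_mk (s : ↥(Cfsg.Omega F Q)) :
    isoPO Q Q' P hP (QuotientGroup.mk s) = QuotientGroup.mk (isoOmega Q Q' P hP s) :=
  QuotientGroup.congr_mk _ _ _ _ s

theorem isoPO_symm_mk (s : ↥(Cfsg.Omega F Q')) :
    (isoPO Q Q' P hP).symm (QuotientGroup.mk s) =
      QuotientGroup.mk ((isoOmega Q Q' P hP).symm s) := by
  apply (isoPO Q Q' P hP).injective
  rw [MulEquiv.apply_symm_apply, isoPO_mk, MulEquiv.apply_symm_apply]

theorem isoOmega_val (s : ↥(Cfsg.Omega F Q)) :
    (((isoOmega Q Q' P hP s : ↥(Cfsg.Omega F Q')) : ↥(Cfsg.isometryGroup F Q')) : GL ι F) =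
      P * ((s : ↥(Cfsg.isometryGroup F Q)) : GL ι F) * P⁻¹ := rfl

theorem isoOmega_symm_val (s : ↥(Cfsg.Omega F Q')) :
    ((((isoOmega Q Q' P hP).symm s : ↥(Cfsg.Omega F Q)) : ↥(Cfsg.isometryGroup F Q)) : GL ι F) =
      P⁻¹ * ((s : ↥(Cfsg.isometryGroup F Q')) : GL ι F) * P := by
  have := commEquiv_symm_val (isoO Q Q' P hP) s
  change ((((commEquiv (isoO Q Q' P hP)).symm s : ↥(Cfsg.Omega F Q)) :
    ↥(Cfsg.isometryGroup F Q)) : GL ι F) = _
  rw [this]
  rfl

/-- conjugating a similarity-induced automorphism by the isomorphism -/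
theorem congr_isoPO_autPO (g : ↥(Cfsg.Geo.quadSimilarityGroup (F := F) Q))
    (g' : ↥(Cfsg.Geo.quadSimilarityGroup (F := F) Q'))
    (hg' : (g' : GL ι F) = P * (g : GL ι F) * P⁻¹) :
    MulAut.congr (isoPO Q Q' P hP) (autPO Q g) = autPO Q' g' := by
  ext x
  induction x using QuotientGroup.induction_on with
  | H s' =>
    change isoPO Q Q' P hP (autPO Q g ((isoPO Q Q' P hP).symm (QuotientGroup.mk s'))) = _
    rw [isoPO_symm_mk]
    obtain ⟨t, ht1, ht2⟩ := autPO_mk_val Q g ((isoOmega Q Q' P hP).symm s')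
    obtain ⟨t', ht1', ht2'⟩ := autPO_mk_val Q' g' s'
    rw [ht1, ht1', isoPO_mk]
    congr 1
    apply Subtype.ext
    apply Subtype.ext
    rw [isoOmega_val, ht2, ht2', isoOmega_symm_val, hg']
    group

end iso

end Cfsg.Agent.Lib.Helper50
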