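import Mathlib

set_option autoImplicit false

/-!
# S3806 K-3806 leaf F (keystone 380606): orders of the lower central terms in a `p`-group of maximal class
-/

namespace Cfsg.Agent.Lib.Helper50.MC3806

open scoped commutatorElement

/-- once the lower central series stalls it is constant -/
theorem f_lcs_const {G : Type*} [Group G] (i : ℕ)
    (h : (⊤ : Subgroup G).lowerCentralSeries (i + 1) = (⊤ : Subgroup G).lowerCentralSeries i) :
    ∀ j, (⊤ : Subgroup G).lowerCentralSeries (i + j) = (⊤ : Subgroup G).lowerCentralSeries i := by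
  intro j
  induction j with
  | zero => rfl
  | succ j ih =>
    rw [← add_assoc, Subgroup.lowerCentralSeries_succ, ih, ← Subgroup.lowerCentralSeries_succ, h]

/-- `G/γ₂` cyclic forces `γ₂ = γ₃` -/
theorem f_lcs_one_le_two_of_cyclic {G : Type*} [Group G]
    (hc : IsCyclic (G ⧸ (⊤ : Subgroup G).lowerCentralSeries 1)) :
    (⊤ : Subgroup G).lowerCentralSeries 1 ≤ (⊤ : Subgroup G).lowerCentralSeries 2 := by
  have h21 : (⊤ : Subgroup G).lowerCentralSeries 2 ≤ (⊤ : Subgroup G).lowerCentralSeries 1 :=
    Subgroup.lowerCentralSeries_antitone _ (by norm_num)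
  let f : G ⧸ (⊤ : Subgroup G).lowerCentralSeries 2 →* G ⧸ (⊤ : Subgroup G).lowerCentralSeries 1 :=
    QuotientGroup.map _ _ (MonoidHom.id G) h21
  have hker : f.ker ≤ Subgroup.center (G ⧸ (⊤ : Subgroup G).lowerCentralSeries 2) := by
    intro x hx
    obtain ⟨a, rfl⟩ := QuotientGroup.mk_surjective x
    rw [MonoidHom.mem_ker] at hx
    have ha : a ∈ (⊤ : Subgroup G).lowerCentralSeries 1 := by
      have : f (QuotientGroup.mk a) = QuotientGroup.mk a := rfl
      rw [this] at hx
      exact (QuotientGroup.eq_one_iff a).1 hx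
    rw [Subgroup.mem_center_iff]
    intro y
    obtain ⟨b, rfl⟩ := QuotientGroup.mk_surjective y
    rw [← QuotientGroup.mk_mul, ← QuotientGroup.mk_mul, QuotientGroup.eq]
    have h1 : (b * a)⁻¹ * (a * b) = ⁅a⁻¹, b⁻¹⁆ := by
      rw [commutatorElement_def]; group
    rw [h1]
    show ⁅a⁻¹, b⁻¹⁆ ∈ ⁅(⊤ : Subgroup G).lowerCentralSeries 1, (⊤ : Subgroup G)⁆
    exact Subgroup.commutator_mem_commutator (inv_mem ha) (Subgroup.mem_top _)
  have hcomm : ∀ x y : G ⧸ (⊤ : Subgroup G).lowerCentralSeries 2, x * y = y * x :=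
    fun x y => (f.isMulCommutative_of_isCyclic_of_ker_le_center hker).is_comm.comm x y
  show ⁅(⊤ : Subgroup G).lowerCentralSeries 0, (⊤ : Subgroup G)⁆ ≤ _
  rw [Subgroup.commutator_le]
  intro g₁ _ g₂ _
  rw [← QuotientGroup.eq_one_iff, commutatorElement_def, QuotientGroup.mk_mul, QuotientGroup.mk_mul,
    QuotientGroup.mk_mul, hcomm (QuotientGroup.mk g₁) (QuotientGroup.mk g₂), QuotientGroup.mk_inv,
    QuotientGroup.mk_inv]
  group

theorem maxclass_card {S : Type*} [Group S] [Finite S] (p : ℕ) [Fact p.Prime] (hS : IsPGroup p S)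
    [Group.IsNilpotent S] (n : ℕ) (hn : 3 ≤ n) (hcard : Nat.card S = p ^ n)
    (hmax : Group.nilpotencyClass S = n - 1) :
    ∀ i, 1 ≤ i → i ≤ n - 1 →
      Nat.card ((⊤ : Subgroup S).lowerCentralSeries i) = p ^ (n - 1 - i) := by
  have hp := (Fact.out : p.Prime)
  have hbot : (⊤ : Subgroup S).lowerCentralSeries (n - 1) = ⊥ := by
    rw [← hmax]; exact Subgroup.lowerCentralSeries_nilpotencyClass
  have hne : ∀ i, i < n - 1 → (⊤ : Subgroup S).lowerCentralSeries i ≠ ⊥ := by
    intro i hi h
    rw [Subgroup.lowerCentralSeries_eq_bot_iff_nilpotencyClass_le, hmax] at h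
    omega
  have hstrict : ∀ i, i < n - 1 →
      (⊤ : Subgroup S).lowerCentralSeries (i + 1) < (⊤ : Subgroup S).lowerCentralSeries i := by
    intro i hi
    refine lt_of_le_of_ne (Subgroup.lowerCentralSeries_antitone _ (Nat.le_succ i)) ?_
    intro h
    have h1 := f_lcs_const i h (n - 1 - i)
    rw [show i + (n - 1 - i) = n - 1 by omega, hbot] at h1
    exact hne i hi h1.symm
  have hexp : ∀ i, ∃ e, Nat.card ((⊤ : Subgroup S).lowerCentralSeries i) = p ^ e :=
    fun i => (hS.to_subgroup _).exists_card_eq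
  choose e he using hexp
  have he0 : e 0 = n := by
    have h1 : Nat.card ((⊤ : Subgroup S).lowerCentralSeries 0) = Nat.card S := Subgroup.card_top
    rw [he 0, hcard] at h1
    exact Nat.pow_right_injective hp.two_le h1
  have helast : e (n - 1) = 0 := by
    have h1 : Nat.card ((⊤ : Subgroup S).lowerCentralSeries (n - 1)) = 1 := by
      rw [hbot]; exact Subgroup.card_bot
    rw [he] at h1
    by_contra h0
    have := Nat.one_lt_pow h0 hp.one_lt
    omega
  have hdec : ∀ i, i < n - 1 → e (i + 1) < e i := by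
    intro i hi
    have h1 : Nat.card ((⊤ : Subgroup S).lowerCentralSeries (i + 1)) <
        Nat.card ((⊤ : Subgroup S).lowerCentralSeries i) := by
      have hlt := hstrict i hi
      exact lt_of_not_ge fun h => (ne_of_lt hlt) (Subgroup.eq_of_le_of_card_ge hlt.le h)
    rw [he, he] at h1
    exact (Nat.pow_lt_pow_iff_right hp.one_lt).1 h1
  have he1 : e 1 ≤ n - 2 := by
    by_contra hcon
    push Not at hcon
    have hidx := Subgroup.card_eq_card_quotient_mul_card_subgroup
      ((⊤ : Subgroup S).lowerCentralSeries 1)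
    have hcyc : IsCyclic (S ⧸ (⊤ : Subgroup S).lowerCentralSeries 1) := by
      have h1 := hdec 0 (by omega)
      rw [zero_add, he0] at h1
      have he1' : e 1 = n - 1 := by omega
      have h2 : Nat.card (S ⧸ (⊤ : Subgroup S).lowerCentralSeries 1) = p := by
        rw [he 1, hcard, he1'] at hidx
        have h3 : p ^ n = p * p ^ (n - 1) := by
          rw [← pow_succ']; congr 1; omega
        rw [h3] at hidx
        exact (Nat.eq_of_mul_eq_mul_right (pow_pos hp.pos _) hidx).symm
      exact isCyclic_of_prime_card h2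
    have h12 := f_lcs_one_le_two_of_cyclic hcyc
    exact absurd h12 (not_le_of_gt (hstrict 1 (by omega)))
  have hub : ∀ i, 1 ≤ i → i ≤ n - 1 → e i ≤ n - 1 - i := by
    intro i hi1
    induction i, hi1 using Nat.le_induction with
    | base => intro _; omega
    | succ i hi ih =>
      intro hi2
      have h1 := hdec i (by omega)
      have h2 := ih (by omega)
      omega
  have hlb : ∀ j, j ≤ n - 1 → j ≤ e (n - 1 - j) := by
    intro j
    induction j with
    | zero => intro _; omega
    | succ j ih =>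
      intro hj
      have h1 := hdec (n - 1 - (j + 1)) (by omega)
      rw [show n - 1 - (j + 1) + 1 = n - 1 - j by omega] at h1
      have h2 := ih (by omega)
      omega
  intro i hi1 hi2
  rw [he i]
  congr 1
  have h1 := hub i hi1 hi2
  have h2 := hlb (n - 1 - i) (by omega)
  rw [show n - 1 - (n - 1 - i) = i by omega] at h2
  omega

end Cfsg.Agent.Lib.Helper50.MC3806
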