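import Cfsg.Agent.Lib.Helper50.MinusSing

set_option autoImplicit false

/-! Base change of similarities of the minus-type form. -/

namespace Cfsg.Agent.Lib.Helper50

open Matrix Module

section baseChange

variable {F K : Type*} [Field F] [Field K] (φ : F →+* K) (m : ℕ)

/-- the Gram matrix of the polar form of the minus-type form -/
def gramMinus (a c : F) : Matrix ((Fin m ⊕ Fin m) ⊕ Fin 2) ((Fin m ⊕ Fin m) ⊕ Fin 2) F :=
  Matrix.fromBlocks
    (Matrix.fromBlocks (0 : Matrix (Fin m) (Fin m) F) (1 : Matrix (Fin m) (Fin m) F)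
      (1 : Matrix (Fin m) (Fin m) F) (0 : Matrix (Fin m) (Fin m) F))
    (0 : Matrix (Fin m ⊕ Fin m) (Fin 2) F) (0 : Matrix (Fin 2) (Fin m ⊕ Fin m) F)
    (!![2, a; a, 2 * c] : Matrix (Fin 2) (Fin 2) F)

theorem polar_eq_gramMinus (a c : F) (u v : (Fin m ⊕ Fin m) ⊕ Fin 2 → F) :
    QuadraticMap.polar (Cfsg.quadFormMinus m F a c) u v = Matrix.toBilin' (gramMinus m a c) u v :=
  polar_quadFormMinus m a c u v

theorem gramMinus_map (a c : F) : (gramMinus m a c).map φ = gramMinus m (φ a) (φ c) := by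
  unfold gramMinus
  rw [Matrix.fromBlocks_map, Matrix.fromBlocks_map]
  congr 1
  · simp
  · simp
  · simp
  · ext i j
    fin_cases i <;> fin_cases j <;> simp [map_ofNat]

theorem two_mul_quadFormMinus (a c : F) (w : (Fin m ⊕ Fin m) ⊕ Fin 2 → F) :
    2 * Cfsg.quadFormMinus m F a c w = Matrix.toBilin' (gramMinus m a c) w w := by
  rw [← polar_eq_gramMinus]
  unfold QuadraticMap.polar
  have h : w + w = (2 : F) • w := (two_smul F w).symm
  rw [h, quadFormMinus_smul]
  ring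

theorem gram_of_similarity (a c μ : F)
    (A : Matrix ((Fin m ⊕ Fin m) ⊕ Fin 2) ((Fin m ⊕ Fin m) ⊕ Fin 2) F)
    (hA : ∀ v, Cfsg.quadFormMinus m F a c (A *ᵥ v) = μ * Cfsg.quadFormMinus m F a c v) :
    Aᵀ * gramMinus m a c * A = μ • gramMinus m a c := by
  apply (Matrix.toBilin' (R₁ := F) (n := (Fin m ⊕ Fin m) ⊕ Fin 2)).injective
  rw [← Matrix.toBilin'_comp, map_smul]
  apply LinearMap.ext₂
  intro u v
  rw [LinearMap.BilinForm.comp_apply, Matrix.toLin'_apply, Matrix.toLin'_apply,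
    LinearMap.smul_apply, LinearMap.smul_apply, smul_eq_mul, ← polar_eq_gramMinus,
    ← polar_eq_gramMinus]
  unfold QuadraticMap.polar
  rw [← Matrix.mulVec_add, hA, hA, hA]
  ring

theorem simil_baseChange (h2 : (2 : K) ≠ 0) (a c μ : F)
    (A : Matrix ((Fin m ⊕ Fin m) ⊕ Fin 2) ((Fin m ⊕ Fin m) ⊕ Fin 2) F)
    (hA : ∀ v, Cfsg.quadFormMinus m F a c (A *ᵥ v) = μ * Cfsg.quadFormMinus m F a c v)
    (w : (Fin m ⊕ Fin m) ⊕ Fin 2 → K) :
    Cfsg.quadFormMinus m K (φ a) (φ c) (A.map φ *ᵥ w) =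
      φ μ * Cfsg.quadFormMinus m K (φ a) (φ c) w := by
  have h1 := gram_of_similarity m a c μ A hA
  have h3 : (A.map φ)ᵀ * gramMinus m (φ a) (φ c) * A.map φ = φ μ • gramMinus m (φ a) (φ c) := by
    have := congrArg (fun X : Matrix _ _ F => X.map φ) h1
    simp only [Matrix.map_mul, Matrix.transpose_map] at this
    rw [gramMinus_map] at this
    rw [this]
    ext i j
    simp [Matrix.map_apply, Matrix.smul_apply, ← gramMinus_map]
  apply mul_left_cancel₀ h2
  rw [two_mul_quadFormMinus, ← Matrix.toLin'_apply, ← LinearMap.BilinForm.comp_apply,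
    Matrix.toBilin'_comp, h3, map_smul, LinearMap.smul_apply, LinearMap.smul_apply, smul_eq_mul,
    ← two_mul_quadFormMinus]
  ring

end baseChange

end Cfsg.Agent.Lib.Helper50
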