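import Cfsg.Agent.Lib.Helper50.MinusModel

set_option autoImplicit false

/-! Involutions of `O⁻_{2d}(q)`, `q` even, fix a nonsingular vector. -/

namespace Cfsg.Agent.Lib.Helper50

open Matrix QuadraticMap Module Cfsg.Agent.Lib.Helper19

theorem exists_fixed_point_of_involution_minus {F : Type*} [Field F] [Fintype F] [CharP F 2]
    (m : ℕ) (a b : F)
    (hab : ∀ x y : F, x ^ 2 + a * x * y + b * y ^ 2 = 0 → x = 0 ∧ y = 0)
    (x : GL ((Fin m ⊕ Fin m) ⊕ Fin 2) F)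
    (hx : x ∈ Cfsg.Geo.omegaGL (Cfsg.quadFormMinus m F a b))
    (hx2 : ∃ z : F, ((x ^ 2 : GL ((Fin m ⊕ Fin m) ⊕ Fin 2) F) :
      Matrix ((Fin m ⊕ Fin m) ⊕ Fin 2) ((Fin m ⊕ Fin m) ⊕ Fin 2) F) =
      z • (1 : Matrix ((Fin m ⊕ Fin m) ⊕ Fin 2) ((Fin m ⊕ Fin m) ⊕ Fin 2) F)) :
    ∃ W : Submodule F ((Fin m ⊕ Fin m) ⊕ Fin 2 → F),
      (finrank F W = 1 ∧ ∃ v ∈ W, Cfsg.quadFormMinus m F a b v ≠ 0) ∧
        W.map (Matrix.toLin' (x : Matrix ((Fin m ⊕ Fin m) ⊕ Fin 2)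
          ((Fin m ⊕ Fin m) ⊕ Fin 2) F)) ≤ W := by
  obtain ⟨hiso, -⟩ := (mem_omegaGL_iff _ x).mp hx
  have hisov : ∀ u, Cfsg.quadFormMinus m F a b
      ((x : Matrix ((Fin m ⊕ Fin m) ⊕ Fin 2) ((Fin m ⊕ Fin m) ⊕ Fin 2) F) *ᵥ u) =
      Cfsg.quadFormMinus m F a b u := (mem_isometryGroup_iff _ x).mp hiso
  obtain ⟨z, hz⟩ := hx2
  rw [pow_two, Units.val_mul] at hz
  obtain ⟨X, hX⟩ : ∃ X : Matrix ((Fin m ⊕ Fin m) ⊕ Fin 2) ((Fin m ⊕ Fin m) ⊕ Fin 2) F,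
      X = (x : Matrix ((Fin m ⊕ Fin m) ⊕ Fin 2) ((Fin m ⊕ Fin m) ⊕ Fin 2) F) := ⟨_, rfl⟩
  rw [← hX] at hisov hz ⊢
  have hz1 : z = 1 := by
    have hv₁ : Cfsg.quadFormMinus m F a b (Pi.single (Sum.inr 0) 1) = 1 := by
      simp [Cfsg.quadFormMinus]
    have h1 : Cfsg.quadFormMinus m F a b (X *ᵥ (X *ᵥ (Pi.single (Sum.inr 0) 1))) = 1 :=
      ((hisov _).trans (hisov _)).trans hv₁
    rw [Matrix.mulVec_mulVec, hz, Matrix.smul_mulVec, Matrix.one_mulVec,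
      quadFormMinus_smul, hv₁, mul_one] at h1
    have h2 : (z + 1) * (z + 1) = 0 := by
      have : (z + 1) * (z + 1) = z * z + (z + z) + 1 := by ring
      rw [this, h1, CharTwo.add_self_eq_zero, add_zero, CharTwo.add_self_eq_zero]
    have h3 : z + 1 = 0 := mul_self_eq_zero.mp h2
    calc z = z + 1 + 1 := by rw [add_assoc, CharTwo.add_self_eq_zero, add_zero]
      _ = 1 := by rw [h3, zero_add]
  rw [hz1, one_smul] at hz
  -- a fixed nonsingular vector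
  obtain ⟨v, hv, hfix⟩ : ∃ v, Cfsg.quadFormMinus m F a b v ≠ 0 ∧ X *ᵥ v = v := by
    by_contra hcon
    push Not at hcon
    obtain ⟨N, hN⟩ : ∃ N, N = X - 1 := ⟨_, rfl⟩
    have h2 : ∀ w : (Fin m ⊕ Fin m) ⊕ Fin 2 → F, w + w = 0 := fun w => by
      funext i; exact CharTwo.add_self_eq_zero (w i)
    have hNv : ∀ v, N *ᵥ v = X *ᵥ v - v := by
      intro v; rw [hN, Matrix.sub_mulVec, Matrix.one_mulVec]
    have hNN : ∀ v, N *ᵥ (N *ᵥ v) = 0 := by
      intro v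
      rw [hNv, hNv, Matrix.mulVec_sub, Matrix.mulVec_mulVec, hz, Matrix.one_mulVec]
      have e : v - X *ᵥ v - (X *ᵥ v - v) = (v + v) - (X *ᵥ v + X *ᵥ v) := by abel
      rw [e, h2, h2, sub_zero]
    have hle : LinearMap.range N.mulVecLin ≤ LinearMap.ker N.mulVecLin := by
      rintro w ⟨v, rfl⟩
      rw [LinearMap.mem_ker, Matrix.mulVecLin_apply, Matrix.mulVecLin_apply]
      exact hNN v
    have hker : ∀ t ∈ LinearMap.ker N.mulVecLin, Cfsg.quadFormMinus m F a b t = 0 := by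
      intro t ht
      rw [LinearMap.mem_ker, Matrix.mulVecLin_apply, hNv, sub_eq_zero] at ht
      by_contra h0
      exact hcon t h0 ht
    have h3 := ts_finrank_le_minus m a b hab _ hker
    have h4 := LinearMap.finrank_range_add_finrank_ker N.mulVecLin
    rw [Module.finrank_fintype_fun_eq_card] at h4
    simp only [Fintype.card_sum, Fintype.card_fin] at h4
    have h5 := Submodule.finrank_mono hle
    omega
  have hv0 : v ≠ 0 := by
    rintro rfl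
    apply hv
    simp [Cfsg.quadFormMinus]
  refine ⟨Submodule.span F {v}, ⟨finrank_span_singleton hv0,
    v, Submodule.mem_span_singleton_self v, hv⟩, ?_⟩
  rw [Submodule.map_span, Set.image_singleton, Matrix.toLin'_apply, hfix]

end Cfsg.Agent.Lib.Helper50
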