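import Cfsg.Agent.Lib.Helper50.PlusInndiag
import Cfsg.Agent.Lib.Helper50.GramMinus

set_option autoImplicit false

/-! The minus-type form over a field where its binary part splits: a maximal totally singular
subspace, a reference similarity fixing it, and base change of similarities. -/

namespace Cfsg.Agent.Lib.Helper50

open Matrix Module

section generic

variable {E : Type*} [Field E] (m : ℕ)

theorem quadFormMinus_elim (a b : E) (x : Fin m ⊕ Fin m → E) (z : Fin 2 → E) :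
    Cfsg.quadFormMinus m E a b (Sum.elim x z) =
      Cfsg.quadFormPlus m E x + (z 0 ^ 2 + a * z 0 * z 1 + b * z 1 ^ 2) := rfl

/-- the parametrisation of the singular subspace `{y = 0, z₁ = θ z₂}` -/
def ymap (θ : E) : ((Fin m → E) × E) →ₗ[E] ((Fin m ⊕ Fin m) ⊕ Fin 2 → E) where
  toFun p := Sum.elim (Sum.elim p.1 0) ![θ * p.2, p.2]
  map_add' p q := by
    funext i
    rcases i with (i | i) | i
    · simp
    · simp
    · fin_cases i <;> simp [mul_add]
  map_smul' c p := by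
    funext i
    rcases i with (i | i) | i
    · simp
    · simp
    · fin_cases i <;> simp [mul_left_comm]

theorem ymap_apply (θ : E) (p : (Fin m → E) × E) :
    ymap m θ p = Sum.elim (Sum.elim p.1 0) ![θ * p.2, p.2] := rfl

theorem ymap_injective (θ : E) : Function.Injective (ymap m θ) := by
  intro p q h
  rw [ymap_apply, ymap_apply] at h
  apply Prod.ext
  · funext i
    have := congrFun h (Sum.inl (Sum.inl i))
    simpa using this
  · have := congrFun h (Sum.inr 1)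
    simpa using this

/-- the singular subspace `{y = 0, z₁ = θ z₂}` -/
def YK (θ : E) : Submodule E ((Fin m ⊕ Fin m) ⊕ Fin 2 → E) := LinearMap.range (ymap m θ)

theorem finrank_YK (θ : E) : finrank E ↥(YK m θ) = m + 1 := by
  unfold YK
  rw [LinearMap.finrank_range_of_inj (ymap_injective m θ), Module.finrank_prod,
    Module.finrank_fin_fun, Module.finrank_self]

theorem YK_singular (a b θ : E) (hθ : θ ^ 2 + a * θ + b = 0) :
    ∀ y ∈ YK m θ, Cfsg.quadFormMinus m E a b y = 0 := by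
  rintro _ ⟨p, rfl⟩
  rw [ymap_apply, quadFormMinus_elim]
  have h1 : Cfsg.quadFormPlus m E (Sum.elim p.1 0) = 0 := by
    unfold Cfsg.quadFormPlus
    apply Finset.sum_eq_zero
    intro i _
    simp
  rw [h1]
  simp only [Matrix.cons_val_zero, Matrix.cons_val_one, Matrix.cons_val_fin_one]
  linear_combination p.2 ^ 2 * hθ

/-- the reference similarity: `(x, y) ↦ (μ x, y)` on the hyperbolic part, multiplication by
`c₁ - ϑ c₂` on the binary part -/
def g0Mat (a b μ c₁ c₂ : E) :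
    Matrix ((Fin m ⊕ Fin m) ⊕ Fin 2) ((Fin m ⊕ Fin m) ⊕ Fin 2) E :=
  Matrix.fromBlocks (dilMat m μ) 0 0 !![c₁, -(b * c₂); c₂, c₁ + a * c₂]

theorem g0Mat_mulVec (a b μ c₁ c₂ : E) (x : Fin m ⊕ Fin m → E) (z : Fin 2 → E) :
    g0Mat m a b μ c₁ c₂ *ᵥ Sum.elim x z =
      Sum.elim (dilMat m μ *ᵥ x) ![c₁ * z 0 - b * c₂ * z 1, c₂ * z 0 + (c₁ + a * c₂) * z 1] := by
  unfold g0Mat
  rw [Matrix.fromBlocks_mulVec]
  funext i
  rcases i with i | i
  · simp
  · fin_cases i <;> simp [Matrix.mulVec, dotProduct, Fin.sum_univ_two] <;> ring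

theorem quadFormMinus_g0Mat (a b μ c₁ c₂ : E) (hc : c₁ ^ 2 + a * c₁ * c₂ + b * c₂ ^ 2 = μ)
    (v : (Fin m ⊕ Fin m) ⊕ Fin 2 → E) :
    Cfsg.quadFormMinus m E a b (g0Mat m a b μ c₁ c₂ *ᵥ v) = μ * Cfsg.quadFormMinus m E a b v := by
  obtain ⟨x, z, rfl⟩ : ∃ x z, v = Sum.elim x z := ⟨v ∘ Sum.inl, v ∘ Sum.inr, by simp⟩
  rw [g0Mat_mulVec, quadFormMinus_elim, quadFormMinus_elim, quadFormPlus_dil]
  simp only [Matrix.cons_val_zero, Matrix.cons_val_one, Matrix.cons_val_fin_one]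
  rw [← hc]
  ring

theorem det_g0Mat (a b μ c₁ c₂ : E) :
    (g0Mat m a b μ c₁ c₂).det = μ ^ m * (c₁ ^ 2 + a * c₁ * c₂ + b * c₂ ^ 2) := by
  unfold g0Mat
  rw [Matrix.det_fromBlocks_zero₂₁, det_dilMat, Matrix.det_fin_two_of]
  ring

theorem g0Mat_ymap (a b μ c₁ c₂ θ : E) (hθ : θ ^ 2 + a * θ + b = 0) (p : (Fin m → E) × E) :
    g0Mat m a b μ c₁ c₂ *ᵥ ymap m θ p =
      ymap m θ (μ • p.1, (c₂ * θ + c₁ + a * c₂) * p.2) := by
  rw [ymap_apply, ymap_apply, g0Mat_mulVec, dilMat_mulVec]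
  funext i
  rcases i with (i | i) | i
  · simp
  · simp
  · fin_cases i
    · simp only [Matrix.cons_val_zero, Matrix.cons_val_one, Matrix.cons_val_fin_one,
        Sum.elim_inr, Fin.zero_eta, Fin.isValue]
      linear_combination (-(c₂ * p.2)) * hθ
    · simp only [Matrix.cons_val_zero, Matrix.cons_val_one, Matrix.cons_val_fin_one,
        Sum.elim_inr, Fin.mk_one, Fin.isValue]
      ring

/-- the reference similarity as an invertible matrix -/
noncomputable def g0GL (a b μ c₁ c₂ : E) (hμ : μ ≠ 0)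
    (hc : c₁ ^ 2 + a * c₁ * c₂ + b * c₂ ^ 2 = μ) : GL ((Fin m ⊕ Fin m) ⊕ Fin 2) E :=
  Matrix.GeneralLinearGroup.mkOfDetNeZero (g0Mat m a b μ c₁ c₂) (by
    rw [det_g0Mat, hc]
    exact mul_ne_zero (pow_ne_zero _ hμ) hμ)

theorem g0GL_val (a b μ c₁ c₂ : E) (hμ : μ ≠ 0)
    (hc : c₁ ^ 2 + a * c₁ * c₂ + b * c₂ ^ 2 = μ) :
    ((g0GL m a b μ c₁ c₂ hμ hc : GL _ E) : Matrix _ _ E) = g0Mat m a b μ c₁ c₂ := rfl

theorem gmap_g0GL_YK (a b μ c₁ c₂ θ : E) (hμ : μ ≠ 0)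
    (hc : c₁ ^ 2 + a * c₁ * c₂ + b * c₂ ^ 2 = μ) (hθ : θ ^ 2 + a * θ + b = 0) :
    gmap (g0GL m a b μ c₁ c₂ hμ hc) (YK m θ) = YK m θ := by
  apply Submodule.eq_of_le_of_finrank_eq
  · rintro w ⟨v, ⟨p, rfl⟩, rfl⟩
    rw [Matrix.mulVecLin_apply, g0GL_val, g0Mat_ymap m a b μ c₁ c₂ θ hθ]
    exact ⟨_, rfl⟩
  · rw [finrank_gmap]

end generic

end Cfsg.Agent.Lib.Helper50
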