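import Cfsg.Agent.Lib.Helper50.MinusLang
import Cfsg.Agent.Lib.Helper50.MinusSing
import Cfsg.Agent.Lib.Helper50.ClsPar

set_option autoImplicit false

/-!
# The elliptic form read over an extension field: base change of similarities and reflections,
and the class-preservation predicate as a character (every characteristic)
-/

namespace Cfsg.Agent.Lib.Helper50

open Matrix Cfsg.Agent.Lib.Helper08

universe u

section hom

variable {F : Type u} [Field F] {K : Type u} [Field K] (φ : F →+* K)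
  {ι : Type} [Fintype ι] [DecidableEq ι]

/-- two quadratic forms over `K` agreeing on the images of the `F`-points are equal -/
theorem quadForm_ext_hom (R₁ R₂ : QuadraticForm K (ι → K))
    (h : ∀ v : ι → F, R₁ (fun i => φ (v i)) = R₂ (fun i => φ (v i))) : R₁ = R₂ := by
  have e : ∀ i : ι, (fun j => φ ((Pi.single i (1 : F) : ι → F) j)) = Pi.single i (1 : K) := by
    intro i
    funext j
    by_cases hj : j = i
    · subst hj; simp
    · simp [Pi.single_eq_of_ne hj]
  have hD : R₁ - R₂ = 0 := by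
    apply quadForm_eq_zero_of_basis
    · intro i
      have := h (Pi.single i 1)
      rw [e] at this
      rw [QuadraticMap.sub_apply, this, sub_self]
    · intro i j
      have := h (Pi.single i 1 + Pi.single j 1)
      have e2 : (fun k => φ ((Pi.single i (1 : F) + Pi.single j (1 : F) : ι → F) k)) =
          Pi.single i (1 : K) + Pi.single j (1 : K) := by
        rw [← e i, ← e j]
        funext k
        simp
      rw [e2] at this
      rw [QuadraticMap.sub_apply, this, sub_self]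
  exact sub_eq_zero.mp hD

omit [DecidableEq ι] in
theorem map_mulVec_hom (A : Matrix ι ι F) (v : ι → F) :
    A.map φ *ᵥ (fun i => φ (v i)) = fun i => φ ((A *ᵥ v) i) := by
  funext i
  simp [Matrix.mulVec, dotProduct, map_sum, map_mul]

end hom

section minus

variable {F : Type u} [Field F] {K : Type u} [Field K] (φ : F →+* K) (m : ℕ) (a b : F)

theorem quadFormMinus_map (v : (Fin m ⊕ Fin m) ⊕ Fin 2 → F) :
    Cfsg.quadFormMinus m K (φ a) (φ b) (fun i => φ (v i)) =
      φ (Cfsg.quadFormMinus m F a b v) := by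
  unfold Cfsg.quadFormMinus
  simp only [map_add, map_sum, map_mul, map_pow]

/-- base change of a similarity, in every characteristic -/
theorem simil_baseChange' (μ : F)
    (A : Matrix ((Fin m ⊕ Fin m) ⊕ Fin 2) ((Fin m ⊕ Fin m) ⊕ Fin 2) F)
    (hA : ∀ v, Cfsg.quadFormMinus m F a b (A *ᵥ v) = μ * Cfsg.quadFormMinus m F a b v)
    (w : (Fin m ⊕ Fin m) ⊕ Fin 2 → K) :
    Cfsg.quadFormMinus m K (φ a) (φ b) (A.map φ *ᵥ w) =
      φ μ * Cfsg.quadFormMinus m K (φ a) (φ b) w := by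
  have key : (QMinus m K (φ a) (φ b)).comp (Matrix.toLin' (A.map φ)) =
      φ μ • QMinus m K (φ a) (φ b) := by
    apply quadForm_ext_hom φ
    intro v
    rw [QuadraticMap.comp_apply, Matrix.toLin'_apply, map_mulVec_hom, _root_.smul_apply,
      smul_eq_mul]
    change Cfsg.quadFormMinus m K (φ a) (φ b) (fun i => φ ((A *ᵥ v) i)) =
      φ μ * Cfsg.quadFormMinus m K (φ a) (φ b) (fun i => φ (v i))
    rw [quadFormMinus_map, quadFormMinus_map, hA, map_mul]
  have := congrArg (fun R : QuadraticForm K ((Fin m ⊕ Fin m) ⊕ Fin 2 → K) => R w) key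
  simp only [QuadraticMap.comp_apply, Matrix.toLin'_apply, _root_.smul_apply, smul_eq_mul] at this
  exact this

/-- base change of a reflection -/
theorem reflectionMatrix_map_hom (v : (Fin m ⊕ Fin m) ⊕ Fin 2 → F) :
    (Cfsg.reflectionMatrix (Cfsg.quadFormMinus m F a b) v).map φ =
      Cfsg.reflectionMatrix (Cfsg.quadFormMinus m K (φ a) (φ b)) (fun i => φ (v i)) := by
  have e : ∀ j : (Fin m ⊕ Fin m) ⊕ Fin 2,
      (fun i => φ ((Pi.single j (1 : F) : (Fin m ⊕ Fin m) ⊕ Fin 2 → F) i)) =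
        Pi.single j (1 : K) := by
    intro j
    funext i
    by_cases hi : i = j
    · subst hi; simp
    · simp [Pi.single_eq_of_ne hi]
  have hp : ∀ j, Cfsg.polarVec (Cfsg.quadFormMinus m K (φ a) (φ b)) (fun i => φ (v i)) j =
      φ (Cfsg.polarVec (Cfsg.quadFormMinus m F a b) v j) := by
    intro j
    unfold Cfsg.polarVec QuadraticMap.polar
    rw [map_sub, map_sub, ← quadFormMinus_map, ← quadFormMinus_map, ← quadFormMinus_map, e]
    congr 3
    funext i
    rw [← e j]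
    simp
  ext i j
  unfold Cfsg.reflectionMatrix
  simp only [Matrix.map_apply, Matrix.sub_apply, Matrix.smul_apply, Matrix.vecMulVec_apply,
    Matrix.one_apply, smul_eq_mul, map_sub, map_mul, map_inv₀, hp, quadFormMinus_map]
  congr 1
  split_ifs <;> simp

end minus

section psc

variable {F : Type u} [Field F] {K : Type u} [Field K] (φ : F →+* K) (m : ℕ) (a b : F)
  (hd : a ^ 2 - 4 * b ≠ 0) (θ : K) (hθ : θ ^ 2 + φ a * θ + φ b = 0)

/-- class preservation over `K` of a matrix over `F` -/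
def pscK (A : Matrix ((Fin m ⊕ Fin m) ⊕ Fin 2) ((Fin m ⊕ Fin m) ⊕ Fin 2) F) : Prop :=
  Cfsg.PreservesSingularClasses (Cfsg.quadFormMinus m K (φ a) (φ b)) (A.map φ)

theorem disc_map_ne_zero (hd : a ^ 2 - 4 * b ≠ 0) : φ a ^ 2 - 4 * φ b ≠ 0 := by
  have : φ a ^ 2 - 4 * φ b = φ (a ^ 2 - 4 * b) := by simp [map_ofNat]
  rw [this]
  exact fun h => hd (φ.injective (h.trans (map_zero φ).symm))

include hd hθ

theorem pscK_mul_iff (g h : ↥(Cfsg.Geo.quadSimilarityGroup (F := F) (Cfsg.quadFormMinus m F a b))) :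
    pscK φ m a b (((g * h : ↥(Cfsg.Geo.quadSimilarityGroup (F := F)
        (Cfsg.quadFormMinus m F a b))) : GL ((Fin m ⊕ Fin m) ⊕ Fin 2) F) :
          Matrix ((Fin m ⊕ Fin m) ⊕ Fin 2) ((Fin m ⊕ Fin m) ⊕ Fin 2) F) ↔
      (pscK φ m a b ((g : GL ((Fin m ⊕ Fin m) ⊕ Fin 2) F) :
          Matrix ((Fin m ⊕ Fin m) ⊕ Fin 2) ((Fin m ⊕ Fin m) ⊕ Fin 2) F) ↔
        pscK φ m a b ((h : GL ((Fin m ⊕ Fin m) ⊕ Fin 2) F) :
          Matrix ((Fin m ⊕ Fin m) ⊕ Fin 2) ((Fin m ⊕ Fin m) ⊕ Fin 2) F)) := by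
  obtain ⟨μ, hμ⟩ := g.2
  obtain ⟨ν, hν⟩ := h.2
  have hQ := QMinus_nondeg_of_disc m (φ a) (φ b) (disc_map_ne_zero φ a b hd)
  have hV : Fintype.card ((Fin m ⊕ Fin m) ⊕ Fin 2) = 2 * (m + 1) := by
    rw [card_minus_index]; ring
  have hG : ∀ v, QMinus m K (φ a) (φ b)
      (((Matrix.GeneralLinearGroup.map φ g.1 : GL _ K) : Matrix _ _ K) *ᵥ v) =
      φ μ * QMinus m K (φ a) (φ b) v := fun v => simil_baseChange' φ m a b μ _ hμ v
  have hH : ∀ v, QMinus m K (φ a) (φ b)
      (((Matrix.GeneralLinearGroup.map φ h.1 : GL _ K) : Matrix _ _ K) *ᵥ v) =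
      φ ν * QMinus m K (φ a) (φ b) v := fun v => simil_baseChange' φ m a b ν _ hν v
  have key := psc_mul_iff (QMinus m K (φ a) (φ b)) hQ (m + 1) hV (YK m θ)
    (YK_singular m (φ a) (φ b) θ hθ) (finrank_YK m θ)
    (Matrix.GeneralLinearGroup.map φ g.1) (Matrix.GeneralLinearGroup.map φ h.1) _ _ hG hH
  rw [← map_mul] at key
  exact key

theorem pscK_reflection_not
    (g : ↥(Cfsg.Geo.quadSimilarityGroup (F := F) (Cfsg.quadFormMinus m F a b)))
    (v : (Fin m ⊕ Fin m) ⊕ Fin 2 → F) (hv : Cfsg.quadFormMinus m F a b v ≠ 0)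
    (hg : ((g : GL ((Fin m ⊕ Fin m) ⊕ Fin 2) F) :
      Matrix ((Fin m ⊕ Fin m) ⊕ Fin 2) ((Fin m ⊕ Fin m) ⊕ Fin 2) F) =
        Cfsg.reflectionMatrix (Cfsg.quadFormMinus m F a b) v) :
    ¬ pscK φ m a b ((g : GL ((Fin m ⊕ Fin m) ⊕ Fin 2) F) :
      Matrix ((Fin m ⊕ Fin m) ⊕ Fin 2) ((Fin m ⊕ Fin m) ⊕ Fin 2) F) := by
  have hQ := QMinus_nondeg_of_disc m (φ a) (φ b) (disc_map_ne_zero φ a b hd)
  have hV : Fintype.card ((Fin m ⊕ Fin m) ⊕ Fin 2) = 2 * (m + 1) := by
    rw [card_minus_index]; ring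
  have hv' : QMinus m K (φ a) (φ b) (fun i => φ (v i)) ≠ 0 := by
    change Cfsg.quadFormMinus m K (φ a) (φ b) (fun i => φ (v i)) ≠ 0
    rw [quadFormMinus_map]
    exact fun h => hv (φ.injective (h.trans (map_zero φ).symm))
  have hG : ((Matrix.GeneralLinearGroup.map φ g.1 : GL _ K) : Matrix _ _ K) =
      Cfsg.reflectionMatrix (⇑(QMinus m K (φ a) (φ b))) (fun i => φ (v i)) := by
    change ((g : GL ((Fin m ⊕ Fin m) ⊕ Fin 2) F) :
      Matrix ((Fin m ⊕ Fin m) ⊕ Fin 2) ((Fin m ⊕ Fin m) ⊕ Fin 2) F).map φ = _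
    rw [hg]
    exact reflectionMatrix_map_hom φ m a b v
  exact not_psc_reflection (QMinus m K (φ a) (φ b)) hQ (m + 1) hV (YK m θ)
    (YK_singular m (φ a) (φ b) θ hθ) (finrank_YK m θ) (by omega)
    (Matrix.GeneralLinearGroup.map φ g.1) _ hv' hG

end psc

end Cfsg.Agent.Lib.Helper50
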