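import Cfsg.Agent.Lib.Helper50.MinusTwoB
import Cfsg.Agent.Lib.Helper50.MinusTransport

set_option autoImplicit false

/-!
# `PΩ⁻_{2m+2}(F)`, characteristic two: cosets of field automorphisms of prime order
-/

namespace Cfsg.Agent.Lib.Helper50

open Matrix Cfsg.Agent.Lib.Helper08

universe u

variable {F : Type u} [Field F] [Fintype F]

set_option maxHeartbeats 1600000 in
theorem minus_coset_char_two [CharP F 2] {m : ℕ} (hm : 3 ≤ m) (a b : F)
    (hab : ∀ z₁ z₂ : F, z₁ ^ 2 + a * z₁ * z₂ + b * z₂ ^ 2 = 0 → z₁ = 0 ∧ z₂ = 0)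
    (x δ : MulAut (Cfsg.POmega F (Cfsg.quadFormMinus m F a b)))
    (hx : Cfsg.IsFieldAutClassPOmegaMinus m x) {r : ℕ} (hr : r.Prime) (hxr : orderOf x = r)
    (hδ : δ ∈ Cfsg.inndiagPOmegaMinus m F a b) (hord : orderOf (δ * x) = r) :
    Cfsg.IsConjUnder (Cfsg.inndiagPOmegaMinus m F a b) x (δ * x) := by
  obtain ⟨a', b', ψ, σ, hab', hσ, ha', hb', hfield⟩ := hx
  have hcompat := compat_minus m a' b' σ ha' hb'
  have hxφ : MulAut.congr ψ x = fieldAutPO (Cfsg.quadFormMinus m F a' b') ⟨σ, hcompat⟩ :=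
    (isFieldAut_iff (Cfsg.quadFormMinus m F a' b') σ hcompat _).mp hfield
  have hσ1 : (⟨σ, hcompat⟩ : ↥(compatAut (Cfsg.quadFormMinus m F a' b'))) ≠ 1 := by
    intro h
    exact hσ (congrArg Subtype.val h)
  have hInn := inndiagMinus_eq_inn m a b hm hab
  have hInn' := inndiagMinus_eq_inn m a' b' hm hab'
  have C' : Cfsg.Agent.Lib.Helper07.OG.OC (QMinus m F a' b') :=
    ⟨QMinus_nondeg_of_anis m a' b' hab', by rw [card_minus_index]; omega⟩
  have hker' := autPO_eq_one_iff_OC (QMinus m F a' b') C'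
  apply conj_of_model (MulAut.congr ψ) _
    (Cfsg.Inn (Cfsg.POmega F (Cfsg.quadFormMinus m F a' b')))
  · intro β
    rw [hInn]
    exact mem_inn_iff_congr ψ β
  · -- the model statement
    have hδ' : MulAut.congr ψ δ ∈ Cfsg.Inn (Cfsg.POmega F (Cfsg.quadFormMinus m F a' b')) := by
      rw [hInn] at hδ
      exact (mem_inn_iff_congr ψ δ).mp hδ
    have hδ'' := hδ'
    rw [inn_eq] at hδ''
    obtain ⟨z, hz, hzδ⟩ := hδ''
    set I : Subgroup (SimMinus m F a' b') :=
      (Cfsg.Inn (Cfsg.POmega F (Cfsg.quadFormMinus m F a' b'))).comap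
        (autPO (Cfsg.quadFormMinus m F a' b')) with hI
    have hgI : inclM m a' b' z ∈ I := by
      rw [hI, Subgroup.mem_comap]
      change autO (Cfsg.quadFormMinus m F a' b') z ∈ _
      rw [hzδ]
      exact hδ'
    have hscal : ∀ s : SimMinus m F a' b',
        (∃ c : F, ((s : GL ((Fin m ⊕ Fin m) ⊕ Fin 2) F) :
          Matrix ((Fin m ⊕ Fin m) ⊕ Fin 2) ((Fin m ⊕ Fin m) ⊕ Fin 2) F) = c • 1) → s ∈ I := by
      intro s hs
      rw [hI, Subgroup.mem_comap]
      have : autPO (Cfsg.quadFormMinus m F a' b') s = 1 := (hker' s).mpr hs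
      rw [this]
      exact Subgroup.one_mem _
    have hw : ∀ Z : SimMinus m F a' b', Z ∉ I → Z * inclM m a' b' (wIso m a' b') ∈ I := by
      intro Z hZ
      rw [hI, Subgroup.mem_comap] at hZ ⊢
      exact hw_char_two m a' b' hm hab' Z hZ
    have hxr' : orderOf (fieldAutPO (Cfsg.quadFormMinus m F a' b') ⟨σ, hcompat⟩) = r := by
      rw [← hxφ, MulEquiv.orderOf_eq]
      exact hxr
    have hord' : orderOf (autPO (Cfsg.quadFormMinus m F a' b') (inclM m a' b' z) *
        fieldAutPO (Cfsg.quadFormMinus m F a' b') ⟨σ, hcompat⟩) = r := by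
      rw [← hxφ]
      change orderOf (autO (Cfsg.quadFormMinus m F a' b') z * _) = r
      rw [hzδ, ← map_mul, MulEquiv.orderOf_eq]
      exact hord
    obtain ⟨Y, hY, hconj⟩ := minus_core m a' b' hm hab' ⟨σ, hcompat⟩ hσ1 hr hxr' I hscal
      (inclM m a' b' (wIso m a' b')) (sigmaGO_inclM_wIso m a' b' _) hw (inclM m a' b' z) hgI hord'
    refine ⟨autPO (Cfsg.quadFormMinus m F a' b') Y, ?_, ?_⟩
    · rw [hI, Subgroup.mem_comap] at hY
      exact hY
    · rw [hxφ, ← hzδ]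
      exact hconj

end Cfsg.Agent.Lib.Helper50
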