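import Cfsg.Agent.Lib.Helper50.MinusMainOdd
import Cfsg.Agent.Lib.Helper50.MinusMainTwo

set_option autoImplicit false

/-!
# `PΩ⁻_{2m+2}(F)`: the coset of a field automorphism of prime order, all characteristics
-/

namespace Cfsg.Agent.Lib.Helper50

universe u

variable {F : Type u} [Field F] [Fintype F]

/-- an element of the coset `Inndiag · x` of a field automorphism `x` of prime order `r` has
order `r` iff it is conjugate to `x` under `Inndiag` -/
theorem minus_coset_main {m : ℕ} (hm : 3 ≤ m) (a b : F)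
    (hab : ∀ z₁ z₂ : F, z₁ ^ 2 + a * z₁ * z₂ + b * z₂ ^ 2 = 0 → z₁ = 0 ∧ z₂ = 0)
    (x δ : MulAut (Cfsg.POmega F (Cfsg.quadFormMinus m F a b)))
    (hx : Cfsg.IsFieldAutClassPOmegaMinus m x) {r : ℕ} (hr : r.Prime) (hxr : orderOf x = r)
    (hδ : δ ∈ Cfsg.inndiagPOmegaMinus m F a b) :
    orderOf (δ * x) = r ↔ Cfsg.IsConjUnder (Cfsg.inndiagPOmegaMinus m F a b) x (δ * x) := by
  constructor
  · intro hord
    by_cases h2 : (2 : F) = 0
    · have : CharP F 2 := CharTwo.of_one_ne_zero_of_two_eq_zero one_ne_zero h2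
      exact minus_coset_char_two hm a b hab x δ hx hr hxr hδ hord
    · classical
      exact minus_coset_odd h2 hm a b hab x δ hx hr hxr hδ hord
  · rintro ⟨h, -, hy⟩
    rw [hy]
    exact ((MulAut.conj h).orderOf_eq x).trans hxr

end Cfsg.Agent.Lib.Helper50
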