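import Cfsg.Agent.Lib.Helper50.MinusOdd
import Cfsg.Agent.Lib.Helper50.MinusCore

set_option autoImplicit false

/-!
# `PΩ⁻_{2m+2}(F)`, odd characteristic: cosets of field automorphisms of prime order
-/

namespace Cfsg.Agent.Lib.Helper50

open Matrix Cfsg.Agent.Lib.Helper08 Cfsg.Agent.Lib.Helper07.OG

universe u

variable {F : Type u} [Field F] [Fintype F] [DecidableEq F]

/-- the similarity group of the elliptic form, form as a bundled quadratic form -/
abbrev SimQ (m : ℕ) (F : Type u) [Field F] (a b : F) :=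
  ↥(Cfsg.Geo.quadSimilarityGroup (F := F) ⇑(QMinus m F a b))

/-- the standard reflection in the similarity group -/
noncomputable def wQ (m : ℕ) (a b : F) : SimQ m F a b :=
  reflGO (QMinus m F a b) (vM m) (by rw [QMinus_vM]; exact one_ne_zero)

omit [Fintype F] [DecidableEq F] in
theorem wQ_eq (m : ℕ) (a b : F) : wQ m a b = inclM m a b (wIso m a b) := rfl

/-- the standard reflection has `det / μ^(m+1) = -1` -/
theorem delta_wQ (m : ℕ) (a b : F) :
    delta (QMinus m F a b) (QMinus_vM m a b) (m + 1) (wQ m a b) = -1 := by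
  have hv : QMinus m F a b (vM m) ≠ 0 := by rw [QMinus_vM]; exact one_ne_zero
  have hmult : multFun (QMinus m F a b) (wQ m a b) = 1 := by
    apply multFun_unique (QMinus m F a b) (QMinus_vM m a b)
    intro v
    rw [Units.val_one, one_mul]
    exact Cfsg.Agent.Lib.Helper19.reflectionMatrix_isometry (QMinus m F a b) (vM m) hv v
  rw [delta_apply, hmult, inv_one, one_pow, mul_one]
  apply Units.ext
  rw [detGO_val, Units.val_neg, Units.val_one]
  exact Cfsg.Agent.Lib.Helper19.reflectionMatrix_det (QMinus m F a b) (vM m) hv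

set_option maxHeartbeats 3200000 in
theorem minus_coset_odd (h2 : (2 : F) ≠ 0) {m : ℕ} (hm : 3 ≤ m) (a b : F)
    (hab : ∀ z₁ z₂ : F, z₁ ^ 2 + a * z₁ * z₂ + b * z₂ ^ 2 = 0 → z₁ = 0 ∧ z₂ = 0)
    (x δ : MulAut (Cfsg.POmega F (Cfsg.quadFormMinus m F a b)))
    (hx : Cfsg.IsFieldAutClassPOmegaMinus m x) {r : ℕ} (hr : r.Prime) (hxr : orderOf x = r)
    (hδ : δ ∈ Cfsg.inndiagPOmegaMinus m F a b) (hord : orderOf (δ * x) = r) :
    Cfsg.IsConjUnder (Cfsg.inndiagPOmegaMinus m F a b) x (δ * x) := by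
  obtain ⟨a', b', ψ, σ, hab', hσ, ha', hb', hfield⟩ := hx
  have hcompat := compat_minus m a' b' σ ha' hb'
  have hxφ : MulAut.congr ψ x = fieldAutPO (Cfsg.quadFormMinus m F a' b') ⟨σ, hcompat⟩ :=
    (isFieldAut_iff (Cfsg.quadFormMinus m F a' b') σ hcompat _).mp hfield
  have hσ1 : (⟨σ, hcompat⟩ : ↥(compatAut (Cfsg.quadFormMinus m F a' b'))) ≠ 1 := by
    intro h
    exact hσ (congrArg Subtype.val h)
  have hQ' := QMinus_nondeg_of_anis m a' b' hab'
  have hcard : Fintype.card ((Fin m ⊕ Fin m) ⊕ Fin 2) = 2 * (m + 1) := by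
    rw [card_minus_index]; ring
  have htr : ∀ β : MulAut (Cfsg.POmega F (Cfsg.quadFormMinus m F a b)),
      β ∈ Cfsg.inndiagPOmegaMinus m F a b ↔
        MulAut.congr ψ β ∈ Esub (QMinus m F a' b') (QMinus_vM m a' b') (m + 1) := by
    intro β
    rw [inndiag_odd_eq m a b h2 hab]
    exact esub_transport_odd m a b hm a' b' hab hab' ψ β
  apply conj_of_model (MulAut.congr ψ) _
    (Esub (QMinus m F a' b') (QMinus_vM m a' b') (m + 1)) htr
  obtain ⟨g, hg, hgδ⟩ := (htr δ).mp hδ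
  have hscal : ∀ s : SimQ m F a' b',
      (∃ c : F, ((s : GL ((Fin m ⊕ Fin m) ⊕ Fin 2) F) :
        Matrix ((Fin m ⊕ Fin m) ⊕ Fin 2) ((Fin m ⊕ Fin m) ⊕ Fin 2) F) = c • 1) →
        s ∈ (delta (QMinus m F a' b') (QMinus_vM m a' b') (m + 1)).ker := by
    rintro s ⟨c, hc⟩
    rw [MonoidHom.mem_ker]
    apply delta_of_scalar (QMinus_vM m a' b') (m + 1) hcard s c
    intro v
    rw [hc, Matrix.smul_mulVec, Matrix.one_mulVec]
  have hw : ∀ Z : SimQ m F a' b',
      Z ∉ (delta (QMinus m F a' b') (QMinus_vM m a' b') (m + 1)).ker →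
        Z * wQ m a' b' ∈ (delta (QMinus m F a' b') (QMinus_vM m a' b') (m + 1)).ker := by
    intro Z hZ
    rw [MonoidHom.mem_ker] at hZ ⊢
    rcases delta_cases (QMinus m F a' b') (QMinus_vM m a' b') (m + 1) hQ' hcard Z with h | h
    · exact absurd h hZ
    · rw [map_mul, h, delta_wQ]
      simp
  have hxr' : orderOf (fieldAutPO (Cfsg.quadFormMinus m F a' b') ⟨σ, hcompat⟩) = r := by
    rw [← hxφ, MulEquiv.orderOf_eq]
    exact hxr
  have hgδ' : autPO (Cfsg.quadFormMinus m F a' b') g = MulAut.congr ψ δ := hgδ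
  have hord' : orderOf (autPO (Cfsg.quadFormMinus m F a' b') g *
      fieldAutPO (Cfsg.quadFormMinus m F a' b') ⟨σ, hcompat⟩) = r := by
    rw [← hxφ, hgδ', ← map_mul, MulEquiv.orderOf_eq]
    exact hord
  obtain ⟨Y, hY, hconj⟩ := minus_core m a' b' hm hab' ⟨σ, hcompat⟩ hσ1 hr hxr'
    (delta (QMinus m F a' b') (QMinus_vM m a' b') (m + 1)).ker hscal
    (wQ m a' b') (sigmaGO_inclM_wIso m a' b' _) hw g hg hord'
  refine ⟨autPO (Cfsg.quadFormMinus m F a' b') Y, ?_, ?_⟩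
  · exact ⟨Y, hY, rfl⟩
  · rw [hxφ, ← hgδ']
    exact hconj

end Cfsg.Agent.Lib.Helper50
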