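import Cfsg.Agent.Lib.Helper50.MinusParam
import Cfsg.Agent.Lib.Helper50.WittMain
import Cfsg.Agent.Lib.Helper14.FrobAction
import Cfsg.Agent.Lib.Helper19.QuadMat
import Cfsg.Agent.Lib.Helper50.GeoBridge
import Cfsg.Agent.Lib.Helper50.SumForm

set_option autoImplicit false

/-! The elliptic quadratic space of dimension `2d` realised on the field with `q ^ (2d)` elements,
with the norm-one group of the quadratic extension acting by isometries. -/

namespace Cfsg.Agent.Lib.Helper50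

open Module QuadraticMap

open Matrix in
/-- an isometric action on a space isometric to a coordinate model gives a homomorphism
into the matrix isometry group of the model, with the expected action on vectors -/
theorem exists_hom_isometryGroup_apply {F : Type*} [Field F] {G : Type*} [Group G] {V : Type*}
    [AddCommGroup V] [Module F V] (Q : V → F) (T : G →* Module.End F V)
    (hQ : ∀ g v, Q (T g v) = Q v)
    {κ : Type} [Fintype κ] [DecidableEq κ] (R : (κ → F) → F) (φ : V ≃ₗ[F] (κ → F))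
    (hφ : ∀ v, R (φ v) = Q v) :
    ∃ Φ : G →* ↥(Cfsg.isometryGroup F R), ∀ g u,
      ((Φ g : GL κ F) : Matrix κ κ F) *ᵥ u = φ (T g (φ.symm u)) := by
  let M : G →* Matrix κ κ F :=
    { toFun := fun g => LinearMap.toMatrix'
        ((φ : V →ₗ[F] (κ → F)) ∘ₗ T g ∘ₗ (φ.symm : (κ → F) →ₗ[F] V))
      map_one' := by
        rw [map_one]
        rw [← LinearMap.toMatrix'_id]
        congr 1
        ext u i
        simp
      map_mul' := fun g h => by
        rw [← LinearMap.toMatrix'_comp]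
        congr 1
        ext u i
        simp [map_mul] }
  have hM : ∀ g u, (M g) *ᵥ u = φ (T g (φ.symm u)) := by
    intro g u
    show (LinearMap.toMatrix' _) *ᵥ u = _
    rw [LinearMap.toMatrix'_mulVec]
    rfl
  have hmem : ∀ g, M.toHomUnits g ∈ Cfsg.isometryGroup F R := by
    intro g
    rw [Cfsg.Agent.Lib.Helper19.mem_isometryGroup_iff]
    intro u
    rw [MonoidHom.coe_toHomUnits, hM, hφ, hQ, ← hφ, LinearEquiv.apply_symm_apply]
  refine ⟨M.toHomUnits.codRestrict _ hmem, fun g u => ?_⟩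
  exact hM g u

section twisted

variable {F : Type*} [Field F] {K : Type*} [Field K] [Algebra F K]

/-- the bilinear map `(α, β) ↦ Tr (c α σ(β))` -/
noncomputable def twistedBilin (σ : K ≃ₐ[F] K) (c : K) : LinearMap.BilinMap F K F :=
  (Algebra.traceForm F K).compl₁₂ (LinearMap.mulLeft F c) σ.toLinearMap

theorem twistedBilin_apply (σ : K ≃ₐ[F] K) (c α β : K) :
    twistedBilin σ c α β = Algebra.trace F K (c * α * σ β) := by
  simp [twistedBilin, Algebra.traceForm_apply]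

/-- the quadratic form `α ↦ Tr (c α σ(α))` -/
noncomputable def twistedForm (σ : K ≃ₐ[F] K) (c : K) : QuadraticForm F K :=
  (twistedBilin σ c).toQuadraticMap

theorem twistedForm_apply (σ : K ≃ₐ[F] K) (c α : K) :
    twistedForm σ c α = Algebra.trace F K (c * α * σ α) := by
  rw [twistedForm, LinearMap.BilinMap.toQuadraticMap_apply, twistedBilin_apply]

theorem twistedForm_mul (σ : K ≃ₐ[F] K) (c u α : K) (hu : u * σ u = 1) :
    twistedForm σ c (u * α) = twistedForm σ c α := by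
  rw [twistedForm_apply, twistedForm_apply, map_mul σ]
  congr 1
  linear_combination (c * α * σ α) * hu

theorem polar_twistedForm (σ : K ≃ₐ[F] K) (hσ : ∀ x, σ (σ x) = x) (c α β : K) :
    polar (twistedForm σ c) α β = Algebra.trace F K ((c + σ c) * α * σ β) := by
  rw [twistedForm, LinearMap.BilinMap.polar_toQuadraticMap, twistedBilin_apply,
    twistedBilin_apply]
  have h1 : Algebra.trace F K (c * β * σ α) = Algebra.trace F K (σ (c * β * σ α)) :=
    (Algebra.trace_eq_of_algEquiv σ _).symm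
  rw [h1, map_mul σ, map_mul σ, hσ, ← map_add]
  congr 1
  ring

theorem QND_twistedForm [FiniteDimensional F K] [Algebra.IsSeparable F K] (σ : K ≃ₐ[F] K)
    (hσ : ∀ x, σ (σ x) = x) (c : K) (hc : c + σ c ≠ 0) : QND (twistedForm σ c) := by
  intro α hα
  by_contra hα0
  obtain ⟨γ, hγ⟩ := Algebra.trace_surjective F K (1 : F)
  have h1 := hα (σ (γ / ((c + σ c) * α)))
  rw [polar_twistedForm σ hσ, hσ] at h1
  have h2 : (c + σ c) * α * (γ / ((c + σ c) * α)) = γ := by
    field_simp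
  rw [h2, hγ] at h1
  exact one_ne_zero h1

end twisted

section field

variable {F : Type*} [Field F] [Fintype F] [CharP F 2] {K : Type*} [Field K] [Fintype K]
  [Algebra F K]

/-- arithmetic: `A + 1` does not divide `(A - 1) (B + 1)` for `A` even and `B < A` -/
theorem not_dvd_aux (A B : ℕ) (hA : Even A) (hBA : B < A) (hA1 : 1 ≤ A) :
    ¬ (A + 1) ∣ (A - 1) * (B + 1) := by
  intro h
  have hcop : Nat.Coprime (A + 1) (A - 1) := by
    rw [Nat.coprime_iff_gcd_eq_one]
    have h1 : Nat.gcd (A + 1) (A - 1) ∣ (A + 1) := Nat.gcd_dvd_left _ _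
    have h2 : Nat.gcd (A + 1) (A - 1) ∣ (A - 1) := Nat.gcd_dvd_right _ _
    have h3 : Nat.gcd (A + 1) (A - 1) ∣ 2 := by
      have : (A + 1) - (A - 1) = 2 := by omega
      rw [← this]
      exact Nat.dvd_sub h1 h2
    have h4 : Nat.gcd (A + 1) (A - 1) ≤ 2 := Nat.le_of_dvd (by norm_num) h3
    interval_cases hg : Nat.gcd (A + 1) (A - 1)
    · simp at h3
    · rfl
    · exfalso
      obtain ⟨k, hk⟩ := hA
      obtain ⟨j, hj⟩ := h1
      omega
  have h5 : (A + 1) ∣ (B + 1) := hcop.dvd_of_dvd_mul_left h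
  have := Nat.le_of_dvd (by omega) h5
  omega

theorem exists_bad_of_field (d : ℕ) (hd3 : 3 ≤ d) (hfin : finrank F K = 2 * d)
    (σ : K ≃ₐ[F] K) (hσ : ∀ x, σ x = x ^ (Fintype.card F ^ d)) (a b : F)
    (hab : ∀ x y : F, x ^ 2 + a * x * y + b * y ^ 2 = 0 → x = 0 ∧ y = 0)
    (r : ℕ) (hr : r.Prime) (hr2 : r ≠ 2) (hdiv : r ∣ Fintype.card F ^ d + 1) :
    ∃ x : GL ((Fin (d - 1) ⊕ Fin (d - 1)) ⊕ Fin 2) F,
      x ∈ Cfsg.Geo.omegaGL (Cfsg.quadFormMinus (d - 1) F a b) ∧
      ((x ^ r : GL ((Fin (d - 1) ⊕ Fin (d - 1)) ⊕ Fin 2) F) :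
        Matrix ((Fin (d - 1) ⊕ Fin (d - 1)) ⊕ Fin 2) ((Fin (d - 1) ⊕ Fin (d - 1)) ⊕ Fin 2) F) = 1 ∧
      ∀ (v : (Fin (d - 1) ⊕ Fin (d - 1)) ⊕ Fin 2 → F) (c : F),
        Matrix.mulVec (x : Matrix ((Fin (d - 1) ⊕ Fin (d - 1)) ⊕ Fin 2)
          ((Fin (d - 1) ⊕ Fin (d - 1)) ⊕ Fin 2) F) v = c • v →
          Cfsg.quadFormMinus (d - 1) F a b v = 0 := by
  classical
  have : Fact r.Prime := ⟨hr⟩
  have : FiniteDimensional F K := Module.Finite.of_finite
  obtain ⟨q, hq⟩ : ∃ q, q = Fintype.card F := ⟨_, rfl⟩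
  rw [← hq] at hσ hdiv
  have hq2 : 2 ≤ q := by rw [hq]; exact Fintype.one_lt_card
  obtain ⟨A, hA⟩ : ∃ A, A = q ^ d := ⟨_, rfl⟩
  rw [← hA] at hσ hdiv
  have hA2 : 2 ≤ A := by
    rw [hA]
    calc 2 ≤ q := hq2
      _ = q ^ 1 := (pow_one q).symm
      _ ≤ q ^ d := Nat.pow_le_pow_right (by omega) (by omega)
  have hAeven : Even A := by
    obtain ⟨n, -, hn⟩ := FiniteField.card F 2
    rw [hA, hq, hn, ← pow_mul]
    exact (Nat.even_pow.mpr ⟨even_two, by
      have : 0 < (n : ℕ) := n.pos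
      exact Nat.mul_ne_zero (by omega) (by omega)⟩)
  have hKcard : Fintype.card K = A * A := by
    rw [Module.card_eq_pow_finrank (K := F) (V := K), hfin, ← hq, hA, ← pow_add, two_mul]
  have hKu : Nat.card Kˣ = (A - 1) * (A + 1) := by
    rw [Nat.card_eq_fintype_card, Fintype.card_units, hKcard]
    have : 1 ≤ A := by omega
    zify [this, show 1 ≤ A * A from Nat.mul_pos this this]
    ring
  have hσσ : ∀ x, σ (σ x) = x := by
    intro x
    rw [hσ, hσ, ← pow_mul, ← hKcard, FiniteField.pow_card]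
  obtain ⟨g, hg⟩ := IsCyclic.exists_ofOrder_eq_natCard (α := Kˣ)
  rw [hKu] at hg
  -- `σ` moves the generator
  have hgσ : σ (g : K) ≠ (g : K) := by
    intro h
    rw [hσ] at h
    have h1 : g ^ (A - 1) = 1 := by
      apply Units.ext
      rw [Units.val_pow_eq_pow_val, Units.val_one]
      have h2 : (g : K) ^ (A - 1) * (g : K) = 1 * (g : K) := by
        rw [← pow_succ, Nat.sub_add_cancel (by omega), h, one_mul]
      exact mul_right_cancel₀ g.ne_zero h2
    have h3 := orderOf_dvd_of_pow_eq_one h1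
    rw [hg] at h3
    have h4 := Nat.le_of_dvd (by omega) h3
    have h5 : (A - 1) * 2 ≤ (A - 1) * (A + 1) := Nat.mul_le_mul_left _ (by omega)
    omega
  have hc : (g : K) + σ (g : K) ≠ 0 := by
    intro h
    apply hgσ
    have : CharP K 2 := charP_of_injective_algebraMap (algebraMap F K).injective 2
    calc σ (g : K) = σ (g : K) + ((g : K) + (g : K)) := by rw [CharTwo.add_self_eq_zero, add_zero]
      _ = ((g : K) + σ (g : K)) + (g : K) := by ring
      _ = (g : K) := by rw [h, zero_add]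
  obtain ⟨Q, hQdef⟩ : ∃ Q : QuadraticForm F K, Q = twistedForm σ (g : K) := ⟨_, rfl⟩
  have hQND : QND Q := by
    rw [hQdef]
    exact QND_twistedForm σ hσσ (g : K) hc
  -- the norm one group
  obtain ⟨G, hGdef⟩ : ∃ G : Subgroup Kˣ, G = (powMonoidHom (A + 1) : Kˣ →* Kˣ).ker := ⟨_, rfl⟩
  have hGmem : ∀ u : Kˣ, u ∈ G ↔ u ^ (A + 1) = 1 := by
    intro u
    rw [hGdef, MonoidHom.mem_ker, powMonoidHom_apply]
  have hGσ : ∀ u : Kˣ, u ∈ G → (u : K) * σ (u : K) = 1 := by
    intro u hu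
    rw [hσ, ← pow_succ']
    have := (hGmem u).mp hu
    rw [← Units.val_pow_eq_pow_val, this, Units.val_one]
  have hQinv : ∀ u : Kˣ, u ∈ G → ∀ α : K, Q ((u : K) * α) = Q α := by
    intro u hu α
    rw [hQdef]
    exact twistedForm_mul σ _ _ _ (hGσ u hu)
  have hGcard : (A + 1) ∣ Nat.card G := by
    have h1 : orderOf (g ^ (A - 1)) = A + 1 := by
      rw [orderOf_pow_of_dvd (by omega) (by rw [hg]; exact dvd_mul_right _ _), hg,
        Nat.mul_div_cancel_left _ (by omega)]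
    have h2 : g ^ (A - 1) ∈ G := by
      rw [hGmem, ← h1]
      exact pow_orderOf_eq_one _
    have h3 := orderOf_dvd_natCard (⟨g ^ (A - 1), h2⟩ : G)
    rwa [Subgroup.orderOf_mk, h1] at h3
  -- not of plus type
  have hnotplus : ¬ IsPlusType Q d := by
    rintro ⟨φ, hφ⟩
    let S : Set K := {α | α ≠ 0 ∧ Q α = 0}
    have hdvd : Nat.card G ∣ Nat.card S := by
      apply Cfsg.Agent.Lib.Helper14.card_dvd_card_of_free (K := G) (Ω := K) S
      · rintro ⟨u, hu⟩ α ⟨hα0, hα⟩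
        refine ⟨?_, ?_⟩
        · show (u : K) * α ≠ 0
          exact mul_ne_zero u.ne_zero hα0
        · show Q ((u : K) * α) = 0
          rw [hQinv u hu, hα]
      · rintro ⟨u, hu⟩ α ⟨hα0, -⟩ h
        have h1 : (u : K) * α = 1 * α := by rw [one_mul]; exact h
        have h2 : (u : K) = 1 := mul_right_cancel₀ hα0 h1
        exact Subtype.ext (Units.ext h2)
    have hS : Nat.card S + 1 = Nat.card {α : K // Q α = 0} := by
      have e : S ⊕ Unit ≃ {α : K // Q α = 0} :=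
        { toFun := fun x => Sum.elim (fun s => ⟨s.1, s.2.2⟩) (fun _ => ⟨0, map_zero Q⟩) x
          invFun := fun α => if h : α.1 = 0 then Sum.inr () else Sum.inl ⟨α.1, h, α.2⟩
          left_inv := by
            rintro (⟨s, hs0, hs⟩ | u)
            · simp [hs0]
            · simp
          right_inv := by
            rintro ⟨α, hα⟩
            by_cases h : α = 0
            · subst h; simp
            · simp [h] }
      rw [← Nat.card_congr e, Nat.card_sum]
      simp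
    have hZ : Nat.card {α : K // Q α = 0} =
        Nat.card {v : Fin d ⊕ Fin d → F // Cfsg.quadFormPlus d F v = 0} := by
      apply Nat.card_congr
      exact φ.toEquiv.subtypeEquiv (fun α => by
        show Q α = 0 ↔ Cfsg.quadFormPlus d F (φ α) = 0
        rw [hφ])
    rw [hZ, card_zeros_plus, ← hq, ← hA] at hS
    have hB : q ^ (d - 1) < A := by
      rw [hA]
      exact Nat.pow_lt_pow_right (by omega) (by omega)
    have hS' : Nat.card S = (A - 1) * (q ^ (d - 1) + 1) := by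
      have h1 : 1 ≤ A := by omega
      zify [h1] at hS ⊢
      linear_combination hS
    rw [hS'] at hdvd
    exact not_dvd_aux A (q ^ (d - 1)) hAeven hB (by omega) (dvd_trans hGcard hdvd)
  obtain ⟨φ, hφ⟩ : ∃ φ : K ≃ₗ[F] ((Fin (d - 1) ⊕ Fin (d - 1)) ⊕ Fin 2 → F),
      ∀ α, Cfsg.quadFormMinus (d - 1) F a b (φ α) = Q α := by
    rcases witt_type (2 * d) Q hfin hQND with ⟨m, hm, hp⟩ | ⟨m, ζ', hm, hζ', φ₁, hφ₁⟩ |
      ⟨m, c, hm, -, -⟩
    · obtain rfl : m = d := by omega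
      exact absurd hp hnotplus
    · obtain rfl : m = d - 1 := by omega
      obtain ⟨ψ, hψ⟩ := exists_equiv_minus (d - 1) a b hab ζ' hζ'
      exact ⟨φ₁.trans ψ, fun α => by rw [LinearEquiv.trans_apply, hψ, hφ₁]⟩
    · omega
  -- an element of order `r`
  have hrK : r ∣ Nat.card Kˣ := by rw [hKu]; exact dvd_mul_of_dvd_right hdiv _
  obtain ⟨ζ, hζ⟩ := exists_prime_orderOf_dvd_card' r hrK
  have hζG : ζ ∈ G := by
    rw [hGmem]
    obtain ⟨k, hk⟩ := hdiv
    rw [hk, pow_mul, ← hζ, pow_orderOf_eq_one, one_pow]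
  obtain ⟨T, hT⟩ : ∃ T : G →* Module.End F K, ∀ (u : G) (α : K), T u α = ((u : Kˣ) : K) * α :=
    ⟨((Algebra.lmul F K : K →ₐ[F] Module.End F K) : K →* Module.End F K).comp
      ((Units.coeHom K).comp G.subtype), fun u α => rfl⟩
  obtain ⟨Φ, hΦ⟩ := exists_hom_isometryGroup_apply (⇑Q) T
    (fun u α => by rw [hT]; exact hQinv u u.2 α) (⇑(QMinus (d - 1) F a b)) φ hφ
  have hζr : (⟨ζ, hζG⟩ : G) ^ r = 1 := by
    apply Subtype.ext
    show ζ ^ r = 1
    rw [← hζ]
    exact pow_orderOf_eq_one ζ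
  have hxr : Φ ⟨ζ, hζG⟩ ^ r = 1 := by rw [← map_pow, hζr, map_one]
  have h24 : Fintype.card F ≠ 2 ∨ Fintype.card ((Fin (d - 1) ⊕ Fin (d - 1)) ⊕ Fin 2) ≠ 4 := by
    right
    simp only [Fintype.card_sum, Fintype.card_fin]
    omega
  have hΩ : Φ ⟨ζ, hζG⟩ ∈ Cfsg.Omega F (⇑(QMinus (d - 1) F a b)) := by
    obtain ⟨k, hk⟩ := hr.odd_of_ne_two hr2
    have : Φ ⟨ζ, hζG⟩ = Φ ⟨ζ, hζG⟩ ^ (k + 1) * Φ ⟨ζ, hζG⟩ ^ (k + 1) := by
      rw [← pow_add]
      have e : k + 1 + (k + 1) = r + 1 := by omega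
      rw [e, pow_succ, hxr, one_mul]
    rw [this]
    exact mul_self_mem_Omega (QMinus (d - 1) F a b) (QMinus_nondegenerate (d - 1) a b hab) h24 _
  refine ⟨(Φ ⟨ζ, hζG⟩ : GL ((Fin (d - 1) ⊕ Fin (d - 1)) ⊕ Fin 2) F),
    coe_mem_omegaGL _ _ hΩ, ?_, ?_⟩
  · rw [← Subgroup.coe_pow, hxr]
    rfl
  · intro v c hv
    by_contra hne
    have hv0 : v ≠ 0 := by
      rintro rfl
      apply hne
      simp [Cfsg.quadFormMinus]
    rw [hΦ, hT] at hv
    have h1 : (ζ : K) * φ.symm v = c • φ.symm v := by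
      apply φ.injective
      rw [hv, map_smul, LinearEquiv.apply_symm_apply]
    have hα0 : φ.symm v ≠ 0 := by
      intro h
      apply hv0
      have := congrArg φ h
      rwa [LinearEquiv.apply_symm_apply, map_zero] at this
    rw [Algebra.smul_def] at h1
    have h2 : (ζ : K) = algebraMap F K c := mul_right_cancel₀ hα0 h1
    have h3 : σ (ζ : K) = ζ := by rw [h2, AlgEquiv.commutes]
    have h4 := hGσ ζ hζG
    rw [h3] at h4
    have h5 : ζ ^ 2 = 1 := by
      apply Units.ext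
      rw [Units.val_pow_eq_pow_val, pow_two, h4, Units.val_one]
    have h6 := orderOf_dvd_of_pow_eq_one h5
    rw [hζ] at h6
    exact hr2 ((Nat.prime_dvd_prime_iff_eq hr Nat.prime_two).mp h6)

end field

/-- for an odd prime `r` dividing `q ^ d + 1`, an element of order `r` of `Ω⁻_{2d}(q)`, `q` even,
without eigenvectors -/
theorem exists_bad_odd_element_minus {F : Type*} [Field F] [Fintype F] [CharP F 2] (d : ℕ)
    (hd3 : 3 ≤ d) (a b : F)
    (hab : ∀ x y : F, x ^ 2 + a * x * y + b * y ^ 2 = 0 → x = 0 ∧ y = 0)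
    (r : ℕ) (hr : r.Prime) (hr2 : r ≠ 2) (hdiv : r ∣ Fintype.card F ^ d + 1) :
    ∃ x : GL ((Fin (d - 1) ⊕ Fin (d - 1)) ⊕ Fin 2) F,
      x ∈ Cfsg.Geo.omegaGL (Cfsg.quadFormMinus (d - 1) F a b) ∧
      ((x ^ r : GL ((Fin (d - 1) ⊕ Fin (d - 1)) ⊕ Fin 2) F) :
        Matrix ((Fin (d - 1) ⊕ Fin (d - 1)) ⊕ Fin 2) ((Fin (d - 1) ⊕ Fin (d - 1)) ⊕ Fin 2) F) = 1 ∧
      ∀ (v : (Fin (d - 1) ⊕ Fin (d - 1)) ⊕ Fin 2 → F) (c : F),
        Matrix.mulVec (x : Matrix ((Fin (d - 1) ⊕ Fin (d - 1)) ⊕ Fin 2)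
          ((Fin (d - 1) ⊕ Fin (d - 1)) ⊕ Fin 2) F) v = c • v →
          Cfsg.quadFormMinus (d - 1) F a b v = 0 := by
  classical
  have : NeZero (2 * d) := ⟨by omega⟩
  have : Fact (Nat.Prime 2) := ⟨Nat.prime_two⟩
  have : Fintype (FiniteField.Extension F 2 (2 * d)) := Fintype.ofFinite _
  refine exists_bad_of_field (K := FiniteField.Extension F 2 (2 * d)) d hd3
    (FiniteField.finrank_extension F 2 (2 * d)) (FiniteField.Extension.frob F 2 (2 * d) ^ d)
    (fun x => ?_) a b hab r hr hr2 hdiv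
  rw [FiniteField.Extension.frob_iterate_apply, Nat.card_eq_fintype_card]


end Cfsg.Agent.Lib.Helper50
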