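import Mathlib
import Cfsg.Agent.Lib.Helper48.PSL2Basic

/-!
# K-NQ leaf P2 (S2787): `O_p(PSL₂(F)) = 1` for `|F| = p^n` odd (including `|F| = 3`)

If `mk w` lies in a normal `p`-subgroup `N` then `w ^ p ^ k` is scalar, so `(tr w)² = 4`.  A non-scalar `g` with `mk g ∈ N` has (after
conjugation) a non-zero entry `β = g₀₁`; with `s = !![1,0;1,1]` the elements `g (s g s⁻¹)` and `g² (s g s⁻¹)` have traces
`t² - 2 det - β²` and `t (t² - 2 det - β²) - t det`, and both squares being `4` forces `2 = 0`.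
-/

set_option autoImplicit false

namespace Cfsg.Agent.Lib.Helper50.NQ

open Matrix

variable {F : Type*} [Field F]

/-- trace criterion: a matrix of `SL₂(F)` (char `p`) with a scalar `p^k`-th power has `(tr)² = 4` -/
theorem sq_trace_eq_four_of_pow_scalar {p : ℕ} [Fact p.Prime] [CharP F p] (hp2 : p ≠ 2)
    (A : Matrix.SpecialLinearGroup (Fin 2) F) (k : ℕ) (r : F)
    (h : (A : Matrix (Fin 2) (Fin 2) F) ^ p ^ k = r • (1 : Matrix (Fin 2) (Fin 2) F)) :
    (A : Matrix (Fin 2) (Fin 2) F).trace ^ 2 = 4 := by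
  have hdetA : (A : Matrix (Fin 2) (Fin 2) F).det = 1 := A.2
  -- r ^ 2 = 1
  have hr2 : r ^ 2 = 1 := by
    have := congrArg Matrix.det h
    rw [Matrix.det_pow, hdetA, one_pow, Matrix.det_smul, Matrix.det_one, Fintype.card_fin, mul_one] at this
    exact this.symm
  have hodd : Odd (p ^ k) := by
    apply Odd.pow
    exact (Fact.out : p.Prime).odd_of_ne_two hp2
  -- h' = r • A has h' ^ (p^k) = 1
  set B : Matrix (Fin 2) (Fin 2) F := r • (A : Matrix (Fin 2) (Fin 2) F) with hB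
  have hBpow : B ^ p ^ k = 1 := by
    rw [hB, smul_pow, h, smul_smul]
    obtain ⟨j, hj⟩ := hodd
    have : r ^ p ^ k * r = 1 := by
      rw [hj, pow_succ, pow_mul, hr2, one_pow, one_mul, ← pow_two, hr2]
    rw [this, one_smul]
  have hnil : IsNilpotent (B - 1) := by
    refine ⟨p ^ k, ?_⟩
    rw [sub_pow_char_pow_of_commute p k (Commute.one_right B), hBpow, one_pow, sub_self]
  have htr : (B - 1).trace = 0 := (Matrix.isNilpotent_trace_of_isNilpotent hnil).eq_zero
  rw [Matrix.trace_sub, Matrix.trace_one, Fintype.card_fin, hB, Matrix.trace_smul, smul_eq_mul] at htr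
  -- r * tr A = 2
  have h2 : r * (A : Matrix (Fin 2) (Fin 2) F).trace = 2 := by
    have := sub_eq_zero.1 htr
    rw [this]; norm_num
  calc (A : Matrix (Fin 2) (Fin 2) F).trace ^ 2
      = r ^ 2 * (A : Matrix (Fin 2) (Fin 2) F).trace ^ 2 := by rw [hr2, one_mul]
    _ = (r * (A : Matrix (Fin 2) (Fin 2) F).trace) ^ 2 := by ring
    _ = 4 := by rw [h2]; norm_num

/-- the shear `!![1,0;1,1]` -/
def shearL : Matrix.SpecialLinearGroup (Fin 2) F :=
  ⟨!![1, 0; 1, 1], by simp [Matrix.det_fin_two]⟩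

/-- the Weyl element `!![0,1;-1,0]` -/
def weylW : Matrix.SpecialLinearGroup (Fin 2) F :=
  ⟨!![0, 1; -1, 0], by simp [Matrix.det_fin_two]⟩

theorem coe_shearL : ((shearL : Matrix.SpecialLinearGroup (Fin 2) F) : Matrix (Fin 2) (Fin 2) F) =
    !![1, 0; 1, 1] := rfl

theorem coe_weylW : ((weylW : Matrix.SpecialLinearGroup (Fin 2) F) : Matrix (Fin 2) (Fin 2) F) =
    !![0, 1; -1, 0] := rfl

theorem trace_mul_conj_shear (g : Matrix.SpecialLinearGroup (Fin 2) F) :
    ((g * (shearL * g * shearL⁻¹) : Matrix.SpecialLinearGroup (Fin 2) F) :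
        Matrix (Fin 2) (Fin 2) F).trace =
      (g.1 0 0 + g.1 1 1) ^ 2 - 2 * (g.1 0 0 * g.1 1 1 - g.1 0 1 * g.1 1 0) - g.1 0 1 ^ 2 := by
  simp only [Matrix.SpecialLinearGroup.coe_mul, Matrix.SpecialLinearGroup.coe_inv, coe_shearL,
    Matrix.adjugate_fin_two, Matrix.trace_fin_two, Matrix.mul_apply, Fin.sum_univ_two,
    Matrix.of_apply, Matrix.cons_val', Matrix.cons_val_zero, Matrix.cons_val_one,
    Matrix.cons_val_fin_one]
  ring

theorem trace_mul_mul_conj_shear (g : Matrix.SpecialLinearGroup (Fin 2) F) :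
    ((g * g * (shearL * g * shearL⁻¹) : Matrix.SpecialLinearGroup (Fin 2) F) :
        Matrix (Fin 2) (Fin 2) F).trace =
      (g.1 0 0 + g.1 1 1) * ((g.1 0 0 + g.1 1 1) ^ 2 - 2 * (g.1 0 0 * g.1 1 1 - g.1 0 1 * g.1 1 0)
        - g.1 0 1 ^ 2) - (g.1 0 0 * g.1 1 1 - g.1 0 1 * g.1 1 0) * (g.1 0 0 + g.1 1 1) := by
  simp only [Matrix.SpecialLinearGroup.coe_mul, Matrix.SpecialLinearGroup.coe_inv, coe_shearL,
    Matrix.adjugate_fin_two, Matrix.trace_fin_two, Matrix.mul_apply, Fin.sum_univ_two,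
    Matrix.of_apply, Matrix.cons_val', Matrix.cons_val_zero, Matrix.cons_val_one,
    Matrix.cons_val_fin_one]
  ring

theorem conj_weyl_apply_zero_one (g : Matrix.SpecialLinearGroup (Fin 2) F) :
    ((weylW * g * weylW⁻¹ : Matrix.SpecialLinearGroup (Fin 2) F) :
        Matrix (Fin 2) (Fin 2) F) 0 1 = - g.1 1 0 := by
  simp only [Matrix.SpecialLinearGroup.coe_mul, Matrix.SpecialLinearGroup.coe_inv, coe_weylW,
    Matrix.adjugate_fin_two, Matrix.mul_apply, Fin.sum_univ_two,
    Matrix.of_apply, Matrix.cons_val', Matrix.cons_val_zero, Matrix.cons_val_one,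
    Matrix.cons_val_fin_one]
  ring

theorem psl2_normal_pgroup_eq_bot {F : Type*} [Field F] [Fintype F] {p : ℕ} [Fact p.Prime] (n : ℕ)
    (hF : Fintype.card F = p ^ n) (hodd : Odd (Fintype.card F))
    (N : Subgroup (Matrix.ProjectiveSpecialLinearGroup (Fin 2) F)) (hN : N.Normal) (hNp : IsPGroup p N) :
    N = ⊥ := by
  classical
  have : CharP F p := charP_of_card_eq_prime_pow hF
  have hn0 : n ≠ 0 := by
    rintro rfl
    have : 1 < Fintype.card F := Fintype.one_lt_card
    rw [hF] at this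
    simp at this
  have hp2 : p ≠ 2 := by
    rintro rfl
    rw [hF] at hodd
    exact (Nat.not_even_iff_odd.2 hodd) ((Nat.even_pow' hn0).2 even_two)
  have h2F : (2 : F) ≠ 0 := by
    intro h
    have h' : ((2 : ℕ) : F) = 0 := by exact_mod_cast h
    have hd : p ∣ 2 := (CharP.cast_eq_zero_iff F p 2).1 h'
    rcases (Nat.dvd_prime Nat.prime_two).1 hd with h1 | h1
    · exact (Fact.out : p.Prime).one_lt.ne' h1
    · exact hp2 h1
  -- trace criterion for members of N
  have hA : ∀ w : Matrix.SpecialLinearGroup (Fin 2) F,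
      (QuotientGroup.mk w : Matrix.ProjectiveSpecialLinearGroup (Fin 2) F) ∈ N →
      (w : Matrix (Fin 2) (Fin 2) F).trace ^ 2 = 4 := by
    intro w hw
    obtain ⟨k, hk⟩ := hNp ⟨_, hw⟩
    have hk' : (QuotientGroup.mk w : Matrix.ProjectiveSpecialLinearGroup (Fin 2) F) ^ p ^ k = 1 := by
      have := congrArg Subtype.val hk
      simpa using this
    obtain ⟨r, hr⟩ := (Cfsg.Agent.Lib.Helper48.psl2_mk_pow_eq_one_iff w (p ^ k)).1 hk'
    exact sq_trace_eq_four_of_pow_scalar hp2 w k r hr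
  -- conjugation closure
  have hconj : ∀ s w : Matrix.SpecialLinearGroup (Fin 2) F,
      (QuotientGroup.mk w : Matrix.ProjectiveSpecialLinearGroup (Fin 2) F) ∈ N →
      (QuotientGroup.mk (s * w * s⁻¹) : Matrix.ProjectiveSpecialLinearGroup (Fin 2) F) ∈ N := by
    intro s w hw
    have := hN.conj_mem _ hw (QuotientGroup.mk s)
    simpa using this
  -- the key: no member with a non-zero (0,1) entry
  have hkey : ∀ g : Matrix.SpecialLinearGroup (Fin 2) F,
      (QuotientGroup.mk g : Matrix.ProjectiveSpecialLinearGroup (Fin 2) F) ∈ N → g.1 0 1 = 0 := by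
    intro g hg
    by_contra hβ
    have hdet : g.1 0 0 * g.1 1 1 - g.1 0 1 * g.1 1 0 = 1 := by
      have := g.2
      rw [Matrix.det_fin_two] at this
      exact this
    have ht : (g.1 0 0 + g.1 1 1) ^ 2 = 4 := by
      have := hA g hg
      rwa [Matrix.trace_fin_two] at this
    have hg1 : (QuotientGroup.mk (g * (shearL * g * shearL⁻¹)) :
        Matrix.ProjectiveSpecialLinearGroup (Fin 2) F) ∈ N := by
      rw [QuotientGroup.mk_mul]
      exact N.mul_mem hg (hconj _ _ hg)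
    have hg2 : (QuotientGroup.mk (g * g * (shearL * g * shearL⁻¹)) :
        Matrix.ProjectiveSpecialLinearGroup (Fin 2) F) ∈ N := by
      rw [QuotientGroup.mk_mul, QuotientGroup.mk_mul]
      exact N.mul_mem (N.mul_mem hg hg) (hconj _ _ hg)
    have h1 := hA _ hg1
    have h2 := hA _ hg2
    rw [trace_mul_conj_shear, hdet, ht] at h1
    rw [trace_mul_mul_conj_shear, hdet, ht] at h2
    set β := g.1 0 1 with hβdef
    set t := g.1 0 0 + g.1 1 1 with htdef
    -- h1 : (4 - 2 * 1 - β ^ 2) ^ 2 = 4 ; so β^2 = 4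
    have hb4 : β ^ 2 = 4 := by
      have : β ^ 2 * (β ^ 2 - 4) = 0 := by linear_combination h1
      rcases mul_eq_zero.1 this with h | h
      · exact absurd ((pow_eq_zero_iff (two_ne_zero)).1 h) hβ
      · exact sub_eq_zero.1 h
    -- h2 : (t * (4 - 2 * 1 - β ^ 2) - 1 * t) ^ 2 = 4
    have h32 : (2 : F) ^ 5 = 0 := by
      have : (t * (4 - 2 * 1 - β ^ 2) - 1 * t) ^ 2 = 9 * t ^ 2 := by rw [hb4]; ring
      rw [this, ht] at h2
      linear_combination h2
    exact h2F ((pow_eq_zero_iff (by norm_num)).1 h32)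
  -- conclusion
  rw [Subgroup.eq_bot_iff_forall]
  intro x hx
  obtain ⟨g, rfl⟩ := QuotientGroup.mk_surjective x
  have hβ : g.1 0 1 = 0 := hkey g hx
  have hγ : g.1 1 0 = 0 := by
    have := hkey _ (hconj weylW g hx)
    rw [conj_weyl_apply_zero_one] at this
    exact neg_eq_zero.1 this
  have hdet : g.1 0 0 * g.1 1 1 = 1 := by
    have := g.2
    rw [Matrix.det_fin_two, hβ, hγ] at this
    simpa using this
  have ht : (g.1 0 0 + g.1 1 1) ^ 2 = 4 := by
    have := hA g hx
    rwa [Matrix.trace_fin_two] at this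
  have heq : g.1 0 0 = g.1 1 1 := by
    have : (g.1 0 0 - g.1 1 1) ^ 2 = 0 := by linear_combination ht - 4 * hdet
    exact sub_eq_zero.1 ((pow_eq_zero_iff (two_ne_zero)).1 this)
  rw [Cfsg.Agent.Lib.Helper48.psl2_mk_eq_one_iff]
  refine ⟨g.1 0 0, ?_⟩
  ext i j
  fin_cases i <;> fin_cases j <;> simp [hβ, hγ, heq]

end Cfsg.Agent.Lib.Helper50.NQ
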