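import Cfsg.Agent.Lib.Helper50.NdH

set_option autoImplicit false

/-!
# K-Nd-F: characteristic two, isometric involutions of an alternating space fix nondegenerate
subspaces of the possible even dimensions
-/

namespace Cfsg.Agent.Lib.Helper50.Nd

open Module Cfsg.Agent.Lib.Helper98.Elus Cfsg.Agent.Lib.Helper98.Sy

universe u
variable {F : Type u} [Field F] {V : Type u} [AddCommGroup V] [Module F V]

/-- invariance of a span, on generators -/
theorem inv_span_of_gen (y : V →ₗ[F] V) (S : Set V) (h : ∀ s ∈ S, y s ∈ Submodule.span F S) :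
    Inv y (Submodule.span F S) := by
  intro v hv
  induction hv using Submodule.span_induction with
  | mem x hx => exact h x hx
  | zero => rw [map_zero]; exact Submodule.zero_mem _
  | add a b _ _ ha hb => rw [map_add]; exact Submodule.add_mem _ ha hb
  | smul c a _ ha => rw [map_smul]; exact Submodule.smul_mem _ c ha

/-- orthogonality of two planes, on generators -/
theorem ort_span_pair {B : LinearMap.BilinForm F V} (a₁ b₁ a₂ b₂ : V) (h1 : B a₁ a₂ = 0)
    (h2 : B a₁ b₂ = 0) (h3 : B b₁ a₂ = 0) (h4 : B b₁ b₂ = 0) :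
    Ort B (Submodule.span F {a₁, b₁}) (Submodule.span F {a₂, b₂}) := by
  intro x hx y hy
  obtain ⟨p, q, rfl⟩ := Submodule.mem_span_pair.mp hx
  obtain ⟨r, s, rfl⟩ := Submodule.mem_span_pair.mp hy
  simp only [map_add, map_smul, LinearMap.add_apply, LinearMap.smul_apply, h1, h2, h3, h4,
    smul_zero, add_zero]

variable [FiniteDimensional F V]

set_option maxHeartbeats 800000 in
/-- an invariant nondegenerate piece of dimension two or four -/
theorem exists_inv_piece (h2 : (2 : F) = 0) {B : LinearMap.BilinForm F V} (hA : B.IsAlt)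
    (y : V →ₗ[F] V) (hy : y ^ 2 = 1) (hiso : Iso B y)
    (U : Submodule F V) (hUinv : Inv y U) (hU : NonDeg B U) (hne : U ≠ ⊥) :
    ∃ X : Submodule F V, X ≤ U ∧ Inv y X ∧ NonDeg B X ∧ (finrank F X = 2 ∨ finrank F X = 4) := by
  have hyy : ∀ v, y (y v) = v := by
    intro v
    have := congrArg (fun f : V →ₗ[F] V => f v) hy
    simpa [pow_two, Module.End.mul_apply] using this
  have hdbl : ∀ a : F, a + a = 0 := by
    intro a
    rw [← two_mul, h2, zero_mul]
  have hdblV : ∀ v : V, v + v = 0 := by
    intro v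
    rw [← two_smul F v, h2, zero_smul]
  have hadj : ∀ a b, B a (y b) = B (y a) b := by
    intro a b
    have := hiso a (y b)
    rw [hyy] at this
    exact this.symm
  by_cases ha : ∃ v ∈ U, B v (y v) ≠ 0
  · obtain ⟨v, hv, hvy⟩ := ha
    obtain ⟨hnd, hfr⟩ := nonDeg_span_pair hA v (y v) hvy
    refine ⟨Submodule.span F {v, y v}, ?_, inv_span_pair y v 1 (by rw [hyy, one_smul]), hnd,
      Or.inl hfr⟩
    apply Submodule.span_le.mpr
    rintro x (rfl | rfl)
    · exact hv
    · exact hUinv _ hv
  · push Not at ha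
    by_cases hb : ∃ v ∈ U, y v ≠ v
    · obtain ⟨v, hv, hyv⟩ := hb
      have hnv : y v + v ≠ 0 := by
        intro h
        apply hyv
        have : y v = -v := eq_neg_of_add_eq_zero_left h
        rw [this, neg_eq_iff_add_eq_zero]
        exact hdblV v
      have hnvU : y v + v ∈ U := Submodule.add_mem _ (hUinv v hv) hv
      obtain ⟨w, hw, hβ⟩ : ∃ w ∈ U, B (y v + v) w ≠ 0 := by
        by_contra hcon
        push Not at hcon
        exact hnv (hU _ hnvU hcon)
      set β := B (y v + v) w with hβdef
      set γ := B v w with hγdef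
      set a₁ := y v + v with ha₁
      set b₂ := y w + w with hb₂
      set a₂ := v + (γ / β) • a₁ with ha₂
      have hb₂U : b₂ ∈ U := Submodule.add_mem _ (hUinv w hw) hw
      have ha₂U : a₂ ∈ U := Submodule.add_mem _ hv (Submodule.smul_mem _ _ hnvU)
      -- basic values
      have e1 : B a₁ b₂ = 0 := by
        rw [ha₁, hb₂]
        simp only [map_add, LinearMap.add_apply]
        rw [hiso, hadj v w]
        have : B v w + B (y v) w + (B (y v) w + B v w) =
            (B v w + B v w) + (B (y v) w + B (y v) w) := by ring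
        rw [this, hdbl, hdbl, add_zero]
      have e2 : B a₁ v = 0 := by
        rw [ha₁]
        simp only [map_add, LinearMap.add_apply]
        rw [hA v, add_zero, alt_swap hA, ha v hv, neg_zero]
      have e3 : B a₁ a₁ = 0 := hA a₁
      have e4 : B w b₂ = 0 := by
        rw [hb₂, map_add, ha w hw, hA w, add_zero]
      have e5 : B v b₂ = β := by
        rw [hb₂, map_add, hadj v w, hβdef, ha₁, map_add, LinearMap.add_apply]
      have e6 : B a₁ a₂ = 0 := by
        rw [ha₂, map_add, map_smul, e2, e3, smul_zero, add_zero]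
      have e7 : B w a₂ = 0 := by
        rw [ha₂, map_add, map_smul, alt_swap hA w v, alt_swap hA w a₁, ← hγdef, ← hβdef,
          smul_eq_mul, mul_neg, div_mul_cancel₀ _ hβ, ← neg_add, hdbl, neg_zero]
      have e8 : B a₂ b₂ = β := by
        rw [ha₂, LinearMap.map_add₂, LinearMap.map_smul₂, e5, e1, smul_zero, add_zero]
      obtain ⟨hnd1, hfr1⟩ := nonDeg_span_pair hA a₁ w hβ
      obtain ⟨hnd2, hfr2⟩ := nonDeg_span_pair hA a₂ b₂ (by rw [e8]; exact hβ)
      have hort : Ort B (Submodule.span F {a₁, w}) (Submodule.span F {a₂, b₂}) :=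
        ort_span_pair a₁ w a₂ b₂ e6 e1 e7 e4
      refine ⟨Submodule.span F {a₁, w} ⊔ Submodule.span F {a₂, b₂}, ?_, ?_,
        (nonDeg_sup hA _ _ hnd1 hnd2 hort).1, Or.inr ?_⟩
      · apply sup_le
        · apply Submodule.span_le.mpr
          rintro x (rfl | rfl)
          · exact hnvU
          · exact hw
        · apply Submodule.span_le.mpr
          rintro x (rfl | rfl)
          · exact ha₂U
          · exact hb₂U
      · rw [← Submodule.span_union]
        apply inv_span_of_gen
        have hya₁ : y a₁ = a₁ := by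
          rw [ha₁, map_add, hyy, add_comm]
        have hyb₂ : y b₂ = b₂ := by
          rw [hb₂, map_add, hyy, add_comm]
        have hyw : y w = b₂ + w := by
          rw [hb₂, add_assoc, hdblV, add_zero]
        have hyv' : y v = a₁ + v := by
          rw [ha₁, add_assoc, hdblV, add_zero]
        rintro s ((rfl | rfl) | (rfl | rfl))
        · rw [hya₁]
          exact Submodule.subset_span (by simp)
        · rw [hyw]
          exact Submodule.add_mem _ (Submodule.subset_span (by simp))
            (Submodule.subset_span (by simp))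
        · have : y a₂ = a₁ + a₂ := by
            rw [ha₂, map_add, map_smul, hya₁, hyv']
            abel
          rw [this]
          exact Submodule.add_mem _ (Submodule.subset_span (by simp))
            (Submodule.subset_span (by simp))
        · rw [hyb₂]
          exact Submodule.subset_span (by simp)
      · rw [finrank_sup_of_ort hA _ _ hnd1 hnd2 hort, hfr1, hfr2]
    · push Not at hb
      obtain ⟨H, hHle, hH, hHd⟩ := exists_plane hA U hU hne
      refine ⟨H, hHle, ?_, hH, Or.inl hHd⟩
      intro v hv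
      rw [hb v (hHle hv)]
      exact hv

set_option maxHeartbeats 800000 in
/-- the inductive statement, inside an invariant nondegenerate subspace -/
theorem exists_inv_nonDeg_char_two_aux (h2 : (2 : F) = 0) {B : LinearMap.BilinForm F V}
    (hA : B.IsAlt) (y : V →ₗ[F] V) (hy : y ^ 2 = 1) (hiso : Iso B y) :
    ∀ (n : ℕ) (U : Submodule F V), Inv y U → NonDeg B U → finrank F U = 2 * n →
      ∀ m : ℕ, m % 2 = 0 → m ≤ 2 * n → (n % 2 = 1 ∨ m % 4 = 0) →
        ∃ W : Submodule F V, W ≤ U ∧ Inv y W ∧ NonDeg B W ∧ finrank F W = m := by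
  intro n
  induction n using Nat.strong_induction_on with
  | _ n ih =>
    intro U hUinv hU hUd m hme hm hcond
    by_cases hm0 : m = 0
    · subst hm0
      exact ⟨⊥, bot_le, inv_bot y, nonDeg_bot hA, by simp⟩
    by_cases hmn : m = 2 * n
    · subst hmn
      exact ⟨U, le_rfl, hUinv, hU, hUd⟩
    have hne : U ≠ ⊥ := by
      intro h
      rw [h, finrank_bot] at hUd
      omega
    obtain ⟨X, hXU, hXinv, hX, hXd⟩ := exists_inv_piece h2 hA y hy hiso U hUinv hU hne
    obtain ⟨h1, h2', h3, h4⟩ := compl_props hA X U hX hXU hU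
    have hU'inv : Inv y (B.orthogonal X ⊓ U) :=
      (inv_orth 2 (by norm_num) y hy hiso X hXinv).inf hUinv
    -- glue a piece and a subspace of the complement
    have glue : ∀ W' : Submodule F V, W' ≤ B.orthogonal X ⊓ U → Inv y W' → NonDeg B W' →
        ∃ W : Submodule F V, W ≤ U ∧ Inv y W ∧ NonDeg B W ∧
          finrank F W = finrank F X + finrank F W' := by
      intro W' hW'le hW'inv hW'
      have hort : Ort B X W' := by
        intro a ha b hb
        exact LinearMap.BilinForm.mem_orthogonal_iff.mp (Submodule.mem_inf.mp (hW'le hb)).1 a ha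
      exact ⟨X ⊔ W', sup_le hXU (le_trans hW'le inf_le_right), hXinv.sup hW'inv,
        (nonDeg_sup hA X W' hX hW' hort).1, finrank_sup_of_ort hA X W' hX hW' hort⟩
    rcases hXd with hXd | hXd
    · -- a plane
      have hU'd : finrank F ↥(B.orthogonal X ⊓ U) = 2 * (n - 1) := by omega
      by_cases hm4 : m % 4 = 0
      · obtain ⟨W, hWle, hWinv, hW, hWd⟩ := ih (n - 1) (by omega) _ hU'inv h3 hU'd m hme
          (by omega) (Or.inr hm4)
        exact ⟨W, le_trans hWle inf_le_right, hWinv, hW, hWd⟩
      · have hn1 : n % 2 = 1 := by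
          rcases hcond with h | h
          · exact h
          · exact absurd h hm4
        obtain ⟨W', hW'le, hW'inv, hW', hW'd⟩ := ih (n - 1) (by omega) _ hU'inv h3 hU'd (m - 2)
          (by omega) (by omega) (Or.inr (by omega))
        obtain ⟨W, hWle, hWinv, hW, hWd⟩ := glue W' hW'le hW'inv hW'
        exact ⟨W, hWle, hWinv, hW, by rw [hWd, hXd, hW'd]; omega⟩
    · -- a four-dimensional piece
      have hU'd : finrank F ↥(B.orthogonal X ⊓ U) = 2 * (n - 2) := by omega
      by_cases hm4 : 4 ≤ m
      · obtain ⟨W', hW'le, hW'inv, hW', hW'd⟩ := ih (n - 2) (by omega) _ hU'inv h3 hU'd (m - 4)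
          (by omega) (by omega) (by omega)
        obtain ⟨W, hWle, hWinv, hW, hWd⟩ := glue W' hW'le hW'inv hW'
        exact ⟨W, hWle, hWinv, hW, by rw [hWd, hXd, hW'd]; omega⟩
      · have hm2 : m = 2 := by omega
        subst hm2
        obtain ⟨W, hWle, hWinv, hW, hWd⟩ := ih (n - 2) (by omega) _ hU'inv h3 hU'd 2 (by omega)
          (by omega) (by omega)
        exact ⟨W, le_trans hWle inf_le_right, hWinv, hW, hWd⟩

/-- **K-Nd-F.** -/
theorem exists_inv_nonDeg_char_two (h2 : (2 : F) = 0)
    {B : LinearMap.BilinForm F V} (hA : B.IsAlt) (hV : NonDeg B ⊤) (u : V →ₗ[F] V) (hu : u ^ 2 = 1)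
    (hiso : Iso B u) (d m : ℕ) (hd : finrank F V = 2 * d) (hme : Even m) (hm : m ≤ 2 * d)
    (hcond : Odd d ∨ m % 4 = 0) :
    ∃ W : Submodule F V, Inv u W ∧ NonDeg B W ∧ finrank F W = m := by
  have hinv : Inv u (⊤ : Submodule F V) := fun v _ => Submodule.mem_top
  obtain ⟨W, -, hWinv, hW, hWd⟩ := exists_inv_nonDeg_char_two_aux h2 hA u hu hiso d ⊤ hinv hV
    (by rw [finrank_top, hd]) m (Nat.even_iff.mp hme) hm
    (hcond.imp (fun h => Nat.odd_iff.mp h) id)
  exact ⟨W, hWinv, hW, hWd⟩

end Cfsg.Agent.Lib.Helper50.Nd
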