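import Cfsg.Agent.Lib.Helper98.Sy8
import Cfsg.Agent.Lib.Helper98.Ti9

set_option autoImplicit false

/-!
# K-Nd-H: isometries with `g² = ±1` of an alternating space (odd characteristic) fix nondegenerate
subspaces of every even dimension
-/

namespace Cfsg.Agent.Lib.Helper50.Nd

open Module Cfsg.Agent.Lib.Helper98.Elus Cfsg.Agent.Lib.Helper98.Sy

universe u
variable {F : Type u} [Field F] {V : Type u} [AddCommGroup V] [Module F V]

/-- the plane spanned by a hyperbolic pair -/
theorem nonDeg_span_pair {B : LinearMap.BilinForm F V} (hA : B.IsAlt) (u v : V)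
    (huv : B u v ≠ 0) :
    NonDeg B (Submodule.span F {u, v}) ∧ finrank F ↥(Submodule.span F {u, v}) = 2 := by
  have huu : B u u = 0 := hA u
  have hvv : B v v = 0 := hA v
  have hvu : B v u ≠ 0 := by
    rw [alt_swap hA]
    exact neg_ne_zero.mpr huv
  have hli : LinearIndependent F ![u, v] := by
    rw [LinearIndependent.pair_iff]
    intro s t hst
    have h1 := congrArg (fun w => B u w) hst
    simp only [map_add, map_smul, huu, smul_eq_mul, mul_zero, zero_add, map_zero] at h1
    have ht : t = 0 := by
      rcases mul_eq_zero.mp h1 with h | h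
      · exact h
      · exact absurd h huv
    have h2 := congrArg (fun w => B v w) hst
    simp only [map_add, map_smul, hvv, smul_eq_mul, mul_zero, add_zero, map_zero] at h2
    have hs : s = 0 := by
      rcases mul_eq_zero.mp h2 with h | h
      · exact h
      · exact absurd h hvu
    exact ⟨hs, ht⟩
  have hrange : Set.range ![u, v] = {u, v} := by
    ext x
    simp only [Matrix.range_cons, Matrix.range_empty, Set.union_empty, Set.mem_union,
      Set.mem_singleton_iff, Set.mem_insert_iff]
  constructor
  · intro w hw hw'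
    obtain ⟨a, b, rfl⟩ := Submodule.mem_span_pair.mp hw
    have h1 := hw' u (Submodule.subset_span (by simp))
    have h2 := hw' v (Submodule.subset_span (by simp))
    simp only [LinearMap.add_apply, LinearMap.smul_apply, map_add, map_smul, huu, hvv, smul_eq_mul,
      mul_zero, zero_add, add_zero] at h1 h2
    have hb : b = 0 := by
      rcases mul_eq_zero.mp h1 with h | h
      · exact h
      · exact absurd h hvu
    have ha : a = 0 := by
      rcases mul_eq_zero.mp h2 with h | h
      · exact h
      · exact absurd h huv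
    rw [ha, hb, zero_smul, zero_smul, add_zero]
  · rw [← hrange, finrank_span_eq_card hli]
    simp

/-- the span of `v` and `g v` is invariant when `g (g v)` is a multiple of `v` -/
theorem inv_span_pair (g : V →ₗ[F] V) (v : V) (z : F) (hgv : g (g v) = z • v) :
    Inv g (Submodule.span F {v, g v}) := by
  intro w hw
  obtain ⟨a, b, rfl⟩ := Submodule.mem_span_pair.mp hw
  rw [map_add, map_smul, map_smul, hgv, Submodule.mem_span_pair]
  exact ⟨b * z, a, by rw [mul_smul]; abel⟩

variable [FiniteDimensional F V]

/-- an invariant nondegenerate plane inside a nonzero invariant nondegenerate subspace -/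
theorem exists_inv_plane (h2 : (2 : F) ≠ 0) {B : LinearMap.BilinForm F V} (hA : B.IsAlt)
    (g : V →ₗ[F] V) (z : F) (hz : z = 1 ∨ z = -1) (hg : g ^ 2 = z • 1) (hiso : Iso B g)
    (U : Submodule F V) (hUinv : Inv g U) (hU : NonDeg B U) (hne : U ≠ ⊥) :
    ∃ H : Submodule F V, H ≤ U ∧ Inv g H ∧ NonDeg B H ∧ finrank F H = 2 := by
  have hgg : ∀ v, g (g v) = z • v := by
    intro v
    have := congrArg (fun f : V →ₗ[F] V => f v) hg
    simpa [pow_two, Module.End.mul_apply] using this
  rcases hz with rfl | rfl
  · -- `g² = 1`: eigenspaces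
    have hg1 : g ^ 2 = 1 := by rw [hg, one_smul]
    have h2' : ((2 : ℕ) : F) ≠ 0 := by exact_mod_cast h2
    obtain ⟨hP0, hP1⟩ := nonDeg_inf_parts hA 2 h2' g hg1 hiso U hU hUinv
    obtain ⟨u, hu, hu0⟩ := Submodule.exists_mem_ne_zero_of_ne_bot hne
    have hgu : g (g u) = u := by rw [hgg, one_smul]
    have ha : u + g u ∈ U ⊓ V0 g := by
      refine Submodule.mem_inf.mpr ⟨Submodule.add_mem _ hu (hUinv u hu), ?_⟩
      rw [mem_V0, map_add, hgu, add_comm]
    have hb : u - g u ∈ U ⊓ V1 2 g := by
      refine Submodule.mem_inf.mpr ⟨Submodule.sub_mem _ hu (hUinv u hu), ?_⟩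
      rw [mem_V1, gsum_apply]
      simp only [Finset.sum_range_succ, Finset.sum_range_zero, pow_zero, pow_one, zero_add,
        Module.End.one_apply]
      rw [map_sub, hgu]
      abel
    have hne' : U ⊓ V0 g ≠ ⊥ ∨ U ⊓ V1 2 g ≠ ⊥ := by
      by_contra hcon
      push Not at hcon
      obtain ⟨h0, h1⟩ := hcon
      rw [h0, Submodule.mem_bot] at ha
      rw [h1, Submodule.mem_bot] at hb
      have : (2 : F) • u = 0 := by
        rw [two_smul]
        calc u + u = (u + g u) + (u - g u) := by abel
          _ = 0 := by rw [ha, hb, add_zero]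
      rcases smul_eq_zero.mp this with h | h
      · exact h2 h
      · exact hu0 h
    rcases hne' with h0 | h1
    · obtain ⟨H, hHle, hH, hHd⟩ := exists_plane hA _ hP0 h0
      refine ⟨H, le_trans hHle inf_le_left, ?_, hH, hHd⟩
      intro v hv
      have : g v = v := (mem_V0 g v).mp (Submodule.mem_inf.mp (hHle hv)).2
      rw [this]
      exact hv
    · obtain ⟨H, hHle, hH, hHd⟩ := exists_plane hA _ hP1 h1
      refine ⟨H, le_trans hHle inf_le_left, ?_, hH, hHd⟩
      intro v hv
      have hv1 := (mem_V1 2 g v).mp (Submodule.mem_inf.mp (hHle hv)).2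
      rw [gsum_apply] at hv1
      simp only [Finset.sum_range_succ, Finset.sum_range_zero, pow_zero, pow_one, zero_add,
        Module.End.one_apply] at hv1
      have : g v = -v := by
        rw [eq_neg_iff_add_eq_zero, add_comm]
        exact hv1
      rw [this]
      exact Submodule.neg_mem _ hv
  · -- `g² = -1`: a vector with `B v (g v) ≠ 0`
    have hex : ∃ v ∈ U, B v (g v) ≠ 0 := by
      by_contra hcon
      push Not at hcon
      obtain ⟨u, hu, hu0⟩ := Submodule.exists_mem_ne_zero_of_ne_bot hne
      apply hu0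
      apply hU u hu
      intro w hw
      -- `w = g (-(g w))`
      have hw' : w = g (-(g w)) := by
        rw [map_neg, hgg, neg_smul, one_smul, neg_neg]
      have hgw : -(g w) ∈ U := Submodule.neg_mem _ (hUinv w hw)
      set w' := -(g w) with hw'def
      rw [hw']
      -- polarisation of the symmetric form `B v (g w)`
      have hs : B w' (g u) = B u (g w') := by
        have h1 := hiso w' (g u)
        rw [hgg, neg_smul, one_smul, map_neg] at h1
        rw [← h1, alt_swap hA u (g w')]
      have h1 := hcon (u + w') (Submodule.add_mem _ hu hgw)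
      simp only [map_add, LinearMap.add_apply] at h1
      rw [hcon u hu, hcon w' hgw, zero_add, add_zero, hs] at h1
      have : (2 : F) * B u (g w') = 0 := by rw [two_mul]; exact h1
      rcases mul_eq_zero.mp this with h | h
      · exact absurd h h2
      · exact h
    obtain ⟨v, hv, hvg⟩ := hex
    obtain ⟨hnd, hfr⟩ := nonDeg_span_pair hA v (g v) hvg
    refine ⟨Submodule.span F {v, g v}, ?_, inv_span_pair g v (-1) (hgg v), hnd, hfr⟩
    apply Submodule.span_le.mpr
    rintro x (rfl | rfl)
    · exact hv
    · exact hUinv _ hv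

/-- **K-Nd-H.** -/
theorem exists_inv_nonDeg_invol (h2 : (2 : F) ≠ 0)
    {B : LinearMap.BilinForm F V} (hA : B.IsAlt) (hV : NonDeg B ⊤) (g : V →ₗ[F] V) (z : F)
    (hz : z = 1 ∨ z = -1) (hg : g ^ 2 = z • 1) (hiso : Iso B g) (d m : ℕ)
    (hd : finrank F V = 2 * d) (hme : Even m) (hm : m ≤ 2 * d) :
    ∃ W : Submodule F V, Inv g W ∧ NonDeg B W ∧ finrank F W = m := by
  have hg4 : g ^ 4 = 1 := by
    have : g ^ 4 = (g ^ 2) ^ 2 := by rw [← pow_mul]
    rw [this, hg, smul_pow, one_pow]
    rcases hz with rfl | rfl
    · simp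
    · simp
  have key : ∀ s : ℕ, 2 * s ≤ 2 * d →
      ∃ W : Submodule F V, Inv g W ∧ NonDeg B W ∧ finrank F W = 2 * s := by
    intro s
    induction s with
    | zero =>
      intro _
      exact ⟨⊥, inv_bot g, nonDeg_bot hA, by simp⟩
    | succ s ih =>
      intro hs
      obtain ⟨W, hWinv, hW, hWd⟩ := ih (by omega)
      obtain ⟨h1, h2', h3, h4⟩ := compl_props hA W ⊤ hW le_top hV
      rw [finrank_top, hd, hWd] at h4
      have hne : B.orthogonal W ⊓ ⊤ ≠ ⊥ := by
        intro h
        rw [h, finrank_bot] at h4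
        omega
      have hinv : Inv g (B.orthogonal W ⊓ ⊤) := by
        intro v hv
        exact Submodule.mem_inf.mpr
          ⟨inv_orth 4 (by norm_num) g hg4 hiso W hWinv v (Submodule.mem_inf.mp hv).1,
            Submodule.mem_top⟩
      obtain ⟨H, hHle, hHinv, hH, hHd⟩ := exists_inv_plane h2 hA g z hz hg hiso _ hinv h3 hne
      have hort : Ort B W H := by
        intro a ha b hb
        exact LinearMap.BilinForm.mem_orthogonal_iff.mp (Submodule.mem_inf.mp (hHle hb)).1 a ha
      refine ⟨W ⊔ H, hWinv.sup hHinv, (nonDeg_sup hA W H hW hH hort).1, ?_⟩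
      rw [finrank_sup_of_ort hA W H hW hH hort, hWd, hHd]
      ring
  obtain ⟨s, rfl⟩ := hme
  obtain ⟨W, h1, h2', h3⟩ := key s (by omega)
  exact ⟨W, h1, h2', by rw [h3]; ring⟩

end Cfsg.Agent.Lib.Helper50.Nd
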