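import Cfsg.Agent.Lib.Helper50.Siegel

set_option autoImplicit false

/-! The group generated by the long-root Siegel elements is transitive (up to sign) on the
vectors of a given non-zero norm, and contains `Ω` (odd characteristic, dimension at least 5). -/

namespace Cfsg.Agent.Lib.Helper50

open Matrix Module QuadraticMap Cfsg.Agent.Lib.Helper19

open scoped commutatorElement

variable {F : Type*} [Field F] [Fintype F] {ι : Type} [Fintype ι] [DecidableEq ι]

/-- a vector of prescribed norm orthogonal to a non-singular vector and a hyperbolic pair -/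
theorem exists_perp3_repr (h2 : (2 : F) ≠ 0) (Q : QuadraticForm F (ι → F))
    (hQ : (QuadraticMap.polarBilin Q).Nondegenerate) (hn : 5 ≤ Fintype.card ι)
    (u e f : ι → F) (hu : Q u ≠ 0) (hQe : Q e = 0) (hQf : Q f = 0) (hef : polar (⇑Q) e f = 1)
    (hue : polar (⇑Q) u e = 0) (huf : polar (⇑Q) u f = 0) (c : F) (hc : c ≠ 0) :
    ∃ z : ι → F, Q z = c ∧ polar (⇑Q) u z = 0 ∧ polar (⇑Q) e z = 0 ∧ polar (⇑Q) f z = 0 := by
  have h2u : 2 * Q u ≠ 0 := mul_ne_zero h2 hu
  have huu : polar (⇑Q) u u = 2 * Q u := by rw [polar_self]; simp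
  have hee : polar (⇑Q) e e = 0 := by rw [polar_self, hQe]; simp
  have hff : polar (⇑Q) f f = 0 := by rw [polar_self, hQf]; simp
  have hfe : polar (⇑Q) f e = 1 := by rw [polar_comm]; exact hef
  have hfu : polar (⇑Q) f u = 0 := by rw [polar_comm]; exact huf
  have heu : polar (⇑Q) e u = 0 := by rw [polar_comm]; exact hue
  set N := Submodule.span F (Set.range ![u, e, f]) with hN
  have huN : u ∈ N := Submodule.subset_span ⟨0, rfl⟩
  have heN : e ∈ N := Submodule.subset_span ⟨1, rfl⟩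
  have hfN : f ∈ N := Submodule.subset_span ⟨2, rfl⟩
  have hsolve : ∀ a b d : F, polar (⇑Q) u (a • u + b • e + d • f) = 0 →
      polar (⇑Q) e (a • u + b • e + d • f) = 0 → polar (⇑Q) f (a • u + b • e + d • f) = 0 →
      a = 0 ∧ b = 0 ∧ d = 0 := by
    intro a b d h1 h3 h4
    simp only [polar_add_right, polar_smul_right, huu, hue, huf, heu, hee, hef, hfu, hfe, hff,
      smul_eq_mul, mul_zero, mul_one, add_zero, zero_add] at h1 h3 h4
    refine ⟨?_, h4, h3⟩
    rcases mul_eq_zero.mp h1 with h | h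
    · exact h
    · exact absurd h h2u
  have hli : LinearIndependent F ![u, e, f] := by
    rw [Fintype.linearIndependent_iff]
    intro g hg
    have hg' : g 0 • u + g 1 • e + g 2 • f = 0 := by
      rw [← hg, Fin.sum_univ_three]
      rfl
    obtain ⟨h0, h1, h2'⟩ := hsolve (g 0) (g 1) (g 2) (by rw [hg', polar_zero_right])
      (by rw [hg', polar_zero_right]) (by rw [hg', polar_zero_right])
    intro i
    fin_cases i
    · exact h0
    · exact h1
    · exact h2'
  have hNd : finrank F N = 3 := by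
    rw [hN, finrank_span_eq_card hli]
    simp
  have hNnd : N ⊓ LinearMap.BilinForm.orthogonal (polarBilin Q) N = ⊥ := by
    rw [Submodule.eq_bot_iff]
    rintro v ⟨hv1, hv2⟩
    rw [SetLike.mem_coe, hN, Submodule.mem_span_range_iff_exists_fun] at hv1
    obtain ⟨g, rfl⟩ := hv1
    rw [SetLike.mem_coe, LinearMap.BilinForm.mem_orthogonal_iff] at hv2
    have hg' : ∑ i, g i • ![u, e, f] i = g 0 • u + g 1 • e + g 2 • f := by
      rw [Fin.sum_univ_three]
      rfl
    rw [hg'] at hv2 ⊢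
    obtain ⟨h0, h1, h2'⟩ := hsolve (g 0) (g 1) (g 2) (hv2 u huN) (hv2 e heN) (hv2 f hfN)
    rw [h0, h1, h2']
    simp
  set M := LinearMap.BilinForm.orthogonal (polarBilin Q) N with hM
  have hrefl : (polarBilin Q).IsRefl := (TF.polarBilin_isSymm Q).isRefl
  have hMnd : M ⊓ LinearMap.BilinForm.orthogonal (polarBilin Q) M = ⊥ := by
    rw [hM, LinearMap.BilinForm.orthogonal_orthogonal hQ hrefl N, inf_comm]
    exact hNnd
  have hMd := LinearMap.BilinForm.finrank_orthogonal hQ N
  rw [Module.finrank_fintype_fun_eq_card, ← hM, hNd] at hMd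
  obtain ⟨z, hzM, hQz⟩ := exists_repr_in Q M hMnd (by omega) c hc
  rw [hM, LinearMap.BilinForm.mem_orthogonal_iff] at hzM
  exact ⟨z, hQz, hzM u huN, hzM e heN, hzM f hfN⟩

/-- a vector of prescribed norm orthogonal to two orthogonal non-singular vectors -/
theorem exists_perp2_repr (h2 : (2 : F) ≠ 0) (Q : QuadraticForm F (ι → F))
    (hQ : (QuadraticMap.polarBilin Q).Nondegenerate) (hn : 4 ≤ Fintype.card ι)
    (u z : ι → F) (hu : Q u ≠ 0) (hz : Q z ≠ 0) (huz : polar (⇑Q) u z = 0) (c : F) (hc : c ≠ 0) :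
    ∃ y : ι → F, Q y = c ∧ polar (⇑Q) u y = 0 ∧ polar (⇑Q) z y = 0 := by
  have h4 : (4 : F) ≠ 0 := by
    intro h4
    apply h2
    have : (4 : F) = 2 * 2 := by norm_num
    rw [this] at h4
    exact mul_self_eq_zero.mp h4
  obtain ⟨hNnd, hNd⟩ := pair_span_nondeg Q u z (by
    rw [huz]
    simp only [ne_eq, OfNat.ofNat_ne_zero, not_false_eq_true, zero_pow, sub_zero]
    exact mul_ne_zero (mul_ne_zero h4 hu) hz)
  set N := Submodule.span F {u, z} with hN
  set M := LinearMap.BilinForm.orthogonal (polarBilin Q) N with hM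
  have hrefl : (polarBilin Q).IsRefl := (TF.polarBilin_isSymm Q).isRefl
  have hMnd : M ⊓ LinearMap.BilinForm.orthogonal (polarBilin Q) M = ⊥ := by
    rw [hM, LinearMap.BilinForm.orthogonal_orthogonal hQ hrefl N, inf_comm]
    exact hNnd
  have hMd := LinearMap.BilinForm.finrank_orthogonal hQ N
  rw [Module.finrank_fintype_fun_eq_card, ← hM, hNd] at hMd
  obtain ⟨y, hyM, hQy⟩ := exists_repr_in Q M hMnd (by omega) c hc
  rw [hM, LinearMap.BilinForm.mem_orthogonal_iff] at hyM
  exact ⟨y, hQy, hyM u (Submodule.subset_span (by simp)), hyM z (Submodule.subset_span (by simp))⟩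

/-- moving a non-singular vector by a singular vector orthogonal to it -/
theorem siegel_move_singular (h2 : (2 : F) ≠ 0) (Q : QuadraticForm F (ι → F))
    (hQ : (QuadraticMap.polarBilin Q).Nondegenerate) (hn : 5 ≤ Fintype.card ι)
    (x d : ι → F) (hx : Q x ≠ 0) (hd : Q d = 0) (hxd : polar (⇑Q) x d = 0) :
    ∃ s ∈ siegelGroup Q, ((s : GL ι F) : Matrix ι ι F) *ᵥ x = x + d := by
  by_cases hd0 : d = 0
  · exact ⟨1, Subgroup.one_mem _, by rw [hd0]; simp⟩
  obtain ⟨f, hQf, hdf, hxf⟩ := exists_partner_perp h2 Q hQ x d hx hd hd0 hxd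
  obtain ⟨y, hQy, hxy, hdy, hfy⟩ := exists_perp3_repr h2 Q hQ hn x d f hx hd hQf hdf hxd hxf
    (-(Q x)) (neg_ne_zero.mpr hx)
  have h2x : 2 * Q x ≠ 0 := mul_ne_zero h2 hx
  set u := (2 * Q x)⁻¹ • (x + y) with hu
  have hQu : Q u = 0 := by
    have h := QuadraticMap.map_add (⇑Q) x y
    rw [hu, QuadraticMap.map_smul, h, hQy, hxy]
    simp
  have hud : polar (⇑Q) u d = 0 := by
    rw [hu, polar_smul_left, polar_add_left, hxd, polar_comm (⇑Q) y d, hdy]
    simp
  have hux : polar (⇑Q) u x = 1 := by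
    rw [hu, polar_smul_left, polar_add_left, polar_self, polar_comm (⇑Q) y x, hxy]
    simp only [smul_eq_mul, nsmul_eq_mul, Nat.cast_ofNat, add_zero]
    field_simp
  refine ⟨siegelO Q u d hQu hd hud 1, siegelO_mem Q u d hQu hd hud 1, ?_⟩
  rw [siegelO_val, siegelMatrix_mulVec, hux, polar_comm (⇑Q) d x, hxd]
  simp

/-- transitivity up to sign of the Siegel group on vectors of a given non-zero norm -/
theorem siegel_move (h2 : (2 : F) ≠ 0) (Q : QuadraticForm F (ι → F))
    (hQ : (QuadraticMap.polarBilin Q).Nondegenerate) (hn : 5 ≤ Fintype.card ι)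
    (x y : ι → F) (hx : Q x ≠ 0) (hxy : Q x = Q y) :
    (∃ s ∈ siegelGroup Q, ((s : GL ι F) : Matrix ι ι F) *ᵥ x = y) ∨ y = -x := by
  have h2x : 2 * Q x ≠ 0 := mul_ne_zero h2 hx
  have hxx : polar (⇑Q) x x = 2 * Q x := by rw [polar_self]; simp
  set d := y - x with hd
  have hyd : y = x + d := by rw [hd]; abel
  have hQd : Q d + polar (⇑Q) x d = 0 := by
    have h := QuadraticMap.map_add (⇑Q) x d
    rw [← hyd, ← hxy] at h
    linear_combination -h
  by_cases hd0 : Q d = 0
  · left
    rw [hd0, zero_add] at hQd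
    obtain ⟨s, hs, hsx⟩ := siegel_move_singular h2 Q hQ hn x d hx hd0 hQd
    exact ⟨s, hs, by rw [hsx, ← hyd]⟩
  set t := polar (⇑Q) x d / (2 * Q x) with ht
  set d' := d - t • x with hd'
  have hdd' : d = d' + t • x := by rw [hd']; abel
  have hxd' : polar (⇑Q) x d' = 0 := by
    rw [hd', polar_sub_right, polar_smul_right, hxx, ht, smul_eq_mul]
    field_simp
    ring
  by_cases hd'0 : d' = 0
  · right
    rw [hd'0, zero_add] at hdd'
    rw [hyd, hdd']
    have hQd2 : Q d = t * t * Q x := by rw [hdd', QuadraticMap.map_smul]; rfl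
    have hpd : polar (⇑Q) x d = 2 * t * Q x := by
      rw [hdd', polar_smul_right, hxx, smul_eq_mul]; ring
    rw [hQd2, hpd] at hQd
    have h3 : t * (t + 2) = 0 := by
      have : Q x * (t * (t + 2)) = 0 := by linear_combination hQd
      exact (mul_eq_zero.mp this).resolve_left hx
    rcases mul_eq_zero.mp h3 with h | h
    · exfalso
      apply hd0
      rw [hQd2, h]; ring
    · have : t = -2 := by linear_combination h
      rw [this]
      module
  left
  -- a singular vector `d₁ ⊥ x` with `polar d d₁ = Q d`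
  obtain ⟨d₁, hQd₁, hxd₁, hdd₁⟩ : ∃ d₁ : ι → F, Q d₁ = 0 ∧ polar (⇑Q) x d₁ = 0 ∧
      polar (⇑Q) d d₁ = Q d := by
    by_cases hQd' : Q d' = 0
    · obtain ⟨f, hQf, hd'f, hxf⟩ := exists_partner_perp h2 Q hQ x d' hx hQd' hd'0 hxd'
      refine ⟨Q d • f, ?_, ?_, ?_⟩
      · rw [QuadraticMap.map_smul, hQf, smul_zero]
      · rw [polar_smul_right, hxf, smul_zero]
      · rw [polar_smul_right, hdd', polar_add_left, polar_smul_left, hd'f, hxf]
        simp
    · obtain ⟨y'', hQy'', hxy'', hd'y''⟩ := exists_perp2_repr h2 Q hQ (by omega) x d' hx hQd' hxd'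
        (-(Q d')) (neg_ne_zero.mpr hQd')
      have h2d' : 2 * Q d' ≠ 0 := mul_ne_zero h2 hQd'
      refine ⟨(Q d / (2 * Q d')) • (d' + y''), ?_, ?_, ?_⟩
      · have h := QuadraticMap.map_add (⇑Q) d' y''
        rw [QuadraticMap.map_smul, h, hQy'', hd'y'']
        simp
      · rw [polar_smul_right, polar_add_right, hxd', hxy'']
        simp
      · rw [polar_smul_right, hdd', polar_add_left, polar_smul_left, polar_add_right,
          polar_add_right, polar_self, hd'y'', hxd', hxy'']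
        simp only [smul_eq_mul, nsmul_eq_mul, Nat.cast_ofNat, add_zero, mul_zero]
        field_simp
  obtain ⟨s₁, hs₁, hs₁x⟩ := siegel_move_singular h2 Q hQ hn x d₁ hx hQd₁ hxd₁
  have hQz : Q (x + d₁) = Q x := by
    have h := QuadraticMap.map_add (⇑Q) x d₁
    rw [h, hQd₁, hxd₁]; simp
  have hQdd : Q (d - d₁) = 0 := by
    have h := QuadraticMap.map_add (⇑Q) d (-d₁)
    rw [← sub_eq_add_neg] at h
    rw [h, QuadraticMap.map_neg, hQd₁, polar_neg_right, hdd₁]; ring
  have hzd : polar (⇑Q) (x + d₁) (d - d₁) = 0 := by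
    have h := QuadraticMap.map_add (⇑Q) (x + d₁) (d - d₁)
    have e : x + d₁ + (d - d₁) = y := by rw [hyd]; abel
    rw [e, hQz, hQdd, ← hxy] at h
    linear_combination -h
  obtain ⟨s₂, hs₂, hs₂z⟩ := siegel_move_singular h2 Q hQ hn (x + d₁) (d - d₁)
    (by rw [hQz]; exact hx) hQdd hzd
  refine ⟨s₂ * s₁, Subgroup.mul_mem _ hs₂ hs₁, ?_⟩
  rw [Subgroup.coe_mul, Units.val_mul, ← Matrix.mulVec_mulVec, hs₁x, hs₂z, hyd]
  abel

/-- products of two reflections in vectors of equal norm lie in the Siegel group -/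
theorem reflO_pair_mem_siegel (h2 : (2 : F) ≠ 0) (Q : QuadraticForm F (ι → F))
    (hQ : (QuadraticMap.polarBilin Q).Nondegenerate) (hn : 5 ≤ Fintype.card ι)
    (x y : ι → F) (hx : Q x ≠ 0) (hxy : Q x = Q y) :
    reflO Q x * reflO Q y ∈ siegelGroup Q := by
  rcases siegel_move h2 Q hQ hn x y hx hxy with ⟨s, hs, hsx⟩ | hneg
  · have h1 := conj_reflO Q s x hx
    rw [hsx] at h1
    have h3 : reflO Q y = s * reflO Q x * s⁻¹ := by
      rw [h1, mul_assoc, mul_inv_cancel, mul_one]
    have h4 : reflO Q x * reflO Q y = (reflO Q x * s * (reflO Q x)⁻¹) * s⁻¹ := by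
      rw [h3, reflO_inv]; group
    rw [h4]
    exact Subgroup.mul_mem _ (siegelGroup_conj Q _ s hs) (Subgroup.inv_mem _ hs)
  · have : y = (-1 : F) • x := by rw [hneg]; simp
    rw [this, reflO_smul Q x hx (-1) (by simp), reflO_mul_self]
    exact Subgroup.one_mem _

/-- a normal subgroup containing the commutators of a generating set contains the commutator
subgroup -/
theorem commutator_le_of_generators {G : Type*} [Group G] (S : Subgroup G) [hS : S.Normal]
    (k : Set G) (hk : Subgroup.closure k = ⊤) (hcomm : ∀ x ∈ k, ∀ y ∈ k, ⁅x, y⁆ ∈ S) :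
    commutator G ≤ S := by
  have h1 : ∀ g : G, ∀ y ∈ k, ⁅g, y⁆ ∈ S := by
    intro g
    have hg : g ∈ Subgroup.closure k := by rw [hk]; trivial
    induction hg using Subgroup.closure_induction with
    | mem x hx => exact hcomm x hx
    | one => intro y _; simp
    | mul a b _ _ ha hb =>
      intro y hy
      have e : ⁅a * b, y⁆ = (a * ⁅b, y⁆ * a⁻¹) * ⁅a, y⁆ := by
        simp only [commutatorElement_def]; group
      rw [e]
      exact Subgroup.mul_mem _ (hS.conj_mem _ (hb y hy) a) (ha y hy)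
    | inv a _ ha =>
      intro y hy
      have e : ⁅a⁻¹, y⁆ = a⁻¹ * (⁅a, y⁆)⁻¹ * a⁻¹⁻¹ := by
        simp only [commutatorElement_def]; group
      rw [e]
      exact hS.conj_mem _ (Subgroup.inv_mem _ (ha y hy)) a⁻¹
  have h3 : ∀ g h : G, ⁅g, h⁆ ∈ S := by
    intro g h
    have hh : h ∈ Subgroup.closure k := by rw [hk]; trivial
    induction hh using Subgroup.closure_induction with
    | mem y hy => exact h1 g y hy
    | one => simp
    | mul a b _ _ ha hb =>
      have e : ⁅g, a * b⁆ = ⁅g, a⁆ * (a * ⁅g, b⁆ * a⁻¹) := by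
        simp only [commutatorElement_def]; group
      rw [e]
      exact Subgroup.mul_mem _ ha (hS.conj_mem _ hb a)
    | inv a _ ha =>
      have e : ⁅g, a⁻¹⁆ = a⁻¹ * (⁅g, a⁆)⁻¹ * a⁻¹⁻¹ := by
        simp only [commutatorElement_def]; group
      rw [e]
      exact hS.conj_mem _ (Subgroup.inv_mem _ ha) a⁻¹
  rw [commutator_eq_closure, Subgroup.closure_le]
  rintro x ⟨g, h, rfl⟩
  exact h3 g h

/-- `Ω` is contained in the group generated by the long-root Siegel elements -/
theorem commutator_le_siegelGroup (h2 : (2 : F) ≠ 0) (Q : QuadraticForm F (ι → F))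
    (hQ : (QuadraticMap.polarBilin Q).Nondegenerate) (hn : 5 ≤ Fintype.card ι) :
    commutator ↥(Cfsg.isometryGroup F (⇑Q)) ≤ siegelGroup Q := by
  apply commutator_le_of_generators (siegelGroup Q)
    {g | ∃ v : ι → F, Q v ≠ 0 ∧ g = reflO Q v}
  · rw [eq_top_iff]
    intro g _
    obtain ⟨l, hl, hA⟩ := isometry_eq_prod_reflectionMatrix h2 Q hQ _ (O_isometry (⇑Q) g)
    have hgp : g = (l.map (reflO Q)).prod := by
      apply O_ext
      rw [hA, reflO_prod_val Q l hl]
    rw [hgp]
    apply Subgroup.list_prod_mem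
    intro x hx
    rw [List.mem_map] at hx
    obtain ⟨v, hv, rfl⟩ := hx
    exact Subgroup.subset_closure ⟨v, hl v hv, rfl⟩
  · rintro _ ⟨u, hu, rfl⟩ _ ⟨w, hw, rfl⟩
    have e : ⁅reflO Q u, reflO Q w⁆ = reflO Q u * (reflO Q w * reflO Q u * reflO Q w) := by
      rw [commutatorElement_def, reflO_inv, reflO_inv]; group
    rw [e, conj_reflO_self Q w u hu]
    apply reflO_pair_mem_siegel h2 Q hQ hn u _ hu
    rw [O_isometry (⇑Q) (reflO Q w) u]

end Cfsg.Agent.Lib.Helper50
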