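import Cfsg.Agent.Lib.Helper50.GeoBridge
import Cfsg.Agent.Lib.Helper50.SiegelTrans

set_option autoImplicit false

/-! Tools for showing that stabilisers in `Ω` are not maximal: the two classes of maximal totally
singular subspaces, Siegel elements in `Ω`, and elements of `Ω` moving a given subspace. -/

namespace Cfsg.Agent.Lib.Helper50

open Matrix Module QuadraticMap Cfsg.Agent.Lib.Helper19

variable {F : Type*} [Field F] [Fintype F] {ι : Type} [Fintype ι] [DecidableEq ι]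

/-- every isometry is a product of reflection matrices -/
theorem exists_refl_list (Q : QuadraticForm F (ι → F))
    (hQ : (QuadraticMap.polarBilin Q).Nondegenerate)
    (h24 : Fintype.card F ≠ 2 ∨ Fintype.card ι ≠ 4) (g : ↥(Cfsg.isometryGroup F (⇑Q))) :
    ∃ l : List (ι → F), (∀ v ∈ l, Q v ≠ 0) ∧
      ((g : GL ι F) : Matrix ι ι F) = (l.map (fun v => Cfsg.reflectionMatrix (⇑Q) v)).prod := by
  have hgen := Cfsg.Agent.Lib.Helper43.reflGenerated_finite Q hQ h24
  obtain ⟨l, hl, hgl⟩ := Cfsg.Agent.Lib.Helper43.exists_list_reflO Q hgen g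
  refine ⟨l, hl, ?_⟩
  rw [hgl, Cfsg.Agent.Lib.Helper43.val_prod_reflO Q l hl]

/-- elements of `Ω` preserve the class of a maximal totally singular subspace -/
theorem omega_class_even (Q : QuadraticForm F (ι → F))
    (hQ : (QuadraticMap.polarBilin Q).Nondegenerate)
    (h24 : Fintype.card F ≠ 2 ∨ Fintype.card ι ≠ 4) (m : ℕ) (hV : Fintype.card ι = 2 * m)
    (Y : Submodule F (ι → F)) (hY : ∀ y ∈ Y, Q y = 0) (hYd : finrank F Y = m)
    (g : ↥(Cfsg.isometryGroup F (⇑Q))) (hg : g ∈ Cfsg.Omega F (⇑Q)) :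
    Even (m - finrank F ↥(Y ⊓ omap (⇑Q) g Y)) := by
  obtain ⟨l, hl, hgl⟩ := exists_refl_list Q hQ h24 g
  rw [class_parity_iff Q hQ m hV Y hY hYd g l hl hgl]
  exact ((omega_criterion Q hQ h24 g l hl hgl).mp hg).1

/-- in characteristic two an isometry stabilising a maximal totally singular subspace of half the
dimension lies in `Ω` -/
theorem mem_Omega_of_stab_char_two (h2 : (2 : F) = 0) (Q : QuadraticForm F (ι → F))
    (hQ : (QuadraticMap.polarBilin Q).Nondegenerate)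
    (h24 : Fintype.card F ≠ 2 ∨ Fintype.card ι ≠ 4) (m : ℕ) (hV : Fintype.card ι = 2 * m)
    (Y : Submodule F (ι → F)) (hY : ∀ y ∈ Y, Q y = 0) (hYd : finrank F Y = m)
    (g : ↥(Cfsg.isometryGroup F (⇑Q))) (hgY : omap (⇑Q) g Y = Y) : g ∈ Cfsg.Omega F (⇑Q) := by
  obtain ⟨l, hl, hgl⟩ := exists_refl_list Q hQ h24 g
  rw [omega_criterion Q hQ h24 g l hl hgl]
  refine ⟨?_, fun h => absurd h2 h⟩
  rw [← class_parity_iff Q hQ m hV Y hY hYd g l hl hgl, hgY, inf_idem, hYd]
  simp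

/-- Siegel elements lie in `Ω` in odd characteristic -/
theorem siegelO_mem_Omega_odd (h2 : (2 : F) ≠ 0) (Q : QuadraticForm F (ι → F))
    (hQ : (QuadraticMap.polarBilin Q).Nondegenerate)
    (h24 : Fintype.card F ≠ 2 ∨ Fintype.card ι ≠ 4) (u v : ι → F) (hu : Q u = 0) (hv : Q v = 0)
    (huv : polar (⇑Q) u v = 0) (c : F) : siegelO Q u v hu hv huv c ∈ Cfsg.Omega F (⇑Q) := by
  have e : siegelO Q u v hu hv huv c =
      siegelO Q u v hu hv huv (c / 2) * siegelO Q u v hu hv huv (c / 2) := by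
    apply O_ext
    rw [Subgroup.coe_mul, Units.val_mul, siegelO_val, siegelO_val,
      siegel_mul Q u v hu hv huv]
    congr 1
    field_simp
    ring
  rw [e]
  exact mul_self_mem_Omega Q hQ h24 _

theorem siegelO_mulVec (Q : QuadraticForm F (ι → F)) (u v : ι → F) (hu : Q u = 0) (hv : Q v = 0)
    (huv : polar (⇑Q) u v = 0) (c : F) (x : ι → F) :
    (((siegelO Q u v hu hv huv c : ↥(Cfsg.isometryGroup F (⇑Q))) : GL ι F) : Matrix ι ι F) *ᵥ x =
      x + c • (polar (⇑Q) u x • v - polar (⇑Q) v x • u) := by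
  rw [siegelO_val, siegelMatrix_mulVec]

/-- a Siegel element `ρ_{u,v}` with `v` in a totally singular subspace `Y` stabilises `Y` -/
theorem omap_siegelO_of_mem (Q : QuadraticForm F (ι → F)) (u v : ι → F) (hu : Q u = 0)
    (hv : Q v = 0) (huv : polar (⇑Q) u v = 0) (c : F) (Y : Submodule F (ι → F))
    (hY : ∀ y ∈ Y, Q y = 0) (hvY : v ∈ Y) :
    omap (⇑Q) (siegelO Q u v hu hv huv c) Y = Y := by
  apply omap_eq_of_le
  rintro w ⟨z, hz, rfl⟩
  rw [Matrix.mulVecLin_apply, siegelO_mulVec]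
  have hvz : polar (⇑Q) v z = 0 := by
    unfold polar
    rw [hY _ (Y.add_mem hvY hz), hY v hvY, hY z hz]
    ring
  rw [hvz, zero_smul, sub_zero]
  exact Y.add_mem hz (Y.smul_mem _ (Y.smul_mem _ hvY))

/-- a Siegel element `ρ_{u,v}` with `v` in a maximal totally singular subspace lies in `Ω` -/
theorem siegelO_mem_Omega_of_mem (Q : QuadraticForm F (ι → F))
    (hQ : (QuadraticMap.polarBilin Q).Nondegenerate)
    (h24 : Fintype.card F ≠ 2 ∨ Fintype.card ι ≠ 4) (m : ℕ) (hV : Fintype.card ι = 2 * m)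
    (Y : Submodule F (ι → F)) (hY : ∀ y ∈ Y, Q y = 0) (hYd : finrank F Y = m)
    (u v : ι → F) (hu : Q u = 0) (hv : Q v = 0) (huv : polar (⇑Q) u v = 0) (c : F) (hvY : v ∈ Y) :
    siegelO Q u v hu hv huv c ∈ Cfsg.Omega F (⇑Q) := by
  by_cases h2 : (2 : F) = 0
  · exact mem_Omega_of_stab_char_two h2 Q hQ h24 m hV Y hY hYd _
      (omap_siegelO_of_mem Q u v hu hv huv c Y hY hvY)
  · exact siegelO_mem_Omega_odd h2 Q hQ h24 u v hu hv huv c

omit [Fintype F] in
/-- a vector orthogonal to `a` and pairing to one with `b`, for `b` not a multiple of `a` -/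
theorem exists_dual_pair (Q : QuadraticForm F (ι → F))
    (hQ : (QuadraticMap.polarBilin Q).Nondegenerate) (a b : ι → F) (hb : b ≠ 0)
    (hab : ∀ t : F, a ≠ t • b) : ∃ y : ι → F, polar (⇑Q) a y = 0 ∧ polar (⇑Q) b y = 1 := by
  suffices h : ∃ y : ι → F, polar (⇑Q) a y = 0 ∧ polar (⇑Q) b y ≠ 0 by
    obtain ⟨y, h1, h3⟩ := h
    refine ⟨(polar (⇑Q) b y)⁻¹ • y, ?_, ?_⟩
    · rw [polar_smul_right, h1, smul_zero]
    · rw [polar_smul_right, smul_eq_mul, inv_mul_cancel₀ h3]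
  by_contra hcon
  push Not at hcon
  have ha0 : a ≠ 0 := by
    intro ha
    apply hb
    apply hQ.1 b
    intro y
    rw [polarBilin_apply_apply]
    exact hcon y (by rw [ha, polar_zero_left])
  obtain ⟨y₀, hy₀⟩ : ∃ y₀ : ι → F, polar (⇑Q) a y₀ = 1 := by
    have hex : ∃ f' : ι → F, polar (⇑Q) a f' ≠ 0 := by
      by_contra hc
      push Not at hc
      exact ha0 (hQ.1 a (fun w => by rw [polarBilin_apply_apply]; exact hc w))
    obtain ⟨f', hf'⟩ := hex
    exact ⟨(polar (⇑Q) a f')⁻¹ • f', by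
      rw [polar_smul_right, smul_eq_mul, inv_mul_cancel₀ hf']⟩
  set lam := polar (⇑Q) b y₀ with hlam
  have hb' : b = lam • a := by
    rw [← sub_eq_zero]
    apply hQ.1
    intro y
    rw [polarBilin_apply_apply, polar_sub_left, polar_smul_left, smul_eq_mul]
    have h1 : polar (⇑Q) a (y - polar (⇑Q) a y • y₀) = 0 := by
      rw [polar_sub_right, polar_smul_right, hy₀, smul_eq_mul, mul_one, sub_self]
    have h3 := hcon _ h1
    rw [polar_sub_right, polar_smul_right, ← hlam, smul_eq_mul] at h3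
    linear_combination h3
  by_cases hl0 : lam = 0
  · apply hb
    rw [hb', hl0, zero_smul]
  · apply hab lam⁻¹
    rw [hb', smul_smul, inv_mul_cancel₀ hl0, one_smul]

omit [Fintype F] in
/-- a singular vector orthogonal to `r` and pairing to one with the singular vector `w` -/
theorem exists_singular_dual (Q : QuadraticForm F (ι → F))
    (hQ : (QuadraticMap.polarBilin Q).Nondegenerate) (r w : ι → F) (hw : Q w = 0)
    (hrw : polar (⇑Q) r w = 0) (hw0 : w ≠ 0) (hind : ∀ t : F, r ≠ t • w) :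
    ∃ u : ι → F, Q u = 0 ∧ polar (⇑Q) u r = 0 ∧ polar (⇑Q) u w = 1 := by
  obtain ⟨y, hy1, hy2⟩ := exists_dual_pair Q hQ r w hw0 hind
  have hww : polar (⇑Q) w w = 0 := by rw [polar_self, hw]; simp
  refine ⟨y - Q y • w, ?_, ?_, ?_⟩
  · have h := QuadraticMap.map_add (⇑Q) y (-(Q y • w))
    rw [← sub_eq_add_neg] at h
    rw [h, QuadraticMap.map_neg, QuadraticMap.map_smul, hw, polar_neg_right, polar_smul_right,
      polar_comm (⇑Q) y w, hy2]
    simp
  · rw [polar_sub_left, polar_smul_left, polar_comm (⇑Q) y r, hy1, polar_comm (⇑Q) w r, hrw]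
    simp
  · rw [polar_sub_left, polar_smul_left, polar_comm (⇑Q) y w, hy2, hww]
    simp

/-- `Ω` does not stabilise a non-zero totally singular subspace -/
theorem exists_Omega_not_stab (Q : QuadraticForm F (ι → F))
    (hQ : (QuadraticMap.polarBilin Q).Nondegenerate)
    (h24 : Fintype.card F ≠ 2 ∨ Fintype.card ι ≠ 4) (hn : 3 ≤ Fintype.card ι)
    (R : Submodule F (ι → F)) (hR : ∀ y ∈ R, Q y = 0) (hR0 : R ≠ ⊥) :
    ∃ g : ↥(Cfsg.isometryGroup F (⇑Q)), g ∈ Cfsg.Omega F (⇑Q) ∧ omap (⇑Q) g R ≠ R := by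
  obtain ⟨r, hrR, hr0⟩ := (Submodule.ne_bot_iff R).mp hR0
  obtain ⟨u, hQu, hru⟩ := exists_hyperbolic_pair Q (QND_of_nondegenerate Q hQ) r hr0 (hR r hrR)
  have huR : u ∉ R := by
    intro huR
    have h0 : polar (⇑Q) r u = 0 := by
      unfold polar
      rw [hR _ (R.add_mem hrR huR), hR r hrR, hR u huR]
      ring
    rw [h0] at hru
    exact zero_ne_one hru
  have hu0 : u ≠ 0 := fun h => huR (h ▸ R.zero_mem)
  obtain ⟨g, hgΩ, hg⟩ := omega_transitive_singular Q hQ h24 (Submodule.span F {r})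
    (Submodule.span F {u})
    (by rw [finrank_span_singleton hr0]; omega)
    (by rw [finrank_span_singleton hr0, finrank_span_singleton hu0])
    (TF.TS_span_singleton Q r (hR r hrR)) (TF.TS_span_singleton Q u hQu)
  refine ⟨g, hgΩ, ?_⟩
  intro hgR
  apply huR
  rw [← hgR]
  have h1 : Submodule.span F {u} ≤ omap (⇑Q) g R := by
    rw [← hg]
    exact Submodule.map_mono ((Submodule.span_singleton_le_iff_mem r R).mpr hrR)
  exact h1 (Submodule.mem_span_singleton_self u)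

/-- a totally singular subspace lies in a totally singular subspace of any larger dimension that
is attained -/
theorem exists_ts_extension (Q : QuadraticForm F (ι → F))
    (hQ : (QuadraticMap.polarBilin Q).Nondegenerate) (U W : Submodule F (ι → F))
    (hU : ∀ y ∈ U, Q y = 0) (hW : ∀ y ∈ W, Q y = 0) (hle : finrank F W ≤ finrank F U) :
    ∃ R : Submodule F (ι → F), (∀ y ∈ R, Q y = 0) ∧ finrank F R = finrank F U ∧ W ≤ R := by
  obtain ⟨j, hj⟩ := (finrank_le_iff_exists_linearMap (R := F) (M := W) (M' := U)).mp hle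
  set j' : W →ₗ[F] (ι → F) := U.subtype ∘ₗ j with hj'
  have hj'inj : Function.Injective j' := by
    rw [hj']
    exact (Submodule.injective_subtype U).comp hj
  set φ : W ≃ₗ[F] LinearMap.range j' := LinearEquiv.ofInjective j' hj'inj with hφ
  have hrange : LinearMap.range j' ≤ U := by
    rintro _ ⟨w, rfl⟩
    exact (j w).2
  obtain ⟨s, -, hs⟩ := exists_O_of_isometry Q hQ W (LinearMap.range j') φ (fun w => by
    rw [hW w w.2, hU _ (hrange (φ w).2)])
  refine ⟨omap (⇑Q) s⁻¹ U, ?_, ?_, ?_⟩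
  · rintro _ ⟨y, hy, rfl⟩
    rw [Matrix.mulVecLin_apply, O_isometry (⇑Q) s⁻¹ y]
    exact hU y hy
  · have hinj : Function.Injective (Matrix.mulVecLin (((s⁻¹ : ↥(Cfsg.isometryGroup F (⇑Q))) :
        GL ι F) : Matrix ι ι F)) := by
      have : Function.Injective (((s⁻¹ : ↥(Cfsg.isometryGroup F (⇑Q))) : GL ι F) :
          Matrix ι ι F).mulVec :=
        Matrix.mulVec_injective_iff_isUnit.mpr ((s⁻¹ : ↥(Cfsg.isometryGroup F (⇑Q))) :
          GL ι F).isUnit
      exact this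
    exact (LinearEquiv.finrank_eq (Submodule.equivMapOfInjective _ hinj U)).symm
  · rw [← omap_inv (⇑Q) s W _ hs]
    exact Submodule.map_mono hrange

omit [Fintype F] in
/-- general shape of the non-maximality statements for subspace stabilisers -/
theorem nonmax_of_subspace (Q : (ι → F) → F) (W R : Submodule F (ι → F))
    (ha : ∀ g : ↥(Cfsg.isometryGroup F Q), g ∈ Cfsg.Omega F Q → omap Q g W = W → omap Q g R = R)
    (hb : ∃ g : ↥(Cfsg.isometryGroup F Q), g ∈ Cfsg.Omega F Q ∧ omap Q g R = R ∧ omap Q g W ≠ W)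
    (hc : ∃ g : ↥(Cfsg.isometryGroup F Q), g ∈ Cfsg.Omega F Q ∧ omap Q g R ≠ R) :
    ∃ K : Subgroup (GL ι F), Cfsg.Geo.subspaceStabilizer W ⊓ Cfsg.Geo.omegaGL Q < K ∧
      K < Cfsg.Geo.omegaGL Q := by
  refine ⟨Cfsg.Geo.subspaceStabilizer R ⊓ Cfsg.Geo.omegaGL Q, ?_, ?_⟩
  · rw [SetLike.lt_iff_le_and_exists]
    constructor
    · rintro x ⟨hx1, hx2⟩
      refine ⟨?_, hx2⟩
      obtain ⟨h, hΩ⟩ := (mem_omegaGL_iff Q x).mp hx2
      have h1 : omap Q ⟨x, h⟩ W = W := (coe_mem_subspaceStabilizer_iff Q W ⟨x, h⟩).mp hx1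
      exact (coe_mem_subspaceStabilizer_iff Q R ⟨x, h⟩).mpr (ha ⟨x, h⟩ hΩ h1)
    · obtain ⟨g, hgΩ, hgR, hgW⟩ := hb
      refine ⟨(g : GL ι F), ⟨(coe_mem_subspaceStabilizer_iff Q R g).mpr hgR,
        coe_mem_omegaGL Q g hgΩ⟩, ?_⟩
      rintro ⟨h1, -⟩
      exact hgW ((coe_mem_subspaceStabilizer_iff Q W g).mp h1)
  · rw [SetLike.lt_iff_le_and_exists]
    refine ⟨inf_le_right, ?_⟩
    obtain ⟨g, hgΩ, hgR⟩ := hc
    refine ⟨(g : GL ι F), coe_mem_omegaGL Q g hgΩ, ?_⟩
    rintro ⟨h1, -⟩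
    exact hgR ((coe_mem_subspaceStabilizer_iff Q R g).mp h1)

/-- the stabiliser in `Ω⁺` of a totally singular subspace of dimension `m - 1` lies in the
stabiliser of a maximal totally singular subspace -/
theorem nonmax_ts_hyperplane (Q : QuadraticForm F (ι → F))
    (hQ : (QuadraticMap.polarBilin Q).Nondegenerate)
    (h24 : Fintype.card F ≠ 2 ∨ Fintype.card ι ≠ 4) (m : ℕ) (hV : Fintype.card ι = 2 * m)
    (hm : 2 ≤ m) (U W : Submodule F (ι → F)) (hU : ∀ y ∈ U, Q y = 0) (hUd : finrank F U = m)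
    (hW : ∀ y ∈ W, Q y = 0) (hWd : finrank F W + 1 = m) :
    ∃ K : Subgroup (GL ι F), Cfsg.Geo.subspaceStabilizer W ⊓ Cfsg.Geo.omegaGL (⇑Q) < K ∧
      K < Cfsg.Geo.omegaGL (⇑Q) := by
  obtain ⟨R, hR, hRd, hWR⟩ := exists_ts_extension Q hQ U W hU hW (by omega)
  rw [hUd] at hRd
  apply nonmax_of_subspace (⇑Q) W R
  · intro g hgΩ hgW
    have hpar := omega_class_even Q hQ h24 m hV R hR hRd g hgΩ
    have hle : W ≤ R ⊓ omap (⇑Q) g R := by
      refine le_inf hWR ?_
      rw [← hgW]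
      exact Submodule.map_mono hWR
    have h1 := Submodule.finrank_mono hle
    have h3 := Submodule.finrank_mono (inf_le_left : R ⊓ omap (⇑Q) g R ≤ R)
    have h4 : finrank F ↥(R ⊓ omap (⇑Q) g R) = m := by
      rcases Nat.even_or_odd (m - finrank F ↥(R ⊓ omap (⇑Q) g R)) with h | h
      · rw [Nat.even_iff] at hpar
        omega
      · rw [Nat.even_iff] at hpar
        rw [Nat.odd_iff] at h
        omega
    have h5 : R ⊓ omap (⇑Q) g R = R :=
      Submodule.eq_of_le_of_finrank_eq (inf_le_left : R ⊓ omap (⇑Q) g R ≤ R) (by rw [h4, hRd])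
    have h6 : R ≤ omap (⇑Q) g R := by
      intro x hx
      have hx' : x ∈ R ⊓ omap (⇑Q) g R := by rw [h5]; exact hx
      exact hx'.2
    have h7 : omap (⇑Q) g⁻¹ R = R := by
      apply omap_eq_of_le
      have h9 : omap (⇑Q) g⁻¹ R ≤ omap (⇑Q) g⁻¹ (omap (⇑Q) g R) := Submodule.map_mono h6
      rw [omap_inv (⇑Q) g R _ rfl] at h9
      exact h9
    have h8 := omap_inv (⇑Q) g⁻¹ R R h7
    rw [inv_inv] at h8
    exact h8
  · have hW0 : W ≠ ⊥ := by
      intro h
      rw [h, finrank_bot] at hWd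
      omega
    obtain ⟨w, hwW, hw0⟩ := (Submodule.ne_bot_iff W).mp hW0
    have hlt : W < R := by
      refine lt_of_le_of_ne hWR ?_
      intro h
      rw [h] at hWd
      omega
    obtain ⟨r, hrR, hrW⟩ := SetLike.exists_of_lt hlt
    have hrw : polar (⇑Q) r w = 0 := by
      unfold polar
      rw [hR _ (R.add_mem hrR (hWR hwW)), hR r hrR, hR w (hWR hwW)]
      ring
    obtain ⟨u, hQu, hur, huw⟩ := exists_singular_dual Q hQ r w (hW w hwW) hrw hw0
      (fun t h => hrW (h ▸ W.smul_mem t hwW))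
    refine ⟨siegelO Q u r hQu (hR r hrR) hur 1, ?_, ?_, ?_⟩
    · exact siegelO_mem_Omega_of_mem Q hQ h24 m hV R hR hRd u r hQu (hR r hrR) hur 1 hrR
    · exact omap_siegelO_of_mem Q u r hQu (hR r hrR) hur 1 R hR hrR
    · intro h
      apply hrW
      have h1 : (((siegelO Q u r hQu (hR r hrR) hur 1 : ↥(Cfsg.isometryGroup F (⇑Q))) : GL ι F) :
          Matrix ι ι F) *ᵥ w ∈ W := by
        rw [← h]
        exact ⟨w, hwW, by rw [Matrix.mulVecLin_apply]⟩
      rw [siegelO_mulVec, huw, hrw, one_smul, one_smul, zero_smul, sub_zero] at h1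
      have := W.sub_mem h1 hwW
      rwa [add_sub_cancel_left] at this
  · have hR0 : R ≠ ⊥ := by
      intro h
      rw [h, finrank_bot] at hRd
      omega
    exact exists_Omega_not_stab Q hQ h24 (by omega) R hR hR0

/-- the stabiliser in `Ω⁺` of a pair of complementary maximal totally singular subspaces of odd
dimension fixes both of them, and is not maximal -/
theorem nonmax_ts_pair (Q : QuadraticForm F (ι → F))
    (hQ : (QuadraticMap.polarBilin Q).Nondegenerate)
    (h24 : Fintype.card F ≠ 2 ∨ Fintype.card ι ≠ 4) (k : ℕ) (hV : Fintype.card ι = 2 * k)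
    (hk2 : 2 ≤ k) (hko : Odd k) (D : Fin 2 → Submodule F (ι → F))
    (hD : Cfsg.Geo.IsMDecomposition k D) (hts : ∀ i, ∀ y ∈ D i, Q y = 0) :
    ∃ K : Subgroup (GL ι F), Cfsg.Geo.decompositionStabilizer D ⊓ Cfsg.Geo.omegaGL (⇑Q) < K ∧
      K < Cfsg.Geo.omegaGL (⇑Q) := by
  have hdisj : D 0 ⊓ D 1 = ⊥ := by
    have := hD.indep.pairwiseDisjoint (show (0 : Fin 2) ≠ 1 by decide)
    exact disjoint_iff.mp this
  have hsup : D 0 ⊔ D 1 = ⊤ := by
    rw [eq_top_iff, ← hD.iSup_eq_top]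
    apply iSup_le
    intro i
    fin_cases i
    · exact le_sup_left
    · exact le_sup_right
  have hd0 : finrank F (D 0) = k := hD.finrank_eq 0
  have hD0ne : D 0 ≠ ⊥ := by
    intro h
    rw [h, finrank_bot] at hd0
    omega
  have hne : D 0 ≠ D 1 := by
    intro h
    apply hD0ne
    rw [← hdisj, ← h, inf_idem]
  have hfin2 : ∀ a : Fin 2, a = 0 ∨ a = 1 := by decide
  refine ⟨Cfsg.Geo.subspaceStabilizer (D 0) ⊓ Cfsg.Geo.omegaGL (⇑Q), ?_, ?_⟩
  · rw [SetLike.lt_iff_le_and_exists]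
    constructor
    · rintro x ⟨hx1, hx2⟩
      refine ⟨?_, hx2⟩
      obtain ⟨h, hΩ⟩ := (mem_omegaGL_iff (⇑Q) x).mp hx2
      obtain ⟨σ, hσ⟩ := hx1
      have h0 : omap (⇑Q) ⟨x, h⟩ (D 0) = D (σ 0) := hσ 0
      apply (coe_mem_subspaceStabilizer_iff (⇑Q) (D 0) ⟨x, h⟩).mpr
      rcases hfin2 (σ 0) with h1 | h1
      · rw [h0, h1]
      · exfalso
        have hpar := omega_class_even Q hQ h24 k hV (D 0) (hts 0) hd0 ⟨x, h⟩ hΩ
        rw [h0, h1, hdisj, finrank_bot, Nat.sub_zero] at hpar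
        exact (Nat.not_even_iff_odd.mpr hko) hpar
    · obtain ⟨r, hrD, hr0⟩ := (Submodule.ne_bot_iff (D 0)).mp hD0ne
      have hlt : Submodule.span F {r} < D 0 := by
        refine lt_of_le_of_ne ((Submodule.span_singleton_le_iff_mem r (D 0)).mpr hrD) ?_
        intro h
        rw [← h, finrank_span_singleton hr0] at hd0
        omega
      obtain ⟨r', hr'D, hr'⟩ := SetLike.exists_of_lt hlt
      obtain ⟨z, hzD, hrz⟩ : ∃ z ∈ D 1, polar (⇑Q) r z ≠ 0 := by
        by_contra hcon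
        push Not at hcon
        apply hr0
        apply hQ.1 r
        intro y
        rw [polarBilin_apply_apply]
        have hy : y ∈ D 0 ⊔ D 1 := by rw [hsup]; trivial
        obtain ⟨a, ha, b, hb, rfl⟩ := Submodule.mem_sup.mp hy
        rw [polar_add_right, hcon b hb, add_zero]
        unfold polar
        rw [hts 0 _ ((D 0).add_mem hrD ha), hts 0 r hrD, hts 0 a ha]
        ring
      have hr'r : polar (⇑Q) r' r = 0 := by
        unfold polar
        rw [hts 0 _ ((D 0).add_mem hr'D hrD), hts 0 r hrD, hts 0 r' hr'D]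
        ring
      set g := siegelO Q r' r (hts 0 r' hr'D) (hts 0 r hrD) hr'r 1 with hg
      have hgD0 : omap (⇑Q) g (D 0) = D 0 :=
        omap_siegelO_of_mem Q r' r (hts 0 r' hr'D) (hts 0 r hrD) hr'r 1 (D 0) (hts 0) hrD
      have hgΩ : g ∈ Cfsg.Omega F (⇑Q) :=
        siegelO_mem_Omega_of_mem Q hQ h24 k hV (D 0) (hts 0) hd0 r' r (hts 0 r' hr'D)
          (hts 0 r hrD) hr'r 1 hrD
      refine ⟨(g : GL ι F), ⟨(coe_mem_subspaceStabilizer_iff (⇑Q) (D 0) g).mpr hgD0,
        coe_mem_omegaGL (⇑Q) g hgΩ⟩, ?_⟩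
      rintro ⟨⟨σ, hσ⟩, -⟩
      have h0 : omap (⇑Q) g (D 0) = D (σ 0) := hσ 0
      have h1 : omap (⇑Q) g (D 1) = D (σ 1) := hσ 1
      have hσ0 : σ 0 = 0 := by
        rcases hfin2 (σ 0) with h | h
        · exact h
        · exfalso
          rw [hgD0, h] at h0
          exact hne h0
      have hσ1 : σ 1 = 1 := by
        rcases hfin2 (σ 1) with h | h
        · exfalso
          have : σ 1 = σ 0 := by rw [h, hσ0]
          exact absurd (σ.injective this) (by decide)
        · exact h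
      rw [hσ1] at h1
      have hgz : ((g : GL ι F) : Matrix ι ι F) *ᵥ z ∈ D 1 := by
        rw [← h1]
        exact ⟨z, hzD, by rw [Matrix.mulVecLin_apply]⟩
      rw [hg, siegelO_mulVec, one_smul] at hgz
      have hdiff : polar (⇑Q) r' z • r - polar (⇑Q) r z • r' ∈ D 1 := by
        have := (D 1).sub_mem hgz hzD
        rwa [add_sub_cancel_left] at this
      have hdiff0 : polar (⇑Q) r' z • r - polar (⇑Q) r z • r' ∈ D 0 :=
        (D 0).sub_mem ((D 0).smul_mem _ hrD) ((D 0).smul_mem _ hr'D)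
      have hzero : polar (⇑Q) r' z • r - polar (⇑Q) r z • r' = 0 := by
        have : polar (⇑Q) r' z • r - polar (⇑Q) r z • r' ∈ D 0 ⊓ D 1 := ⟨hdiff0, hdiff⟩
        rw [hdisj] at this
        exact (Submodule.mem_bot F).mp this
      apply hr'
      rw [Submodule.mem_span_singleton]
      refine ⟨(polar (⇑Q) r z)⁻¹ * polar (⇑Q) r' z, ?_⟩
      rw [mul_smul, sub_eq_zero.mp hzero, smul_smul, inv_mul_cancel₀ hrz, one_smul]
  · rw [SetLike.lt_iff_le_and_exists]
    refine ⟨inf_le_right, ?_⟩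
    obtain ⟨g, hgΩ, hgR⟩ := exists_Omega_not_stab Q hQ h24 (by omega) (D 0) (hts 0) hD0ne
    refine ⟨(g : GL ι F), coe_mem_omegaGL (⇑Q) g hgΩ, ?_⟩
    rintro ⟨h1, -⟩
    exact hgR ((coe_mem_subspaceStabilizer_iff (⇑Q) (D 0) g).mp h1)

end Cfsg.Agent.Lib.Helper50
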