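import Cfsg.Agent.Lib.Helper50.NonMaxPlane

set_option autoImplicit false

/-! Non-maximality of the stabiliser in `Ω` of an orthogonal decomposition whose members carry a
canonical vector of a fixed norm `c` (every vector of norm `c` of the member is `± v` or orthogonal
to `v`): the stabiliser of the set of all vectors of norm `c` of the members lies strictly in
between. -/

namespace Cfsg.Agent.Lib.Helper50

open Matrix Module QuadraticMap Cfsg.Agent.Lib.Helper19

variable {F : Type*} [Field F] [Fintype F] {ι : Type} [Fintype ι] [DecidableEq ι]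

/-- a product of two reflections with square norm product lies in `Ω` -/
theorem reflO_pair_mem_Omega (Q : QuadraticForm F (ι → F))
    (hQ : (QuadraticMap.polarBilin Q).Nondegenerate)
    (h24 : Fintype.card F ≠ 2 ∨ Fintype.card ι ≠ 4) (x y : ι → F) (hx : Q x ≠ 0) (hy : Q y ≠ 0)
    (hsq : IsSquare (Q x * Q y)) : reflO Q x * reflO Q y ∈ Cfsg.Omega F (⇑Q) := by
  have hmat : (((reflO Q x * reflO Q y : ↥(Cfsg.isometryGroup F (⇑Q))) : GL ι F) :
      Matrix ι ι F) = ([x, y].map (fun v => Cfsg.reflectionMatrix (⇑Q) v)).prod := by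
    rw [Subgroup.coe_mul, Units.val_mul, reflO_val Q x hx, reflO_val Q y hy]
    simp
  have hl : ∀ v ∈ [x, y], Q v ≠ 0 := by
    intro v hv
    simp only [List.mem_cons, List.not_mem_nil, or_false] at hv
    rcases hv with rfl | rfl
    · exact hx
    · exact hy
  rw [omega_criterion Q hQ h24 _ [x, y] hl hmat]
  refine ⟨⟨1, rfl⟩, fun _ => ?_⟩
  simpa using hsq

section frame

variable (Q : QuadraticForm F (ι → F)) {t : ℕ} (D : Fin t → Submodule F (ι → F)) (c : F)

/-- the set of vectors of norm `c` in the members of `D` -/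
def normSet : Set (ι → F) := {w | ∃ i, w ∈ D i ∧ Q w = c}

variable {Q D c}

/-- the reflection swapping two canonical vectors preserves the set of norm `c` vectors -/
theorem reflO_sub_maps_normSet (h2 : (2 : F) ≠ 0) (hc : c ≠ 0)
    (horth : ∀ i j, i ≠ j → ∀ u ∈ D i, ∀ w ∈ D j, polar (⇑Q) u w = 0)
    (v : Fin t → ι → F) (hvD : ∀ i, v i ∈ D i) (hvc : ∀ i, Q (v i) = c)
    (hcan : ∀ i, ∀ w ∈ D i, Q w = c → w = v i ∨ w = -v i ∨ polar (⇑Q) (v i) w = 0)
    (a b : Fin t) (hab : a ≠ b) (w : ι → F) (hw : w ∈ normSet Q D c) :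
    (((reflO Q (v a - v b) : ↥(Cfsg.isometryGroup F (⇑Q))) : GL ι F) : Matrix ι ι F) *ᵥ w ∈
      normSet Q D c := by
  have h2c : 2 * c ≠ 0 := mul_ne_zero h2 hc
  have hvab : polar (⇑Q) (v a) (v b) = 0 := horth a b hab _ (hvD a) _ (hvD b)
  have hvba : polar (⇑Q) (v b) (v a) = 0 := horth b a hab.symm _ (hvD b) _ (hvD a)
  have hvaa : polar (⇑Q) (v a) (v a) = 2 * c := by rw [polar_self, hvc]; simp
  have hvbb : polar (⇑Q) (v b) (v b) = 2 * c := by rw [polar_self, hvc]; simp
  have hQx : Q (v a - v b) = 2 * c := by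
    have h := QuadraticMap.map_add (⇑Q) (v a) (-(v b))
    rw [← sub_eq_add_neg] at h
    rw [h, QuadraticMap.map_neg, hvc, hvc, polar_neg_right, hvab]
    ring
  have hx0 : Q (v a - v b) ≠ 0 := by rw [hQx]; exact h2c
  obtain ⟨i, hwD, hwc⟩ := hw
  rw [reflO_mulVec Q _ hx0, hQx, polar_sub_left]
  by_cases hia : i = a
  · subst hia
    have h0 : polar (⇑Q) (v b) w = 0 := horth b i hab.symm _ (hvD b) _ hwD
    rw [h0, sub_zero]
    rcases hcan i w hwD hwc with h | h | h
    · rw [h, hvaa, inv_mul_cancel₀ h2c, one_smul, sub_sub_cancel]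
      exact ⟨b, hvD b, hvc b⟩
    · rw [h, polar_neg_right, hvaa, mul_neg, inv_mul_cancel₀ h2c, neg_smul, one_smul]
      refine ⟨b, ?_, ?_⟩
      · have : -v i - -(v i - v b) = -v b := by abel
        rw [this]
        exact (D b).neg_mem (hvD b)
      · have : -v i - -(v i - v b) = -v b := by abel
        rw [this, QuadraticMap.map_neg, hvc]
    · rw [h, mul_zero, zero_smul, sub_zero]
      exact ⟨i, hwD, hwc⟩
  · by_cases hib : i = b
    · subst hib
      have h0 : polar (⇑Q) (v a) w = 0 := horth a i hab _ (hvD a) _ hwD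
      rw [h0, zero_sub]
      rcases hcan i w hwD hwc with h | h | h
      · rw [h, hvbb, mul_neg, inv_mul_cancel₀ h2c, neg_smul, one_smul]
        refine ⟨a, ?_, ?_⟩
        · have : v i - -(v a - v i) = v a := by abel
          rw [this]
          exact hvD a
        · have : v i - -(v a - v i) = v a := by abel
          rw [this, hvc]
      · rw [h, polar_neg_right, hvbb, neg_neg, inv_mul_cancel₀ h2c, one_smul]
        refine ⟨a, ?_, ?_⟩
        · have : -v i - (v a - v i) = -v a := by abel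
          rw [this]
          exact (D a).neg_mem (hvD a)
        · have : -v i - (v a - v i) = -v a := by abel
          rw [this, QuadraticMap.map_neg, hvc]
      · rw [h, neg_zero, mul_zero, zero_smul, sub_zero]
        exact ⟨i, hwD, hwc⟩
    · have h0 : polar (⇑Q) (v a) w = 0 := horth a i (Ne.symm hia) _ (hvD a) _ hwD
      have h1 : polar (⇑Q) (v b) w = 0 := horth b i (Ne.symm hib) _ (hvD b) _ hwD
      rw [h0, h1, sub_zero, mul_zero, zero_smul, sub_zero]
      exact ⟨i, hwD, hwc⟩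

/-- the reflection swapping two canonical vectors lies in the stabiliser of the set of norm `c`
vectors -/
theorem reflO_sub_mem_stabilizing (h2 : (2 : F) ≠ 0) (hc : c ≠ 0)
    (horth : ∀ i j, i ≠ j → ∀ u ∈ D i, ∀ w ∈ D j, polar (⇑Q) u w = 0)
    (v : Fin t → ι → F) (hvD : ∀ i, v i ∈ D i) (hvc : ∀ i, Q (v i) = c)
    (hcan : ∀ i, ∀ w ∈ D i, Q w = c → w = v i ∨ w = -v i ∨ polar (⇑Q) (v i) w = 0)
    (a b : Fin t) (hab : a ≠ b) :
    ((reflO Q (v a - v b) : ↥(Cfsg.isometryGroup F (⇑Q))) : GL ι F) ∈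
      Cfsg.stabilizing (Cfsg.glToMat ι F) (normSet Q D c) := by
  intro w
  constructor
  · intro hw
    exact reflO_sub_maps_normSet h2 hc horth v hvD hvc hcan a b hab w hw
  · intro hw
    have h1 := reflO_sub_maps_normSet h2 hc horth v hvD hvc hcan a b hab _ hw
    have h3 : (((reflO Q (v a - v b) : ↥(Cfsg.isometryGroup F (⇑Q))) : GL ι F) : Matrix ι ι F) *
        (((reflO Q (v a - v b) : ↥(Cfsg.isometryGroup F (⇑Q))) : GL ι F) : Matrix ι ι F) = 1 := by
      rw [← Units.val_mul, ← Subgroup.coe_mul, reflO_mul_self]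
      rfl
    change (((reflO Q (v a - v b) : ↥(Cfsg.isometryGroup F (⇑Q))) : GL ι F) : Matrix ι ι F) *ᵥ
      ((((reflO Q (v a - v b) : ↥(Cfsg.isometryGroup F (⇑Q))) : GL ι F) : Matrix ι ι F) *ᵥ w) ∈
      normSet Q D c at h1
    rw [Matrix.mulVec_mulVec, h3, Matrix.one_mulVec] at h1
    exact h1

/-- the main non-maximality criterion -/
theorem nonmax_of_canonical (h2 : (2 : F) ≠ 0) (hQ : (QuadraticMap.polarBilin Q).Nondegenerate)
    (hn : 5 ≤ Fintype.card ι) (ht : 5 ≤ t) (hdim : ∀ i, 2 ≤ finrank F (D i))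
    (horth : ∀ i j, i ≠ j → ∀ u ∈ D i, ∀ w ∈ D j, polar (⇑Q) u w = 0)
    (hnd : ∀ i, Cfsg.Geo.IsNondegenerateOn (QuadraticMap.polar (⇑Q)) (D i))
    (hc : c ≠ 0) (v : Fin t → ι → F) (hvD : ∀ i, v i ∈ D i) (hvc : ∀ i, Q (v i) = c)
    (hcan : ∀ i, ∀ w ∈ D i, Q w = c → w = v i ∨ w = -v i ∨ polar (⇑Q) (v i) w = 0) :
    ∃ K : Subgroup (GL ι F), Cfsg.Geo.decompositionStabilizer D ⊓ Cfsg.Geo.omegaGL (⇑Q) < K ∧
      K < Cfsg.Geo.omegaGL (⇑Q) := by
  have h24 : Fintype.card F ≠ 2 ∨ Fintype.card ι ≠ 4 := Or.inr (by omega)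
  have h2c : 2 * c ≠ 0 := mul_ne_zero h2 hc
  have h4c : 4 * c ≠ 0 := by
    have : (4 : F) = 2 * 2 := by norm_num
    rw [this]
    exact mul_ne_zero (mul_ne_zero h2 h2) hc
  have hdisj : ∀ i j, i ≠ j → ∀ u, u ∈ D i → u ∈ D j → u = 0 := by
    intro i j hij u hui huj
    by_contra hu0
    obtain ⟨⟨x, hx, hxu⟩, -⟩ := hnd i u hui hu0
    exact hxu (horth i j hij x hx u huj)
  have hvv : ∀ i, polar (⇑Q) (v i) (v i) = 2 * c := by
    intro i
    rw [polar_self, hvc]; simp
  have hvo : ∀ i j, i ≠ j → polar (⇑Q) (v i) (v j) = 0 :=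
    fun i j hij => horth i j hij _ (hvD i) _ (hvD j)
  -- five distinct indices
  set i1 : Fin t := ⟨0, by omega⟩ with hi1
  set i2 : Fin t := ⟨1, by omega⟩ with hi2
  set i3 : Fin t := ⟨2, by omega⟩ with hi3
  set i4 : Fin t := ⟨3, by omega⟩ with hi4
  set i5 : Fin t := ⟨4, by omega⟩ with hi5
  have h12 : i1 ≠ i2 := by simp [hi1, hi2, Fin.ext_iff]
  have h13 : i1 ≠ i3 := by simp [hi1, hi3, Fin.ext_iff]
  have h14 : i1 ≠ i4 := by simp [hi1, hi4, Fin.ext_iff]
  have h15 : i1 ≠ i5 := by simp [hi1, hi5, Fin.ext_iff]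
  have h23 : i2 ≠ i3 := by simp [hi2, hi3, Fin.ext_iff]
  have h24' : i2 ≠ i4 := by simp [hi2, hi4, Fin.ext_iff]
  have h25 : i2 ≠ i5 := by simp [hi2, hi5, Fin.ext_iff]
  have h34 : i3 ≠ i4 := by simp [hi3, hi4, Fin.ext_iff]
  have h35 : i3 ≠ i5 := by simp [hi3, hi5, Fin.ext_iff]
  have h45 : i4 ≠ i5 := by simp [hi4, hi5, Fin.ext_iff]
  have hQsub : ∀ a b, a ≠ b → Q (v a - v b) = 2 * c := by
    intro a b hab
    have h := QuadraticMap.map_add (⇑Q) (v a) (-(v b))
    rw [← sub_eq_add_neg] at h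
    rw [h, QuadraticMap.map_neg, hvc, hvc, polar_neg_right, hvo a b hab]
    ring
  refine ⟨Cfsg.stabilizing (Cfsg.glToMat ι F) (normSet Q D c) ⊓ Cfsg.Geo.omegaGL (⇑Q), ?_, ?_⟩
  · rw [SetLike.lt_iff_le_and_exists]
    constructor
    · rintro x ⟨hx1, hx2⟩
      refine ⟨?_, hx2⟩
      obtain ⟨h, -⟩ := (mem_omegaGL_iff (⇑Q) x).mp hx2
      have hiso : ∀ w, Q ((x : Matrix ι ι F) *ᵥ w) = Q w := (mem_isometryGroup_iff (⇑Q) x).mp h
      obtain ⟨σ, hσ⟩ := hx1
      intro w
      constructor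
      · rintro ⟨i, hwD, hwc⟩
        refine ⟨σ i, ?_, ?_⟩
        · rw [← hσ i]
          exact ⟨w, hwD, by rw [Matrix.toLin'_apply]; rfl⟩
        · change Q ((x : Matrix ι ι F) *ᵥ w) = c
          rw [hiso, hwc]
      · rintro ⟨j, hjD, hjc⟩
        change (x : Matrix ι ι F) *ᵥ w ∈ D j at hjD
        change Q ((x : Matrix ι ι F) *ᵥ w) = c at hjc
        have hj : D j = D (σ (σ.symm j)) := by rw [Equiv.apply_symm_apply]
        rw [hj, ← hσ (σ.symm j)] at hjD
        obtain ⟨w', hw', hww'⟩ := hjD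
        rw [Matrix.toLin'_apply] at hww'
        have : w' = w := by
          rw [← inv_mulVec_mulVec x w', hww', inv_mulVec_mulVec]
        rw [this] at hw'
        exact ⟨σ.symm j, hw', by rw [← hiso, hjc]⟩
    · -- an element preserving the norm set but not the decomposition
      have hx0 : Q (v i1 - v i2) ≠ 0 := by rw [hQsub i1 i2 h12]; exact h2c
      have hy0 : Q (v i3 - v i4) ≠ 0 := by rw [hQsub i3 i4 h34]; exact h2c
      set g := reflO Q (v i1 - v i2) * reflO Q (v i3 - v i4) with hg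
      have hgΩ : g ∈ Cfsg.Omega F (⇑Q) := by
        apply reflO_pair_mem_Omega Q hQ h24 _ _ hx0 hy0
        rw [hQsub i1 i2 h12, hQsub i3 i4 h34]
        exact ⟨2 * c, rfl⟩
      have hgS : (g : GL ι F) ∈ Cfsg.stabilizing (Cfsg.glToMat ι F) (normSet Q D c) := by
        rw [hg, Subgroup.coe_mul]
        exact Subgroup.mul_mem _
          (reflO_sub_mem_stabilizing h2 hc horth v hvD hvc hcan i1 i2 h12)
          (reflO_sub_mem_stabilizing h2 hc horth v hvD hvc hcan i3 i4 h34)
      refine ⟨(g : GL ι F), ⟨hgS, coe_mem_omegaGL (⇑Q) g hgΩ⟩, ?_⟩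
      rintro ⟨⟨σ, hσ⟩, -⟩
      have hgv : ((g : GL ι F) : Matrix ι ι F) *ᵥ v i1 = v i2 := by
        rw [hg, Subgroup.coe_mul, Units.val_mul, ← Matrix.mulVec_mulVec,
          reflO_mulVec Q _ hy0, polar_sub_left, hvo i3 i1 h13.symm, hvo i4 i1 h14.symm, sub_zero,
          mul_zero, zero_smul, sub_zero, reflO_mulVec Q _ hx0, hQsub i1 i2 h12, polar_sub_left,
          hvv, hvo i2 i1 h12.symm, sub_zero, inv_mul_cancel₀ h2c, one_smul, sub_sub_cancel]
      -- a non-zero vector of `D i1` orthogonal to `v i1`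
      obtain ⟨y0, hy0D, hy00, hy0v⟩ : ∃ y0 ∈ D i1, y0 ≠ 0 ∧ polar (⇑Q) (v i1) y0 = 0 := by
        have hv0 : v i1 ≠ 0 := by
          intro h
          have := hvc i1
          rw [h, QuadraticMap.map_zero] at this
          exact hc this.symm
        have hlt : Submodule.span F {v i1} < D i1 := by
          refine lt_of_le_of_ne ((Submodule.span_singleton_le_iff_mem _ _).mpr (hvD i1)) ?_
          intro h
          have := hdim i1
          rw [← h, finrank_span_singleton hv0] at this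
          omega
        obtain ⟨w, hwD, hw⟩ := SetLike.exists_of_lt hlt
        refine ⟨w - ((2 * c)⁻¹ * polar (⇑Q) (v i1) w) • v i1,
          (D i1).sub_mem hwD ((D i1).smul_mem _ (hvD i1)), ?_, ?_⟩
        · intro h
          apply hw
          rw [sub_eq_zero.mp h]
          exact Submodule.smul_mem _ _ (Submodule.mem_span_singleton_self _)
        · rw [polar_sub_right, polar_smul_right, hvv, smul_eq_mul]
          field_simp
          ring
      have hgy : ((g : GL ι F) : Matrix ι ι F) *ᵥ y0 = y0 := by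
        have e2 : polar (⇑Q) (v i2) y0 = 0 := horth i2 i1 h12.symm _ (hvD i2) _ hy0D
        have e3 : polar (⇑Q) (v i3) y0 = 0 := horth i3 i1 h13.symm _ (hvD i3) _ hy0D
        have e4 : polar (⇑Q) (v i4) y0 = 0 := horth i4 i1 h14.symm _ (hvD i4) _ hy0D
        rw [hg, Subgroup.coe_mul, Units.val_mul, ← Matrix.mulVec_mulVec,
          reflO_mulVec Q _ hy0, polar_sub_left, e3, e4, sub_zero, mul_zero, zero_smul, sub_zero,
          reflO_mulVec Q _ hx0, polar_sub_left, hy0v, e2, sub_zero, mul_zero, zero_smul, sub_zero]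
      have hmem1 : v i2 ∈ D (σ i1) := by
        rw [← hσ i1, ← hgv]
        exact ⟨v i1, hvD i1, by rw [Matrix.toLin'_apply]⟩
      have hmem2 : y0 ∈ D (σ i1) := by
        rw [← hσ i1]
        exact ⟨y0, hy0D, by rw [Matrix.toLin'_apply, hgy]⟩
      have hj2 : i2 = σ i1 := by
        by_contra hne
        have := hdisj i2 (σ i1) hne _ (hvD i2) hmem1
        have h' := hvc i2
        rw [this, QuadraticMap.map_zero] at h'
        exact hc h'.symm
      have hj1 : i1 = σ i1 := by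
        by_contra hne
        exact hy00 (hdisj i1 (σ i1) hne _ hy0D hmem2)
      exact h12 (hj1.trans hj2.symm)
  · rw [SetLike.lt_iff_le_and_exists]
    refine ⟨inf_le_right, ?_⟩
    set x := v i1 + v i2 + v i3 + v i4 with hx
    have hQx : Q x = 4 * c := by
      have e1 := QuadraticMap.map_add (⇑Q) (v i1 + v i2 + v i3) (v i4)
      have e2 := QuadraticMap.map_add (⇑Q) (v i1 + v i2) (v i3)
      have e3 := QuadraticMap.map_add (⇑Q) (v i1) (v i2)
      rw [hx, e1, e2, e3, hvc, hvc, hvc, hvc, polar_add_left, polar_add_left, polar_add_left,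
        hvo i1 i2 h12, hvo i1 i3 h13, hvo i2 i3 h23, hvo i1 i4 h14, hvo i2 i4 h24', hvo i3 i4 h34]
      ring
    have hx0 : Q x ≠ 0 := by rw [hQx]; exact h4c
    have hv50 : Q (v i5) ≠ 0 := by rw [hvc]; exact hc
    set g := reflO Q x * reflO Q (v i5) with hg
    have hgΩ : g ∈ Cfsg.Omega F (⇑Q) := by
      apply reflO_pair_mem_Omega Q hQ h24 _ _ hx0 hv50
      rw [hQx, hvc]
      exact ⟨2 * c, by ring⟩
    refine ⟨(g : GL ι F), coe_mem_omegaGL (⇑Q) g hgΩ, ?_⟩
    rintro ⟨hS, -⟩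
    have hxv1 : polar (⇑Q) x (v i1) = 2 * c := by
      rw [hx, polar_add_left, polar_add_left, polar_add_left, hvv, hvo i2 i1 h12.symm,
        hvo i3 i1 h13.symm, hvo i4 i1 h14.symm]
      ring
    have hgv : ((g : GL ι F) : Matrix ι ι F) *ᵥ v i1 = v i1 - ((4 * c)⁻¹ * (2 * c)) • x := by
      rw [hg, Subgroup.coe_mul, Units.val_mul, ← Matrix.mulVec_mulVec,
        reflO_mulVec Q _ hv50, hvo i5 i1 h15.symm, mul_zero, zero_smul, sub_zero,
        reflO_mulVec Q _ hx0, hQx, hxv1]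
    have hv1S : v i1 ∈ normSet Q D c := ⟨i1, hvD i1, hvc i1⟩
    have hwS := (hS (v i1)).mp hv1S
    change ((g : GL ι F) : Matrix ι ι F) *ᵥ v i1 ∈ normSet Q D c at hwS
    rw [hgv] at hwS
    obtain ⟨j, hjD, -⟩ := hwS
    have hcoef : (4 * c)⁻¹ * (2 * c) = 2⁻¹ := by
      have h4 : (4 : F) = 2 * 2 := by norm_num
      rw [h4]
      field_simp
    have hp1 : polar (⇑Q) (v i1) (v i1 - ((4 * c)⁻¹ * (2 * c)) • x) = c := by
      rw [hcoef, polar_sub_right, polar_smul_right, polar_comm (⇑Q) (v i1) x, hxv1, hvv,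
        smul_eq_mul]
      field_simp
      ring
    have hp2 : polar (⇑Q) (v i2) (v i1 - ((4 * c)⁻¹ * (2 * c)) • x) = -c := by
      have hxv2 : polar (⇑Q) x (v i2) = 2 * c := by
        rw [hx, polar_add_left, polar_add_left, polar_add_left, hvv, hvo i1 i2 h12,
          hvo i3 i2 h23.symm, hvo i4 i2 h24'.symm]
        ring
      rw [hcoef, polar_sub_right, polar_smul_right, polar_comm (⇑Q) (v i2) x, hxv2,
        hvo i2 i1 h12.symm, smul_eq_mul]
      field_simp
      ring
    by_cases hj : i1 = j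
    · have hne : i2 ≠ j := fun h => h12 (hj.trans h.symm)
      have := horth i2 j hne _ (hvD i2) _ hjD
      rw [hp2] at this
      exact hc (neg_eq_zero.mp this)
    · have := horth i1 j hj _ (hvD i1) _ hjD
      rw [hp1] at this
      exact hc this

end frame

end Cfsg.Agent.Lib.Helper50
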