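import Mathlib
import Cfsg.Agent.Lib.Helper22.NseDefs

/-!
# K-NSE pack (S3431), leaf 343108 C5b: the arithmetic of `nse(A_5) = {1, 15, 20, 24}`
-/

set_option autoImplicit false
set_option maxRecDepth 100000

namespace Cfsg.Agent.Lib.Helper50.Nse

open Cfsg.Agent.Lib.Helper22.Nse

/-- the set of possible element orders -/
def c5bL : List ℕ := [1, 2, 3, 4, 5, 6, 8, 9, 10, 12, 15, 16, 18, 20, 24, 30, 36, 45, 72, 90]

/-- the set of possible element orders -/
def c5bA : Finset ℕ := c5bL.toFinset

theorem c5b_dvd720 (m : ℕ) (hm : m ≠ 0) (hp : ∀ p, p.Prime → p ∣ m → p = 2 ∨ p = 3 ∨ p = 5)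
    (h32 : ¬ 32 ∣ m) (h27 : ¬ 27 ∣ m) (h25 : ¬ 25 ∣ m) : m ∣ 720 := by
  rw [← Nat.factorization_le_iff_dvd hm (by norm_num)]
  intro p
  by_cases hpp : p.Prime
  · by_cases hpm : p ∣ m
    · rcases hp p hpp hpm with rfl | rfl | rfl
      · have h1 : m.factorization 2 ≤ 4 := by
          by_contra h
          push Not at h
          exact h32 ((Nat.Prime.pow_dvd_iff_le_factorization Nat.prime_two hm).2 h)
        have h2 : 4 ≤ (720).factorization 2 :=
          (Nat.Prime.pow_dvd_iff_le_factorization Nat.prime_two (by norm_num)).1 (by norm_num)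
        exact le_trans h1 h2
      · have h1 : m.factorization 3 ≤ 2 := by
          by_contra h
          push Not at h
          exact h27 ((Nat.Prime.pow_dvd_iff_le_factorization Nat.prime_three hm).2 h)
        have h2 : 2 ≤ (720).factorization 3 :=
          (Nat.Prime.pow_dvd_iff_le_factorization Nat.prime_three (by norm_num)).1 (by norm_num)
        exact le_trans h1 h2
      · have h1 : m.factorization 5 ≤ 1 := by
          by_contra h
          push Not at h
          exact h25 ((Nat.Prime.pow_dvd_iff_le_factorization Nat.prime_five hm).2 h)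
        have h2 : 1 ≤ (720).factorization 5 :=
          (Nat.Prime.pow_dvd_iff_le_factorization Nat.prime_five (by norm_num)).1 (by norm_num)
        exact le_trans h1 h2
    · rw [Nat.factorization_eq_zero_of_not_dvd hpm]
      exact Nat.zero_le _
  · rw [Nat.factorization_eq_zero_of_not_prime _ hpp]
    exact Nat.zero_le _


variable {N : ℕ} {S : ℕ → ℕ}

theorem c5b_zero (H : NseHyp N S {1, 15, 20, 24}) (B : A5Basic N S) (k : ℕ) (hk : 3 ≤ k)
    (h20 : ¬ Nat.totient k ∣ 20) (h24 : ¬ Nat.totient k ∣ 24) : S k = 0 := by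
  rcases B.val k hk with h | h | h
  · exact h
  · exact absurd (h ▸ H.phi k) h20
  · exact absurd (h ▸ H.phi k) h24

theorem c5b_not20 (H : NseHyp N S {1, 15, 20, 24}) (B : A5Basic N S) (k : ℕ) (hk : 3 ≤ k)
    (h20 : ¬ Nat.totient k ∣ 20) : S k = 0 ∨ S k = 24 := by
  rcases B.val k hk with h | h | h
  · exact Or.inl h
  · exact absurd (h ▸ H.phi k) h20
  · exact Or.inr h

theorem c5b_spec (H : NseHyp N S {1, 15, 20, 24}) (B : A5Basic N S) (h25 : ¬ 25 ∣ N) :
    ∀ m, S m ≠ 0 → m ∈ c5bA := by
  intro m hm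
  have hmN := H.dvd m hm
  have hm0 : m ≠ 0 := by
    rintro rfl
    exact H.pos.ne' (Nat.eq_zero_of_zero_dvd hmN)
  have hzero : ∀ k, 3 ≤ k → ¬ Nat.totient k ∣ 20 → ¬ Nat.totient k ∣ 24 → k ∣ m → False :=
    fun k hk h20 h24 hkm => H.closed m k hm hkm (c5b_zero H B k hk h20 h24)
  have h32 : ¬ 32 ∣ m := hzero 32 (by norm_num) (by decide) (by decide)
  have h27 : ¬ 27 ∣ m := hzero 27 (by norm_num) (by decide) (by decide)
  have h25' : ¬ 25 ∣ m := fun h => h25 (h.trans hmN)
  have hdvd := c5b_dvd720 m hm0 (fun p hp hpm => B.primes p hp (hpm.trans hmN)) h32 h27 h25'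
  have hmem : m ∈ Nat.divisors 720 := Nat.mem_divisors.2 ⟨hdvd, by norm_num⟩
  rw [show Nat.divisors 720 = {1, 2, 3, 4, 5, 6, 8, 9, 10, 12, 15, 16, 18, 20, 24, 30, 36, 40, 45,
    48, 60, 72, 80, 90, 120, 144, 180, 240, 360, 720} by decide] at hmem
  simp only [Finset.mem_insert, Finset.mem_singleton] at hmem
  rcases hmem with rfl | rfl | rfl | rfl | rfl | rfl | rfl | rfl | rfl | rfl | rfl | rfl | rfl | rfl |
    rfl | rfl | rfl | rfl | rfl | rfl | rfl | rfl | rfl | rfl | rfl | rfl | rfl | rfl | rfl | rfl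
  all_goals first
    | (unfold c5bA c5bL; decide)
    | (exfalso; exact hzero _ (by norm_num) (by decide) (by decide) (dvd_refl _))

theorem c5b_total (H : NseHyp N S {1, 15, 20, 24}) (hspec : ∀ m, S m ≠ 0 → m ∈ c5bA) :
    N = S 1 + S 2 + S 3 + S 4 + S 5 + S 6 + S 8 + S 9 + S 10 + S 12 + S 15 + S 16 + S 18 + S 20 +
      S 24 + S 30 + S 36 + S 45 + S 72 + S 90 := by
  have h1 := H.total
  have e1 : ∑ d ∈ N.divisors ∩ c5bA, S d = ∑ d ∈ N.divisors, S d :=
    Finset.sum_subset Finset.inter_subset_left (fun d hdN hd => by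
      by_contra h0
      exact hd (Finset.mem_inter.2 ⟨hdN, hspec d h0⟩))
  have e2 : ∑ d ∈ N.divisors ∩ c5bA, S d = ∑ d ∈ c5bA, S d :=
    Finset.sum_subset Finset.inter_subset_right (fun d hdA hd => by
      by_contra h0
      exact hd (Finset.mem_inter.2 ⟨Nat.mem_divisors.2 ⟨H.dvd d h0, H.pos.ne'⟩, hdA⟩))
  rw [← e1, e2] at h1
  rw [h1]
  unfold c5bA
  rw [List.sum_toFinset _ (by unfold c5bL; decide)]
  unfold c5bL
  simp only [List.map_cons, List.map_nil, List.sum_cons, List.sum_nil]
  ring


theorem c5b_frobL (H : NseHyp N S {1, 15, 20, 24}) (k : ℕ) (L : List ℕ)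
    (hL : Nat.divisors k = L.toFinset) (hnd : L.Nodup) (h : k ∣ N) : k ∣ (L.map S).sum := by
  have := H.frob k h
  rwa [hL, List.sum_toFinset _ hnd] at this

theorem c5b_enc {x : ℕ} (h : x = 0 ∨ x = 20 ∨ x = 24) : ∃ a b : ℕ, x = 20 * a + 24 * b := by
  rcases h with h | h | h
  · exact ⟨0, 0, by omega⟩
  · exact ⟨1, 0, by omega⟩
  · exact ⟨0, 1, by omega⟩

theorem c5b_enc' {x : ℕ} (h : x = 0 ∨ x = 24) : ∃ a b : ℕ, x = 20 * a + 24 * b := by
  rcases h with h | h
  · exact ⟨0, 0, by omega⟩
  · exact ⟨0, 1, by omega⟩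

set_option maxHeartbeats 4000000 in
/-- 343108 C5b -/
theorem arith_A5 {N : ℕ} {S : ℕ → ℕ} (H : NseHyp N S {1, 15, 20, 24}) (hs : SylowHyp N S) (B : A5Basic N S) :
    N = 60 ∧ S 3 = 20 ∧ S 5 = 24 ∧ ∀ m, S m ≠ 0 → m ≤ 5 := by
  have h1 := H.one
  have h2 := B.two
  have hv := B.val
  have h2N : 2 ∣ N := H.dvd 2 (by rw [h2]; norm_num)
  have zc : ∀ m d, d ∣ m → S d = 0 → S m = 0 := fun m d hd h0 => by
    by_contra h
    exact H.closed m d h hd h0
  have hv' : ∀ k, 3 ≤ k → ¬ Nat.totient k ∣ 20 → S k = 0 ∨ S k = 24 := c5b_not20 H B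
  have z27 : S 27 = 0 := c5b_zero H B 27 (by norm_num) (by decide) (by decide)
  -- Step A: 25 does not divide N
  have h25 : ¬ 25 ∣ N := by
    intro h25
    have h5N : 5 ∣ N := Dvd.dvd.trans (by norm_num) h25
    have s5 := B.five h5N
    have f25 := c5b_frobL H 25 [1, 5, 25] (by decide) (by decide) h25
    simp only [List.map_cons, List.map_nil, List.sum_cons, List.sum_nil] at f25
    have s25 : S 25 = 0 := by
      rcases hv 25 (by norm_num) with h | h | h <;> omega
    have h50 : 50 ∣ N :=
      Nat.Coprime.mul_dvd_of_dvd_of_dvd (by norm_num : Nat.Coprime 2 25) h2N h25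
    have f50 := c5b_frobL H 50 [1, 2, 5, 10, 25, 50] (by decide) (by decide) h50
    simp only [List.map_cons, List.map_nil, List.sum_cons, List.sum_nil] at f50
    have s50 : S 50 = 0 := zc 50 25 (by norm_num) s25
    rcases hv 10 (by norm_num) with h | h | h <;> omega
  have hspec := c5b_spec H B h25
  have htot := c5b_total H hspec
  -- Step B: 5 divides N
  have h5N : 5 ∣ N := by
    by_contra h5
    have z : ∀ m, 5 ∣ m → S m = 0 := fun m hm => by
      by_contra h0
      exact h5 (hm.trans (H.dvd m h0))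
    have z5 := z 5 (dvd_refl _)
    have z10 := z 10 (by norm_num)
    have z15 := z 15 (by norm_num)
    have z20 := z 20 (by norm_num)
    have z30 := z 30 (by norm_num)
    have z45 := z 45 (by norm_num)
    have z90 := z 90 (by norm_num)
    by_cases h3 : 3 ∣ N
    · have s3 := B.three h3
      have h9 : 9 ∣ N := by
        by_contra h9
        obtain ⟨n, hn1, hn2, hn3⟩ := hs 3 1 Nat.prime_three (by norm_num)
          (by rw [pow_one]; exact h3) (by norm_num; exact h9) (by rw [pow_one, s3]; norm_num)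
        rw [pow_one, show Nat.totient 3 = 2 by decide, s3] at hn1
        have hn : n = 10 := by omega
        subst hn
        exact h5 (Dvd.dvd.trans (by norm_num) hn3)
      have f9 := c5b_frobL H 9 [1, 3, 9] (by decide) (by decide) h9
      simp only [List.map_cons, List.map_nil, List.sum_cons, List.sum_nil] at f9
      have s9 : S 9 = 24 := by
        rcases hv' 9 (by norm_num) (by decide) with h | h <;> omega
      have h18 : 18 ∣ N :=
        Nat.Coprime.mul_dvd_of_dvd_of_dvd (by norm_num : Nat.Coprime 2 9) h2N h9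
      have f18 := c5b_frobL H 18 [1, 2, 3, 6, 9, 18] (by decide) (by decide) h18
      simp only [List.map_cons, List.map_nil, List.sum_cons, List.sum_nil] at f18
      have s6 : S 6 = 24 ∧ S 18 = 24 := by
        rcases hv 6 (by norm_num) with h | h | h <;>
          rcases hv' 18 (by norm_num) (by decide) with h' | h' <;> omega
      have h27 : ¬ 27 ∣ N := by
        intro h27
        have f27 := c5b_frobL H 27 [1, 3, 9, 27] (by decide) (by decide) h27
        simp only [List.map_cons, List.map_nil, List.sum_cons, List.sum_nil] at f27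
        omega
      have b4 : S 4 ≤ 24 := by rcases hv 4 (by norm_num) with h | h | h <;> omega
      have b8 : S 8 ≤ 24 := by rcases hv 8 (by norm_num) with h | h | h <;> omega
      have b12 : S 12 ≤ 24 := by rcases hv 12 (by norm_num) with h | h | h <;> omega
      have b16 : S 16 ≤ 24 := by rcases hv' 16 (by norm_num) (by decide) with h | h <;> omega
      have b24 : S 24 ≤ 24 := by rcases hv' 24 (by norm_num) (by decide) with h | h <;> omega
      have b36 : S 36 ≤ 24 := by rcases hv' 36 (by norm_num) (by decide) with h | h <;> omega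
      have b72 : S 72 ≤ 24 := by rcases hv' 72 (by norm_num) (by decide) with h | h <;> omega
      have p7 : ¬ 7 ∣ N := fun h => by
        rcases B.primes 7 (by norm_num) h with h | h | h <;> omega
      have p11 : ¬ 11 ∣ N := fun h => by
        rcases B.primes 11 (by norm_num) h with h | h | h <;> omega
      have p13 : ¬ 13 ∣ N := fun h => by
        rcases B.primes 13 (by norm_num) h with h | h | h <;> omega
      have hN144 : N = 144 := by
        obtain ⟨k, hk⟩ := h18
        have hk1 : 6 ≤ k := by omega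
        have hk2 : k ≤ 15 := by omega
        interval_cases k <;> omega
      obtain ⟨a4, c4, e4⟩ := c5b_enc (hv 4 (by norm_num))
      obtain ⟨a8, c8, e8⟩ := c5b_enc (hv 8 (by norm_num))
      obtain ⟨a12, c12, e12⟩ := c5b_enc (hv 12 (by norm_num))
      obtain ⟨a16, c16, e16⟩ := c5b_enc' (hv' 16 (by norm_num) (by decide))
      obtain ⟨a24, c24, e24⟩ := c5b_enc' (hv' 24 (by norm_num) (by decide))
      obtain ⟨a36, c36, e36⟩ := c5b_enc' (hv' 36 (by norm_num) (by decide))
      obtain ⟨a72, c72, e72⟩ := c5b_enc' (hv' 72 (by norm_num) (by decide))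
      have hR : S 4 + S 8 + S 12 + S 16 + S 24 + S 36 + S 72 = 36 := by omega
      have hAB : 20 * (a4 + a8 + a12 + a16 + a24 + a36 + a72) +
          24 * (c4 + c8 + c12 + c16 + c24 + c36 + c72) = 36 := by
        rw [e4, e8, e12, e16, e24, e36, e72] at hR
        linarith
      generalize a4 + a8 + a12 + a16 + a24 + a36 + a72 = A at hAB
      generalize c4 + c8 + c12 + c16 + c24 + c36 + c72 = C at hAB
      omega
    · have z' : ∀ m, 3 ∣ m → S m = 0 := fun m hm => by
        by_contra h0
        exact h3 (hm.trans (H.dvd m h0))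
      have z3 := z' 3 (dvd_refl _)
      have z6 := z' 6 (by norm_num)
      have z9 := z' 9 (by norm_num)
      have z12 := z' 12 (by norm_num)
      have z18 := z' 18 (by norm_num)
      have z24 := z' 24 (by norm_num)
      have z36 := z' 36 (by norm_num)
      have z72 := z' 72 (by norm_num)
      obtain ⟨m20, hm20⟩ := H.attained 20 (by decide)
      obtain ⟨m24, hm24⟩ := H.attained 24 (by decide)
      have hm20A := hspec m20 (by rw [hm20]; norm_num)
      have hm24A := hspec m24 (by rw [hm24]; norm_num)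
      have c20 : S 4 = 20 ∨ S 8 = 20 := by
        have v16 := hv' 16 (by norm_num) (by decide)
        simp only [c5bA, c5bL, List.mem_toFinset, List.mem_cons, List.mem_nil_iff, or_false] at hm20A
        rcases hm20A with rfl | rfl | rfl | rfl | rfl | rfl | rfl | rfl | rfl | rfl | rfl | rfl | rfl |
          rfl | rfl | rfl | rfl | rfl | rfl | rfl <;> omega
      have c24 : S 4 = 24 ∨ S 8 = 24 ∨ S 16 = 24 := by
        simp only [c5bA, c5bL, List.mem_toFinset, List.mem_cons, List.mem_nil_iff, or_false] at hm24A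
        rcases hm24A with rfl | rfl | rfl | rfl | rfl | rfl | rfl | rfl | rfl | rfl | rfl | rfl | rfl |
          rfl | rfl | rfl | rfl | rfl | rfl | rfl <;> omega
      rcases hv 4 (by norm_num) with h | h | h <;> rcases hv 8 (by norm_num) with h' | h' | h' <;>
        rcases hv' 16 (by norm_num) (by decide) with h'' | h'' <;> omega
  -- Step C
  have s5 := B.five h5N
  obtain ⟨n, hn1, hn2, hn3⟩ := hs 5 1 Nat.prime_five (by norm_num)
    (by rw [pow_one]; exact h5N) (by norm_num; exact h25) (by rw [pow_one, s5]; norm_num)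
  rw [pow_one, show Nat.totient 5 = 4 by decide, s5] at hn1
  have hn : n = 6 := by omega
  subst hn
  have h3N : 3 ∣ N := Dvd.dvd.trans (by norm_num) hn3
  have s3 := B.three h3N
  have h15 : 15 ∣ N :=
    Nat.Coprime.mul_dvd_of_dvd_of_dvd (by norm_num : Nat.Coprime 3 5) h3N h5N
  have h30 : 30 ∣ N :=
    Nat.Coprime.mul_dvd_of_dvd_of_dvd (by norm_num : Nat.Coprime 2 15) h2N h15
  have f15 := c5b_frobL H 15 [1, 3, 5, 15] (by decide) (by decide) h15
  simp only [List.map_cons, List.map_nil, List.sum_cons, List.sum_nil] at f15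
  have s15 : S 15 = 0 := by
    rcases hv' 15 (by norm_num) (by decide) with h | h <;> omega
  have s30 : S 30 = 0 := zc 30 15 (by norm_num) s15
  have f30 := c5b_frobL H 30 [1, 2, 3, 5, 6, 10, 15, 30] (by decide) (by decide) h30
  simp only [List.map_cons, List.map_nil, List.sum_cons, List.sum_nil] at f30
  have s6 : S 6 = 0 ∧ S 10 = 0 := by
    rcases hv 6 (by norm_num) with h | h | h <;> rcases hv 10 (by norm_num) with h' | h' | h' <;> omega
  obtain ⟨s6, s10⟩ := s6
  have s12 := zc 12 6 (by norm_num) s6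
  have s18 := zc 18 6 (by norm_num) s6
  have s24 := zc 24 6 (by norm_num) s6
  have s36 := zc 36 6 (by norm_num) s6
  have s72 := zc 72 6 (by norm_num) s6
  have s20 := zc 20 10 (by norm_num) s10
  have s45 := zc 45 15 (by norm_num) s15
  have s90 := zc 90 15 (by norm_num) s15
  have h9 : ¬ 9 ∣ N := by
    intro h9
    have h18 : 18 ∣ N :=
      Nat.Coprime.mul_dvd_of_dvd_of_dvd (by norm_num : Nat.Coprime 2 9) h2N h9
    have f18 := c5b_frobL H 18 [1, 2, 3, 6, 9, 18] (by decide) (by decide) h18
    simp only [List.map_cons, List.map_nil, List.sum_cons, List.sum_nil] at f18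
    have f9 := c5b_frobL H 9 [1, 3, 9] (by decide) (by decide) h9
    simp only [List.map_cons, List.map_nil, List.sum_cons, List.sum_nil] at f9
    rcases hv' 9 (by norm_num) (by decide) with h | h <;> omega
  have s9 : S 9 = 0 := by
    by_contra h0
    exact h9 (H.dvd 9 h0)
  have hN : N = 60 ∧ S 4 = 0 ∧ S 8 = 0 ∧ S 16 = 0 := by
    rcases hv 4 (by norm_num) with h | h | h <;> rcases hv 8 (by norm_num) with h' | h' | h' <;>
      rcases hv' 16 (by norm_num) (by decide) with h'' | h'' <;> omega
  obtain ⟨hN, s4, s8, s16⟩ := hN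
  refine ⟨hN, s3, s5, ?_⟩
  intro m hm
  have hmA := hspec m hm
  simp only [c5bA, c5bL, List.mem_toFinset, List.mem_cons, List.mem_nil_iff, or_false] at hmA
  rcases hmA with rfl | rfl | rfl | rfl | rfl | rfl | rfl | rfl | rfl | rfl | rfl | rfl | rfl |
    rfl | rfl | rfl | rfl | rfl | rfl | rfl <;> omega

end Cfsg.Agent.Lib.Helper50.Nse
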