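import Cfsg.Agent.Lib.Helper50.DiagPlus
import Cfsg.Agent.Lib.Helper50.ClassParity
import Cfsg.Agent.Lib.Helper43.WittQuad

set_option autoImplicit false

/-! Witt transitivity inside the isometry group and inside `Ω`. -/

namespace Cfsg.Agent.Lib.Helper50

open Matrix QuadraticMap Module Cfsg.Agent.Lib.Helper19

variable {F : Type*} [Field F] {ι : Type} [Fintype ι] [DecidableEq ι]

/-- image of a subspace under an element of the isometry group -/
abbrev omap (Q : (ι → F) → F) (s : ↥(Cfsg.isometryGroup F Q)) (U : Submodule F (ι → F)) :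
    Submodule F (ι → F) :=
  U.map (Matrix.mulVecLin ((s : GL ι F) : Matrix ι ι F))

theorem omap_mul (Q : (ι → F) → F) (s t : ↥(Cfsg.isometryGroup F Q)) (U : Submodule F (ι → F)) :
    omap Q (s * t) U = omap Q s (omap Q t U) := by
  unfold omap
  rw [Subgroup.coe_mul, Units.val_mul, Matrix.mulVecLin_mul, Submodule.map_comp]

theorem omap_one (Q : (ι → F) → F) (U : Submodule F (ι → F)) : omap Q 1 U = U := by
  unfold omap
  rw [Subgroup.coe_one, Units.val_one, Matrix.mulVecLin_one]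
  exact Submodule.map_id U

theorem omap_inv (Q : (ι → F) → F) (s : ↥(Cfsg.isometryGroup F Q)) (U W : Submodule F (ι → F))
    (h : omap Q s U = W) : omap Q s⁻¹ W = U := by
  rw [← h, ← omap_mul, inv_mul_cancel, omap_one]

/-- Witt: an isometry between subspaces is induced by an element of the isometry group -/
theorem exists_O_of_isometry (Q : QuadraticForm F (ι → F))
    (hQ : (QuadraticMap.polarBilin Q).Nondegenerate) (U W : Submodule F (ι → F))
    (φ : U ≃ₗ[F] W) (hφ : ∀ u : U, Q (φ u : ι → F) = Q (u : ι → F)) :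
    ∃ s : ↥(Cfsg.isometryGroup F (⇑Q)),
      (∀ u : U, ((s : GL ι F) : Matrix ι ι F) *ᵥ (u : ι → F) = (φ u : ι → F)) ∧
        omap (⇑Q) s U = W := by
  obtain ⟨g, hg1, hg2⟩ := Cfsg.Agent.Lib.Helper43.witt_quad Q hQ U W φ hφ
  obtain ⟨s, hs⟩ := Cfsg.Agent.Lib.Helper43.exists_ofLin Q hQ (g : (ι → F) →ₗ[F] (ι → F))
    (fun v => hg1 v)
  have hsv : ∀ v, ((s : GL ι F) : Matrix ι ι F) *ᵥ v = g v := by
    intro v
    rw [← Cfsg.Agent.Lib.Helper43.linOf_apply, hs]
    rfl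
  refine ⟨s, fun u => by rw [hsv, hg2], ?_⟩
  apply le_antisymm
  · rintro w ⟨u, hu, rfl⟩
    rw [Matrix.mulVecLin_apply, hsv, hg2 ⟨u, hu⟩]
    exact (φ ⟨u, hu⟩).2
  · intro w hw
    refine ⟨(φ.symm ⟨w, hw⟩ : ι → F), (φ.symm ⟨w, hw⟩).2, ?_⟩
    rw [Matrix.mulVecLin_apply, hsv, hg2, LinearEquiv.apply_symm_apply]

/-- the isometry group is transitive on totally singular subspaces of a given dimension -/
theorem exists_O_map_singular (Q : QuadraticForm F (ι → F))
    (hQ : (QuadraticMap.polarBilin Q).Nondegenerate) (U W : Submodule F (ι → F))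
    (hd : finrank F U = finrank F W) (hU : ∀ u ∈ U, Q u = 0) (hW : ∀ w ∈ W, Q w = 0) :
    ∃ s : ↥(Cfsg.isometryGroup F (⇑Q)), omap (⇑Q) s U = W := by
  obtain ⟨s, -, hs⟩ := exists_O_of_isometry Q hQ U W (LinearEquiv.ofFinrankEq U W hd)
    (fun u => by rw [hU u u.2, hW _ (LinearEquiv.ofFinrankEq U W hd u).2])
  exact ⟨s, hs⟩

/-- the class distance of an isometry has the parity of the number of reflections in any
factorisation -/
theorem class_parity_iff (Q : QuadraticForm F (ι → F))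
    (hQ : (QuadraticMap.polarBilin Q).Nondegenerate) (m : ℕ) (hV : Fintype.card ι = 2 * m)
    (Y : Submodule F (ι → F)) (hY : ∀ y ∈ Y, Q y = 0) (hYd : finrank F Y = m)
    (g : ↥(Cfsg.isometryGroup F (⇑Q))) (l : List (ι → F)) (hl : ∀ u ∈ l, Q u ≠ 0)
    (hg : ((g : GL ι F) : Matrix ι ι F) = (l.map (fun v => Cfsg.reflectionMatrix (⇑Q) v)).prod) :
    Even (m - finrank F ↥(Y ⊓ omap (⇑Q) g Y)) ↔ Even l.length := by
  have hlin : Matrix.mulVecLin ((g : GL ι F) : Matrix ι ι F) =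
      ((TF.prodEquiv Q l : _ ≃ₗ[F] _) : _ →ₗ[F] _) := by
    apply LinearMap.ext
    intro x
    rw [Matrix.mulVecLin_apply, LinearEquiv.coe_coe, TF.prodEquiv_apply Q l hl, hg,
      prod_reflectionMatrix_mulVec]
  unfold omap
  rw [hlin]
  exact TF.parity_prodEquiv Q hQ m (by rw [Module.finrank_fintype_fun_eq_card, hV]) hY hYd l hl

section adjust

variable [Fintype F]

theorem detHom_eq_one_or (h2 : (2 : F) ≠ 0) (Q : QuadraticForm F (ι → F))
    (hQ : (QuadraticMap.polarBilin Q).Nondegenerate) (σ : ↥(Cfsg.isometryGroup F (⇑Q))) :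
    detHom (⇑Q) σ = 1 ∨ detHom (⇑Q) σ = -1 := by
  obtain ⟨l, hl, hA⟩ := isometry_eq_prod_reflectionMatrix h2 Q hQ _ (O_isometry (⇑Q) σ)
  have hdet : (((σ : GL ι F) : Matrix ι ι F)).det = (-1) ^ l.length := by
    rw [hA, det_prod_reflection Q l hl]
  rcases neg_one_pow_eq_or F l.length with h | h
  · left
    apply Units.ext
    rw [detHom_val, hdet, h, Units.val_one]
  · right
    apply Units.ext
    rw [detHom_val, hdet, h]
    simp

/-- odd characteristic: every coset of `Ω` meets `{1, d₂, d₁, d₁ d₂}` once `d₁` has determinant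
`-1` and `d₂` has determinant `1` and non-trivial spinor norm -/
theorem exists_adjust_odd (h2 : (2 : F) ≠ 0) (Q : QuadraticForm F (ι → F))
    (hQ : (QuadraticMap.polarBilin Q).Nondegenerate) (ζ : F) (hζ : ¬ IsSquare ζ)
    (σ d₁ d₂ : ↥(Cfsg.isometryGroup F (⇑Q))) (hd₁ : detHom (⇑Q) d₁ = -1)
    (hd₂ : detHom (⇑Q) d₂ = 1) (hd₂' : theta (⇑Q) ζ d₂ = -1) :
    σ ∈ Cfsg.Omega F (⇑Q) ∨ σ * d₂ ∈ Cfsg.Omega F (⇑Q) ∨ σ * d₁ ∈ Cfsg.Omega F (⇑Q) ∨
      σ * d₁ * d₂ ∈ Cfsg.Omega F (⇑Q) := by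
  change σ ∈ commutator _ ∨ σ * d₂ ∈ commutator _ ∨ σ * d₁ ∈ commutator _ ∨
    σ * d₁ * d₂ ∈ commutator _
  simp only [mem_commutator_iff h2 Q hQ ζ hζ, map_mul, hd₁, hd₂, hd₂']
  rcases detHom_eq_one_or h2 Q hQ σ with hs | hs <;>
  rcases Int.units_eq_one_or (theta (⇑Q) ζ σ) with ht | ht <;>
  rcases Int.units_eq_one_or (theta (⇑Q) ζ d₁) with ht1 | ht1 <;>
  simp [hs, ht, ht1]

/-- odd characteristic, determinant one: one of `σ`, `σ * d₂` lies in `Ω` -/
theorem exists_adjust_odd_det_one (h2 : (2 : F) ≠ 0) (Q : QuadraticForm F (ι → F))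
    (hQ : (QuadraticMap.polarBilin Q).Nondegenerate) (ζ : F) (hζ : ¬ IsSquare ζ)
    (σ d₂ : ↥(Cfsg.isometryGroup F (⇑Q))) (hσ : detHom (⇑Q) σ = 1)
    (hd₂ : detHom (⇑Q) d₂ = 1) (hd₂' : theta (⇑Q) ζ d₂ = -1) :
    σ ∈ Cfsg.Omega F (⇑Q) ∨ σ * d₂ ∈ Cfsg.Omega F (⇑Q) := by
  change σ ∈ commutator _ ∨ σ * d₂ ∈ commutator _
  simp only [mem_commutator_iff h2 Q hQ ζ hζ, map_mul, hσ, hd₂, hd₂']
  rcases Int.units_eq_one_or (theta (⇑Q) ζ σ) with ht | ht <;>
  simp [ht]

end adjust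

section plus

variable {m : ℕ}

/-- the standard maximal totally singular subspace `{y = 0}` -/
abbrev kerInr (F : Type*) [Field F] (m : ℕ) : Submodule F (Fin m ⊕ Fin m → F) :=
  LinearMap.ker (LinearMap.funLeft F F (Sum.inr : Fin m → Fin m ⊕ Fin m))

theorem finrank_kerInr : finrank F ↥(kerInr F m) = m := by
  have hsurj : Function.Surjective (LinearMap.funLeft F F (Sum.inr : Fin m → Fin m ⊕ Fin m)) := by
    intro w
    exact ⟨Sum.elim 0 w, by funext i; simp [LinearMap.funLeft_apply]⟩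
  have h := LinearMap.finrank_range_add_finrank_ker
    (LinearMap.funLeft F F (Sum.inr : Fin m → Fin m ⊕ Fin m))
  rw [LinearMap.range_eq_top.mpr hsurj, finrank_top, Module.finrank_fintype_fun_eq_card,
    Module.finrank_fintype_fun_eq_card, Fintype.card_sum, Fintype.card_fin] at h
  change finrank F ↥(LinearMap.ker (LinearMap.funLeft F F (Sum.inr : Fin m → Fin m ⊕ Fin m))) = m
  omega

theorem kerInr_singular : ∀ v ∈ kerInr F m, QPlus m F v = 0 := by
  intro v hv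
  rw [LinearMap.mem_ker] at hv
  rw [QPlus_apply]
  apply Finset.sum_eq_zero
  intro i _
  have : v (Sum.inr i) = 0 := congrFun hv i
  rw [this, mul_zero]

theorem omap_diagPlusO_le (A : GL (Fin m) F) :
    omap (⇑(QPlus m F)) (diagPlusO A) (kerInr F m) ≤ kerInr F m := by
  rintro w ⟨v, hv, rfl⟩
  rw [SetLike.mem_coe, LinearMap.mem_ker] at hv
  rw [LinearMap.mem_ker, Matrix.mulVecLin_apply, diagPlusO_val]
  obtain ⟨v₁, v₂, rfl⟩ : ∃ v₁ v₂, v = Sum.elim v₁ v₂ :=
    ⟨v ∘ Sum.inl, v ∘ Sum.inr, by funext i; cases i <;> rfl⟩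
  have hv2 : v₂ = 0 := hv
  rw [Matrix.fromBlocks_mulVec, hv2]
  funext i
  simp [LinearMap.funLeft_apply]

theorem diagPlusO_one : diagPlusO (1 : GL (Fin m) F) = 1 := by
  apply O_ext
  rw [diagPlusO_val]
  simp [Matrix.fromBlocks_one]

theorem omap_diagPlusO (A : GL (Fin m) F) :
    omap (⇑(QPlus m F)) (diagPlusO A) (kerInr F m) = kerInr F m := by
  apply le_antisymm (omap_diagPlusO_le A)
  have h1 := omap_diagPlusO_le (A⁻¹)
  have h2 : omap (⇑(QPlus m F)) (diagPlusO A) (omap (⇑(QPlus m F)) (diagPlusO A⁻¹) (kerInr F m)) =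
      kerInr F m := by
    rw [← omap_mul, ← diagPlusO_mul, mul_inv_cancel, diagPlusO_one, omap_one]
  calc kerInr F m = omap (⇑(QPlus m F)) (diagPlusO A)
        (omap (⇑(QPlus m F)) (diagPlusO A⁻¹) (kerInr F m)) := h2.symm
    _ ≤ omap (⇑(QPlus m F)) (diagPlusO A) (kerInr F m) := Submodule.map_mono h1

theorem exists_GL_det (hm : 1 ≤ m) (c : F) (hc : c ≠ 0) :
    ∃ A : GL (Fin m) F, (A : Matrix (Fin m) (Fin m) F).det = c := by
  have hdet : (Matrix.diagonal (Function.update (fun _ : Fin m => (1 : F)) ⟨0, hm⟩ c)).det = c := by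
    rw [Matrix.det_diagonal, Finset.prod_update_of_mem (Finset.mem_univ _)]
    simp
  exact ⟨Matrix.GeneralLinearGroup.mkOfDetNeZero
    (Matrix.diagonal (Function.update (fun _ : Fin m => (1 : F)) ⟨0, hm⟩ c))
    (hdet.symm ▸ hc), hdet⟩

end plus

end Cfsg.Agent.Lib.Helper50
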