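import Cfsg.Agent.Lib.Helper50.MinusK
import Cfsg.Agent.Lib.Helper50.WittMain
import Cfsg.Agent.Lib.Helper50.TypeCriteria
import Cfsg.Agent.Lib.Helper50.GeoBridge
import Cfsg.Agent.Lib.Helper50.OmegaTransitive
import Cfsg.Agent.Lib.Helper09.AnisoExt
import Cfsg.Prelude.Def_GeometricClasses

set_option autoImplicit false

/-!
# K-OEvenX-X7: a rational structure over a subfield of index two forces plus type
-/

namespace Cfsg.Agent.Lib.Helper50.OEvenX

open Matrix Module QuadraticMap Cfsg.Agent.Lib.Helper50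

universe u

variable {F : Type u} [Field F]

section descent

variable {ι : Type} [Fintype ι] [DecidableEq ι] (F₀ : Subfield F)

/-- coordinatewise inclusion -/
def upV {κ : Type} (u : κ → F₀) : κ → F := fun i => F₀.subtype (u i)

theorem upV_add {κ : Type} (u v : κ → F₀) : upV F₀ (u + v) = upV F₀ u + upV F₀ v := by
  funext i; simp [upV]

theorem upV_smul {κ : Type} (a : F₀) (u : κ → F₀) : upV F₀ (a • u) = (a : F) • upV F₀ u := by
  funext i; simp [upV]

theorem upV_single {κ : Type} [DecidableEq κ] (i : κ) :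
    upV F₀ (Pi.single i (1 : F₀)) = Pi.single i (1 : F) := by
  funext k
  by_cases hk : k = i
  · subst hk; simp [upV]
  · simp [upV, Pi.single_eq_of_ne hk]

theorem upV_injective {κ : Type} : Function.Injective (upV F₀ (κ := κ)) := by
  intro u v h
  funext i
  exact Subtype.ext (congrFun h i)

omit [Fintype ι] [DecidableEq ι] in
theorem upV_mulVec {κ : Type} [Fintype κ] (A : Matrix ι κ F₀) (y : κ → F₀) :
    A.map F₀.subtype *ᵥ upV F₀ y = upV F₀ (A *ᵥ y) := by
  funext i
  simp [upV, Matrix.mulVec, dotProduct, map_sum, map_mul]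

omit [Fintype ι] [DecidableEq ι] in
/-- descent of a quadratic form whose values on the rational points are rational -/
theorem exists_descent (R : QuadraticForm F (ι → F))
    (hR : ∀ u : ι → F₀, R (upV F₀ u) ∈ F₀) :
    ∃ Q₀ : QuadraticForm F₀ (ι → F₀), ∀ u, ((Q₀ u : F₀) : F) = R (upV F₀ u) := by
  let q : (ι → F₀) → F₀ := fun u => ⟨R (upV F₀ u), hR u⟩
  have hq : ∀ u, ((q u : F₀) : F) = R (upV F₀ u) := fun u => rfl
  have hpol : ∀ u v, ((QuadraticMap.polar q u v : F₀) : F) =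
      QuadraticMap.polar R (upV F₀ u) (upV F₀ v) := by
    intro u v
    unfold QuadraticMap.polar
    rw [Subfield.coe_sub, Subfield.coe_sub, hq, hq, hq, upV_add]
  refine ⟨QuadraticMap.ofPolar q ?_ ?_ ?_, fun u => rfl⟩
  · intro a x
    apply Subtype.ext
    rw [smul_eq_mul, Subfield.coe_mul, Subfield.coe_mul, hq, hq, upV_smul, QuadraticMap.map_smul,
      smul_eq_mul]
  · intro x x' y
    apply Subtype.ext
    rw [Subfield.coe_add, hpol, hpol, hpol, upV_add, QuadraticMap.polar_add_left]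
  · intro a x y
    apply Subtype.ext
    rw [smul_eq_mul, Subfield.coe_mul, hpol, hpol, upV_smul, QuadraticMap.polar_smul_left,
      smul_eq_mul]

/-- the descended form is nondegenerate -/
theorem qnd_descent (R : QuadraticForm F (ι → F)) (hRnd : QND R)
    (Q₀ : QuadraticForm F₀ (ι → F₀)) (hQ₀ : ∀ u, ((Q₀ u : F₀) : F) = R (upV F₀ u)) :
    QND Q₀ := by
  have hpol : ∀ u v, ((QuadraticMap.polar Q₀ u v : F₀) : F) =
      QuadraticMap.polar R (upV F₀ u) (upV F₀ v) := by
    intro u v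
    unfold QuadraticMap.polar
    rw [Subfield.coe_sub, Subfield.coe_sub, hQ₀, hQ₀, hQ₀, upV_add]
  intro v hv
  have h1 : ∀ z : ι → F, QuadraticMap.polar R (upV F₀ v) z = 0 := by
    have hℓ0 : QuadraticMap.polarBilin R (upV F₀ v) = 0 := by
      apply (Pi.basisFun F ι).ext
      intro i
      rw [Pi.basisFun_apply, LinearMap.zero_apply, QuadraticMap.polarBilin_apply_apply,
        ← upV_single F₀ i, ← hpol, hv]
      rfl
    intro z
    have := congrArg (fun ℓ : (ι → F) →ₗ[F] F => ℓ z) hℓ0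
    simpa [QuadraticMap.polarBilin_apply_apply] using this
  have h2 : upV F₀ v = 0 := hRnd _ h1
  apply upV_injective F₀
  rw [h2]
  funext i
  simp [upV]

/-- transport of a totally singular subspace of a model along a rational isometry -/
theorem transport_ts {κ : Type} [Fintype κ] [DecidableEq κ]
    (R : QuadraticForm F (ι → F)) (Q₀ : QuadraticForm F₀ (ι → F₀))
    (hQ₀ : ∀ u, ((Q₀ u : F₀) : F) = R (upV F₀ u))
    (S : QuadraticForm F (κ → F)) (S₀ : (κ → F₀) → F₀)
    (hS : ∀ y, ((S₀ y : F₀) : F) = S (upV F₀ y))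
    (φ : (ι → F₀) ≃ₗ[F₀] (κ → F₀)) (hφ : ∀ v, S₀ (φ v) = Q₀ v)
    (Y : Submodule F (κ → F)) (hY : ∀ y ∈ Y, S y = 0) :
    ∃ U : Submodule F (ι → F), finrank F U = finrank F Y ∧ ∀ u ∈ U, R u = 0 := by
  set A : Matrix ι κ F₀ := LinearMap.toMatrix' (φ.symm : (κ → F₀) →ₗ[F₀] (ι → F₀)) with hA
  set A' : Matrix κ ι F₀ := LinearMap.toMatrix' (φ : (ι → F₀) →ₗ[F₀] (κ → F₀)) with hA'
  have hA'A : A' * A = 1 := by
    rw [hA, hA', ← LinearMap.toMatrix'_comp]
    have : (φ : (ι → F₀) →ₗ[F₀] (κ → F₀)).comp (φ.symm : (κ → F₀) →ₗ[F₀] (ι → F₀)) =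
        LinearMap.id := LinearMap.ext fun x => by simp
    rw [this, LinearMap.toMatrix'_id]
  have hAy : ∀ y : κ → F₀, A *ᵥ y = φ.symm y := by
    intro y
    rw [hA, ← Matrix.toLin'_apply, Matrix.toLin'_toMatrix']
    rfl
  have key : R.comp (Matrix.toLin' (A.map F₀.subtype)) = S := by
    apply quadForm_ext_hom F₀.subtype
    intro y
    change R (Matrix.toLin' (A.map F₀.subtype) (upV F₀ y)) = S (upV F₀ y)
    rw [Matrix.toLin'_apply, upV_mulVec, ← hQ₀, hAy, ← hφ, LinearEquiv.apply_symm_apply, hS]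
  have hinj : Function.Injective (Matrix.toLin' (A.map F₀.subtype)) := by
    have h1 : (A'.map F₀.subtype) * (A.map F₀.subtype) = 1 := by
      rw [← Matrix.map_mul, hA'A, Matrix.map_one _ (map_zero _) (map_one _)]
    intro x y hxy
    have h3 := congrArg (fun z => (A'.map F₀.subtype) *ᵥ z) hxy
    change (A'.map F₀.subtype) *ᵥ (Matrix.toLin' (A.map F₀.subtype) x) =
      (A'.map F₀.subtype) *ᵥ (Matrix.toLin' (A.map F₀.subtype) y) at h3
    rw [Matrix.toLin'_apply, Matrix.toLin'_apply, Matrix.mulVec_mulVec, Matrix.mulVec_mulVec, h1,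
      Matrix.one_mulVec, Matrix.one_mulVec] at h3
    exact h3
  refine ⟨Y.map (Matrix.toLin' (A.map F₀.subtype)), ?_, ?_⟩
  · exact (Submodule.equivMapOfInjective _ hinj Y).finrank_eq.symm
  · rintro _ ⟨y, hy, rfl⟩
    have := congrArg (fun T : QuadraticForm F (κ → F) => T y) key
    simp only [QuadraticMap.comp_apply] at this
    rw [this]
    exact hY y hy

end descent

section main

variable [Fintype F] {n : ℕ}

/-- a quadratic extension has degree two -/
theorem finrank_of_card_sq (F₀ : Subfield F) (hF : Fintype.card F = Nat.card F₀ ^ 2) :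
    finrank F₀ F = 2 := by
  classical
  have : Fintype F₀ := Fintype.ofFinite _
  have h1 : Fintype.card F = Fintype.card F₀ ^ finrank F₀ F := Module.card_eq_pow_finrank
  rw [hF, Nat.card_eq_fintype_card] at h1
  have h2 : 1 < Fintype.card F₀ := Fintype.one_lt_card
  exact (Nat.pow_right_injective h2 h1).symm

/-- **K-OEvenX-X7.** A quadratic-subfield structure forces plus type. -/
theorem plus_of_subfield_two (hn : Even n) (Q : (Fin n → F) → F)
    (hQ : Cfsg.Geo.IsNondegenerateQuadraticForm Q)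
    (F₀ : Subfield F) (hF : Fintype.card F = Nat.card F₀ ^ 2) (P : GL (Fin n) F) (ζ : F)
    (hζ : ζ ≠ 0)
    (hrat : Cfsg.Geo.IsQuadFormRationalStructure (fun v : Fin n → F => ζ * Q v) F₀ P) :
    Cfsg.Geo.IsPlusTypeOn Q ⊤ := by
  classical
  obtain ⟨M, hM⟩ := hn
  set R : QuadraticForm F (Fin n → F) := ζ • (geoForm Q hQ).comp (Matrix.toLin' P.1) with hRdef
  have hRapp : ∀ u, R u = ζ * Q (P.1 *ᵥ u) := by
    intro u
    rw [hRdef, _root_.smul_apply, QuadraticMap.comp_apply, Matrix.toLin'_apply, smul_eq_mul]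
    rfl
  have hRrat : ∀ u : Fin n → F₀, R (upV F₀ u) ∈ F₀ := by
    intro u
    rw [hRapp]
    exact hrat (upV F₀ u) (fun i => (u i).2)
  have hRnd : QND R := by
    intro v hv
    have hp : ∀ w, QuadraticMap.polar R v w =
        ζ * QuadraticMap.polar (geoForm Q hQ) (P.1 *ᵥ v) (P.1 *ᵥ w) := by
      intro w
      unfold QuadraticMap.polar
      rw [hRapp, hRapp, hRapp, Matrix.mulVec_add]
      change _ = ζ * (Q _ - Q _ - Q _)
      ring
    have h1 : ∀ z, QuadraticMap.polar (geoForm Q hQ) (P.1 *ᵥ v) z = 0 := by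
      intro z
      have h := hv (P⁻¹.1 *ᵥ z)
      rw [hp, mulVec_inv_mulVec] at h
      exact (mul_eq_zero.mp h).resolve_left hζ
    have h2 : P.1 *ᵥ v = 0 := QND_of_nondegenerate _ (geoForm_nondegenerate Q hQ) _ h1
    have h3 := inv_mulVec_mulVec P v
    rw [h2, Matrix.mulVec_zero] at h3
    exact h3.symm
  obtain ⟨Q₀, hQ₀⟩ := exists_descent F₀ R hRrat
  have hQND := qnd_descent F₀ R hRnd Q₀ hQ₀
  have hfr : finrank F₀ (Fin n → F₀) = n := Module.finrank_fin_fun F₀
  -- conclusion from a totally singular subspace for `R`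
  have concl : ∀ (m : ℕ), n = 2 * m → (∃ U : Submodule F (Fin n → F), finrank F U = m ∧
      ∀ u ∈ U, R u = 0) → Cfsg.Geo.IsPlusTypeOn Q ⊤ := by
    rintro m hm ⟨U, hU, hU0⟩
    have hinj : Function.Injective (Matrix.toLin' P.1) := by
      intro x y hxy
      have h3 := congrArg (fun z => P⁻¹.1 *ᵥ z) hxy
      change P⁻¹.1 *ᵥ (Matrix.toLin' P.1 x) = P⁻¹.1 *ᵥ (Matrix.toLin' P.1 y) at h3
      rw [Matrix.toLin'_apply, Matrix.toLin'_apply, inv_mulVec_mulVec, inv_mulVec_mulVec] at h3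
      exact h3
    refine ⟨U.map (Matrix.toLin' P.1), le_top, ?_, ?_⟩
    · rintro _ ⟨u, hu, rfl⟩
      have h := hU0 u hu
      rw [hRapp] at h
      rw [Matrix.toLin'_apply]
      exact (mul_eq_zero.mp h).resolve_left hζ
    · rw [finrank_top, Module.finrank_fin_fun,
        ← (Submodule.equivMapOfInjective _ hinj U).finrank_eq, hU]
      omega
  rcases witt_type n Q₀ hfr hQND with ⟨m, hm, hp⟩ | ⟨m, ζ₀, hm, hζ₀, hp⟩ | ⟨m, c, hm, -, -⟩
  · obtain ⟨φ, hφ⟩ := hp
    have hS : ∀ y : Fin m ⊕ Fin m → F₀,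
        ((Cfsg.quadFormPlus m F₀ y : F₀) : F) = QPlus m F (upV F₀ y) := by
      intro y
      change _ = Cfsg.quadFormPlus m F (upV F₀ y)
      unfold Cfsg.quadFormPlus upV
      push_cast
      rfl
    obtain ⟨U, hU, hU0⟩ := transport_ts F₀ R Q₀ hQ₀ (QPlus m F) (Cfsg.quadFormPlus m F₀) hS φ hφ
      (kerInr F m) kerInr_singular
    exact concl m hm ⟨U, by rw [hU, finrank_kerInr], hU0⟩
  · obtain ⟨φ, hφ⟩ := hp
    have h2 := finrank_of_card_sq F₀ hF
    have : Finite F := Finite.of_fintype F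
    obtain ⟨θ, hθ⟩ := Cfsg.Agent.Lib.Helper09.AnisoExt.exists_root_of_even_finrank
      (F₀ := F₀) (F := F) (by rw [h2]; exact even_two) 1 ζ₀
    have hS : ∀ y : (Fin m ⊕ Fin m) ⊕ Fin 2 → F₀,
        ((Cfsg.quadFormMinus m F₀ 1 ζ₀ y : F₀) : F) =
          QMinus m F (F₀.subtype 1) (F₀.subtype ζ₀) (upV F₀ y) :=
      fun y => (quadFormMinus_map F₀.subtype m 1 ζ₀ y).symm
    obtain ⟨U, hU, hU0⟩ := transport_ts F₀ R Q₀ hQ₀ (QMinus m F (F₀.subtype 1) (F₀.subtype ζ₀))
      (Cfsg.quadFormMinus m F₀ 1 ζ₀) hS φ hφ (YK m θ)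
      (YK_singular m (F₀.subtype 1) (F₀.subtype ζ₀) θ hθ)
    exact concl (m + 1) (by omega) ⟨U, by rw [hU, finrank_YK], hU0⟩
  · omega

end main

end Cfsg.Agent.Lib.Helper50.OEvenX
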