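import Cfsg.Agent.Lib.Helper50.OTsTwoCore
import Cfsg.Agent.Lib.Helper50.PlusForm
import Cfsg.Agent.Lib.Helper62.OPb4
import Cfsg.Agent.Lib.Helper82.OTsTC1

set_option autoImplicit false

/-!
# K-OTs T1 (597322, helper50): `case_two_plus`, the case `r = 2` of S5973
-/

namespace Cfsg.Agent.Lib.Helper50.OTs

open Module Cfsg.Agent.Lib.Helper98.Elus Cfsg.Agent.Lib.Helper98.Sy Cfsg.Agent.Lib.Helper98.Oh
open Cfsg.Agent.Lib.Helper50.OTsTwo
open scoped Matrix MatrixGroups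

universe u
variable {F : Type u} [Field F]

/-- T1 (597322). -/
theorem case_two_plus [Fintype F] {p : ℕ} [Fact p.Prime] [CharP F p] (hp2 : p ≠ 2) (d m : ℕ) (hd : 4 ≤ d)
    (hm : 1 ≤ m) (hmd : m < d) :
    (∀ x : GL (Fin d ⊕ Fin d) F, x ∈ Cfsg.Geo.omegaGL (Cfsg.quadFormPlus d F) →
      (∃ z : F, ((x ^ 2 : GL (Fin d ⊕ Fin d) F) : Matrix (Fin d ⊕ Fin d) (Fin d ⊕ Fin d) F) = z • (1 : Matrix (Fin d ⊕ Fin d) (Fin d ⊕ Fin d) F)) →
      (∀ z : F, (x : Matrix (Fin d ⊕ Fin d) (Fin d ⊕ Fin d) F) ≠ z • (1 : Matrix (Fin d ⊕ Fin d) (Fin d ⊕ Fin d) F)) →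
      ∃ W : Submodule F (Fin d ⊕ Fin d → F), Module.finrank F ↥W = m ∧ (∀ w ∈ W, Cfsg.quadFormPlus d F w = 0) ∧
        W.map (Matrix.toLin' (x : Matrix (Fin d ⊕ Fin d) (Fin d ⊕ Fin d) F)) ≤ W) ↔
    (Fintype.card F % 4 = 1 ∨ (Fintype.card F % 4 = 3 ∧ m + 2 ≤ d ∧ (Even m ∨ (2 * d) % 4 = 2))) := by
  classical
  have h2 : (2 : F) ≠ 0 := two_ne_zero_of_charP hp2
  obtain ⟨Q, hQdef⟩ : ∃ Q : QuadraticForm F (Fin d ⊕ Fin d → F), Q = QPlus d F := ⟨_, rfl⟩
  have hQc : (⇑Q : (Fin d ⊕ Fin d → F) → F) = Cfsg.quadFormPlus d F := by rw [hQdef]; rfl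
  have hQ : (QuadraticMap.polarBilin Q).Nondegenerate := by rw [hQdef]; exact QPlus_nondegenerate
  have hcard : Fintype.card (Fin d ⊕ Fin d) = 2 * d := by
    rw [Fintype.card_sum, Fintype.card_fin]; ring
  have hfr : finrank F (Fin d ⊕ Fin d → F) = 2 * d := by
    rw [Module.finrank_fintype_fun_eq_card, hcard]
  have hne : Nonempty (Fin d ⊕ Fin d) := ⟨Sum.inl ⟨0, by omega⟩⟩
  have hQne : ∃ v, Q v ≠ 0 := by
    refine ⟨Sum.elim (Pi.single ⟨0, by omega⟩ 1) (Pi.single ⟨0, by omega⟩ 1), ?_⟩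
    rw [hQdef, QPlus_elim]
    simp
  have hplus : Plus (QuadraticMap.polarBilin Q) ⊤ := by
    obtain ⟨X, hX0, hXd⟩ := Cfsg.Agent.Lib.Helper13.OPb.exists_ts_QPlus (F := F) d
    refine ⟨X, le_top, ?_, ?_⟩
    · rw [hQdef]; exact hX0
    · rw [hXd, finrank_top, hfr]
  have hI : ∀ x : GL (Fin d ⊕ Fin d) F, x ∈ Cfsg.Geo.omegaGL (⇑Q) → x ∈ Cfsg.isometryGroup F ⇑Q := by
    intro x hx
    exact ((mem_omegaGL_iff _ x).mp hx).1
  have hq4 := card_mod_four (F := F) h2
  have hm1iff : IsSquare (-1 : F) ↔ Fintype.card F % 4 ≠ 3 := FiniteField.isSquare_neg_one_iff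
  rw [← hQc]
  constructor
  · -- necessity
    intro H
    rcases hq4 with hq | hq
    · exact Or.inl hq
    right
    have hm1 : ¬ IsSquare (-1 : F) := by rw [hm1iff]; omega
    refine ⟨hq, ?_, ?_⟩
    · -- the bad involution
      by_contra hcon
      have hmd1 : m = d - 1 := by omega
      obtain ⟨x, hxΩ, hxx, hxns, hbad⟩ :=
        Cfsg.Agent.Lib.Helper82.OTs.exists_bad_involution_plus (F := F) hq d (by omega)
      rw [← hQc] at hxΩ hbad
      obtain ⟨W, hWd, hWts, hWinv⟩ := H x hxΩ ⟨1, by rw [pow_two, Units.val_mul, hxx, one_smul]⟩ hxns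
      exact hbad W (by rw [hWd, hmd1]) hWts hWinv
    · -- an element with square `-1`
      by_contra hcon
      push Not at hcon
      obtain ⟨hmo, hd4⟩ := hcon
      have hde : Even d := by
        rcases Nat.even_or_odd d with h | ⟨k, hk⟩
        · exact h
        · omega
      obtain ⟨x, hxΩ, hxx⟩ := Cfsg.Agent.Lib.Helper62.OPb.exists_sq_neg_one_of_even (F := F) h2 d hde
      rw [← hQc] at hxΩ
      have hxI := hI x hxΩ
      obtain ⟨W, hWd, -, hWinv⟩ := H x hxΩ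
        ⟨-1, by rw [pow_two, Units.val_mul, hxx, neg_smul, one_smul]⟩
        (not_scalar_of_sq_neg_one h2 Q hQne x hxI hxx)
      have := even_of_sq_neg_one x hxx hm1 W hWinv
      rw [hWd] at this
      exact hmo this
  · -- sufficiency
    intro hcrit x hxΩ ⟨z, hz⟩ hxns
    have hxI := hI x hxΩ
    rcases sq_cases Q hQne x hxI z hz with hxx | hxx
    · -- involutions
      apply fix_of_sq_one h2 Q hQ d m hcard x hxΩ hxx
      rcases hcrit with hq | ⟨hq, hmd2, -⟩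
      · right; right
        exact ⟨by omega, hplus, by rw [hm1iff]; omega⟩
      · left; exact hmd2
    · -- square `-1`
      rcases hcrit with hq | ⟨hq, hmd2, hpar⟩
      · exact fix_of_sq_neg_one_isSquare h2 Q hQ d m hcard x hxI hxx (by rw [hm1iff]; omega) (by omega)
      · have hm1 : ¬ IsSquare (-1 : F) := by rw [hm1iff]; omega
        have hde : Even d := (plus_iff_even_of_sq_neg_one h2 Q hQ d hcard x hxI hxx hm1).mp hplus
        have hme : Even m := by
          rcases hpar with h | h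
          · exact h
          · obtain ⟨k, hk⟩ := hde
            omega
        exact fix_of_sq_neg_one_even h2 Q hQ d m hcard x hxI hxx hm1 hme (by omega)

end Cfsg.Agent.Lib.Helper50.OTs
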