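import Cfsg.Agent.Lib.Helper50.OTsTwoCore
import Cfsg.Agent.Lib.Helper50.MinusLang
import Cfsg.Agent.Lib.Helper64.OMb1
import Cfsg.Agent.Lib.Helper62.OMb4
import Cfsg.Agent.Lib.Helper42.OMb2
import Cfsg.Agent.Lib.Helper32.OMb0a
import Cfsg.Agent.Lib.Helper01.OMb3

set_option autoImplicit false

/-!
# K-OTs T2 (597323, helper50): `case_two_minus`, the case `r = 2` of S5987
-/

namespace Cfsg.Agent.Lib.Helper50.OTs

open Module Cfsg.Agent.Lib.Helper98.Elus Cfsg.Agent.Lib.Helper98.Sy Cfsg.Agent.Lib.Helper98.Oh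
open Cfsg.Agent.Lib.Helper50.OTsTwo
open scoped Matrix MatrixGroups

universe u
variable {F : Type u} [Field F]

/-- T2 (597323). -/
theorem case_two_minus [Fintype F] {p : ℕ} [Fact p.Prime] [CharP F p] (hp2 : p ≠ 2) (d m : ℕ) (hd : 4 ≤ d)
    (hm : 1 ≤ m) (hmd : m + 1 ≤ d) (a b : F)
    (hab : ∀ x y : F, x ^ 2 + a * x * y + b * y ^ 2 = 0 → x = 0 ∧ y = 0) :
    (∀ x : GL ((Fin (d - 1) ⊕ Fin (d - 1)) ⊕ Fin 2) F, x ∈ Cfsg.Geo.omegaGL (Cfsg.quadFormMinus (d - 1) F a b) →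
      (∃ z : F, ((x ^ 2 : GL ((Fin (d - 1) ⊕ Fin (d - 1)) ⊕ Fin 2) F) : Matrix ((Fin (d - 1) ⊕ Fin (d - 1)) ⊕ Fin 2) ((Fin (d - 1) ⊕ Fin (d - 1)) ⊕ Fin 2) F) = z • (1 : Matrix ((Fin (d - 1) ⊕ Fin (d - 1)) ⊕ Fin 2) ((Fin (d - 1) ⊕ Fin (d - 1)) ⊕ Fin 2) F)) →
      (∀ z : F, (x : Matrix ((Fin (d - 1) ⊕ Fin (d - 1)) ⊕ Fin 2) ((Fin (d - 1) ⊕ Fin (d - 1)) ⊕ Fin 2) F) ≠ z • (1 : Matrix ((Fin (d - 1) ⊕ Fin (d - 1)) ⊕ Fin 2) ((Fin (d - 1) ⊕ Fin (d - 1)) ⊕ Fin 2) F)) →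
      ∃ W : Submodule F ((Fin (d - 1) ⊕ Fin (d - 1)) ⊕ Fin 2 → F), (Module.finrank F ↥W = m ∧ Cfsg.Geo.IsTotallySingularQuad (Cfsg.quadFormMinus (d - 1) F a b) W) ∧ W.map (Matrix.toLin' (x : Matrix ((Fin (d - 1) ⊕ Fin (d - 1)) ⊕ Fin 2) ((Fin (d - 1) ⊕ Fin (d - 1)) ⊕ Fin 2) F)) ≤ W) ↔
    (Even d ∨ Even m ∨ Fintype.card F % 8 ≠ 7) := by
  classical
  have h2 : (2 : F) ≠ 0 := two_ne_zero_of_charP hp2
  obtain ⟨Q, hQdef⟩ : ∃ Q : QuadraticForm F ((Fin (d - 1) ⊕ Fin (d - 1)) ⊕ Fin 2 → F),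
      Q = QMinus (d - 1) F a b := ⟨_, rfl⟩
  have hQc : (⇑Q : ((Fin (d - 1) ⊕ Fin (d - 1)) ⊕ Fin 2 → F) → F) = Cfsg.quadFormMinus (d - 1) F a b := by
    rw [hQdef]; rfl
  have hQ : (QuadraticMap.polarBilin Q).Nondegenerate := by
    rw [hQdef]; exact QMinus_nondeg_of_anis (d - 1) a b hab
  have hcard : Fintype.card ((Fin (d - 1) ⊕ Fin (d - 1)) ⊕ Fin 2) = 2 * d := by
    rw [card_minus_index]; omega
  have hne : Nonempty ((Fin (d - 1) ⊕ Fin (d - 1)) ⊕ Fin 2) := ⟨Sum.inr 0⟩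
  have hnp : ¬ Plus (QuadraticMap.polarBilin Q) ⊤ := by
    rw [hQdef]; exact Cfsg.Agent.Lib.Helper64.OMb.not_plus_QMinus h2 d (by omega) a b hab
  have hQne : ∃ v, Q v ≠ 0 := by
    by_contra hcon
    push Not at hcon
    apply hnp
    have hfr : finrank F ((Fin (d - 1) ⊕ Fin (d - 1)) ⊕ Fin 2 → F) = 2 * d := by
      rw [Module.finrank_fintype_fun_eq_card, hcard]
    obtain ⟨Z, -, hZd⟩ := Cfsg.Agent.Lib.Helper98.Ti.exists_sub_finrank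
      (⊤ : Submodule F ((Fin (d - 1) ⊕ Fin (d - 1)) ⊕ Fin 2 → F)) d (by rw [finrank_top, hfr]; omega)
    refine ⟨Z, le_top, ?_, by rw [hZd, finrank_top, hfr]⟩
    intro u _
    rw [QuadraticMap.polarBilin_apply_apply, QuadraticMap.polar_self, hcon u, smul_zero]
  have hI : ∀ x : GL ((Fin (d - 1) ⊕ Fin (d - 1)) ⊕ Fin 2) F, x ∈ Cfsg.Geo.omegaGL (⇑Q) →
      x ∈ Cfsg.isometryGroup F ⇑Q := by
    intro x hx
    exact ((mem_omegaGL_iff _ x).mp hx).1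
  have hq4 := card_mod_four (F := F) h2
  have hodd : Odd (Fintype.card F) := by
    rw [Nat.odd_iff]; omega
  have hm1iff : IsSquare (-1 : F) ↔ Fintype.card F % 4 ≠ 3 := FiniteField.isSquare_neg_one_iff
  unfold Cfsg.Geo.IsTotallySingularQuad
  rw [← hQc]
  constructor
  · -- necessity
    intro H
    by_contra hcon
    push Not at hcon
    obtain ⟨hdo, hmo, hq8⟩ := hcon
    have hdo' : Odd d := Nat.not_even_iff_odd.mp hdo
    have hm1 : ¬ IsSquare (-1 : F) := by rw [hm1iff]; omega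
    obtain ⟨x, hxΩ, hxx⟩ := Cfsg.Agent.Lib.Helper42.OMb.exists_sq_neg_one_minus_of (F := F) hq8 d hdo' a b
      (fun B hs hnd hV hminus y hiso =>
        Cfsg.Agent.Lib.Helper32.OMb.transport_minus_sq h2 d a b hab B hs hnd hV hminus y hiso)
    rw [← hQc] at hxΩ
    have hxI := hI x hxΩ
    obtain ⟨W, ⟨hWd, -⟩, hWinv⟩ := H x hxΩ
      ⟨-1, by rw [pow_two, Units.val_mul, hxx, neg_smul, one_smul]⟩
      (not_scalar_of_sq_neg_one h2 Q hQne x hxI hxx)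
    have := even_of_sq_neg_one x hxx hm1 W hWinv
    rw [hWd] at this
    exact hmo this
  · -- sufficiency
    intro hcrit x hxΩ ⟨z, hz⟩ hxns
    have hxI := hI x hxΩ
    rcases sq_cases Q hQne x hxI z hz with hxx | hxx
    · -- involutions
      obtain ⟨W, h1, h3, h4⟩ := fix_of_sq_one h2 Q hQ d m hcard x hxΩ hxx (Or.inr (Or.inl ⟨hmd, hnp⟩))
      exact ⟨W, ⟨h1, h3⟩, h4⟩
    · -- square `-1`
      have hxΩ' : x ∈ Cfsg.Geo.omegaGL (Cfsg.quadFormMinus (d - 1) F a b) := by rw [← hQc]; exact hxΩ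
      obtain ⟨hdo, hq⟩ := Cfsg.Agent.Lib.Helper01.OMb.odd_and_mod_four_of_sq_neg_one_minus hodd d
        (by omega) a b hab x hxΩ' hxx
      have hm1 : ¬ IsSquare (-1 : F) := by rw [hm1iff]; omega
      obtain ⟨hxI', hxO⟩ := (mem_omegaGL_iff _ x).mp hxΩ
      have hsq2 : IsSquare (2 : F) :=
        Cfsg.Agent.Lib.Helper62.OMb.isSquare_two_of_sq_neg_one h2 Q hQ d hdo hcard ⟨x, hxI'⟩ hxO hxx
      have hq8 : Fintype.card F % 8 = 7 := by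
        have := FiniteField.isSquare_two_iff.mp hsq2
        omega
      have hme : Even m := by
        rcases hcrit with h | h | h
        · exact absurd h (Nat.not_even_iff_odd.mpr hdo)
        · exact h
        · exact absurd hq8 h
      obtain ⟨W, h1, h3, h4⟩ := fix_of_sq_neg_one_even h2 Q hQ d m hcard x hxI hxx hm1 hme (by omega)
      exact ⟨W, ⟨h1, h3⟩, h4⟩

end Cfsg.Agent.Lib.Helper50.OTs
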