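import Cfsg.Agent.Lib.Helper99.OTsDefs
import Cfsg.Agent.Lib.Helper98.Oh0
import Cfsg.Agent.Lib.Helper63.OhA
import Cfsg.Agent.Lib.Helper05.OsElB
import Cfsg.Agent.Lib.Helper14.OsElC
import Cfsg.Agent.Lib.Helper82.OsElO
import Cfsg.Agent.Lib.Helper42.OPb5a
import Cfsg.Agent.Lib.Helper65.OPb3
import Cfsg.Agent.Lib.Helper50.SpinorCrit
import Cfsg.Agent.Lib.Helper50.PlusForm
import Cfsg.Agent.Lib.Helper63.OTsTA
import Cfsg.Agent.Lib.Helper96.OTsTB1
import Cfsg.Agent.Lib.Helper26.OTsTB2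
import Cfsg.Agent.Lib.Helper64.OTsTB3
import Cfsg.Agent.Lib.Helper19.OsElN
import Cfsg.Agent.Lib.Helper13.OPb15
import Cfsg.Agent.Lib.Helper50.GeoBridge

set_option autoImplicit false

/-!
# K-OTs TWO sub-pack (helper50): the generic core of the two glue theorems `case_two_plus`, `case_two_minus`
-/

namespace Cfsg.Agent.Lib.Helper50.OTsTwo

open Module Cfsg.Agent.Lib.Helper98.Elus Cfsg.Agent.Lib.Helper98.Sy Cfsg.Agent.Lib.Helper98.Oh

universe u
variable {F : Type u} [Field F] {ι : Type} [Fintype ι] [DecidableEq ι]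

theorem two_ne_zero_of_charP {p : ℕ} [Fact p.Prime] [CharP F p] (hp2 : p ≠ 2) : (2 : F) ≠ 0 := by
  intro h
  have h1 : ((2 : ℕ) : F) = 0 := by exact_mod_cast h
  have h3 : p ∣ 2 := (CharP.cast_eq_zero_iff F p 2).mp h1
  have hp : p.Prime := Fact.out
  rcases (Nat.dvd_prime Nat.prime_two).mp h3 with h4 | h4
  · exact hp.one_lt.ne' h4
  · exact hp2 h4

theorem card_mod_four [Fintype F] (h2 : (2 : F) ≠ 0) :
    Fintype.card F % 4 = 1 ∨ Fintype.card F % 4 = 3 := by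
  have hodd : Fintype.card F % 2 = 1 := by
    by_contra h
    have he : Fintype.card F % 2 = 0 := by omega
    have := FiniteField.even_card_iff_char_two.mpr he
    apply h2
    have h3 : ((2 : ℕ) : F) = 0 := by
      rw [← this]; exact CharP.cast_eq_zero F (ringChar F)
    exact_mod_cast h3
  omega

/-- totally singular = totally isotropic for the polar form (`2 ≠ 0`) -/
theorem ort_iff_ts (h2 : (2 : F) ≠ 0) (Q : QuadraticForm F (ι → F)) (W : Submodule F (ι → F)) :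
    Ort (QuadraticMap.polarBilin Q) W W ↔ ∀ w ∈ W, Q w = 0 := by
  constructor
  · intro h w hw
    have h1 := h w hw w hw
    rw [QuadraticMap.polarBilin_apply_apply, QuadraticMap.polar_self, two_smul] at h1
    have h1' : (2 : F) * Q w = 0 := by linear_combination h1
    rcases mul_eq_zero.mp h1' with h3 | h3
    · exact absurd h3 h2
    · exact h3
  · intro h u hu v hv
    rw [QuadraticMap.polarBilin_apply_apply]
    unfold QuadraticMap.polar
    rw [h _ (W.add_mem hu hv), h u hu, h v hv]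
    ring

theorem toLin_mul_self (x : Matrix.GeneralLinearGroup ι F) (c : Matrix ι ι F)
    (h : (x : Matrix ι ι F) * (x : Matrix ι ι F) = c) :
    Matrix.toLin' (x : Matrix ι ι F) * Matrix.toLin' (x : Matrix ι ι F) = Matrix.toLin' c := by
  rw [Module.End.mul_eq_comp, ← Matrix.toLin'_mul, h]

theorem toLin_neg_one : Matrix.toLin' (-1 : Matrix ι ι F) = -1 := by
  rw [map_neg, Matrix.toLin'_one]; rfl

theorem toLin_one' : Matrix.toLin' (1 : Matrix ι ι F) = 1 := by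
  rw [Matrix.toLin'_one]; rfl

section core

variable [Fintype F] (h2 : (2 : F) ≠ 0) (Q : QuadraticForm F (ι → F))
  (hQ : (QuadraticMap.polarBilin Q).Nondegenerate) (d m : ℕ) (hcard : Fintype.card ι = 2 * d)

include h2 hQ hcard

/-- TYPE A: involutions of `Ω(Q)` -/
theorem fix_of_sq_one (x : Matrix.GeneralLinearGroup ι F) (hxΩ : x ∈ Cfsg.Geo.omegaGL (⇑Q))
    (hxx : (x : Matrix ι ι F) * (x : Matrix ι ι F) = 1)
    (hcase : m + 2 ≤ d ∨ (m + 1 ≤ d ∧ ¬ Plus (QuadraticMap.polarBilin Q) ⊤) ∨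
      (m ≤ d ∧ Plus (QuadraticMap.polarBilin Q) ⊤ ∧ IsSquare (-1 : F))) :
    ∃ W : Submodule F (ι → F), finrank F W = m ∧ (∀ w ∈ W, Q w = 0) ∧
      W.map (Matrix.toLin' (x : Matrix ι ι F)) ≤ W := by
  obtain ⟨hxI, hxO⟩ := (mem_omegaGL_iff _ x).mp hxΩ
  have hS := Cfsg.Agent.Lib.Helper13.OPb.polarBilin_symm Q
  have hV := Cfsg.Agent.Lib.Helper13.OPb.nonDeg_top_of_nondegenerate Q hQ
  have hfr : finrank F (ι → F) = 2 * d := by
    rw [Module.finrank_fintype_fun_eq_card, hcard]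
  have hlin : Matrix.toLin' (x : Matrix ι ι F) * Matrix.toLin' (x : Matrix ι ι F) = 1 := by
    rw [toLin_mul_self x 1 hxx, toLin_one']
  have hiso := Cfsg.Agent.Lib.Helper13.OPb.iso_toLin'_of_mem Q x hxI
  obtain ⟨heven, hX⟩ := Cfsg.Agent.Lib.Helper19.OsEl.involution_data Q h2 hQ ⟨x, hxI⟩ hxO hxx
  have hcase' : m + 2 ≤ d ∨ (m + 1 ≤ d ∧ ¬ Plus (QuadraticMap.polarBilin Q) ⊤) ∨
      (m ≤ d ∧ Plus (QuadraticMap.polarBilin Q) ⊤ ∧
        ∃ X : Submodule F (ι → F), X ≤ LinearMap.ker (Matrix.toLin' (x : Matrix ι ι F) + 1) ∧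
          Ort (QuadraticMap.polarBilin Q) X X ∧
          2 * finrank F X = finrank F (LinearMap.ker (Matrix.toLin' (x : Matrix ι ι F) + 1))) := by
    rcases hcase with h | h | ⟨h, hp, hm1⟩
    · exact Or.inl h
    · exact Or.inr (Or.inl h)
    · obtain ⟨X, hX1, hX2, hX3⟩ := hX hm1
      exact Or.inr (Or.inr ⟨h, hp, X, hX1, (ort_iff_ts h2 Q X).mpr hX2, hX3⟩)
  obtain ⟨W, hWinv, hWort, hWd⟩ :=
    Cfsg.Agent.Lib.Helper63.OTs.exists_fixed_ts_invol_even hS h2 hV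
      (Matrix.toLin' (x : Matrix ι ι F)) hlin hiso d m hfr heven hcase'
  exact ⟨W, hWd, (ort_iff_ts h2 Q W).mp hWort,
    (Cfsg.Agent.Lib.Helper13.OPb.inv_toLin'_iff _ W).mp hWinv⟩

/-- TYPE B, `-1` a square -/
theorem fix_of_sq_neg_one_isSquare (x : Matrix.GeneralLinearGroup ι F)
    (hxI : x ∈ Cfsg.isometryGroup F (⇑Q))
    (hxx : (x : Matrix ι ι F) * (x : Matrix ι ι F) = -1) (hm1 : IsSquare (-1 : F)) (hmd : m ≤ d) :
    ∃ W : Submodule F (ι → F), finrank F W = m ∧ (∀ w ∈ W, Q w = 0) ∧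
      W.map (Matrix.toLin' (x : Matrix ι ι F)) ≤ W := by
  have hS := Cfsg.Agent.Lib.Helper13.OPb.polarBilin_symm Q
  have hV := Cfsg.Agent.Lib.Helper13.OPb.nonDeg_top_of_nondegenerate Q hQ
  have hfr : finrank F (ι → F) = 2 * d := by
    rw [Module.finrank_fintype_fun_eq_card, hcard]
  have hlin : Matrix.toLin' (x : Matrix ι ι F) * Matrix.toLin' (x : Matrix ι ι F) = -1 := by
    rw [toLin_mul_self x (-1) hxx, toLin_neg_one]
  have hiso := Cfsg.Agent.Lib.Helper13.OPb.iso_toLin'_of_mem Q x hxI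
  obtain ⟨W, hWinv, hWort, hWd⟩ :=
    Cfsg.Agent.Lib.Helper96.OTs.exists_fixed_ts_sq_neg_one_of_isSquare hS h2 hV
      (Matrix.toLin' (x : Matrix ι ι F)) hlin hiso hm1 d m hfr hmd
  exact ⟨W, hWd, (ort_iff_ts h2 Q W).mp hWort,
    (Cfsg.Agent.Lib.Helper13.OPb.inv_toLin'_iff _ W).mp hWinv⟩

/-- TYPE B, `-1` a non-square, `m` even -/
theorem fix_of_sq_neg_one_even (x : Matrix.GeneralLinearGroup ι F)
    (hxI : x ∈ Cfsg.isometryGroup F (⇑Q))
    (hxx : (x : Matrix ι ι F) * (x : Matrix ι ι F) = -1) (hm1 : ¬ IsSquare (-1 : F))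
    (hme : Even m) (hmd : m ≤ d) :
    ∃ W : Submodule F (ι → F), finrank F W = m ∧ (∀ w ∈ W, Q w = 0) ∧
      W.map (Matrix.toLin' (x : Matrix ι ι F)) ≤ W := by
  have hS := Cfsg.Agent.Lib.Helper13.OPb.polarBilin_symm Q
  have hV := Cfsg.Agent.Lib.Helper13.OPb.nonDeg_top_of_nondegenerate Q hQ
  have hfr : finrank F (ι → F) = 2 * d := by
    rw [Module.finrank_fintype_fun_eq_card, hcard]
  have hlin : Matrix.toLin' (x : Matrix ι ι F) * Matrix.toLin' (x : Matrix ι ι F) = -1 := by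
    rw [toLin_mul_self x (-1) hxx, toLin_neg_one]
  have hiso := Cfsg.Agent.Lib.Helper13.OPb.iso_toLin'_of_mem Q x hxI
  obtain ⟨k, hk⟩ := hme
  obtain ⟨W, hWinv, hWort, hWd⟩ :=
    Cfsg.Agent.Lib.Helper26.OTs.exists_fixed_ts_sq_neg_one_of_even hS h2 hm1 hV
      (Matrix.toLin' (x : Matrix ι ι F)) hlin hiso d hfr k (by omega)
  refine ⟨W, by rw [hWd]; omega, (ort_iff_ts h2 Q W).mp hWort,
    (Cfsg.Agent.Lib.Helper13.OPb.inv_toLin'_iff _ W).mp hWinv⟩

omit h2 hQ hcard in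
/-- TYPE B, `-1` a non-square: invariant subspaces have even dimension -/
theorem even_of_sq_neg_one (x : Matrix.GeneralLinearGroup ι F)
    (hxx : (x : Matrix ι ι F) * (x : Matrix ι ι F) = -1) (hm1 : ¬ IsSquare (-1 : F))
    (W : Submodule F (ι → F)) (hW : W.map (Matrix.toLin' (x : Matrix ι ι F)) ≤ W) :
    Even (finrank F W) := by
  have hlin : Matrix.toLin' (x : Matrix ι ι F) * Matrix.toLin' (x : Matrix ι ι F) = -1 := by
    rw [toLin_mul_self x (-1) hxx, toLin_neg_one]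
  exact Cfsg.Agent.Lib.Helper64.OTs.even_finrank_of_inv_sq_neg_one hm1
    (Matrix.toLin' (x : Matrix ι ι F)) hlin W
    ((Cfsg.Agent.Lib.Helper13.OPb.inv_toLin'_iff _ W).mpr hW)

/-- TYPE B, `-1` a non-square: the type rule -/
theorem plus_iff_even_of_sq_neg_one (x : Matrix.GeneralLinearGroup ι F)
    (hxI : x ∈ Cfsg.isometryGroup F (⇑Q))
    (hxx : (x : Matrix ι ι F) * (x : Matrix ι ι F) = -1) (hm1 : ¬ IsSquare (-1 : F)) :
    Plus (QuadraticMap.polarBilin Q) ⊤ ↔ Even d := by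
  have hS := Cfsg.Agent.Lib.Helper13.OPb.polarBilin_symm Q
  have hV := Cfsg.Agent.Lib.Helper13.OPb.nonDeg_top_of_nondegenerate Q hQ
  have hfr : finrank F (ι → F) = 2 * d := by
    rw [Module.finrank_fintype_fun_eq_card, hcard]
  have hlin : Matrix.toLin' (x : Matrix ι ι F) * Matrix.toLin' (x : Matrix ι ι F) = -1 := by
    rw [toLin_mul_self x (-1) hxx, toLin_neg_one]
  have hiso := Cfsg.Agent.Lib.Helper13.OPb.iso_toLin'_of_mem Q x hxI
  exact Cfsg.Agent.Lib.Helper42.OPb.plus_iff_even_of_sq_neg_one h2 hm1 _ hS hV _ hlin hiso d hfr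

end core

/-- the square of an isometry, if scalar, is `± 1` -/
theorem sq_cases (Q : QuadraticForm F (ι → F)) (hQne : ∃ v, Q v ≠ 0)
    (x : Matrix.GeneralLinearGroup ι F) (hxI : x ∈ Cfsg.isometryGroup F (⇑Q)) (z : F)
    (hz : ((x ^ 2 : Matrix.GeneralLinearGroup ι F) : Matrix ι ι F) = z • (1 : Matrix ι ι F)) :
    (x : Matrix ι ι F) * (x : Matrix ι ι F) = 1 ∨ (x : Matrix ι ι F) * (x : Matrix ι ι F) = -1 := by
  have hsq : ((x ^ 2 : Matrix.GeneralLinearGroup ι F) : Matrix ι ι F) =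
      (x : Matrix ι ι F) * (x : Matrix ι ι F) := by rw [pow_two, Units.val_mul]
  rcases Cfsg.Agent.Lib.Helper13.OPb.scalar_eq_of_mem Q hQne (x ^ 2) (Subgroup.pow_mem _ hxI 2) z hz
    with h | h
  · left; rw [← hsq, hz, h, one_smul]
  · right; rw [← hsq, hz, h, neg_smul, one_smul]

/-- an element with square `-1` is not scalar (`2 ≠ 0`) -/
theorem not_scalar_of_sq_neg_one [Nonempty ι] (h2 : (2 : F) ≠ 0) (Q : QuadraticForm F (ι → F))
    (hQne : ∃ v, Q v ≠ 0)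
    (x : Matrix.GeneralLinearGroup ι F) (hxI : x ∈ Cfsg.isometryGroup F (⇑Q))
    (hxx : (x : Matrix ι ι F) * (x : Matrix ι ι F) = -1) :
    ∀ z : F, (x : Matrix ι ι F) ≠ z • (1 : Matrix ι ι F) := by
  intro z hz
  obtain ⟨i⟩ := ‹Nonempty ι›
  have h11 : (1 : F) ≠ -1 := by
    intro h
    apply h2
    have : (2 : F) = 1 + 1 := by norm_num
    rw [this]
    nth_rw 1 [h]
    exact neg_add_cancel 1
  rcases Cfsg.Agent.Lib.Helper13.OPb.scalar_eq_of_mem Q hQne x hxI z hz with h | h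
  · rw [hz, h, one_smul, one_mul] at hxx
    have := congrFun (congrFun hxx i) i
    rw [Matrix.one_apply_eq, Matrix.neg_apply, Matrix.one_apply_eq] at this
    exact h11 this
  · rw [hz, h, neg_smul, one_smul, neg_mul_neg, one_mul] at hxx
    have := congrFun (congrFun hxx i) i
    rw [Matrix.one_apply_eq, Matrix.neg_apply, Matrix.one_apply_eq] at this
    exact h11 this

end Cfsg.Agent.Lib.Helper50.OTsTwo
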