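import Cfsg.Agent.Lib.Helper50.OmegaStab

set_option autoImplicit false

/-! `Ω` is transitive on non-degenerate subspaces of a given isometry type. -/

namespace Cfsg.Agent.Lib.Helper50

open Matrix QuadraticMap Module Cfsg.Agent.Lib.Helper19

variable {F : Type*} [Field F] [Fintype F] {ι : Type} [Fintype ι] [DecidableEq ι]

/-- a non-degenerate subspace of dimension at least two represents every non-zero scalar -/
theorem exists_repr_in (Q : QuadraticForm F (ι → F)) (X : Submodule F (ι → F))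
    (hX : X ⊓ LinearMap.BilinForm.orthogonal (polarBilin Q) X = ⊥) (hdim : 2 ≤ finrank F X)
    (c : F) (hc : c ≠ 0) : ∃ x ∈ X, Q x = c := by
  set QX : QuadraticForm F X := Q.comp X.subtype with hQX
  have hnd : (polarBilin QX).Nondegenerate := by
    have h1 := LinearMap.BilinForm.nondegenerate_restrict_of_disjoint_orthogonal (polarBilin Q)
      (TF.polarBilin_isSymm Q).isRefl (disjoint_iff.mpr hX)
    have h2 : polarBilin QX = LinearMap.BilinForm.restrict (polarBilin Q) X := by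
      apply LinearMap.ext₂
      intro x y
      rfl
    rw [h2]
    exact h1
  obtain ⟨x, hx⟩ := exists_repr QX hnd hdim c hc
  exact ⟨x, x.2, hx⟩

/-- `Ω` is transitive on non-degenerate subspaces of each isometry type -/
theorem omega_transitive_nondeg (Q : QuadraticForm F (ι → F))
    (hQ : (QuadraticMap.polarBilin Q).Nondegenerate)
    (h24 : Fintype.card F ≠ 2 ∨ Fintype.card ι ≠ 4) (hn : 3 ≤ Fintype.card ι)
    (U W : Submodule F (ι → F))
    (hU : U ⊓ LinearMap.BilinForm.orthogonal (polarBilin Q) U = ⊥)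
    (e : U ≃ₗ[F] W) (he : ∀ u : U, Q (e u : ι → F) = Q (u : ι → F)) :
    ∃ g : ↥(Cfsg.isometryGroup F (⇑Q)), g ∈ Cfsg.Omega F (⇑Q) ∧ omap (⇑Q) g U = W := by
  obtain ⟨σ, -, hσ⟩ := exists_O_of_isometry Q hQ U W e he
  set X := LinearMap.BilinForm.orthogonal (polarBilin Q) U with hXdef
  have hrefl : (polarBilin Q).IsRefl := (TF.polarBilin_isSymm Q).isRefl
  have hX : X ⊓ LinearMap.BilinForm.orthogonal (polarBilin Q) X = ⊥ := by
    rw [hXdef, LinearMap.BilinForm.orthogonal_orthogonal hQ hrefl U, inf_comm]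
    exact hU
  have hXmem : ∀ v ∈ X, ∀ u ∈ U, polar (⇑Q) v u = 0 := by
    intro v hv u hu
    rw [polar_comm]
    exact (LinearMap.BilinForm.mem_orthogonal_iff.mp hv) u hu
  have hdimX := LinearMap.BilinForm.finrank_orthogonal hQ U
  rw [Module.finrank_fintype_fun_eq_card, ← hXdef] at hdimX
  have hUle : finrank F U ≤ Fintype.card ι := by
    have := Submodule.finrank_le U
    rwa [Module.finrank_fintype_fun_eq_card] at this
  -- a subspace stabilised through reflections, representing all scalars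
  obtain ⟨Y, hYrep, hYstab⟩ : ∃ Y : Submodule F (ι → F),
      (∀ c : F, c ≠ 0 → ∃ y ∈ Y, Q y = c) ∧
      (∀ y ∈ Y, Q y ≠ 0 → omap (⇑Q) (reflO Q y) U = U) := by
    by_cases hdU : 2 ≤ finrank F U
    · exact ⟨U, fun c hc => exists_repr_in Q U hU hdU c hc,
        fun y hy hy0 => omap_reflO_of_mem Q U y hy0 hy⟩
    · have hdX : 2 ≤ finrank F X := by omega
      exact ⟨X, fun c hc => exists_repr_in Q X hX hdX c hc,
        fun y hy hy0 => omap_reflO_of_perp Q U y hy0 (hXmem y hy)⟩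
  obtain ⟨v₁, hv₁Y, hv₁⟩ := hYrep 1 one_ne_zero
  have hv₁0 : Q v₁ ≠ 0 := by rw [hv₁]; exact one_ne_zero
  apply exists_Omega_map Q hQ h24 U W σ hσ
  · intro _
    exact ⟨v₁, hv₁0, hYstab v₁ hv₁Y hv₁0⟩
  · intro h2 ζ hζ
    have hζ0 : ζ ≠ 0 := fun h => hζ (h ▸ ⟨0, by ring⟩)
    obtain ⟨v₂, hv₂Y, hv₂⟩ := hYrep ζ hζ0
    have hv₂0 : Q v₂ ≠ 0 := by rw [hv₂]; exact hζ0
    refine ⟨reflO Q v₁, reflO Q v₁ * reflO Q v₂, detHom_reflO Q v₁ hv₁0, ?_, ?_,
      hYstab v₁ hv₁Y hv₁0, ?_⟩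
    · rw [map_mul, detHom_reflO Q v₁ hv₁0, detHom_reflO Q v₂ hv₂0]; simp
    · classical
      rw [map_mul, theta_nonsq_reflO h2 Q ζ hζ v₁ hv₁0, theta_nonsq_reflO h2 Q ζ hζ v₂ hv₂0,
        hv₁, hv₂, if_neg hζ, if_pos ⟨1, by ring⟩, one_mul]
    · rw [omap_mul, hYstab v₂ hv₂Y hv₂0, hYstab v₁ hv₁Y hv₁0]

end Cfsg.Agent.Lib.Helper50
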