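import Cfsg.Agent.Lib.Helper08.OsElA
import Cfsg.Agent.Lib.Helper27.OsElH
import Cfsg.Agent.Lib.Helper98.Sy6

set_option autoImplicit false

/-!
# K-OsEl-I (helper50, for helper8's S5972 pack): model 1
-/

namespace Cfsg.Agent.Lib.Helper50.OsEl

open Module Cfsg.Agent.Lib.Helper98.Elus Cfsg.Agent.Lib.Helper98.Sy
open Cfsg.Agent.Lib.Helper08.OsEl

universe u
variable {F : Type u} [Field F]

theorem exists_model1 [Fintype F] (p f : ℕ) [Fact p.Prime] (hF : Fintype.card F = p ^ f)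
    (r : ℕ) [Fact r.Prime] (hpr : p ≠ r) (hr2 : r ≠ 2) (hrF : (r : F) ≠ 0) (j k : ℕ) (hj : 1 ≤ j) :
    ∃ (V : Type u) (_ : AddCommGroup V) (_ : Module F V) (_ : FiniteDimensional F V)
      (B : LinearMap.BilinForm F V) (y : V →ₗ[F] V),
      (∀ u v, B u v = B v u) ∧ NonDeg B ⊤ ∧ Iso B y ∧ y ^ r = 1 ∧ y ≠ 1 ∧
      finrank F V = j * cOf (orderOf ((Fintype.card F : ℕ) : ZMod r)) + k ∧
      finrank F (V0 y) = k := by
  classical
  have hr : r.Prime := Fact.out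
  have hodd : Odd r := hr.odd_of_ne_two hr2
  have hi1 : 1 ≤ orderOf ((Fintype.card F : ℕ) : ZMod r) := orderOf_card_pos p f hF r hpr
  obtain ⟨c', hc'⟩ := cOf_even (orderOf ((Fintype.card F : ℕ) : ZMod r))
  have hc : cOf (orderOf ((Fintype.card F : ℕ) : ZMod r)) = 2 * c' := by omega
  have hc1 : 1 ≤ c' := by
    have := cOf_pos _ hi1
    omega
  obtain ⟨y0, h0iso, h0r, h0ne, h0G⟩ := exists_block p f hF r hpr hr2 hrF c' hc
  -- the alternating model
  have hAalt : (BS (F := F) c' 0 j).IsAlt := BS_alt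
  have hAnd : NonDeg (BS (F := F) c' 0 j) ⊤ := BS_nonDeg
  have hyiso : Iso (BS (F := F) c' 0 j) (yS y0) := yS_iso y0 h0iso
  have hyr : (yS (e' := 0) (j := j) y0) ^ r = 1 := yS_pow_eq_one r y0 h0r
  have hG : ∀ v, gsum r (yS (e' := 0) (j := j) y0) v = 0 := by
    intro v
    rw [gsum_yS r y0 h0G]
    ext a
    · rfl
    · exact (IsEmpty.false a).elim
  have hyne : yS (e' := 0) (j := j) y0 ≠ 1 := by
    have := yS_not_scalar (e' := 0) (j := j) r hodd hj hc1 y0 h0iso h0r h0ne 1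
    rwa [one_smul] at this
  have hV1top : (⊤ : Submodule F (VS (F := F) c' 0 j)) ≤ V1 r (yS y0) := by
    intro v _
    exact (mem_V1 r _ v).mpr (hG v)
  have hinvtop : Inv (yS (e' := 0) (j := j) y0) ⊤ := fun v _ => Submodule.mem_top
  -- the twist
  have hS : ∀ u v, tw (BS (F := F) c' 0 j) r (yS y0) u v = tw (BS (F := F) c' 0 j) r (yS y0) v u :=
    tw_symm _ hAalt r hr.pos _ hyr hyiso
  have hnd : NonDeg (tw (BS (F := F) c' 0 j) r (yS y0)) ⊤ :=
    (tw_nonDeg_iff _ r hodd hrF _ hyr ⊤ hinvtop hV1top).mpr hAnd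
  have hiso : Iso (tw (BS (F := F) c' 0 j) r (yS y0)) (yS y0) := tw_iso _ r _ hyiso
  obtain ⟨V', i1, i2, i3, B', y', hS', hnd', hiso', hyr', hne', hfin', hV0', -⟩ :=
    Cfsg.Agent.Lib.Helper27.OsEl.exists_addfix hS hnd r hrF _ hyr hiso hG k
  refine ⟨V', i1, i2, i3, B', y', hS', hnd', hiso', hyr', hne' hyne, ?_, hV0'⟩
  rw [hfin', finrank_VS, hc]
  ring
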