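import Mathlib

set_option autoImplicit false

/-! A quotient which is the product of a central subgroup of order two and a complement. -/

namespace Cfsg.Agent.Lib.Helper50

theorem nonempty_quotient_equiv_units_prod {G : Type*} [Group G] (I P : Subgroup G) [hI : I.Normal]
    [hPn : P.Normal] (hIP : I ≤ P) (hrel : I.relIndex P = 2) {R : Type*} [Group R] (φ : R →* G)
    (hsup : P ⊔ φ.range = ⊤) (hinj : ∀ r, φ r ∈ P → r = 1) :
    Nonempty (G ⧸ I ≃* ℤˣ × R) := by
  classical
  have hidx : (I.subgroupOf P).index = 2 := hrel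
  obtain ⟨d₀, hd₀P, hd₀I⟩ : ∃ d, d ∈ P ∧ d ∉ I := by
    by_contra hcon
    push Not at hcon
    have : P ≤ I := hcon
    rw [Subgroup.relIndex_eq_one.mpr this] at hrel
    omega
  have hout : ∀ a b : G, a ∈ P → b ∈ P → a ∉ I → b ∉ I → a * b ∈ I := by
    intro a b ha hb hai hbi
    have := (Subgroup.mul_mem_iff_of_index_two hidx (a := ⟨a, ha⟩) (b := ⟨b, hb⟩)).mpr
      (by rw [Subgroup.mem_subgroupOf, Subgroup.mem_subgroupOf]; exact ⟨fun h => absurd h hai,
        fun h => absurd h hbi⟩)
    rw [Subgroup.mem_subgroupOf] at this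
    exact this
  set D : G ⧸ I := QuotientGroup.mk d₀ with hD
  have hDD : D * D = 1 := by
    rw [hD, ← QuotientGroup.mk_mul, QuotientGroup.eq_one_iff]
    exact hout d₀ d₀ hd₀P hd₀P hd₀I hd₀I
  have hD1 : D ≠ 1 := by
    rw [hD, Ne, QuotientGroup.eq_one_iff]; exact hd₀I
  have hDinv : D⁻¹ = D := inv_eq_of_mul_eq_one_left hDD
  have hDc : ∀ x : G ⧸ I, Commute D x := by
    intro x
    induction x using QuotientGroup.induction_on with
    | H g =>
      rw [commute_iff_eq, hD, ← QuotientGroup.mk_mul, ← QuotientGroup.mk_mul, QuotientGroup.eq]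
      have h1 : g⁻¹ * d₀⁻¹ * g ∈ P := by
        have := hPn.conj_mem d₀⁻¹ (P.inv_mem hd₀P) g⁻¹
        rwa [inv_inv] at this
      have h3 : g⁻¹ * d₀⁻¹ * g ∉ I := by
        intro h
        have := hI.conj_mem _ h g
        have e : g * (g⁻¹ * d₀⁻¹ * g) * g⁻¹ = d₀⁻¹ := by group
        rw [e] at this
        exact hd₀I (by simpa using I.inv_mem this)
      have := hout _ _ h1 hd₀P h3 hd₀I
      have e : (d₀ * g)⁻¹ * (g * d₀) = g⁻¹ * d₀⁻¹ * g * d₀ := by group
      rw [e]
      exact this
  let f₁ : ℤˣ →* G ⧸ I := MonoidHom.mk' (fun u => if u = 1 then 1 else D) (by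
    intro a b
    rcases Int.units_eq_one_or a with ha | ha <;> rcases Int.units_eq_one_or b with hb | hb <;>
      simp [ha, hb, hDD])
  have hf₁ : ∀ u : ℤˣ, f₁ u = if u = 1 then 1 else D := fun u => rfl
  let f₂ : R →* G ⧸ I := (QuotientGroup.mk' I).comp φ
  have hcomm : ∀ u r, Commute (f₁ u) (f₂ r) := by
    intro u r
    rw [hf₁]
    split_ifs
    · exact Commute.one_left _
    · exact hDc _
  let θ : ℤˣ × R →* G ⧸ I := MonoidHom.noncommCoprod f₁ f₂ hcomm
  have hθ : ∀ u r, θ (u, r) = f₁ u * f₂ r := fun u r => rfl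
  have hf₁P : ∀ u : ℤˣ, ∃ a ∈ P, f₁ u = QuotientGroup.mk a := by
    intro u
    rw [hf₁]
    split_ifs
    · exact ⟨1, P.one_mem, rfl⟩
    · exact ⟨d₀, hd₀P, rfl⟩
  have hbij : Function.Bijective θ := by
    constructor
    · rw [injective_iff_map_eq_one]
      rintro ⟨u, r⟩ h
      rw [hθ] at h
      obtain ⟨a, haP, ha⟩ := hf₁P u
      have h1 : f₂ r = QuotientGroup.mk a⁻¹ := by
        rw [QuotientGroup.mk_inv, ← ha]
        exact eq_inv_of_mul_eq_one_right h
      have h3 : φ r ∈ P := by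
        have h4 : (a⁻¹)⁻¹ * φ r ∈ I := QuotientGroup.eq.mp h1.symm
        have h5 := hIP h4
        rw [inv_inv] at h5
        exact (Subgroup.mul_mem_cancel_left P haP).mp h5
      have hr : r = 1 := hinj r h3
      rw [hr, map_one, mul_one, hf₁] at h
      have hu : u = 1 := by
        by_contra hne
        rw [if_neg hne] at h
        exact hD1 h
      rw [hr, hu]; rfl
    · intro x
      induction x using QuotientGroup.induction_on with
      | H g =>
        have hg : g ∈ P ⊔ φ.range := by rw [hsup]; trivial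
        rw [← SetLike.mem_coe, Subgroup.normal_mul] at hg
        obtain ⟨a, haP, b, ⟨r, rfl⟩, rfl⟩ := hg
        have hau : ∃ u : ℤˣ, f₁ u = QuotientGroup.mk a := by
          by_cases haI : a ∈ I
          · refine ⟨1, ?_⟩
            rw [hf₁, if_pos rfl]
            exact ((QuotientGroup.eq_one_iff a).mpr haI).symm
          · refine ⟨-1, ?_⟩
            rw [hf₁, if_neg (by decide), hD, QuotientGroup.eq]
            have h1 : d₀⁻¹ ∉ I := fun h => hd₀I (by simpa using I.inv_mem h)
            exact hout _ _ (P.inv_mem hd₀P) haP h1 haI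
        obtain ⟨u, hu⟩ := hau
        refine ⟨(u, r), ?_⟩
        rw [hθ, hu]
        rfl
  exact ⟨(MulEquiv.ofBijective θ hbij).symm⟩

end Cfsg.Agent.Lib.Helper50
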