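import Cfsg.Agent.Lib.Helper50.FieldAutInj
import Cfsg.Agent.Lib.Helper50.QuotProd
import Cfsg.Agent.Lib.Helper50.OmegaCenter

set_option autoImplicit false

/-! Odd dimension, `q` odd: the image of the similarity group in `Aut(PΩ)` is the image of `SO`,
and contains `Inn(PΩ)` with index two. -/

namespace Cfsg.Agent.Lib.Helper50

open Matrix QuadraticMap Cfsg.Agent.Lib.Helper19 Cfsg.Agent.Lib.Helper08

universe u

variable {F : Type u} [Field F] [Fintype F] [DecidableEq F] {ι : Type} [Fintype ι] [DecidableEq ι]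
variable (Q : QuadraticForm F (ι → F))

omit [DecidableEq F] in
/-- odd dimension: every similarity is a scalar times an element of `SO` -/
theorem autPO_range_eq_psoAut_odd (h2 : (2 : F) ≠ 0)
    (hQ : (QuadraticMap.polarBilin Q).Nondegenerate) (e f : Fin 3 → ι → F) (HT : HypTriple Q e f)
    (hodd : Odd (Fintype.card ι)) : (autPO ⇑Q).range = Cfsg.psoAut F ⇑Q := by
  have RP := reflPairs_of_two_ne_zero Q h2
  have hu : Q (e 0 + f 0) = 1 := by
    rw [QuadraticMap.map_add (⇑Q), HT.qe, HT.qf, HT.ef]; simp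
  rw [psoAut_eq]
  apply le_antisymm
  · rintro _ ⟨g, rfl⟩
    obtain ⟨k, hk⟩ := hodd
    have hμ0 : (multFun Q g : F) ≠ 0 := Units.ne_zero _
    have hdd := det_sq_eq_mult_pow Q hQ g
    rw [hk] at hdd
    obtain ⟨lam, hlam⟩ : ∃ lam : F, lam = ((g : GL ι F) : Matrix ι ι F).det /
        (multFun Q g : F) ^ k := ⟨_, rfl⟩
    have hlam2 : lam * lam = (multFun Q g : F) := by
      rw [hlam, div_mul_div_comm, hdd, ← pow_add, pow_succ]
      have : (multFun Q g : F) ^ (k + k) ≠ 0 := pow_ne_zero _ hμ0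
      rw [two_mul]
      field_simp
    have hlam0 : lam ≠ 0 := by
      intro h
      rw [h, mul_zero] at hlam2
      exact hμ0 hlam2.symm
    set z := scalGO Q (Units.mk0 lam hlam0) with hz
    have hzker : autPO (⇑Q) z = 1 := by
      rw [autPO_eq_one_iff Q hQ h2 e f HT RP]
      exact ⟨lam, rfl⟩
    set h0 := z⁻¹ * g with hh0
    have hmult : multFun Q h0 = 1 := by
      have h1 : mult Q hu h0 = (mult Q hu z)⁻¹ * mult Q hu g := by
        rw [hh0, map_mul, map_inv]
      have h3 : multFun Q z = Units.mk0 lam hlam0 * Units.mk0 lam hlam0 := by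
        apply multFun_unique Q hu
        intro v
        rw [scalGO_val]
        simp only [Matrix.smul_mulVec, Matrix.one_mulVec, QuadraticMap.map_smul, smul_eq_mul,
          Units.val_mul]
      rw [mult_apply, mult_apply, mult_apply, h3] at h1
      rw [h1]
      apply Units.ext
      simp only [Units.val_mul, Units.val_inv_eq_inv_val, Units.val_mk0, Units.val_one, ← hlam2]
      field_simp
    have hO : (h0 : GL ι F) ∈ Cfsg.isometryGroup F ⇑Q := by
      rw [mem_isometryGroup_iff]
      intro v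
      rw [multFun_spec, hmult, Units.val_one, one_mul]
    have hg : autPO (⇑Q) g = autO (⇑Q) ⟨(h0 : GL ι F), hO⟩ := by
      have e1 : g = z * h0 := by rw [hh0]; group
      rw [e1, map_mul, hzker, one_mul]
      rfl
    rw [hg]
    rcases detHom_eq_one_or h2 Q hQ ⟨(h0 : GL ι F), hO⟩ with hd | hd
    · refine ⟨⟨(h0 : GL ι F), hO⟩, ?_, rfl⟩
      rw [SetLike.mem_coe, mem_SO_iff_det]
      have := congrArg Units.val hd
      rwa [detHom_val] at this
    · refine ⟨negO Q * ⟨(h0 : GL ι F), hO⟩, ?_, ?_⟩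
      · rw [SetLike.mem_coe, mem_SO_iff_det]
        have h5 : detHom (⇑Q) (negO Q * ⟨(h0 : GL ι F), hO⟩) = 1 := by
          rw [map_mul, hd, detHom_negO Q ⟨k, hk⟩]
          simp
        have := congrArg Units.val h5
        rwa [detHom_val] at this
      · rw [map_mul]
        have : autO (⇑Q) (negO Q) = 1 := by
          rw [autO_eq_one_iff Q hQ h2 e f HT RP]
          right
          exact negO_val Q
        rw [this, one_mul]
  · rintro _ ⟨s, -, rfl⟩
    exact ⟨inclGO Q s, rfl⟩

/-- odd dimension: `Inn(PΩ)` has index two in the image of `SO` -/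
theorem relIndex_inn_psoAut_odd (h2 : (2 : F) ≠ 0)
    (hQ : (QuadraticMap.polarBilin Q).Nondegenerate) (e f : Fin 3 → ι → F) (HT : HypTriple Q e f)
    (hodd : Odd (Fintype.card ι)) :
    (Cfsg.Inn (Cfsg.POmega F ⇑Q)).relIndex (Cfsg.psoAut F ⇑Q) = 2 := by
  have RP := reflPairs_of_two_ne_zero Q h2
  have hu : Q (e 0 + f 0) = 1 := by
    rw [QuadraticMap.map_add (⇑Q), HT.qe, HT.qf, HT.ef]; simp
  have hdim : 2 ≤ Fintype.card ι := by
    obtain ⟨k, hk⟩ := hodd
    by_contra hlt
    have hk0 : k = 0 := by omega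
    have hc1 : Fintype.card ι = 1 := by omega
    have hsub : Subsingleton ι := Fintype.card_le_one_iff_subsingleton.mp (by rw [hc1])
    have hee : e 0 = 0 := by
      have hq := HT.qe 0
      funext i
      by_contra hne
      have hspan : ∀ v : ι → F, v = (v i / e 0 i) • e 0 := by
        intro v
        funext j
        rw [Subsingleton.elim j i, Pi.smul_apply, smul_eq_mul, div_mul_cancel₀ _ hne]
      have := hspan (f 0)
      have h5 := HT.ef 0 0
      rw [this, QuadraticMap.polar_smul_right, QuadraticMap.polar_self, hq] at h5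
      simp at h5
    have h5 := HT.ef 0 0
    rw [hee, QuadraticMap.polar_zero_left] at h5
    simp at h5
  have hSOidx := index_SO Q h2 hQ (e 0 + f 0) (by rw [hu]; exact one_ne_zero)
  have hΩidx : (Cfsg.Omega F ⇑Q).index = 4 := index_commutator h2 Q hQ hdim
  have hle := Omega_le_SO Q
  have hrel : (Cfsg.Omega F ⇑Q).relIndex (Cfsg.specialIsometryGroup F ⇑Q) = 2 := by
    have := Subgroup.relIndex_mul_index hle
    rw [hSOidx, hΩidx] at this
    omega
  obtain ⟨f', hf'⟩ : ∃ f' : ↥(Cfsg.specialIsometryGroup F ⇑Q) →* MulAut (Cfsg.POmega F ⇑Q),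
      f' = (autO (⇑Q)).comp (Cfsg.specialIsometryGroup F ⇑Q).subtype := ⟨_, rfl⟩
  have hinj : Function.Injective f' := by
    rw [injective_iff_map_eq_one]
    intro s hs
    rw [hf', MonoidHom.comp_apply, autO_eq_one_iff Q hQ h2 e f HT RP] at hs
    rcases hs with h1 | h1
    · exact Subtype.ext (Subtype.ext (Units.ext h1))
    · exfalso
      have h5 := (mem_SO_iff_det Q s.1).mp s.2
      have h6 : (((s.1 : ↥(Cfsg.isometryGroup F ⇑Q)) : GL ι F) : Matrix ι ι F) = -1 := h1
      rw [h6, Matrix.det_neg, Matrix.det_one, hodd.neg_one_pow] at h5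
      apply h2
      linear_combination -h5
  have e1 : Cfsg.psoAut F ⇑Q = (⊤ : Subgroup ↥(Cfsg.specialIsometryGroup F ⇑Q)).map f' := by
    rw [psoAut_eq, hf', ← Subgroup.map_map, ← MonoidHom.range_eq_map, Subgroup.range_subtype]
  have e2 : Cfsg.Inn (Cfsg.POmega F ⇑Q) =
      ((Cfsg.Omega F ⇑Q).subgroupOf (Cfsg.specialIsometryGroup F ⇑Q)).map f' := by
    rw [inn_eq, hf', ← Subgroup.map_map, Subgroup.subgroupOf_map_subtype, inf_eq_left.mpr hle]
  rw [e1, e2, Subgroup.relIndex_map_map_of_injective _ _ hinj, Subgroup.relIndex_top_right]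
  exact hrel

end Cfsg.Agent.Lib.Helper50
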