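import Cfsg.Agent.Lib.Helper50.OutOdd
import Cfsg.Agent.Lib.Helper08.OmegaStd
import Cfsg.Agent.Lib.Helper07.AutPSL6

set_option autoImplicit false

/-! `Out(PΩ_{2m+1}(q))` and `|Aut(PΩ_{2m+1}(q))|`, given that every automorphism is induced by a
semisimilarity. -/

namespace Cfsg.Agent.Lib.Helper50

open Matrix QuadraticMap Cfsg.Agent.Lib.Helper19 Cfsg.Agent.Lib.Helper08

universe u

section generic

variable {F : Type u} [Field F] [Fintype F] {ι : Type} [Fintype ι] [DecidableEq ι]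
variable (Q : QuadraticForm F (ι → F))

/-- generic form: `Out(PΩ) ≅ ℤˣ × Aut(F)` in odd dimension -/
theorem out_odd_generic (h2 : (2 : F) ≠ 0)
    (hQ : (QuadraticMap.polarBilin Q).Nondegenerate) (hn : 5 ≤ Fintype.card ι)
    (hodd : Odd (Fintype.card ι)) (e f : Fin 3 → ι → F) (HT : HypTriple Q e f)
    (hall : ∀ σ : RingAut F, σ ∈ compatAut ⇑Q)
    (hfix0 : ∀ (σ : RingAut F) i, σ (e 0 i) = e 0 i)
    (hfix1 : ∀ (σ : RingAut F) i, σ (e 1 i) = e 1 i)
    (hAut : Cfsg.gammaPOmega F ⇑Q = ⊤) :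
    Nonempty (Cfsg.Out (Cfsg.POmega F ⇑Q) ≃* ℤˣ × RingAut F) := by
  classical
  have hsup : (autPO ⇑Q).range ⊔ (fieldAutPO ⇑Q).range = ⊤ := by
    rw [← gammaPOmega_eq ⇑Q hall, hAut]
  have hP : (autPO ⇑Q).range = Cfsg.psoAut F ⇑Q :=
    autPO_range_eq_psoAut_odd Q h2 hQ e f HT hodd
  have hPn : ((autPO ⇑Q).range).Normal := autPO_range_normal_of_top ⇑Q hsup
  have hIP : Cfsg.Inn (Cfsg.POmega F ⇑Q) ≤ (autPO ⇑Q).range := by
    rw [hP, inn_eq, psoAut_eq]
    exact Subgroup.map_mono (Omega_le_SO Q)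
  have hrel : (Cfsg.Inn (Cfsg.POmega F ⇑Q)).relIndex (autPO ⇑Q).range = 2 := by
    rw [hP]
    exact relIndex_inn_psoAut_odd Q h2 hQ e f HT hodd
  obtain ⟨ψ, hψ⟩ : ∃ ψ : RingAut F →* ↥(compatAut ⇑Q), ∀ σ, (ψ σ : RingAut F) = σ :=
    ⟨{ toFun := fun σ => ⟨σ, hall σ⟩, map_one' := rfl, map_mul' := fun _ _ => rfl }, fun _ => rfl⟩
  have hrange : ((fieldAutPO ⇑Q).comp ψ).range = (fieldAutPO ⇑Q).range := by
    apply le_antisymm
    · rintro _ ⟨σ, rfl⟩
      exact ⟨ψ σ, rfl⟩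
    · rintro _ ⟨σ, rfl⟩
      refine ⟨σ.1, ?_⟩
      rw [MonoidHom.comp_apply]
      congr 1
      exact Subtype.ext (hψ σ.1)
  have hsup' : (autPO ⇑Q).range ⊔ ((fieldAutPO ⇑Q).comp ψ).range = ⊤ := by
    rw [hrange, hsup]
  have hinj : ∀ σ : RingAut F, ((fieldAutPO ⇑Q).comp ψ) σ ∈ (autPO ⇑Q).range → σ = 1 := by
    rintro σ ⟨g, hg⟩
    rw [MonoidHom.comp_apply] at hg
    have h5 := fieldAutPO_eq_autPO_imp h2 Q hQ hn e f HT (ψ σ)
      (fun i => by rw [hψ]; exact hfix0 σ i) (fun i => by rw [hψ]; exact hfix1 σ i) g hg.symm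
    have := congrArg Subtype.val h5
    rw [hψ] at this
    exact this
  exact nonempty_quotient_equiv_units_prod (Cfsg.Inn (Cfsg.POmega F ⇑Q)) (autPO ⇑Q).range hIP hrel
    ((fieldAutPO ⇑Q).comp ψ) hsup' hinj

/-- the centre of `PΩ` is trivial in odd dimension -/
theorem center_POmega_odd_eq_bot (h2 : (2 : F) ≠ 0)
    (hQ : (QuadraticMap.polarBilin Q).Nondegenerate)
    (hodd : Odd (Fintype.card ι)) (e f : Fin 3 → ι → F) (HT : HypTriple Q e f) :
    Subgroup.center (Cfsg.POmega F ⇑Q) = ⊥ := by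
  have RP := reflPairs_of_two_ne_zero Q h2
  rw [eq_bot_iff]
  intro x hx
  induction x using QuotientGroup.induction_on with
  | H s =>
    have h1 : MulAut.conj (QuotientGroup.mk s : Cfsg.POmega F ⇑Q) = 1 := by
      ext y
      rw [MulAut.conj_apply, MulAut.one_apply]
      rw [Subgroup.mem_center_iff] at hx
      rw [← hx y, mul_inv_cancel_right]
    rw [← autO_of_mem_Omega, autO_eq_one_iff Q hQ h2 e f HT RP] at h1
    rcases h1 with h1 | h1
    · have : s = 1 := Subtype.ext (Subtype.ext (Units.ext h1))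
      rw [this]
      exact Subgroup.one_mem _
    · exfalso
      have h5 := (mem_SO_iff_det Q s.1).mp (Omega_le_SO Q s.2)
      rw [h1, Matrix.det_neg, Matrix.det_one, hodd.neg_one_pow] at h5
      apply h2
      linear_combination -h5

theorem card_inn_of_center_eq_bot {T : Type*} [Group T] (h : Subgroup.center T = ⊥) :
    Nat.card (Cfsg.Inn T) = Nat.card T := by
  have hinj : Function.Injective (MulAut.conj : T →* MulAut T) := by
    rw [← MonoidHom.ker_eq_bot_iff, eq_bot_iff]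
    intro x hx
    rw [← h, Subgroup.mem_center_iff]
    intro y
    have := DFunLike.congr_fun (MonoidHom.mem_ker.mp hx) y
    rw [MulAut.conj_apply, MulAut.one_apply] at this
    calc y * x = x * y * x⁻¹ * x := by rw [this]
      _ = x * y := by group
  exact (Nat.card_congr (MonoidHom.ofInjective hinj).toEquiv).symm

end generic

section main

variable {F : Type u} [Field F] [Fintype F]

theorem out_odd_main {p f m : ℕ} [Fact p.Prime] (hF : Fintype.card F = p ^ f)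
    (h2 : (2 : F) ≠ 0) (hm : 3 ≤ m) :
    ∀ q : ((Unit ⊕ (Fin m ⊕ Fin m)) → F) → F, Cfsg.quadFormOdd m F = q →
      Cfsg.gammaPOmega F q = ⊤ →
      Nonempty (Cfsg.Out (Cfsg.POmega F q) ≃* Multiplicative (ZMod 2 × ZMod f)) ∧
      Nat.card (MulAut (Cfsg.POmega F q)) = 2 * f * Nat.card (Cfsg.POmega F q) := by
  classical
  have : CharP F p := charP_of_card_eq_prime_pow hF
  obtain ⟨Q, hQdef⟩ : ∃ Q : QuadraticForm F ((Unit ⊕ (Fin m ⊕ Fin m)) → F),
      Q = (qdataOdd (F := F) m h2).qf := ⟨_, rfl⟩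
  have hcoe : ⇑Q = Cfsg.quadFormOdd m F := by rw [hQdef]; rfl
  have hQ : (QuadraticMap.polarBilin Q).Nondegenerate := by
    rw [hQdef]; exact (qdataOdd (F := F) m h2).qf_nondeg
  obtain ⟨e, he⟩ : ∃ e : Fin 3 → ((Unit ⊕ (Fin m ⊕ Fin m)) → F),
      e = fun i => Pi.single (Sum.inr (Sum.inl (Fin.castLE hm i))) 1 := ⟨_, rfl⟩
  obtain ⟨f', hf'⟩ : ∃ f' : Fin 3 → ((Unit ⊕ (Fin m ⊕ Fin m)) → F),
      f' = fun i => Pi.single (Sum.inr (Sum.inr (Fin.castLE hm i))) 1 := ⟨_, rfl⟩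
  have HT : HypTriple Q e f' := by
    rw [hQdef, he, hf']; exact hypTriple_odd (F := F) m hm h2
  have hcard : Fintype.card (Unit ⊕ (Fin m ⊕ Fin m)) = 2 * m + 1 := by
    simp only [Fintype.card_sum, Fintype.card_fin, Fintype.card_unit]; ring
  have hodd : Odd (Fintype.card (Unit ⊕ (Fin m ⊕ Fin m))) := ⟨m, hcard⟩
  have hn : 5 ≤ Fintype.card (Unit ⊕ (Fin m ⊕ Fin m)) := by omega
  have hall : ∀ σ : RingAut F, σ ∈ compatAut ⇑Q := by
    intro σ
    rw [hcoe, mem_compatAut]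
    intro v
    unfold Cfsg.quadFormOdd
    simp only [map_add, map_pow, map_sum, map_mul]
  have hfix : ∀ (σ : RingAut F) (j i : Unit ⊕ (Fin m ⊕ Fin m)),
      σ ((Pi.single j (1 : F) : (Unit ⊕ (Fin m ⊕ Fin m)) → F) i) =
        (Pi.single j (1 : F) : (Unit ⊕ (Fin m ⊕ Fin m)) → F) i := by
    intro σ j i
    by_cases hij : i = j
    · rw [hij, Pi.single_eq_same, map_one]
    · rw [Pi.single_eq_of_ne hij, map_zero]
  have hfix0 : ∀ (σ : RingAut F) i, σ (e 0 i) = e 0 i := by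
    intro σ i; rw [he]; exact hfix σ _ i
  have hfix1 : ∀ (σ : RingAut F) i, σ (e 1 i) = e 1 i := by
    intro σ i; rw [he]; exact hfix σ _ i
  have hcyc : IsCyclic (RingAut F) := Cfsg.Agent.Lib.Helper07.isCyclic_ringAut (F := F) p
  have hcardR : Nat.card (RingAut F) = f := Cfsg.Agent.Lib.Helper07.card_ringAut p hF
  have key : ∀ q : ((Unit ⊕ (Fin m ⊕ Fin m)) → F) → F, ⇑Q = q →
      Cfsg.gammaPOmega F q = ⊤ →
      Nonempty (Cfsg.Out (Cfsg.POmega F q) ≃* Multiplicative (ZMod 2 × ZMod f)) ∧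
      Nat.card (MulAut (Cfsg.POmega F q)) = 2 * f * Nat.card (Cfsg.POmega F q) := by
    rintro q rfl hAut
    obtain ⟨E⟩ := out_odd_generic Q h2 hQ hn hodd e f' HT hall hfix0 hfix1 hAut
    have hcardZ : Nat.card (Multiplicative (ZMod f)) = f := by
      rw [Nat.card_congr Multiplicative.toAdd, Nat.card_zmod]
    have E2 : RingAut F ≃* Multiplicative (ZMod f) :=
      mulEquivOfCyclicCardEq (by rw [hcardR, hcardZ])
    constructor
    · exact ⟨(E.trans (MulEquiv.prodCongr unitsIntEquiv E2)).trans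
        (MulEquiv.prodMultiplicative (ZMod 2) (ZMod f)).symm⟩
    · have hc := center_POmega_odd_eq_bot Q h2 hQ hodd e f' HT
      have h1 := Subgroup.card_eq_card_quotient_mul_card_subgroup
        (Cfsg.Inn (Cfsg.POmega F ⇑Q))
      rw [h1, card_inn_of_center_eq_bot hc]
      have h3 : Nat.card (MulAut (Cfsg.POmega F ⇑Q) ⧸ Cfsg.Inn (Cfsg.POmega F ⇑Q)) = 2 * f := by
        have : Nat.card (Cfsg.Out (Cfsg.POmega F ⇑Q)) = Nat.card (ℤˣ × RingAut F) :=
          Nat.card_congr E.toEquiv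
        rw [Nat.card_prod, hcardR] at this
        have h4 : Nat.card ℤˣ = 2 := by
          rw [Nat.card_eq_fintype_card]; rfl
        rw [h4] at this
        exact this
      rw [h3]
  intro q hq
  exact key q (hcoe.trans hq)

end main

end Cfsg.Agent.Lib.Helper50
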