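import Mathlib

/-!
# K-PG2 leaf F3240 (S3452): a finite group with a non-trivial solvable normal subgroup and
spectrum `{1, 2, 3, 4, 5, 8, 10}` (the spectrum of `PGL₂(9)`)

`G = 3⁴ : (5 : 8)`, the Frobenius group `V ⋊ C` with `V = (ZMod 3)⁴ = F₈₁ = F₃[x]/(x⁴+x+2)`,
`C = ⟨a, b⟩ ≤ GL₄(3)`, `a` = multiplication by `ζ¹⁶`, `b = (v ↦ ζ v³)`, `a⁵ = b⁸ = 1`, `b a = a³ b`.
Every `c ≠ 1` of `C` acts without non-zero fixed vectors, so `(v, c)` has the order of `c`.
-/

set_option autoImplicit false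

namespace Cfsg.Agent.Lib.Helper50.PG2

open Matrix

/-- 4×4 matrices over `F₃` -/
abbrev M43 : Type := Matrix (Fin 4) (Fin 4) (ZMod 3)
/-- the module `F₃⁴` -/
abbrev V43 : Type := Fin 4 → ZMod 3

/-- multiplication by `ζ¹⁶` on `F₈₁` -/
def matA : M43 := !![2, 2, 0, 1; 1, 0, 2, 2; 0, 1, 0, 2; 2, 0, 1, 0]
/-- `v ↦ ζ v³` on `F₈₁` -/
def matB : M43 := !![0, 1, 2, 1; 1, 2, 1, 2; 0, 0, 0, 1; 0, 0, 1, 1]
/-- `matA⁻¹ = matA⁴` -/
def matAi : M43 := !![2, 0, 2, 0; 0, 2, 1, 2; 2, 0, 2, 1; 0, 2, 0, 2]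
/-- `matB⁻¹ = matB⁷` -/
def matBi : M43 := !![1, 1, 0, 0; 1, 0, 1, 1; 0, 0, 2, 1; 0, 0, 1, 0]

set_option maxRecDepth 100000 in
theorem matA_mul_inv : matA * matAi = 1 := by decide +kernel
set_option maxRecDepth 100000 in
theorem matA_inv_mul : matAi * matA = 1 := by decide +kernel
set_option maxRecDepth 100000 in
theorem matB_mul_inv : matB * matBi = 1 := by decide +kernel
set_option maxRecDepth 100000 in
theorem matB_inv_mul : matBi * matB = 1 := by decide +kernel
set_option maxRecDepth 100000 in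
theorem matA_pow_five : matA ^ 5 = 1 := by decide +kernel
set_option maxRecDepth 100000 in
theorem matB_pow_eight : matB ^ 8 = 1 := by decide +kernel
set_option maxRecDepth 100000 in
theorem matB_mul_matA : matB * matA = matA ^ 3 * matB := by decide +kernel

-- the table: each `A^i B^j` is `1`, or fixed-point-free of order `2, 4, 5, 8` or `10`
set_option maxRecDepth 100000 in
theorem mat_table : ∀ i : Fin 5, ∀ j : Fin 8, matA ^ (i : ℕ) * matB ^ (j : ℕ) = 1 ∨
    ((∀ w : V43, (matA ^ (i : ℕ) * matB ^ (j : ℕ)) *ᵥ w = w → w = 0) ∧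
      ∃ n ∈ ({2, 4, 5, 8, 10} : Finset ℕ), (matA ^ (i : ℕ) * matB ^ (j : ℕ)) ^ n = 1 ∧
        ∀ m < n, 0 < m → (matA ^ (i : ℕ) * matB ^ (j : ℕ)) ^ m ≠ 1) := by decide +kernel

-- every order `2, 4, 5, 8, 10` occurs
set_option maxRecDepth 100000 in
theorem mat_table_exists : ∀ n ∈ ({2, 4, 5, 8, 10} : Finset ℕ), ∃ i : Fin 5, ∃ j : Fin 8,
    (matA ^ (i : ℕ) * matB ^ (j : ℕ)) ^ n = 1 ∧
      ∀ m < n, 0 < m → (matA ^ (i : ℕ) * matB ^ (j : ℕ)) ^ m ≠ 1 := by decide +kernel

/-- `a` as a unit -/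
def unitA : M43ˣ := ⟨matA, matAi, matA_mul_inv, matA_inv_mul⟩
/-- `b` as a unit -/
def unitB : M43ˣ := ⟨matB, matBi, matB_mul_inv, matB_inv_mul⟩

theorem unitA_pow_five : unitA ^ 5 = 1 := by
  apply Units.ext
  rw [Units.val_pow_eq_pow_val]
  exact matA_pow_five

theorem unitB_pow_eight : unitB ^ 8 = 1 := by
  apply Units.ext
  rw [Units.val_pow_eq_pow_val]
  exact matB_pow_eight

theorem unitB_mul_unitA : unitB * unitA = unitA ^ 3 * unitB := by
  apply Units.ext
  rw [Units.val_mul, Units.val_mul, Units.val_pow_eq_pow_val]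
  exact matB_mul_matA

section Rel
variable {H : Type*} [Group H] {a b : H}

theorem rel_pow_right (h : b * a = a ^ 3 * b) (k : ℕ) : b * a ^ k = a ^ (3 * k) * b := by
  induction k with
  | zero => simp
  | succ k ih =>
    rw [pow_succ, ← mul_assoc, ih, mul_assoc, h, ← mul_assoc, ← pow_add]
    congr 1

theorem rel_pow_pow (h : b * a = a ^ 3 * b) (j k : ℕ) :
    b ^ j * a ^ k = a ^ (3 ^ j * k) * b ^ j := by
  induction j generalizing k with
  | zero => simp
  | succ j ih =>
    rw [pow_succ b j, mul_assoc, rel_pow_right h, ← mul_assoc, ih, mul_assoc]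
    congr 2
    ring

end Rel

/-- the complement `C = 5 : 8` -/
def compC : Subgroup M43ˣ where
  carrier := {c | ∃ i j : ℕ, c = unitA ^ i * unitB ^ j}
  mul_mem' := by
    rintro _ _ ⟨i, j, rfl⟩ ⟨k, l, rfl⟩
    refine ⟨i + 3 ^ j * k, j + l, ?_⟩
    calc unitA ^ i * unitB ^ j * (unitA ^ k * unitB ^ l)
        = unitA ^ i * (unitB ^ j * unitA ^ k) * unitB ^ l := by simp only [mul_assoc]
      _ = unitA ^ i * (unitA ^ (3 ^ j * k) * unitB ^ j) * unitB ^ l := by
          rw [rel_pow_pow unitB_mul_unitA]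
      _ = unitA ^ (i + 3 ^ j * k) * unitB ^ (j + l) := by
          rw [pow_add, pow_add]; simp only [mul_assoc]
  one_mem' := ⟨0, 0, by simp⟩
  inv_mem' := by
    rintro _ ⟨i, j, rfl⟩
    have ha : unitA⁻¹ = unitA ^ 4 := by
      apply inv_eq_of_mul_eq_one_right
      rw [← pow_succ', unitA_pow_five]
    have hb : unitB⁻¹ = unitB ^ 7 := by
      apply inv_eq_of_mul_eq_one_right
      rw [← pow_succ', unitB_pow_eight]
    refine ⟨3 ^ (7 * j) * (4 * i), 7 * j, ?_⟩
    rw [_root_.mul_inv_rev, ← inv_pow, ← inv_pow, ha, hb, ← pow_mul, ← pow_mul,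
      rel_pow_pow unitB_mul_unitA]

theorem mem_compC_iff (c : M43ˣ) : c ∈ compC ↔ ∃ i j : ℕ, c = unitA ^ i * unitB ^ j := Iff.rfl

theorem exists_fin_of_mem_compC {c : M43ˣ} (hc : c ∈ compC) :
    ∃ (i : Fin 5) (j : Fin 8), (c : M43) = matA ^ (i : ℕ) * matB ^ (j : ℕ) := by
  obtain ⟨i, j, rfl⟩ := hc
  refine ⟨⟨i % 5, Nat.mod_lt _ (by norm_num)⟩, ⟨j % 8, Nat.mod_lt _ (by norm_num)⟩, ?_⟩
  rw [pow_eq_pow_mod i unitA_pow_five, pow_eq_pow_mod j unitB_pow_eight]
  simp only [Units.val_mul, Units.val_pow_eq_pow_val]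
  rfl

theorem mem_compC_of_fin (i : Fin 5) (j : Fin 8) : unitA ^ (i : ℕ) * unitB ^ (j : ℕ) ∈ compC :=
  ⟨i, j, rfl⟩

/-- the action of the complement on `Multiplicative V` -/
def actC : compC →* MulAut (Multiplicative V43) :=
  (MulAutMultiplicative V43).symm.toMonoidHom.comp
    ((DistribMulAction.toAddAut M43ˣ V43).comp compC.subtype)

theorem actC_apply (c : compC) (w : Multiplicative V43) :
    actC c w = Multiplicative.ofAdd (((c : M43ˣ) : M43) *ᵥ Multiplicative.toAdd w) := rfl

/-- the Frobenius group `3⁴ : (5 : 8)` -/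
abbrev frobG : Type := Multiplicative V43 ⋊[actC] compC

section SDP
variable {N G : Type*} [CommGroup N] [Group G] (φ : G →* MulAut N)

theorem sdp_pow_right' (h : N ⋊[φ] G) (m : ℕ) : (h ^ m).right = h.right ^ m :=
  map_pow (SemidirectProduct.rightHom : N ⋊[φ] G →* G) h m

theorem sdp_exists_fixed' (h : N ⋊[φ] G) (m : ℕ) (hm : h.right ^ m = 1) :
    ∃ w : N, h ^ m = SemidirectProduct.inl w ∧ φ h.right w = w := by
  have hr : (h ^ m).right = 1 := by rw [sdp_pow_right', hm]
  refine ⟨(h ^ m).left, ?_, ?_⟩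
  · ext
    · simp
    · simp [hr]
  · have hc : h * h ^ m = h ^ m * h := (Commute.refl h).pow_right m
    have h1 := congrArg SemidirectProduct.left hc
    simp only [SemidirectProduct.mul_left, hr, map_one, MulAut.one_apply] at h1
    have h2 : h.left * φ h.right (h ^ m).left = h.left * (h ^ m).left := by
      rw [h1, mul_comm]
    exact mul_left_cancel h2

theorem sdp_orderOf_right_dvd' (h : N ⋊[φ] G) : orderOf h.right ∣ orderOf h :=
  orderOf_map_dvd (SemidirectProduct.rightHom : N ⋊[φ] G →* G) h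

theorem sdp_orderOf_inr' (g : G) : orderOf (SemidirectProduct.inr g : N ⋊[φ] G) = orderOf g :=
  orderOf_injective (SemidirectProduct.inr : G →* N ⋊[φ] G) SemidirectProduct.inr_injective g

end SDP

theorem orderOf_compC (c : compC) : orderOf c = orderOf (((c : M43ˣ) : M43)) := by
  rw [← Subgroup.orderOf_coe, ← orderOf_units]

theorem three_nsmul_V43 (v : V43) : 3 • v = 0 := by
  funext k
  have h3 : (3 : ZMod 3) = 0 := by decide
  simp [h3]

theorem inl_pow_three' (w : Multiplicative V43) :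
    (SemidirectProduct.inl w : frobG) ^ 3 = 1 := by
  rw [← map_pow]
  have : w ^ 3 = 1 := by
    have h := three_nsmul_V43 (Multiplicative.toAdd w)
    exact congrArg Multiplicative.ofAdd h
  rw [this, map_one]

theorem orderOf_mem (h : frobG) : orderOf h ∈ ({1, 2, 3, 4, 5, 8, 10} : Set ℕ) := by
  obtain ⟨i, j, hij⟩ := exists_fin_of_mem_compC h.right.2
  rcases mat_table i j with h1 | ⟨hfix, n, hn, hpow, hmin⟩
  · -- right component trivial
    have hr : h.right = 1 := by
      apply Subtype.ext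
      apply Units.ext
      rw [hij, h1]
      rfl
    have hh : h = SemidirectProduct.inl h.left := by
      ext
      · simp
      · simp [hr]
    have h3 : h ^ 3 = 1 := by rw [hh]; exact inl_pow_three' _
    have hd : orderOf h ∣ 3 := orderOf_dvd_of_pow_eq_one h3
    rcases (Nat.dvd_prime Nat.prime_three).1 hd with h | h <;> simp [h]
  · -- fixed-point-free
    have hn0 : 0 < n := by
      simp only [Finset.mem_insert, Finset.mem_singleton] at hn
      rcases hn with rfl | rfl | rfl | rfl | rfl <;> norm_num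
    have hc : orderOf h.right = n := by
      rw [orderOf_compC, hij]
      exact (orderOf_eq_iff hn0).2 ⟨hpow, hmin⟩
    have hrn : h.right ^ n = 1 := by rw [← hc]; exact pow_orderOf_eq_one _
    obtain ⟨w, hw, hwfix⟩ := sdp_exists_fixed' actC h n hrn
    have hw1 : w = 1 := by
      rw [actC_apply, hij] at hwfix
      have := hfix (Multiplicative.toAdd w) (congrArg Multiplicative.toAdd hwfix)
      exact congrArg Multiplicative.ofAdd this
    have hhn : h ^ n = 1 := by rw [hw, hw1, map_one]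
    have hd1 : orderOf h ∣ n := orderOf_dvd_of_pow_eq_one hhn
    have hd2 : n ∣ orderOf h := hc ▸ sdp_orderOf_right_dvd' actC h
    have : orderOf h = n := Nat.dvd_antisymm hd1 hd2
    rw [this]
    simp only [Finset.mem_insert, Finset.mem_singleton] at hn
    rcases hn with rfl | rfl | rfl | rfl | rfl <;> simp

theorem exists_orderOf (n : ℕ) (hn : n ∈ ({2, 4, 5, 8, 10} : Finset ℕ)) :
    ∃ h : frobG, orderOf h = n := by
  obtain ⟨i, j, hpow, hmin⟩ := mat_table_exists n hn
  have hn0 : 0 < n := by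
    simp only [Finset.mem_insert, Finset.mem_singleton] at hn
    rcases hn with rfl | rfl | rfl | rfl | rfl <;> norm_num
  refine ⟨SemidirectProduct.inr ⟨unitA ^ (i : ℕ) * unitB ^ (j : ℕ), mem_compC_of_fin i j⟩, ?_⟩
  rw [sdp_orderOf_inr', orderOf_compC]
  simp only [Units.val_mul, Units.val_pow_eq_pow_val]
  exact (orderOf_eq_iff hn0).2 ⟨hpow, hmin⟩

theorem exists_orderOf_three : ∃ h : frobG, orderOf h = 3 := by
  refine ⟨SemidirectProduct.inl (Multiplicative.ofAdd (fun _ => 1)), ?_⟩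
  refine orderOf_eq_prime (inl_pow_three' _) ?_
  intro h
  have h1 := congrArg SemidirectProduct.left h
  simp only [SemidirectProduct.left_inl, SemidirectProduct.one_left] at h1
  have h2 := congrFun (congrArg Multiplicative.toAdd h1) 0
  simp at h2

theorem exists_spec_pgl29 : ∃ (G : Type) (_ : Group G) (_ : Finite G) (K : Subgroup G),
    K.Normal ∧ K ≠ ⊥ ∧ Group.IsSolvable ↥K ∧ Set.range (orderOf : G → ℕ) = {1, 2, 3, 4, 5, 8, 10} := by
  refine ⟨frobG, inferInstance, Finite.of_equiv _ SemidirectProduct.equivProd.symm,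
    (SemidirectProduct.inl : Multiplicative V43 →* frobG).range, ?_, ?_, ?_, ?_⟩
  · rw [SemidirectProduct.range_inl_eq_ker_rightHom]
    infer_instance
  · intro hbot
    have hmem : (SemidirectProduct.inl (Multiplicative.ofAdd (fun _ => (1 : ZMod 3))) : frobG) ∈
        (SemidirectProduct.inl : Multiplicative V43 →* frobG).range := ⟨_, rfl⟩
    rw [hbot, Subgroup.mem_bot] at hmem
    have h1 := congrArg SemidirectProduct.left hmem
    simp only [SemidirectProduct.left_inl, SemidirectProduct.one_left] at h1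
    have h2 := congrFun (congrArg Multiplicative.toAdd h1) 0
    simp at h2
  · exact Group.isSolvable_of_surjective
      (MonoidHom.rangeRestrict_surjective (SemidirectProduct.inl : Multiplicative V43 →* frobG))
  · apply Set.eq_of_subset_of_subset
    · rintro _ ⟨h, rfl⟩
      exact orderOf_mem h
    · intro n hn
      simp only [Set.mem_insert_iff, Set.mem_singleton_iff] at hn
      rcases hn with rfl | rfl | rfl | rfl | rfl | rfl | rfl
      · exact ⟨1, orderOf_one⟩
      · exact exists_orderOf 2 (by decide)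
      · exact exists_orderOf_three
      · exact exists_orderOf 4 (by decide)
      · exact exists_orderOf 5 (by decide)
      · exact exists_orderOf 8 (by decide)
      · exact exists_orderOf 10 (by decide)

end Cfsg.Agent.Lib.Helper50.PG2
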