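import Cfsg.Agent.Lib.Helper07.PSLnF
import Cfsg.Agent.Lib.Helper07.PSLnO
import Cfsg.Agent.Lib.Helper08.SUCenter
import Cfsg.Agent.Lib.Helper51.SUGen10

set_option autoImplicit false

/-! Automorphisms of `PSU_n`: conjugation by the conformal unitary group and field
automorphisms, through the stabiliser of `SU_n` in `Aut(SL_n)`. -/

namespace Cfsg.Agent.Lib.Helper50

open Matrix Cfsg.Agent.Lib.Helper07
open scoped commutatorElement

section stab
variable {H : Type*} [Group H]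

/-- automorphisms of `H` stabilising the subgroup `S` -/
def stabAut (S : Subgroup H) : Subgroup (MulAut H) where
  carrier := {e | ∀ s, e s ∈ S ↔ s ∈ S}
  one_mem' := fun _ => Iff.rfl
  mul_mem' := fun {a b} ha hb s => by rw [MulAut.mul_apply, ha, hb]
  inv_mem' := fun {a} ha s => by rw [← ha (a⁻¹ s), MulAut.apply_inv_self]

theorem mem_stabAut_of_forall (S : Subgroup H) (e : MulAut H) (h1 : ∀ s ∈ S, e s ∈ S)
    (h2 : ∀ s ∈ S, e⁻¹ s ∈ S) : e ∈ stabAut S := by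
  intro s
  constructor
  · intro hs
    have := h2 _ hs
    rwa [MulAut.inv_apply_self] at this
  · exact h1 s

/-- restriction of a stabilising automorphism -/
def restrictAut (S : Subgroup H) : stabAut S →* MulAut S where
  toFun e :=
    { toFun := fun s => ⟨e.1 s.1, (e.2 s.1).mpr s.2⟩
      invFun := fun s => ⟨e.1⁻¹ s.1, (((stabAut S).inv_mem e.2) s.1).mpr s.2⟩
      left_inv := fun s => Subtype.ext (MulAut.inv_apply_self _ _ _)
      right_inv := fun s => Subtype.ext (MulAut.apply_inv_self _ _ _)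
      map_mul' := fun s t => Subtype.ext (map_mul e.1 s.1 t.1) }
  map_one' := by
    ext s
    rfl
  map_mul' := fun a b => by
    ext s
    rfl

theorem restrictAut_apply (S : Subgroup H) (e : stabAut S) (s : S) :
    ((restrictAut S e s : S) : H) = e.1 s.1 := rfl

/-- for a perfect group, automorphisms are determined by their action modulo the centre -/
theorem autQuot_center_injective (hperf : commutator H = ⊤) :
    Function.Injective (autQuot (Subgroup.center H)) := by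
  intro e₁ e₂ h
  have hz : ∀ s : H, (e₂ s)⁻¹ * e₁ s ∈ Subgroup.center H := by
    intro s
    have := congrArg (fun e => e (QuotientGroup.mk s : H ⧸ Subgroup.center H)) h
    simp only [autQuot_mk] at this
    exact QuotientGroup.eq.mp this.symm
  have hK : (⊤ : Subgroup H) ≤ MonoidHom.eqLocus e₁.toMonoidHom e₂.toMonoidHom := by
    rw [← hperf, commutator_eq_closure, Subgroup.closure_le]
    rintro _ ⟨s, t, rfl⟩
    show e₁ _ = e₂ _
    obtain ⟨z, hz1, hzs⟩ : ∃ z ∈ Subgroup.center H, e₁ s = e₂ s * z :=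
      ⟨_, hz s, by rw [mul_inv_cancel_left]⟩
    obtain ⟨w, hw1, hwt⟩ : ∃ w ∈ Subgroup.center H, e₁ t = e₂ t * w :=
      ⟨_, hz t, by rw [mul_inv_cancel_left]⟩
    rw [commutatorElement_def, map_mul, map_mul, map_mul, map_inv, map_inv,
      map_mul, map_mul, map_mul, map_inv, map_inv, hzs, hwt]
    have hzc := Subgroup.mem_center_iff.mp hz1
    have hwc := Subgroup.mem_center_iff.mp hw1
    have e1 : e₂ s * z * (e₂ t * w) * (e₂ s * z)⁻¹ * (e₂ t * w)⁻¹
        = e₂ s * e₂ t * (e₂ s)⁻¹ * (e₂ t)⁻¹ * (z * z⁻¹) * (w * w⁻¹) := by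
      rw [_root_.mul_inv_rev, _root_.mul_inv_rev]
      have hzi : ∀ g : H, g * z⁻¹ = z⁻¹ * g := fun g => by
        have := hzc g
        calc g * z⁻¹ = z⁻¹ * (z * g) * z⁻¹ := by group
          _ = z⁻¹ * (g * z) * z⁻¹ := by rw [this]
          _ = z⁻¹ * g := by group
      have hwi : ∀ g : H, g * w⁻¹ = w⁻¹ * g := fun g => by
        have := hwc g
        calc g * w⁻¹ = w⁻¹ * (w * g) * w⁻¹ := by group
          _ = w⁻¹ * (g * w) * w⁻¹ := by rw [this]
          _ = w⁻¹ * g := by group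
      calc e₂ s * z * (e₂ t * w) * (z⁻¹ * (e₂ s)⁻¹) * (w⁻¹ * (e₂ t)⁻¹)
          = e₂ s * (z * e₂ t) * (w * z⁻¹) * (e₂ s)⁻¹ * w⁻¹ * (e₂ t)⁻¹ := by group
        _ = e₂ s * (e₂ t * z) * (w * z⁻¹) * (e₂ s)⁻¹ * w⁻¹ * (e₂ t)⁻¹ := by rw [hzc (e₂ t)]
        _ = e₂ s * e₂ t * (z * (w * z⁻¹)) * ((e₂ s)⁻¹ * w⁻¹) * (e₂ t)⁻¹ := by group
        _ = e₂ s * e₂ t * ((w * z⁻¹) * z) * (w⁻¹ * (e₂ s)⁻¹) * (e₂ t)⁻¹ := by
            rw [hzc (w * z⁻¹), hwi]
        _ = e₂ s * e₂ t * (w * w⁻¹) * (e₂ s)⁻¹ * (e₂ t)⁻¹ := by group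
        _ = _ := by group
    rw [e1, mul_inv_cancel, mul_inv_cancel, mul_one, mul_one]
  ext s
  exact hK (Subgroup.mem_top s)

end stab

section cu
variable {n : ℕ} {F : Type*} [Field F]

local notation "SLn" => SpecialLinearGroup (Fin n) F

theorem map_inv_mul (σ : RingAut F) (x : GL (Fin n) F) :
    x⁻¹.val.map σ * x.val.map σ = 1 := by
  rw [← map_mul_ringAut, Units.inv_mul, Matrix.map_one _ (map_zero σ) (map_one σ)]

theorem map_mul_inv (σ : RingAut F) (x : GL (Fin n) F) :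
    x.val.map σ * x⁻¹.val.map σ = 1 := by
  rw [← map_mul_ringAut, Units.mul_inv, Matrix.map_one _ (map_zero σ) (map_one σ)]

/-- the conformal unitary group: `xᵀ σ(x) = c • 1` -/
def CU (n : ℕ) (σ : RingAut F) : Subgroup (GL (Fin n) F) where
  carrier := {x | ∃ c : Fˣ, x.valᵀ * x.val.map σ = (c : F) • 1}
  one_mem' := ⟨1, by
    rw [Units.val_one, Matrix.transpose_one, Matrix.map_one _ (map_zero σ) (map_one σ),
      Matrix.one_mul, Units.val_one, one_smul]⟩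
  mul_mem' := by
    rintro a b ⟨c, hc⟩ ⟨d, hd⟩
    refine ⟨c * d, ?_⟩
    rw [Units.val_mul, Matrix.transpose_mul, map_mul_ringAut]
    calc b.valᵀ * a.valᵀ * (a.val.map σ * b.val.map σ)
        = b.valᵀ * (a.valᵀ * a.val.map σ) * b.val.map σ := by simp only [Matrix.mul_assoc]
      _ = _ := by
          rw [hc, Matrix.mul_smul, Matrix.mul_one, Matrix.smul_mul, hd, smul_smul, Units.val_mul]
  inv_mem' := by
    rintro a ⟨c, hc⟩
    refine ⟨c⁻¹, ?_⟩
    have h1 : ((c : F)⁻¹ • a.valᵀ) * a.val.map σ = 1 := by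
      rw [Matrix.smul_mul, hc, smul_smul, inv_mul_cancel₀ c.ne_zero, one_smul]
    have h2 : a.val.map σ * ((c : F)⁻¹ • a.valᵀ) = 1 := mul_eq_one_comm.mp h1
    have h3 : a⁻¹.valᵀ * a.valᵀ = 1 := by
      rw [← Matrix.transpose_mul, Units.mul_inv, Matrix.transpose_one]
    calc a⁻¹.valᵀ * a⁻¹.val.map σ
        = a⁻¹.valᵀ * (a⁻¹.val.map σ * (a.val.map σ * ((c : F)⁻¹ • a.valᵀ))) := by
          rw [h2, Matrix.mul_one]
      _ = a⁻¹.valᵀ * ((a⁻¹.val.map σ * a.val.map σ) * ((c : F)⁻¹ • a.valᵀ)) := by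
          simp only [Matrix.mul_assoc]
      _ = _ := by
          rw [map_inv_mul, Matrix.one_mul, Matrix.mul_smul, h3, Units.val_inv_eq_inv_val]

theorem mem_CU_iff (σ : RingAut F) (x : GL (Fin n) F) :
    x ∈ CU n σ ↔ ∃ c : Fˣ, x.valᵀ * x.val.map σ = (c : F) • 1 := Iff.rfl

theorem scalar_mem_CU (σ : RingAut F) (u : Fˣ) : GeneralLinearGroup.scalar (Fin n) u ∈ CU n σ := by
  refine ⟨u * Units.map σ.toRingHom.toMonoidHom u, ?_⟩
  rw [GeneralLinearGroup.coe_scalar]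
  ext i j
  simp [Matrix.mul_apply, Matrix.scalar_apply, Matrix.diagonal_apply, Matrix.one_apply]

variable {q : ℕ}

theorem mem_SU_iff_mat (σ : RingAut F) (hσq : ∀ a, σ a = a ^ q) (s : SLn) :
    s ∈ Cfsg.SU n F q ↔ s.valᵀ * s.val.map σ = 1 := by
  rw [← Cfsg.Agent.Lib.Helper08.toGL_mem_GU_iff, mem_GU_iff σ hσq]
  rfl

theorem GU_le_CU (σ : RingAut F) (hσq : ∀ a, σ a = a ^ q) : Cfsg.GU n F q ≤ CU n σ := by
  intro g hg
  rw [mem_GU_iff σ hσq] at hg
  exact ⟨1, by rw [hg, Units.val_one, one_smul]⟩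

theorem conjSLn_mem_SU (σ : RingAut F) (hσq : ∀ a, σ a = a ^ q) (x : GL (Fin n) F)
    (hx : x ∈ CU n σ) (s : SLn) (hs : s ∈ Cfsg.SU n F q) : conjSLn x s ∈ Cfsg.SU n F q := by
  rw [mem_SU_iff_mat σ hσq] at hs ⊢
  obtain ⟨c, hc⟩ := hx
  rw [conjSLn_val, Matrix.transpose_mul, Matrix.transpose_mul, map_mul_ringAut, map_mul_ringAut]
  have h1 : ((c : F)⁻¹ • x.valᵀ) * x.val.map σ = 1 := by
    rw [Matrix.smul_mul, hc, smul_smul, inv_mul_cancel₀ c.ne_zero, one_smul]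
  have h2 : x.val.map σ * ((c : F)⁻¹ • x.valᵀ) = 1 := mul_eq_one_comm.mp h1
  have h3 : x⁻¹.valᵀ * x.valᵀ = 1 := by
    rw [← Matrix.transpose_mul, Units.mul_inv, Matrix.transpose_one]
  have h4 : x⁻¹.val.map σ = (c : F)⁻¹ • x.valᵀ := by
    calc x⁻¹.val.map σ = x⁻¹.val.map σ * (x.val.map σ * ((c : F)⁻¹ • x.valᵀ)) := by
          rw [h2, Matrix.mul_one]
      _ = (x⁻¹.val.map σ * x.val.map σ) * ((c : F)⁻¹ • x.valᵀ) := by rw [Matrix.mul_assoc]
      _ = _ := by rw [map_inv_mul, Matrix.one_mul]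
  calc x⁻¹.valᵀ * (s.valᵀ * x.valᵀ) * (x.val.map σ * s.val.map σ * x⁻¹.val.map σ)
      = x⁻¹.valᵀ * (s.valᵀ * ((x.valᵀ * x.val.map σ) * s.val.map σ)) * x⁻¹.val.map σ := by
        simp only [Matrix.mul_assoc]
    _ = (c : F) • (x⁻¹.valᵀ * (s.valᵀ * s.val.map σ) * x⁻¹.val.map σ) := by
        rw [hc, Matrix.smul_mul, Matrix.one_mul, Matrix.mul_smul, Matrix.mul_smul, Matrix.smul_mul,
          ← Matrix.mul_assoc]
    _ = 1 := by
        rw [hs, Matrix.mul_one, h4, Matrix.mul_smul, h3, smul_smul, mul_inv_cancel₀ c.ne_zero,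
          one_smul]

theorem conjSLn_mem_stabAut (σ : RingAut F) (hσq : ∀ a, σ a = a ^ q) (x : GL (Fin n) F)
    (hx : x ∈ CU n σ) : conjSLnHom x ∈ stabAut (Cfsg.SU n F q) := by
  apply mem_stabAut_of_forall
  · exact fun s hs => conjSLn_mem_SU σ hσq x hx s hs
  · intro s hs
    rw [← map_inv]
    exact conjSLn_mem_SU σ hσq x⁻¹ ((CU n σ).inv_mem hx) s hs

theorem map_map_comm (σ τ : RingAut F) (hσq : ∀ a, σ a = a ^ q) (A : Matrix (Fin n) (Fin n) F) :
    (A.map τ).map σ = (A.map σ).map τ := by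
  ext i j
  simp only [Matrix.map_apply]
  rw [hσq, hσq, map_pow]

theorem fieldAutSLn_mem_SU (σ τ : RingAut F) (hσq : ∀ a, σ a = a ^ q) (s : SLn)
    (hs : s ∈ Cfsg.SU n F q) : fieldAutSLn τ s ∈ Cfsg.SU n F q := by
  rw [mem_SU_iff_mat σ hσq] at hs ⊢
  rw [fieldAutSLn_val, map_map_comm σ τ hσq, ← Matrix.transpose_map, ← map_mul_ringAut, hs,
    Matrix.map_one _ (map_zero τ) (map_one τ)]

theorem fieldAutSLn_mem_stabAut (σ τ : RingAut F) (hσq : ∀ a, σ a = a ^ q) :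
    fieldAutSLn τ ∈ stabAut (Cfsg.SU n F q) := by
  apply mem_stabAut_of_forall
  · exact fun s hs => fieldAutSLn_mem_SU σ τ hσq s hs
  · intro s hs
    rw [← map_inv]
    exact fieldAutSLn_mem_SU σ τ⁻¹ hσq s hs

/-- the action of the stabiliser of `SU_n` on `PSU_n` -/
def autSU (n : ℕ) (F : Type*) [Field F] (q : ℕ) :
    stabAut (Cfsg.SU n F q) →* MulAut (Cfsg.PSU n F q) :=
  (autQuot (Subgroup.center (Cfsg.SU n F q))).comp (restrictAut (Cfsg.SU n F q))

/-- conjugation by the conformal unitary group on `PSU_n` -/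
def conjCU (σ : RingAut F) (hσq : ∀ a, σ a = a ^ q) : CU n σ →* MulAut (Cfsg.PSU n F q) :=
  (autSU n F q).comp
    ((conjSLnHom.comp (CU n σ).subtype).codRestrict (stabAut (Cfsg.SU n F q))
      (fun x => conjSLn_mem_stabAut σ hσq x.1 x.2))

/-- field automorphisms of `PSU_n` -/
def fieldAutU (σ : RingAut F) (hσq : ∀ a, σ a = a ^ q) : RingAut F →* MulAut (Cfsg.PSU n F q) :=
  (autSU n F q).comp
    (fieldAutSLn.codRestrict (stabAut (Cfsg.SU n F q))
      (fun τ => fieldAutSLn_mem_stabAut σ τ hσq))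

theorem conjCU_mk (σ : RingAut F) (hσq : ∀ a, σ a = a ^ q) (x : CU n σ) (s : Cfsg.SU n F q) :
    ∃ s' : Cfsg.SU n F q, conjCU σ hσq x (QuotientGroup.mk s) = QuotientGroup.mk s' ∧
      (s'.1 : Matrix (Fin n) (Fin n) F) = x.1.val * s.1.val * x.1⁻¹.val :=
  ⟨_, rfl, rfl⟩

theorem fieldAutU_mk (σ : RingAut F) (hσq : ∀ a, σ a = a ^ q) (τ : RingAut F)
    (s : Cfsg.SU n F q) :
    ∃ s' : Cfsg.SU n F q, fieldAutU σ hσq τ (QuotientGroup.mk s) = QuotientGroup.mk s' ∧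
      (s'.1 : Matrix (Fin n) (Fin n) F) = s.1.val.map τ :=
  ⟨_, rfl, rfl⟩

end cu

end Cfsg.Agent.Lib.Helper50
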