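import Cfsg.Agent.Lib.Helper50.PSUa

set_option autoImplicit false

/-! `Inndiag(PSU_n)` as the image of the conformal unitary group; kernel; field automorphisms. -/

namespace Cfsg.Agent.Lib.Helper50

open Matrix Cfsg.Agent.Lib.Helper07 Cfsg.Agent.Lib.Helper08 Cfsg.Agent.Lib.Helper19

section
variable {n : ℕ} {F : Type*} [Field F] {q : ℕ}

local notation "SLn" => SpecialLinearGroup (Fin n) F

/-- element of the stabiliser attached to a conformal unitary matrix -/
def cuS (σ : RingAut F) (hσq : ∀ a, σ a = a ^ q) (x : CU n σ) : stabAut (Cfsg.SU n F q) :=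
  ⟨conjSLnHom x.1, conjSLn_mem_stabAut σ hσq x.1 x.2⟩

/-- element of the stabiliser attached to a field automorphism -/
def fS (σ : RingAut F) (hσq : ∀ a, σ a = a ^ q) (τ : RingAut F) : stabAut (Cfsg.SU n F q) :=
  ⟨fieldAutSLn τ, fieldAutSLn_mem_stabAut σ τ hσq⟩

theorem conjCU_eq (σ : RingAut F) (hσq : ∀ a, σ a = a ^ q) (x : CU n σ) :
    conjCU σ hσq x = autSU n F q (cuS σ hσq x) := rfl

theorem fieldAutU_eq (σ : RingAut F) (hσq : ∀ a, σ a = a ^ q) (τ : RingAut F) :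
    fieldAutU (n := n) σ hσq τ = autSU n F q (fS σ hσq τ) := rfl

theorem autSU_eq_iff (hperf : commutator (Cfsg.SU n F q) = ⊤) (a b : stabAut (Cfsg.SU n F q)) :
    autSU n F q a = autSU n F q b ↔ ∀ s ∈ Cfsg.SU n F q, a.1 s = b.1 s := by
  constructor
  · intro h s hs
    have h1 : restrictAut (Cfsg.SU n F q) a = restrictAut (Cfsg.SU n F q) b :=
      autQuot_center_injective hperf h
    have h2 := congrArg (fun e => ((e ⟨s, hs⟩ : Cfsg.SU n F q) : SLn)) h1
    exact h2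
  · intro h
    unfold autSU
    rw [MonoidHom.comp_apply, MonoidHom.comp_apply]
    congr 1
    exact MulEquiv.ext fun s => Subtype.ext (h s.1 s.2)

/-- entrywise field automorphism on the conformal unitary group -/
def mapCU (σ : RingAut F) (hσq : ∀ a, σ a = a ^ q) (τ : RingAut F) (x : CU n σ) : CU n σ :=
  ⟨GeneralLinearGroup.map (τ : F →+* F) x.1, by
    obtain ⟨c, hc⟩ := x.2
    refine ⟨Units.map (τ : F →+* F).toMonoidHom c, ?_⟩
    show (x.1.val.map τ)ᵀ * (x.1.val.map τ).map σ = _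
    rw [map_map_comm σ τ hσq, ← Matrix.transpose_map, ← map_mul_ringAut, hc]
    ext i j
    by_cases hij : i = j
    · subst hij
      simp [Matrix.map_apply, Matrix.smul_apply]
    · simp [Matrix.map_apply, Matrix.smul_apply, Matrix.one_apply_ne hij]⟩

theorem mapCU_val (σ : RingAut F) (hσq : ∀ a, σ a = a ^ q) (τ : RingAut F) (x : CU n σ) :
    (mapCU σ hσq τ x).1.val = x.1.val.map τ := rfl

theorem field_conj_field (σ : RingAut F) (hσq : ∀ a, σ a = a ^ q) (τ : RingAut F) (x : CU n σ) :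
    fieldAutU (n := n) σ hσq τ * conjCU σ hσq x * (fieldAutU (n := n) σ hσq τ)⁻¹
      = conjCU σ hσq (mapCU σ hσq τ x) := by
  rw [conjCU_eq, conjCU_eq, fieldAutU_eq, ← map_inv, ← map_mul, ← map_mul]
  congr 1
  apply Subtype.ext
  show fieldAutSLn τ * conjSLnHom x.1 * (fieldAutSLn τ)⁻¹ = conjSLnHom (mapCU σ hσq τ x).1
  ext1 s
  apply sl_ext
  rw [MulAut.mul_apply, MulAut.mul_apply, ← map_inv, fieldAutSLn_val]
  show (x.1.val * (fieldAutSLn τ⁻¹ s).val * x.1⁻¹.val).map τ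
    = (x.1.val.map τ) * s.val * ((mapCU σ hσq τ x).1⁻¹).val
  have h1 : ((mapCU σ hσq τ x).1⁻¹).val = x.1⁻¹.val.map τ := by
    have : (mapCU σ hσq τ x).1⁻¹ = GeneralLinearGroup.map (τ : F →+* F) x.1⁻¹ := by
      show (GeneralLinearGroup.map (τ : F →+* F) x.1)⁻¹ = _
      rw [map_inv]
    rw [this]
    rfl
  rw [h1, map_mul_ringAut, map_mul_ringAut, fieldAutSLn_val]
  congr 2
  ext i j
  simp [Matrix.map_apply]

end

section fin
variable {n : ℕ} {F : Type*} [Field F] [Fintype F] {q : ℕ}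

local notation "SLn" => SpecialLinearGroup (Fin n) F

theorem sigma_sigma (hF : Fintype.card F = q ^ 2) (σ : RingAut F) (hσq : ∀ a, σ a = a ^ q)
    (a : F) : σ (σ a) = a := by
  rw [hσq, hσq, ← pow_mul, ← pow_two, ← hF, FiniteField.pow_card]

theorem sigma_ne_one (hF : Fintype.card F = q ^ 2) (σ : RingAut F) (hσq : ∀ a, σ a = a ^ q) :
    σ ≠ 1 := by
  intro h1
  obtain ⟨u, hu, hu2⟩ := exists_normOne_sq_ne_one hF
  rw [mem_normOne] at hu
  apply hu2
  have h2 : (u : F) ^ q = u := by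
    rw [← hσq, h1]
    rfl
  apply Units.ext
  rw [Units.val_pow_eq_pow_val, Units.val_one, pow_two]
  have h3 := congrArg Units.val hu
  rw [Units.val_pow_eq_pow_val, Units.val_one, pow_succ, h2] at h3
  exact h3

theorem orderOf_sigma (hF : Fintype.card F = q ^ 2) (σ : RingAut F) (hσq : ∀ a, σ a = a ^ q) :
    orderOf σ = 2 := by
  have h2 : σ ^ 2 = 1 := by
    ext a
    rw [pow_two]
    exact sigma_sigma hF σ hσq a
  have hdvd := orderOf_dvd_of_pow_eq_one h2
  rcases (Nat.dvd_prime Nat.prime_two).mp hdvd with h | h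
  · exact absurd (orderOf_eq_one_iff.mp h) (sigma_ne_one hF σ hσq)
  · exact h

theorem conjCU_eq_one_iff (hF : Fintype.card F = q ^ 2) (hn : 3 ≤ n) (h32 : ¬ (n = 3 ∧ q = 2))
    (σ : RingAut F) (hσq : ∀ a, σ a = a ^ q) (x : CU n σ) :
    conjCU σ hσq x = 1 ↔ x.1 ∈ Cfsg.Geo.scalars (Fin n) F := by
  have hperf := Cfsg.Agent.Lib.Helper51.SU_perfect hF hn h32
  constructor
  · intro h
    have h1 : autSU n F q (cuS σ hσq x) = autSU n F q 1 := by
      rw [← conjCU_eq, h, map_one]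
    rw [autSU_eq_iff hperf] at h1
    obtain ⟨c, hc⟩ := central_SU_scalar hF (by omega : 0 < n) x.1.val (by
      intro g hg hdet
      obtain ⟨s, hs, hsg⟩ := exists_SU_of_GU g hg hdet
      have h2 := h1 s hs
      have h3 : x.1.val * s.val * x.1⁻¹.val = s.val := congrArg Subtype.val h2
      rw [← hsg]
      calc s.val * x.1.val = (x.1.val * s.val * x.1⁻¹.val) * x.1.val := by rw [h3]
        _ = x.1.val * s.val := by
            rw [Matrix.mul_assoc, Units.inv_mul, Matrix.mul_one])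
    have hc0 : c ≠ 0 := by
      rintro rfl
      have hd : x.1.val.det ≠ 0 := by
        have : IsUnit x.1.val := x.1.isUnit
        rw [Matrix.isUnit_iff_isUnit_det] at this
        exact this.ne_zero
      rw [hc] at hd
      apply hd
      rw [Matrix.det_diagonal]
      exact Finset.prod_eq_zero (Finset.mem_univ (⟨0, by omega⟩ : Fin n)) rfl
    rw [Cfsg.Geo.mem_scalars_iff]
    exact ⟨Units.mk0 c hc0, by rw [hc, Units.val_mk0, Matrix.smul_one_eq_diagonal]⟩
  · intro h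
    rw [Cfsg.Geo.mem_scalars_iff] at h
    obtain ⟨c, hc⟩ := h
    have h1 : autSU n F q (cuS σ hσq x) = autSU n F q 1 := by
      congr 1
      apply Subtype.ext
      show conjSLnHom x.1 = 1
      ext1 s
      apply sl_ext
      show x.1.val * s.val * x.1⁻¹.val = s.val
      have h3 : x.1.val * s.val = s.val * x.1.val := by
        rw [hc, Matrix.smul_mul, Matrix.one_mul, Matrix.mul_smul, Matrix.mul_one]
      rw [h3, Matrix.mul_assoc, Units.mul_inv, Matrix.mul_one]
    rw [conjCU_eq, h1, map_one]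

theorem sigma_fixed_of_mem_CU (hF : Fintype.card F = q ^ 2) (hn : 1 ≤ n) (σ : RingAut F)
    (hσq : ∀ a, σ a = a ^ q) (x : GL (Fin n) F) (c : Fˣ)
    (hc : x.valᵀ * x.val.map σ = (c : F) • 1) : σ (c : F) = c := by
  have h1 : (x.valᵀ * x.val.map σ).map σ = (σ (c : F)) • (1 : Matrix (Fin n) (Fin n) F) := by
    rw [hc]
    ext i j
    by_cases hij : i = j
    · subst hij
      simp [Matrix.map_apply, Matrix.smul_apply]
    · simp [Matrix.map_apply, Matrix.smul_apply, Matrix.one_apply_ne hij]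
  have h2 : (x.val.map σ).map σ = x.val := by
    ext i j
    simp only [Matrix.map_apply]
    exact sigma_sigma hF σ hσq _
  rw [map_mul_ringAut, h2, Matrix.transpose_map] at h1
  have h3 := congrArg Matrix.transpose h1
  rw [Matrix.transpose_mul, Matrix.transpose_transpose, hc, Matrix.transpose_smul,
    Matrix.transpose_one] at h3
  have h4 := congrFun (congrFun h3 ⟨0, hn⟩) ⟨0, hn⟩
  simp only [Matrix.smul_apply, Matrix.one_apply_eq, smul_eq_mul, mul_one] at h4
  exact h4.symm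

/-- every conformal unitary matrix is a scalar multiple of a unitary matrix -/
theorem exists_scalar_mul_mem_GU (hF : Fintype.card F = q ^ 2) (hn : 1 ≤ n) (σ : RingAut F)
    (hσq : ∀ a, σ a = a ^ q) (x : CU n σ) :
    ∃ (u : Fˣ) (g : GL (Fin n) F), g ∈ Cfsg.GU n F q ∧
      x.1 = GeneralLinearGroup.scalar (Fin n) u * g := by
  obtain ⟨c, hc⟩ := x.2
  have hfix := sigma_fixed_of_mem_CU hF hn σ hσq x.1 c hc
  obtain ⟨l, hl0, hl⟩ := nrmF_surjective σ (orderOf_sigma hF σ hσq) (by norm_num) (c : F)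
    c.ne_zero hfix
  rw [nrmF_two] at hl
  refine ⟨Units.mk0 l hl0, GeneralLinearGroup.scalar (Fin n) (Units.mk0 l hl0)⁻¹ * x.1, ?_, ?_⟩
  · rw [mem_GU_iff σ hσq, Units.val_mul, GeneralLinearGroup.coe_scalar]
    have h1 : (Matrix.scalar (Fin n)) ((Units.mk0 l hl0)⁻¹ : Fˣ).val * x.1.val
        = l⁻¹ • x.1.val := by
      rw [Units.val_inv_eq_inv_val, Units.val_mk0]
      simp [Matrix.scalar_apply, Matrix.smul_eq_diagonal_mul]
    rw [h1, Matrix.transpose_smul]
    have h2 : (l⁻¹ • x.1.val).map σ = (σ l)⁻¹ • x.1.val.map σ := by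
      ext i j
      simp [Matrix.map_apply, Matrix.smul_apply]
    rw [h2, Matrix.smul_mul, Matrix.mul_smul, hc, smul_smul, smul_smul, ← hl]
    have hσl : σ l ≠ 0 := by
      intro h0
      apply hl0
      have := congrArg σ h0
      rw [sigma_sigma hF σ hσq, map_zero] at this
      exact this
    have : l⁻¹ * (σ l)⁻¹ * (l * σ l) = 1 := by field_simp
    rw [this, one_smul]
  · rw [← mul_assoc, ← map_mul, mul_inv_cancel, map_one, one_mul]

theorem conjCU_scalar_mul (hF : Fintype.card F = q ^ 2) (hn : 3 ≤ n) (h32 : ¬ (n = 3 ∧ q = 2))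
    (σ : RingAut F) (hσq : ∀ a, σ a = a ^ q) (x y : CU n σ)
    (h : x.1⁻¹ * y.1 ∈ Cfsg.Geo.scalars (Fin n) F) : conjCU σ hσq x = conjCU σ hσq y := by
  have h1 : conjCU σ hσq (x⁻¹ * y) = 1 := (conjCU_eq_one_iff hF hn h32 σ hσq (x⁻¹ * y)).mpr h
  rw [map_mul, map_inv, inv_mul_eq_one] at h1
  exact h1

theorem isInnerDiagonal_iff (hF : Fintype.card F = q ^ 2) (σ : RingAut F)
    (hσq : ∀ a, σ a = a ^ q) (β : MulAut (Cfsg.PSU n F q)) :
    Cfsg.IsInnerDiagonalAutPSU β ↔
      ∃ (g : GL (Fin n) F) (hg : g ∈ Cfsg.GU n F q), β = conjCU σ hσq ⟨g, GU_le_CU σ hσq hg⟩ := by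
  constructor
  · rintro ⟨g, hg, h⟩
    refine ⟨g, hg, ?_⟩
    ext z
    induction z using QuotientGroup.induction_on with
    | H s =>
      obtain ⟨s', hs', hval⟩ := conjCU_mk σ hσq ⟨g, GU_le_CU σ hσq hg⟩ s
      rw [hs']
      exact h s s' hval
  · rintro ⟨g, hg, rfl⟩
    refine ⟨g, hg, ?_⟩
    intro s s' hval
    obtain ⟨s'', hs'', hval'⟩ := conjCU_mk σ hσq ⟨g, GU_le_CU σ hσq hg⟩ s
    rw [hs'']
    congr 1
    apply Subtype.ext
    apply sl_ext
    rw [hval', hval]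

theorem inndiagPSU_eq_range (hF : Fintype.card F = q ^ 2) (hn : 3 ≤ n)
    (h32 : ¬ (n = 3 ∧ q = 2)) (σ : RingAut F) (hσq : ∀ a, σ a = a ^ q) :
    Cfsg.inndiagPSU n F q = (conjCU (n := n) σ hσq).range := by
  unfold Cfsg.inndiagPSU Cfsg.autSubgroupOf
  apply le_antisymm
  · rw [Subgroup.closure_le]
    intro β hβ
    obtain ⟨g, hg, rfl⟩ := (isInnerDiagonal_iff hF σ hσq β).mp hβ
    exact ⟨_, rfl⟩
  · rintro _ ⟨x, rfl⟩
    apply Subgroup.subset_closure
    obtain ⟨u, g, hg, hx⟩ := exists_scalar_mul_mem_GU hF (by omega) σ hσq x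
    show Cfsg.IsInnerDiagonalAutPSU (conjCU σ hσq x)
    rw [isInnerDiagonal_iff hF σ hσq]
    refine ⟨g, hg, ?_⟩
    apply conjCU_scalar_mul hF hn h32 σ hσq
    show x.1⁻¹ * g ∈ _
    rw [Cfsg.Geo.mem_scalars_iff]
    refine ⟨u⁻¹, ?_⟩
    have hxv : x.1.val = (u : F) • g.val := by
      rw [hx, Units.val_mul, GeneralLinearGroup.coe_scalar]
      simp [Matrix.scalar_apply, Matrix.smul_eq_diagonal_mul]
    have h1 : x.1⁻¹.val * x.1.val = 1 := Units.inv_mul x.1
    rw [hxv, Matrix.mul_smul] at h1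
    rw [Units.val_mul, Units.val_inv_eq_inv_val]
    calc x.1⁻¹.val * g.val = (u : F)⁻¹ • ((u : F) • (x.1⁻¹.val * g.val)) := by
          rw [smul_smul, inv_mul_cancel₀ u.ne_zero, one_smul]
      _ = _ := by rw [h1]

theorem eq_fieldAutU_of_isFieldAut (σ : RingAut F) (hσq : ∀ a, σ a = a ^ q) (τ : F ≃+* F)
    (φ : MulAut (Cfsg.PSU n F q)) (h : Cfsg.IsFieldAutPSUOf τ φ) :
    φ = fieldAutU (n := n) σ hσq τ := by
  ext z
  induction z using QuotientGroup.induction_on with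
  | H s =>
    obtain ⟨s', hs', hval⟩ := fieldAutU_mk (n := n) σ hσq τ s
    rw [hs']
    exact h s s' hval

theorem isFieldAut_fieldAutU (σ : RingAut F) (hσq : ∀ a, σ a = a ^ q) (τ : F ≃+* F) :
    Cfsg.IsFieldAutPSUOf τ (fieldAutU (n := n) σ hσq τ) := by
  intro s s' hval
  obtain ⟨s'', hs'', hval'⟩ := fieldAutU_mk (n := n) σ hσq τ s
  rw [hs'']
  congr 1
  apply Subtype.ext
  apply sl_ext
  rw [hval', hval]

end fin

end Cfsg.Agent.Lib.Helper50
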