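import Cfsg.Agent.Lib.Helper50.PSUb
import Cfsg.Agent.Lib.Helper07.PSUz

set_option autoImplicit false

/-! Bridge to the unitary automorphism library of helper7: a field automorphism of `PSU_n`
which is inner-diagonal is trivial. -/

namespace Cfsg.Agent.Lib.Helper50

open Matrix Cfsg.Agent.Lib.Helper07 Cfsg.Agent.Lib.Helper08

section
variable {n : ℕ} {F : Type*} [Field F] [Fintype F] {q : ℕ}

theorem fieldAutU_eq_fieldU (C : UG.UC F q) (τ : RingAut F) :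
    fieldAutU (n := n) C.σ C.hσq τ = UG.fieldU C τ := by
  ext z
  obtain ⟨s, rfl⟩ := UG.mkP_surjective z
  obtain ⟨s', hs', hval⟩ := fieldAutU_mk (n := n) C.σ C.hσq τ s
  have e1 : fieldAutU (n := n) C.σ C.hσq τ (UG.mkP s) = QuotientGroup.mk s' := hs'
  rw [e1, UG.fieldU_mkP]
  show UG.mkP s' = UG.mkP _
  congr 1
  apply Subtype.ext
  apply Subtype.ext
  rw [hval, UG.fieldSU_val]

theorem conjCU_eq_conjU (C : UG.UC F q) (g : GL (Fin n) F) (hg : g ∈ Cfsg.GU n F q) :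
    conjCU (n := n) C.σ C.hσq ⟨g, GU_le_CU C.σ C.hσq hg⟩ = UG.conjU C ⟨g, hg⟩ := by
  ext z
  obtain ⟨s, rfl⟩ := UG.mkP_surjective z
  obtain ⟨s', hs', hval⟩ := conjCU_mk (n := n) C.σ C.hσq ⟨g, GU_le_CU C.σ C.hσq hg⟩ s
  have e1 : conjCU (n := n) C.σ C.hσq ⟨g, GU_le_CU C.σ C.hσq hg⟩ (UG.mkP s)
      = QuotientGroup.mk s' := hs'
  rw [e1, UG.conjU_mkP]
  show UG.mkP s' = UG.mkP _
  congr 1
  apply Subtype.ext
  apply Subtype.ext
  rw [hval, UG.conjSU_val]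

/-- a field automorphism of `PSU_n` which is inner-diagonal is trivial -/
theorem fieldAutU_eq_conjCU_imp (C : UG.UC F q) (hn : 3 ≤ n) (h32 : ¬ (n = 3 ∧ q = 2))
    (τ : RingAut F) (x : CU n C.σ)
    (h : fieldAutU (n := n) C.σ C.hσq τ = conjCU C.σ C.hσq x) : τ = 1 := by
  obtain ⟨u, g, hg, hx⟩ := exists_scalar_mul_mem_GU C.hF (by omega) C.σ C.hσq x
  have h1 : conjCU C.σ C.hσq x = conjCU C.σ C.hσq ⟨g, GU_le_CU C.σ C.hσq hg⟩ := by
    apply conjCU_scalar_mul C.hF hn h32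
    show x.1⁻¹ * g ∈ Cfsg.Geo.scalars (Fin n) F
    have hsc : GeneralLinearGroup.scalar (Fin n) u ∈ Cfsg.Geo.scalars (Fin n) F := ⟨u, rfl⟩
    have h2 : x.1⁻¹ * g = g⁻¹ * (GeneralLinearGroup.scalar (Fin n) u)⁻¹ * g⁻¹⁻¹ := by
      rw [hx, _root_.mul_inv_rev, inv_inv]
    rw [h2]
    exact (Cfsg.Geo.scalars_normal).conj_mem _ ((Cfsg.Geo.scalars (Fin n) F).inv_mem hsc) _
  rw [h1, fieldAutU_eq_fieldU, conjCU_eq_conjU C g hg] at h
  exact UG.fieldU_eq_conjU_imp C hn h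

end

end Cfsg.Agent.Lib.Helper50
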