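import Cfsg.Agent.Lib.Helper50.PSUc

set_option autoImplicit false

/-! Graph-type automorphisms of `PSU_n`: products of an inner-diagonal automorphism with the
`q`-power field automorphism. -/

namespace Cfsg.Agent.Lib.Helper50

open Matrix Cfsg.Agent.Lib.Helper07 Cfsg.Agent.Lib.Helper08

section
variable {n : ℕ} {F : Type*} [Field F] [Fintype F] {q : ℕ} (C : UG.UC F q)

/-- conjugation by the conformal unitary group -/
noncomputable def cU : CU n C.σ →* MulAut (Cfsg.PSU n F q) := conjCU C.σ C.hσq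

/-- field automorphisms of `PSU_n` -/
noncomputable def fU : RingAut F →* MulAut (Cfsg.PSU n F q) := fieldAutU C.σ C.hσq

/-- entrywise `q`-th power on the conformal unitary group -/
def barU (x : CU n C.σ) : CU n C.σ := mapCU C.σ C.hσq C.σ x

theorem barU_val (x : CU n C.σ) : (barU C x).1.val = x.1.val.map C.σ := rfl

theorem mapCU_mul (τ : RingAut F) (x y : CU n C.σ) :
    mapCU C.σ C.hσq τ (x * y) = mapCU C.σ C.hσq τ x * mapCU C.σ C.hσq τ y := by
  apply Subtype.ext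
  show GeneralLinearGroup.map (τ : F →+* F) (x.1 * y.1) = _
  rw [map_mul]
  rfl

theorem mapCU_one (τ : RingAut F) : mapCU C.σ C.hσq τ (1 : CU n C.σ) = 1 := by
  apply Subtype.ext
  show GeneralLinearGroup.map (τ : F →+* F) (1 : GL (Fin n) F) = _
  rw [map_one]
  rfl

/-- entrywise field automorphism as an endomorphism of the conformal unitary group -/
def mapCUHom (τ : RingAut F) : CU n C.σ →* CU n C.σ where
  toFun := mapCU C.σ C.hσq τ
  map_one' := mapCU_one C τ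
  map_mul' := mapCU_mul C τ

theorem barU_mul (x y : CU n C.σ) : barU C (x * y) = barU C x * barU C y := mapCU_mul C C.σ x y

theorem barU_inv (x : CU n C.σ) : barU C x⁻¹ = (barU C x)⁻¹ := map_inv (mapCUHom C C.σ) x

theorem barU_one : barU C (1 : CU n C.σ) = 1 := mapCU_one C C.σ

theorem barU_barU (x : CU n C.σ) : barU C (barU C x) = x := by
  apply Subtype.ext
  apply Units.ext
  rw [barU_val, barU_val]
  ext i j
  rw [Matrix.map_apply, Matrix.map_apply, C.hσ]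

theorem fU_sigma_sq : (fU (n := n) C C.σ) * fU C C.σ = 1 := by
  rw [← map_mul]
  have : C.σ * C.σ = 1 := by
    ext a
    exact C.hσ a
  rw [this, map_one]

theorem fU_sigma_inv : (fU (n := n) C C.σ)⁻¹ = fU C C.σ :=
  inv_eq_of_mul_eq_one_right (fU_sigma_sq C)

theorem fU_mul_cU (τ : RingAut F) (x : CU n C.σ) :
    fU C τ * cU C x = cU C (mapCU C.σ C.hσq τ x) * fU C τ := by
  have := field_conj_field (n := n) C.σ C.hσq τ x
  unfold fU cU
  rw [← this]
  group

theorem fU_sigma_mul_cU (x : CU n C.σ) :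
    fU C C.σ * cU C x = cU C (barU C x) * fU C C.σ := fU_mul_cU C C.σ x

/-- the graph-type automorphism attached to a conformal unitary matrix -/
noncomputable def graphAutU (x : CU n C.σ) : MulAut (Cfsg.PSU n F q) := cU C x * fU C C.σ

theorem graphAutU_mul (x y : CU n C.σ) :
    graphAutU C x * graphAutU C y = cU C (x * barU C y) := by
  unfold graphAutU
  rw [mul_assoc, ← mul_assoc (fU C C.σ), fU_sigma_mul_cU, mul_assoc, fU_sigma_sq, mul_one,
    ← map_mul]

theorem conj_graphAutU (h x : CU n C.σ) :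
    cU C h * graphAutU C x * (cU C h)⁻¹ = graphAutU C (h * x * (barU C h)⁻¹) := by
  unfold graphAutU
  rw [← map_inv, mul_assoc, mul_assoc, fU_sigma_mul_cU, ← mul_assoc, ← mul_assoc, ← map_mul,
    ← map_mul, barU_inv]

theorem cU_eq_one_iff (hn : 3 ≤ n) (h32 : ¬ (n = 3 ∧ q = 2)) (x : CU n C.σ) :
    cU C x = 1 ↔ x.1 ∈ Cfsg.Geo.scalars (Fin n) F :=
  conjCU_eq_one_iff C.hF hn h32 C.σ C.hσq x

theorem cU_eq_iff (hn : 3 ≤ n) (h32 : ¬ (n = 3 ∧ q = 2)) (x y : CU n C.σ) :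
    cU C x = cU C y ↔ (x⁻¹ * y).1 ∈ Cfsg.Geo.scalars (Fin n) F := by
  rw [← cU_eq_one_iff C hn h32, map_mul, map_inv, inv_mul_eq_one]

theorem graphAutU_eq_iff (hn : 3 ≤ n) (h32 : ¬ (n = 3 ∧ q = 2)) (x y : CU n C.σ) :
    graphAutU C x = graphAutU C y ↔ (x⁻¹ * y).1 ∈ Cfsg.Geo.scalars (Fin n) F := by
  unfold graphAutU
  rw [mul_left_inj, cU_eq_iff C hn h32]

theorem fU_eq_cU_imp (hn : 3 ≤ n) (h32 : ¬ (n = 3 ∧ q = 2)) (τ : RingAut F) (x : CU n C.σ)
    (h : fU (n := n) C τ = cU C x) : τ = 1 :=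
  fieldAutU_eq_conjCU_imp C hn h32 τ x h

theorem graphAutU_ne_one (hn : 3 ≤ n) (h32 : ¬ (n = 3 ∧ q = 2)) (x : CU n C.σ) :
    graphAutU C x ≠ 1 := by
  intro h
  have h1 : fU (n := n) C C.σ = cU C x⁻¹ := by
    unfold graphAutU at h
    rw [map_inv]
    exact (eq_inv_of_mul_eq_one_right h)
  exact C.hσ1 (fU_eq_cU_imp C hn h32 C.σ x⁻¹ h1)

theorem orderOf_graphAutU_eq_two_iff (hn : 3 ≤ n) (h32 : ¬ (n = 3 ∧ q = 2)) (x : CU n C.σ) :
    orderOf (graphAutU C x) = 2 ↔ (x * barU C x).1 ∈ Cfsg.Geo.scalars (Fin n) F := by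
  rw [orderOf_eq_prime_iff (p := 2), pow_two, graphAutU_mul, cU_eq_one_iff C hn h32]
  exact ⟨fun h => h.1, fun h => ⟨h, graphAutU_ne_one C hn h32 x⟩⟩

theorem inndiagPSU_eq_range_cU (hn : 3 ≤ n) (h32 : ¬ (n = 3 ∧ q = 2)) :
    Cfsg.inndiagPSU n F q = (cU (n := n) C).range :=
  inndiagPSU_eq_range C.hF hn h32 C.σ C.hσq

theorem isConjUnder_graphAutU_iff (hn : 3 ≤ n) (h32 : ¬ (n = 3 ∧ q = 2)) (x y : CU n C.σ) :
    Cfsg.IsConjUnder (Cfsg.inndiagPSU n F q) (graphAutU C x) (graphAutU C y) ↔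
      ∃ h : CU n C.σ, ((h * x * (barU C h)⁻¹)⁻¹ * y).1 ∈ Cfsg.Geo.scalars (Fin n) F := by
  unfold Cfsg.IsConjUnder
  rw [inndiagPSU_eq_range_cU C hn h32]
  constructor
  · rintro ⟨_, ⟨h, rfl⟩, hy⟩
    refine ⟨h, ?_⟩
    rw [conj_graphAutU, eq_comm, graphAutU_eq_iff C hn h32] at hy
    exact hy
  · rintro ⟨h, hh⟩
    refine ⟨cU C h, ⟨h, rfl⟩, ?_⟩
    rw [conj_graphAutU, eq_comm, graphAutU_eq_iff C hn h32]
    exact hh

theorem cU_mem_centralizer_iff (hn : 3 ≤ n) (h32 : ¬ (n = 3 ∧ q = 2)) (x h : CU n C.σ) :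
    cU C h ∈ Subgroup.centralizer {graphAutU C x} ↔
      ((x * barU C h)⁻¹ * (h * x)).1 ∈ Cfsg.Geo.scalars (Fin n) F := by
  rw [Subgroup.mem_centralizer_iff]
  have : (∀ y ∈ ({graphAutU C x} : Set (MulAut (Cfsg.PSU n F q))), y * cU C h = cU C h * y) ↔
      graphAutU C x * cU C h = cU C h * graphAutU C x := by
    constructor
    · intro hh
      exact hh _ rfl
    · rintro hh y rfl
      exact hh
  rw [this]
  have e1 : graphAutU C x * cU C h = graphAutU C (x * barU C h) := by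
    unfold graphAutU
    rw [mul_assoc, fU_sigma_mul_cU, ← mul_assoc, ← map_mul]
  have e2 : cU C h * graphAutU C x = graphAutU C (h * x) := by
    unfold graphAutU
    rw [← mul_assoc, ← map_mul]
  rw [e1, e2, graphAutU_eq_iff C hn h32]

end

end Cfsg.Agent.Lib.Helper50
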