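import Cfsg.Agent.Lib.Helper50.PSUd

set_option autoImplicit false

/-! Involutory graph-type automorphisms of `PSU_n` are of the form `graphAutU x`; contexts. -/

namespace Cfsg.Agent.Lib.Helper50

open Matrix Cfsg.Agent.Lib.Helper07 Cfsg.Agent.Lib.Helper08

section
variable {n : ℕ} {F : Type*} [Field F] [Fintype F] {q : ℕ} (C : UG.UC F q)

theorem UC_card (C : UG.UC F q) : Fintype.card F = C.p ^ (2 * C.f) := by
  have h1 := C.hF
  have h2 := C.hq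
  rw [h1]
  conv_lhs => rw [h2]
  rw [← pow_mul, mul_comm]

theorem UC_orderOf_sigma (C : UG.UC F q) : orderOf C.σ = 2 := orderOf_sigma C.hF C.σ C.hσq

/-- an involutory automorphism of the field is the `q`-th power map -/
theorem eq_sigma_of_orderOf_two (τ : RingAut F) (hτ : orderOf τ = 2) : τ = C.σ := by
  have : Fact C.p.Prime := ⟨C.hp⟩
  obtain ⟨-, h⟩ := involution_eq_pow C.p (UC_card C) τ hτ
  ext a
  rw [h a, C.hσq, Nat.mul_div_cancel_left _ two_pos, ← C.hq]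

theorem cU_eq_of_scalar_mul (hn : 3 ≤ n) (h32 : ¬ (n = 3 ∧ q = 2)) (x y : CU n C.σ) (u : Fˣ)
    (h : x.1 = GeneralLinearGroup.scalar (Fin n) u * y.1) : cU C x = cU C y := by
  rw [cU_eq_iff C hn h32]
  show x.1⁻¹ * y.1 ∈ Cfsg.Geo.scalars (Fin n) F
  have hsc : GeneralLinearGroup.scalar (Fin n) u ∈ Cfsg.Geo.scalars (Fin n) F := ⟨u, rfl⟩
  have h2 : x.1⁻¹ * y.1 = y.1⁻¹ * (GeneralLinearGroup.scalar (Fin n) u)⁻¹ * y.1⁻¹⁻¹ := by
    rw [h, _root_.mul_inv_rev, inv_inv]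
  rw [h2]
  exact (Cfsg.Geo.scalars_normal).conj_mem _ ((Cfsg.Geo.scalars (Fin n) F).inv_mem hsc) _

theorem isInnerDiagonal_cU (hn : 3 ≤ n) (h32 : ¬ (n = 3 ∧ q = 2)) (x : CU n C.σ) :
    Cfsg.IsInnerDiagonalAutPSU (cU C x) := by
  obtain ⟨u, g, hg, hx⟩ := exists_scalar_mul_mem_GU C.hF (by omega) C.σ C.hσq x
  rw [isInnerDiagonal_iff C.hF C.σ C.hσq]
  exact ⟨g, hg, cU_eq_of_scalar_mul C hn h32 x ⟨g, GU_le_CU C.σ C.hσq hg⟩ u hx⟩

theorem isGraphAutClass_graphAutU (hn : 3 ≤ n) (h32 : ¬ (n = 3 ∧ q = 2)) (x : CU n C.σ) :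
    Cfsg.IsGraphAutClassPSU (graphAutU C x) := by
  refine ⟨hn, cU C x, fU C C.σ, C.σ, ?_, isInnerDiagonal_cU C hn h32 x,
    isFieldAut_fieldAutU C.σ C.hσq C.σ, rfl⟩
  rw [UC_orderOf_sigma C]
  exact even_two

/-- every involutory graph-type automorphism is of the form `graphAutU x` -/
theorem exists_graphAutU_of_isGraphAutClass (hn : 3 ≤ n) (h32 : ¬ (n = 3 ∧ q = 2))
    (γ : MulAut (Cfsg.PSU n F q)) (hγ : Cfsg.IsGraphAutClassPSU γ) (hγ2 : orderOf γ = 2) :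
    ∃ x : CU n C.σ, γ = graphAutU C x := by
  obtain ⟨-, δ, φ, τ, hτ, hδ, hφ, rfl⟩ := hγ
  rw [isInnerDiagonal_iff C.hF C.σ C.hσq] at hδ
  obtain ⟨g, hg, rfl⟩ := hδ
  have hφ' : φ = fU C τ := eq_fieldAutU_of_isFieldAut C.σ C.hσq τ φ hφ
  subst hφ'
  obtain ⟨x, hx⟩ : ∃ x : CU n C.σ, x = ⟨g, GU_le_CU C.σ C.hσq hg⟩ := ⟨_, rfl⟩
  rw [← hx] at hγ2 ⊢
  change orderOf (cU C x * fU C τ) = 2 at hγ2
  refine ⟨x, ?_⟩
  show cU C x * fU C τ = graphAutU C x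
  have hsq : (cU C x * fU C τ) * (cU C x * fU C τ) = 1 := by
    rw [← pow_two, ← hγ2]
    exact pow_orderOf_eq_one _
  have h1 : (cU C x * fU C τ) * (cU C x * fU C τ)
      = cU C (x * mapCU C.σ C.hσq τ x) * fU C (τ * τ) := by
    rw [mul_assoc, ← mul_assoc (fU C τ), fU_mul_cU, map_mul, map_mul]
    group
  rw [h1] at hsq
  have h2 : fU (n := n) C (τ * τ) = cU C (x * mapCU C.σ C.hσq τ x)⁻¹ := by
    rw [map_inv]
    exact (eq_inv_of_mul_eq_one_right hsq)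
  have h3 : τ * τ = 1 := fU_eq_cU_imp C hn h32 _ _ h2
  have h4 : orderOf τ ∣ 2 := by
    apply orderOf_dvd_of_pow_eq_one
    rw [pow_two]
    exact h3
  have h5 : orderOf τ = 2 := by
    rcases (Nat.dvd_prime Nat.prime_two).mp h4 with h | h
    · rw [h] at hτ
      exact absurd hτ (by decide)
    · exact h
  rw [eq_sigma_of_orderOf_two C τ h5]
  rfl

end

end Cfsg.Agent.Lib.Helper50
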