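import Cfsg.Agent.Lib.Helper50.PSUe

set_option autoImplicit false

/-! Real structures: the fixed field of the `q`-power map, real matrices, graph data. -/

namespace Cfsg.Agent.Lib.Helper50

open Matrix Cfsg.Agent.Lib.Helper07 Cfsg.Agent.Lib.Helper08

/-- an embedding of `F₀` onto the fixed field of the involution of `F` -/
structure RS {F : Type*} [Field F] [Fintype F] {q : ℕ} (C : UG.UC F q) (F₀ : Type*) [Field F₀] where
  ι : F₀ →+* F
  fix : ∀ a, C.σ (ι a) = ι a
  surj : ∀ b, C.σ b = b → ∃ a, ι a = b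

section
variable {n : ℕ} {F : Type*} [Field F] [Fintype F] {q : ℕ} {C : UG.UC F q}
variable {F₀ : Type*} [Field F₀] (S : RS C F₀)

theorem RS.inj : Function.Injective S.ι := S.ι.injective

theorem RS.map_fixed (M : Matrix (Fin n) (Fin n) F₀) : (M.map S.ι).map C.σ = M.map S.ι := by
  ext i j
  rw [Matrix.map_apply, Matrix.map_apply, S.fix]

theorem RS.exists_real (M : Matrix (Fin n) (Fin n) F) (hM : M.map C.σ = M) :
    ∃ M₀ : Matrix (Fin n) (Fin n) F₀, M₀.map S.ι = M := by
  have h : ∀ i j, ∃ a, S.ι a = M i j := by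
    intro i j
    apply S.surj
    have := congrFun (congrFun hM i) j
    rw [Matrix.map_apply] at this
    exact this
  choose f hf using h
  refine ⟨Matrix.of f, ?_⟩
  ext i j
  rw [Matrix.map_apply]
  exact hf i j

theorem RS.map_inj {M M' : Matrix (Fin n) (Fin n) F₀} (h : M.map S.ι = M'.map S.ι) : M = M' := by
  ext i j
  apply S.inj
  have := congrFun (congrFun h i) j
  rw [Matrix.map_apply, Matrix.map_apply] at this
  exact this

theorem RS.map_mul (M M' : Matrix (Fin n) (Fin n) F₀) :
    (M * M').map S.ι = M.map S.ι * M'.map S.ι := Matrix.map_mul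

theorem RS.map_smul (c : F₀) (M : Matrix (Fin n) (Fin n) F₀) :
    (c • M).map S.ι = S.ι c • M.map S.ι := by
  ext i j
  rw [Matrix.map_apply, Matrix.smul_apply, Matrix.smul_apply, Matrix.map_apply, smul_eq_mul,
    smul_eq_mul, _root_.map_mul]

theorem RS.map_transpose (M : Matrix (Fin n) (Fin n) F₀) : (Mᵀ).map S.ι = (M.map S.ι)ᵀ :=
  Matrix.transpose_map

theorem RS.map_one : (1 : Matrix (Fin n) (Fin n) F₀).map S.ι = 1 :=
  Matrix.map_one _ (map_zero S.ι) (_root_.map_one S.ι)

/-- the embedding of `GL_n(F₀)` in `GL_n(F)` -/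
noncomputable def RS.gl : GL (Fin n) F₀ →* GL (Fin n) F := GeneralLinearGroup.map S.ι

theorem RS.gl_val (k : GL (Fin n) F₀) : (S.gl k).val = k.val.map S.ι := rfl

theorem RS.exists_gl_real (k : GL (Fin n) F) (hk : k.val.map C.σ = k.val) :
    ∃ k₀ : GL (Fin n) F₀, S.gl k₀ = k := by
  obtain ⟨M₀, hM₀⟩ := S.exists_real k.val hk
  have hdet : M₀.det ≠ 0 := by
    intro h0
    have h1 : (M₀.map S.ι).det = 0 := by
      have := (RingHom.map_det S.ι M₀).symm
      rw [h0, map_zero] at this
      exact this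
    rw [hM₀] at h1
    have : IsUnit k.val := k.isUnit
    rw [Matrix.isUnit_iff_isUnit_det] at this
    exact this.ne_zero h1
  refine ⟨GeneralLinearGroup.mkOfDetNeZero M₀ hdet, ?_⟩
  apply Units.ext
  rw [S.gl_val]
  exact hM₀

theorem RS.gl_injective : Function.Injective (S.gl (n := n)) := by
  intro a b h
  apply Units.ext
  apply S.map_inj
  have := congrArg Units.val h
  exact this

/-- the bar involution on `GL_n(F)` -/
noncomputable def barGL (C : UG.UC F q) : GL (Fin n) F →* GL (Fin n) F :=
  GeneralLinearGroup.map (C.σ : F →+* F)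

theorem barGL_val (k : GL (Fin n) F) : (barGL C k).val = k.val.map C.σ := rfl

theorem barGL_barGL (k : GL (Fin n) F) : barGL C (barGL C k) = k := by
  apply Units.ext
  rw [barGL_val, barGL_val]
  ext i j
  rw [Matrix.map_apply, Matrix.map_apply, C.hσ]

theorem barGL_gl (k : GL (Fin n) F₀) : barGL C (S.gl k) = S.gl k := by
  apply Units.ext
  rw [barGL_val, S.gl_val, S.map_fixed]

theorem barU_coe (x : CU n C.σ) : (barU C x).1 = barGL C x.1 := rfl

theorem barGL_scalar (u : Fˣ) :
    barGL (n := n) C (GeneralLinearGroup.scalar (Fin n) u)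
      = GeneralLinearGroup.scalar (Fin n) (Units.map (C.σ : F →+* F).toMonoidHom u) := by
  apply Units.ext
  rw [barGL_val, GeneralLinearGroup.coe_scalar, GeneralLinearGroup.coe_scalar]
  ext i j
  by_cases hij : i = j
  · subst hij
    simp [Matrix.map_apply, Matrix.scalar_apply]
  · simp [Matrix.map_apply, Matrix.scalar_apply, Matrix.diagonal_apply_ne _ hij]

/-- the twisted element `R R̄⁻¹` -/
noncomputable def twGL (C : UG.UC F q) (R : GL (Fin n) F) : GL (Fin n) F := R * (barGL C R)⁻¹

/-- a nonzero element with `σ θ = ε θ` for `ε = ±1` -/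
noncomputable def thetaOf (C : UG.UC F q) (ε : F₀) : F :=
  open Classical in if ε = 1 then 1 else Classical.choose C.exists_kappa

theorem thetaOf_ne_zero (ε : F₀) : thetaOf C ε ≠ 0 := by
  unfold thetaOf
  split_ifs
  · exact one_ne_zero
  · exact (Classical.choose_spec C.exists_kappa).1

theorem thetaOf_conj (ε : F₀) (hε : ε = 1 ∨ ε = -1) :
    C.σ (thetaOf C ε) = S.ι ε * thetaOf C ε := by
  unfold thetaOf
  split_ifs with h
  · rw [h, _root_.map_one, _root_.map_one, one_mul]
  · have h1 : ε = -1 := hε.resolve_left h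
    rw [(Classical.choose_spec C.exists_kappa).2, h1, map_neg, _root_.map_one, neg_one_mul]

end

end Cfsg.Agent.Lib.Helper50
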