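import Cfsg.Agent.Lib.Helper50.PSUf

set_option autoImplicit false

/-! Graph data: a matrix `R` with `Rᵀ R̄ = θ M` for a real symmetric or skew-symmetric `M`. -/

namespace Cfsg.Agent.Lib.Helper50

open Matrix Cfsg.Agent.Lib.Helper07 Cfsg.Agent.Lib.Helper08

/-- a graph datum -/
structure GDatum {F : Type*} [Field F] [Fintype F] {q : ℕ} (C : UG.UC F q) {F₀ : Type*} [Field F₀]
    (S : RS C F₀) (n : ℕ) where
  R : GL (Fin n) F
  M : GL (Fin n) F₀
  ε : F₀
  hε : ε = 1 ∨ ε = -1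
  hM : M.valᵀ = ε • M.val
  hR : R.valᵀ * R.val.map C.σ = thetaOf C ε • M.val.map S.ι

section
variable {n : ℕ} {F : Type*} [Field F] [Fintype F] {q : ℕ} {C : UG.UC F q}
variable {F₀ : Type*} [Field F₀] {S : RS C F₀}

theorem map_sigma_sigma (A : Matrix (Fin n) (Fin n) F) : (A.map C.σ).map C.σ = A := by
  ext i j
  rw [Matrix.map_apply, Matrix.map_apply, C.hσ]

theorem map_sigma_mul (A B : Matrix (Fin n) (Fin n) F) :
    (A * B).map C.σ = A.map C.σ * B.map C.σ := map_mul_ringAut C.σ A B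

theorem map_sigma_smul (c : F) (A : Matrix (Fin n) (Fin n) F) :
    (c • A).map C.σ = C.σ c • A.map C.σ := by
  ext i j
  rw [Matrix.map_apply, Matrix.smul_apply, Matrix.smul_apply, Matrix.map_apply, smul_eq_mul,
    smul_eq_mul, _root_.map_mul]

theorem map_sigma_one : (1 : Matrix (Fin n) (Fin n) F).map C.σ = 1 :=
  Matrix.map_one _ (map_zero C.σ) (_root_.map_one C.σ)

theorem GDatum.iota_eps_sq (D : GDatum C S n) : S.ι D.ε * S.ι D.ε = 1 := by
  rcases D.hε with h | h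
  · rw [h, _root_.map_one, one_mul]
  · rw [h, map_neg, _root_.map_one]
    ring

theorem GDatum.iota_eps_ne_zero (D : GDatum C S n) : S.ι D.ε ≠ 0 := by
  intro h
  have := D.iota_eps_sq
  rw [h, zero_mul] at this
  exact zero_ne_one this

theorem GDatum.hR_transpose (D : GDatum C S n) :
    (D.R.val.map C.σ)ᵀ * D.R.val = S.ι D.ε • (D.R.valᵀ * D.R.val.map C.σ) := by
  have h1 : (D.R.val.map C.σ)ᵀ * D.R.val = (D.R.valᵀ * D.R.val.map C.σ)ᵀ := by
    rw [Matrix.transpose_mul, Matrix.transpose_transpose]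
  rw [h1, D.hR, Matrix.transpose_smul, ← S.map_transpose, D.hM, S.map_smul, smul_smul, smul_smul,
    mul_comm]

theorem GDatum.hR_symm (D : GDatum C S n) :
    D.R.valᵀ * D.R.val.map C.σ = S.ι D.ε • ((D.R.val.map C.σ)ᵀ * D.R.val) := by
  rw [D.hR_transpose, smul_smul, D.iota_eps_sq, one_smul]

theorem twGL_val (R : GL (Fin n) F) : (twGL C R).val = R.val * R⁻¹.val.map C.σ := by
  unfold twGL
  rw [← _root_.map_inv]
  rfl

theorem GDatum.tw_mem (D : GDatum C S n) : twGL C D.R ∈ CU n C.σ := by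
  refine ⟨Units.mk0 (S.ι D.ε) D.iota_eps_ne_zero, ?_⟩
  rw [Units.val_mk0, twGL_val, Matrix.transpose_mul, map_sigma_mul, map_sigma_sigma]
  have h1 : D.R.val * D.R⁻¹.val = 1 := Units.mul_inv D.R
  have h2 : D.R.val.map C.σ * D.R⁻¹.val.map C.σ = 1 := map_mul_inv C.σ D.R
  calc (D.R⁻¹.val.map C.σ)ᵀ * D.R.valᵀ * (D.R.val.map C.σ * D.R⁻¹.val)
      = (D.R⁻¹.val.map C.σ)ᵀ * (D.R.valᵀ * D.R.val.map C.σ) * D.R⁻¹.val := by
        simp only [Matrix.mul_assoc]
    _ = S.ι D.ε • ((D.R⁻¹.val.map C.σ)ᵀ * (D.R.val.map C.σ)ᵀ * (D.R.val * D.R⁻¹.val)) := by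
        rw [D.hR_symm, Matrix.mul_smul, Matrix.smul_mul]
        simp only [Matrix.mul_assoc]
    _ = S.ι D.ε • 1 := by
        rw [← Matrix.transpose_mul, h1, h2, Matrix.transpose_one, Matrix.mul_one]

/-- the conformal unitary element attached to a datum -/
noncomputable def GDatum.x (D : GDatum C S n) : CU n C.σ := ⟨twGL C D.R, D.tw_mem⟩

/-- the graph-type automorphism attached to a datum -/
noncomputable def GDatum.aut (D : GDatum C S n) : MulAut (Cfsg.PSU n F q) := graphAutU C D.x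

end

end Cfsg.Agent.Lib.Helper50
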