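import Cfsg.Agent.Lib.Helper50.PSUg

set_option autoImplicit false

/-! Ascent and descent between real similitudes and twisted conjugacy of graph data. -/

namespace Cfsg.Agent.Lib.Helper50

open Matrix Cfsg.Agent.Lib.Helper07 Cfsg.Agent.Lib.Helper08

section
variable {n : ℕ} {F : Type*} [Field F] [Fintype F] {q : ℕ} {C : UG.UC F q}
variable {F₀ : Type*} [Field F₀] {S : RS C F₀}

theorem exists_entry_ne_zero {K : Type*} [Field K] (hn : 1 ≤ n) (k : GL (Fin n) K) :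
    ∃ i j, k.val i j ≠ 0 := by
  by_contra hcon
  push Not at hcon
  have h0 : k.val = 0 := by
    ext i j
    exact hcon i j
  have hu : IsUnit k.val := k.isUnit
  rw [Matrix.isUnit_iff_isUnit_det, h0] at hu
  have : Nonempty (Fin n) := ⟨⟨0, hn⟩⟩
  rw [Matrix.det_zero] at hu
  exact not_isUnit_zero hu

theorem scalar_mul_val (y : Fˣ) (k : GL (Fin n) F) :
    (GeneralLinearGroup.scalar (Fin n) y * k).val = (y : F) • k.val := by
  rw [Units.val_mul, GeneralLinearGroup.coe_scalar]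
  simp [Matrix.scalar_apply, Matrix.smul_eq_diagonal_mul]

/-- a real similitude between the forms gives a twisted conjugation of the data -/
theorem GDatum.ascent (D D' : GDatum C S n) (hεε : D.ε = D'.ε) (k₀ : GL (Fin n) F₀) (d₀ : F₀ˣ)
    (hk : k₀.valᵀ * D'.M.val * k₀.val = (d₀ : F₀) • D.M.val) :
    ∃ h : CU n C.σ, h.1 = D'.R * S.gl k₀ * D.R⁻¹ ∧ h * D.x * (barU C h)⁻¹ = D'.x := by
  have hmem : D'.R * S.gl k₀ * D.R⁻¹ ∈ CU n C.σ := by
    refine ⟨Units.map S.ι.toMonoidHom d₀, ?_⟩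
    have hv : (D'.R * S.gl k₀ * D.R⁻¹).val = D'.R.val * k₀.val.map S.ι * D.R⁻¹.val := by
      rw [Units.val_mul, Units.val_mul, S.gl_val]
    rw [hv, Matrix.transpose_mul, Matrix.transpose_mul, map_sigma_mul, map_sigma_mul,
      S.map_fixed]
    have h1 : D.R.val * D.R⁻¹.val = 1 := Units.mul_inv D.R
    have h2 : D.R.val.map C.σ * D.R⁻¹.val.map C.σ = 1 := map_mul_inv C.σ D.R
    have h3 : (k₀.val.map S.ι)ᵀ * (D'.R.valᵀ * D'.R.val.map C.σ) * k₀.val.map S.ι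
        = S.ι d₀ • (D.R.valᵀ * D.R.val.map C.σ) := by
      rw [D'.hR, D.hR, ← hεε, Matrix.mul_smul, Matrix.smul_mul, ← S.map_transpose, ← S.map_mul,
        ← S.map_mul, hk, S.map_smul, smul_smul, smul_smul, mul_comm]
    calc D.R⁻¹.valᵀ * ((k₀.val.map S.ι)ᵀ * D'.R.valᵀ) *
          (D'.R.val.map C.σ * k₀.val.map S.ι * D.R⁻¹.val.map C.σ)
        = D.R⁻¹.valᵀ * ((k₀.val.map S.ι)ᵀ * (D'.R.valᵀ * D'.R.val.map C.σ) * k₀.val.map S.ι)
            * D.R⁻¹.val.map C.σ := by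
          simp only [Matrix.mul_assoc]
      _ = S.ι d₀ • (D.R⁻¹.valᵀ * D.R.valᵀ * (D.R.val.map C.σ * D.R⁻¹.val.map C.σ)) := by
          rw [h3, Matrix.mul_smul, Matrix.smul_mul]
          simp only [Matrix.mul_assoc]
      _ = ((Units.map S.ι.toMonoidHom d₀ : Fˣ) : F) • 1 := by
          rw [← Matrix.transpose_mul, h1, h2, Matrix.transpose_one, Matrix.mul_one]
          rfl
  refine ⟨⟨_, hmem⟩, rfl, ?_⟩
  apply Subtype.ext
  show (D'.R * S.gl k₀ * D.R⁻¹) * twGL C D.R * (barGL C (D'.R * S.gl k₀ * D.R⁻¹))⁻¹ = twGL C D'.R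
  unfold twGL
  rw [_root_.map_mul, _root_.map_mul, _root_.map_inv, barGL_gl]
  group

/-- a twisted conjugation of the data comes from a real similitude between the forms -/
theorem GDatum.descent (hn : 1 ≤ n) (D D' : GDatum C S n) (h : CU n C.σ)
    (hh : ((h * D.x * (barU C h)⁻¹)⁻¹ * D'.x).1 ∈ Cfsg.Geo.scalars (Fin n) F) :
    ∃ (k₀ : GL (Fin n) F₀) (d₀ : F₀ˣ) (y : Fˣ),
      k₀.valᵀ * D'.M.val * k₀.val = (d₀ : F₀) • D.M.val ∧
      GeneralLinearGroup.scalar (Fin n) y * (D'.R⁻¹ * h.1 * D.R) = S.gl k₀ := by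
  obtain ⟨k, hkdef⟩ : ∃ k : GL (Fin n) F, k = D'.R⁻¹ * h.1 * D.R := ⟨_, rfl⟩
  have hh1 : h.1 = D'.R * k * D.R⁻¹ := by rw [hkdef]; group
  have e1 : ((h * D.x * (barU C h)⁻¹)⁻¹ * D'.x).1
      = barGL C D'.R * (barGL C k * k⁻¹) * (barGL C D'.R)⁻¹ := by
    show (h.1 * twGL C D.R * (barGL C h.1)⁻¹)⁻¹ * twGL C D'.R = _
    unfold twGL
    rw [hh1, _root_.map_mul, _root_.map_mul, _root_.map_inv]
    group
  rw [e1] at hh
  have hh2 : barGL C k * k⁻¹ ∈ Cfsg.Geo.scalars (Fin n) F := by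
    have := (Cfsg.Geo.scalars_normal).conj_mem _ hh (barGL C D'.R)⁻¹
    have e2 : (barGL C D'.R)⁻¹ * (barGL C D'.R * (barGL C k * k⁻¹) * (barGL C D'.R)⁻¹) *
        (barGL C D'.R)⁻¹⁻¹ = barGL C k * k⁻¹ := by group
    rw [e2] at this
    exact this
  rw [Cfsg.Geo.mem_scalars_iff] at hh2
  obtain ⟨l, hl⟩ := hh2
  have hbar : k.val.map C.σ = (l : F) • k.val := by
    have h1 : (barGL C k * k⁻¹).val * k.val = k.val.map C.σ := by
      rw [Units.val_mul, Matrix.mul_assoc, Units.inv_mul, Matrix.mul_one]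
      rfl
    rw [← h1, hl, Matrix.smul_mul, Matrix.one_mul]
  -- the norm of `l` is one
  obtain ⟨i₀, j₀, hij⟩ := exists_entry_ne_zero hn k
  have hnorm : (l : F) * C.σ l = 1 := by
    have h1 : k.val = (C.σ l * l) • k.val := by
      conv_lhs => rw [← map_sigma_sigma (C := C) k.val, hbar, map_sigma_smul, hbar, smul_smul]
    have h2 := congrFun (congrFun h1 i₀) j₀
    rw [Matrix.smul_apply, smul_eq_mul] at h2
    have h3 : (C.σ l * l - 1) * k.val i₀ j₀ = 0 := by linear_combination -h2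
    rcases mul_eq_zero.mp h3 with h4 | h4
    · linear_combination h4
    · exact absurd h4 hij
  obtain ⟨y, hy0, hy⟩ := h90_scalar C.σ (UC_orderOf_sigma C) two_pos (l : F)
    (by rw [nrmF_two]; exact hnorm)
  -- `y k` is real
  have hreal : ((GeneralLinearGroup.scalar (Fin n) (Units.mk0 y hy0) * k).val).map C.σ
      = (GeneralLinearGroup.scalar (Fin n) (Units.mk0 y hy0) * k).val := by
    rw [scalar_mul_val, Units.val_mk0, map_sigma_smul, hbar, smul_smul, mul_comm, hy]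
  obtain ⟨k₀, hk₀⟩ := S.exists_gl_real _ hreal
  have hk₀v : k₀.val.map S.ι = y • k.val := by
    rw [← S.gl_val, hk₀, scalar_mul_val, Units.val_mk0]
  -- the similitude relation
  obtain ⟨c, hc⟩ := h.2
  have hkv : k.val = D'.R⁻¹.val * h.1.val * D.R.val := by
    rw [hkdef, Units.val_mul, Units.val_mul]
  have h1 : D'.R.val * D'.R⁻¹.val = 1 := Units.mul_inv D'.R
  have h2 : D'.R.val.map C.σ * D'.R⁻¹.val.map C.σ = 1 := map_mul_inv C.σ D'.R
  have hsim : k.valᵀ * (D'.R.valᵀ * D'.R.val.map C.σ) * k.val.map C.σ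
      = (c : F) • (D.R.valᵀ * D.R.val.map C.σ) := by
    rw [hkv, Matrix.transpose_mul, Matrix.transpose_mul, map_sigma_mul, map_sigma_mul]
    calc D.R.valᵀ * (h.1.valᵀ * D'.R⁻¹.valᵀ) * (D'.R.valᵀ * D'.R.val.map C.σ) *
          (D'.R⁻¹.val.map C.σ * h.1.val.map C.σ * D.R.val.map C.σ)
        = D.R.valᵀ * (h.1.valᵀ * ((D'.R⁻¹.valᵀ * D'.R.valᵀ) *
            (D'.R.val.map C.σ * D'.R⁻¹.val.map C.σ)) * h.1.val.map C.σ) * D.R.val.map C.σ := by
          simp only [Matrix.mul_assoc]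
      _ = D.R.valᵀ * (h.1.valᵀ * h.1.val.map C.σ) * D.R.val.map C.σ := by
          rw [← Matrix.transpose_mul, h1, h2, Matrix.transpose_one, Matrix.mul_one,
            Matrix.mul_one]
      _ = (c : F) • (D.R.valᵀ * D.R.val.map C.σ) := by
          rw [hc, Matrix.mul_smul, Matrix.smul_mul, Matrix.mul_one]
  -- translate to the real matrices
  have hθ := thetaOf_ne_zero (C := C) D.ε
  have hθ' := thetaOf_ne_zero (C := C) D'.ε
  have hkey : (k₀.valᵀ * D'.M.val * k₀.val).map S.ι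
      = (y * C.σ y * c * thetaOf C D.ε * (thetaOf C D'.ε)⁻¹) • D.M.val.map S.ι := by
    have hkbar : k₀.val.map S.ι = C.σ y • k.val.map C.σ := by
      rw [← map_sigma_smul, ← hk₀v, S.map_fixed]
    rw [S.map_mul, S.map_mul, S.map_transpose]
    have hA : (k₀.val.map S.ι)ᵀ * D'.M.val.map S.ι * k₀.val.map S.ι
        = (y • k.val)ᵀ * D'.M.val.map S.ι * (C.σ y • k.val.map C.σ) := by
      conv_lhs =>
        arg 2
        rw [hkbar]
      rw [hk₀v]
    rw [hA, Matrix.transpose_smul, Matrix.smul_mul, Matrix.smul_mul, Matrix.mul_smul, smul_smul]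
    have h5 : k.valᵀ * D'.M.val.map S.ι * k.val.map C.σ
        = (thetaOf C D'.ε)⁻¹ • (k.valᵀ * (D'.R.valᵀ * D'.R.val.map C.σ) * k.val.map C.σ) := by
      rw [D'.hR, Matrix.mul_smul, Matrix.smul_mul, smul_smul, inv_mul_cancel₀ hθ', one_smul]
    rw [h5, hsim, D.hR, smul_smul, smul_smul, smul_smul]
    congr 1
    ring
  obtain ⟨i, j, hMij⟩ := exists_entry_ne_zero hn D.M
  obtain ⟨d, hd⟩ : ∃ d : F, d = y * C.σ y * c * thetaOf C D.ε * (thetaOf C D'.ε)⁻¹ := ⟨_, rfl⟩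
  rw [← hd] at hkey
  have hd0 : d ≠ 0 := by
    rw [hd]
    have : C.σ y ≠ 0 := (map_ne_zero_iff _ C.σ.injective).mpr hy0
    have hc0 : (c : F) ≠ 0 := c.ne_zero
    exact mul_ne_zero (mul_ne_zero (mul_ne_zero (mul_ne_zero hy0 this) hc0) hθ) (inv_ne_zero hθ')
  have hιM : S.ι (D.M.val i j) ≠ 0 := (map_ne_zero_iff _ S.inj).mpr hMij
  have hd' : d = S.ι ((k₀.valᵀ * D'.M.val * k₀.val) i j / D.M.val i j) := by
    have := congrFun (congrFun hkey i) j
    rw [Matrix.map_apply, Matrix.smul_apply, Matrix.map_apply, smul_eq_mul] at this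
    rw [map_div₀, this]
    field_simp
  obtain ⟨d₁, hd₁⟩ : ∃ d₁ : F₀, d₁ = (k₀.valᵀ * D'.M.val * k₀.val) i j / D.M.val i j := ⟨_, rfl⟩
  rw [← hd₁] at hd'
  have hd₁0 : d₁ ≠ 0 := by
    intro h0
    rw [h0, map_zero] at hd'
    exact hd0 hd'
  refine ⟨k₀, Units.mk0 d₁ hd₁0, Units.mk0 y hy0, ?_, ?_⟩
  · apply S.map_inj
    rw [hkey, hd', Units.val_mk0, S.map_smul]
  · rw [hk₀, hkdef]

end

end Cfsg.Agent.Lib.Helper50
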