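import Cfsg.Agent.Lib.Helper50.PSUh

set_option autoImplicit false

/-! Graph data: order, conjugacy criterion. -/

namespace Cfsg.Agent.Lib.Helper50

open Matrix Cfsg.Agent.Lib.Helper07 Cfsg.Agent.Lib.Helper08

section
variable {n : ℕ} {F : Type*} [Field F] [Fintype F] {q : ℕ} {C : UG.UC F q}
variable {F₀ : Type*} [Field F₀] {S : RS C F₀}

theorem GDatum.isGraphAutClass (hn : 3 ≤ n) (h32 : ¬ (n = 3 ∧ q = 2)) (D : GDatum C S n) :
    Cfsg.IsGraphAutClassPSU D.aut := isGraphAutClass_graphAutU C hn h32 D.x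

theorem GDatum.orderOf_aut (hn : 3 ≤ n) (h32 : ¬ (n = 3 ∧ q = 2)) (D : GDatum C S n) :
    orderOf D.aut = 2 := by
  unfold GDatum.aut
  rw [orderOf_graphAutU_eq_two_iff C hn h32]
  have : (D.x * barU C D.x).1 = 1 := by
    show twGL C D.R * barGL C (twGL C D.R) = 1
    unfold twGL
    rw [_root_.map_mul, _root_.map_inv, barGL_barGL]
    group
  rw [this]
  exact (Cfsg.Geo.scalars (Fin n) F).one_mem

theorem GDatum.eps_eq_of_similar (hn : 1 ≤ n) (D D' : GDatum C S n) (k₀ : GL (Fin n) F₀)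
    (d₀ : F₀ˣ) (hk : k₀.valᵀ * D'.M.val * k₀.val = (d₀ : F₀) • D.M.val) : D.ε = D'.ε := by
  have h1 : (k₀.valᵀ * D'.M.val * k₀.val)ᵀ = D'.ε • (k₀.valᵀ * D'.M.val * k₀.val) := by
    rw [Matrix.transpose_mul, Matrix.transpose_mul, Matrix.transpose_transpose, D'.hM,
      Matrix.smul_mul, Matrix.mul_smul, Matrix.mul_assoc]
  rw [hk, Matrix.transpose_smul, D.hM, smul_smul, smul_smul] at h1
  obtain ⟨i, j, hij⟩ := exists_entry_ne_zero hn D.M
  have h2 := congrFun (congrFun h1 i) j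
  rw [Matrix.smul_apply, Matrix.smul_apply, smul_eq_mul, smul_eq_mul] at h2
  have h3 : (D.ε - D'.ε) * ((d₀ : F₀) * D.M.val i j) = 0 := by linear_combination h2
  rcases mul_eq_zero.mp h3 with h4 | h4
  · exact sub_eq_zero.mp h4
  · exact absurd h4 (mul_ne_zero d₀.ne_zero hij)

/-- conjugacy of the graph-type automorphisms attached to data means similarity of the forms -/
theorem GDatum.isConj_iff (hn : 3 ≤ n) (h32 : ¬ (n = 3 ∧ q = 2)) (D D' : GDatum C S n) :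
    Cfsg.IsConjUnder (Cfsg.inndiagPSU n F q) D.aut D'.aut ↔
      ∃ (k₀ : GL (Fin n) F₀) (d₀ : F₀ˣ), k₀.valᵀ * D'.M.val * k₀.val = (d₀ : F₀) • D.M.val := by
  unfold GDatum.aut
  rw [isConjUnder_graphAutU_iff C hn h32]
  constructor
  · rintro ⟨h, hh⟩
    obtain ⟨k₀, d₀, y, hk, -⟩ := GDatum.descent (by omega) D D' h hh
    exact ⟨k₀, d₀, hk⟩
  · rintro ⟨k₀, d₀, hk⟩
    have hεε := GDatum.eps_eq_of_similar (by omega) D D' k₀ d₀ hk
    obtain ⟨h, -, hh⟩ := GDatum.ascent D D' hεε k₀ d₀ hk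
    refine ⟨h, ?_⟩
    rw [hh, inv_mul_cancel]
    exact (Cfsg.Geo.scalars (Fin n) F).one_mem

end

end Cfsg.Agent.Lib.Helper50
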