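import Cfsg.Agent.Lib.Helper50.PSUi
import Cfsg.Agent.Lib.Helper50.GraphAutMat

set_option autoImplicit false

/-! Graph data: the centralizer in the inner-diagonal group. -/

namespace Cfsg.Agent.Lib.Helper50

open Matrix Cfsg.Agent.Lib.Helper07 Cfsg.Agent.Lib.Helper08

section
variable {ι' : Type} [Fintype ι'] [DecidableEq ι'] {K : Type*} [Field K]

/-- a homomorphism out of a matrix group with kernel its scalars identifies the projective
quotient with the image -/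
theorem nonempty_projQuot_equiv_range {A : Type*} [Group A] (T : Subgroup (GL ι' K))
    (f : ↥T →* A) (hker : f.ker = (Cfsg.Geo.scalars ι' K).subgroupOf T) :
    Nonempty (Cfsg.projQuot T ≃* ↥f.range) :=
  ⟨(QuotientGroup.quotientMulEquivOfEq hker).symm.trans (QuotientGroup.quotientKerEquivRange f)⟩

end

section
variable {n : ℕ} {F : Type*} [Field F] [Fintype F] {q : ℕ} {C : UG.UC F q}
variable {F₀ : Type*} [Field F₀] {S : RS C F₀}

/-- real matrices conjugated by `R` -/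
noncomputable def GDatum.psi (D : GDatum C S n) : GL (Fin n) F₀ →* GL (Fin n) F :=
  (MulAut.conj D.R).toMonoidHom.comp S.gl

theorem GDatum.psi_apply (D : GDatum C S n) (k₀ : GL (Fin n) F₀) :
    D.psi k₀ = D.R * S.gl k₀ * D.R⁻¹ := rfl

theorem GDatum.psi_spec (D : GDatum C S n) (k₀ : GL (Fin n) F₀)
    (hk : k₀ ∈ Cfsg.Geo.similarityGroup (matBil D.M.val)) :
    ∃ h : CU n C.σ, h.1 = D.psi k₀ ∧ h * D.x * (barU C h)⁻¹ = D.x := by
  rw [mem_similarityGroup_matBil_iff] at hk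
  obtain ⟨c, hc⟩ := hk
  exact GDatum.ascent D D rfl k₀ c hc

theorem GDatum.psi_mem_CU (D : GDatum C S n) (k₀ : GL (Fin n) F₀)
    (hk : k₀ ∈ Cfsg.Geo.similarityGroup (matBil D.M.val)) : D.psi k₀ ∈ CU n C.σ := by
  obtain ⟨h, h1, -⟩ := D.psi_spec k₀ hk
  rw [← h1]
  exact h.2

theorem RS.gl_mem_scalars_iff (hn : 1 ≤ n) (k₀ : GL (Fin n) F₀) :
    S.gl k₀ ∈ Cfsg.Geo.scalars (Fin n) F ↔ k₀ ∈ Cfsg.Geo.scalars (Fin n) F₀ := by
  rw [Cfsg.Geo.mem_scalars_iff, Cfsg.Geo.mem_scalars_iff]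
  constructor
  · rintro ⟨c, hc⟩
    rw [S.gl_val] at hc
    have h00 : S.ι (k₀.val ⟨0, hn⟩ ⟨0, hn⟩) = c := by
      have := congrFun (congrFun hc ⟨0, hn⟩) ⟨0, hn⟩
      rw [Matrix.map_apply, Matrix.smul_apply, Matrix.one_apply_eq, smul_eq_mul, mul_one] at this
      exact this
    have hne : k₀.val ⟨0, hn⟩ ⟨0, hn⟩ ≠ 0 := by
      intro h0
      rw [h0, map_zero] at h00
      exact c.ne_zero h00.symm
    refine ⟨Units.mk0 _ hne, ?_⟩
    ext i j
    apply S.inj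
    have := congrFun (congrFun hc i) j
    rw [Matrix.map_apply, Matrix.smul_apply, smul_eq_mul] at this
    rw [this, Units.val_mk0, Matrix.smul_apply, smul_eq_mul, _root_.map_mul, h00]
    by_cases hij : i = j
    · subst hij
      rw [Matrix.one_apply_eq, Matrix.one_apply_eq, _root_.map_one]
    · rw [Matrix.one_apply_ne hij, Matrix.one_apply_ne hij, map_zero]
  · rintro ⟨c, hc⟩
    refine ⟨Units.map S.ι.toMonoidHom c, ?_⟩
    rw [S.gl_val, hc, S.map_smul, S.map_one]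
    rfl

theorem GDatum.psi_mem_scalars_iff (hn : 1 ≤ n) (D : GDatum C S n) (k₀ : GL (Fin n) F₀) :
    D.psi k₀ ∈ Cfsg.Geo.scalars (Fin n) F ↔ k₀ ∈ Cfsg.Geo.scalars (Fin n) F₀ := by
  rw [← S.gl_mem_scalars_iff hn, D.psi_apply]
  constructor
  · intro h
    have := (Cfsg.Geo.scalars_normal).conj_mem _ h D.R⁻¹
    have e : D.R⁻¹ * (D.R * S.gl k₀ * D.R⁻¹) * D.R⁻¹⁻¹ = S.gl k₀ := by group
    rw [e] at this
    exact this
  · intro h
    exact (Cfsg.Geo.scalars_normal).conj_mem _ h D.R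

/-- the homomorphism from real similitudes to automorphisms of `PSU_n` -/
noncomputable def GDatum.phi (D : GDatum C S n) :
    ↥(Cfsg.Geo.similarityGroup (matBil D.M.val)) →* MulAut (Cfsg.PSU n F q) :=
  (cU C).comp ((D.psi.comp (Subgroup.subtype _)).codRestrict (CU n C.σ)
    (fun k => D.psi_mem_CU k.1 k.2))

theorem GDatum.phi_apply (D : GDatum C S n) (k : ↥(Cfsg.Geo.similarityGroup (matBil D.M.val))) :
    D.phi k = cU C ⟨D.psi k.1, D.psi_mem_CU k.1 k.2⟩ := rfl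

theorem GDatum.phi_ker (hn : 3 ≤ n) (h32 : ¬ (n = 3 ∧ q = 2)) (D : GDatum C S n) :
    D.phi.ker = (Cfsg.Geo.scalars (Fin n) F₀).subgroupOf
      (Cfsg.Geo.similarityGroup (matBil D.M.val)) := by
  ext k
  rw [MonoidHom.mem_ker, Subgroup.mem_subgroupOf, D.phi_apply, cU_eq_one_iff C hn h32]
  exact D.psi_mem_scalars_iff (by omega) k.1

theorem GDatum.phi_range (hn : 3 ≤ n) (h32 : ¬ (n = 3 ∧ q = 2)) (D : GDatum C S n) :
    D.phi.range = Cfsg.inndiagPSU n F q ⊓ Subgroup.centralizer {D.aut} := by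
  have hcent : ∀ h : CU n C.σ, cU C h ∈ Subgroup.centralizer {D.aut} ↔
      cU C h * D.aut * (cU C h)⁻¹ = D.aut := by
    intro h
    rw [Subgroup.mem_centralizer_iff]
    constructor
    · intro hh
      have := hh D.aut rfl
      rw [← this]
      group
    · rintro hh y rfl
      conv_lhs => rw [← hh]
      group
  ext β
  rw [Subgroup.mem_inf, inndiagPSU_eq_range_cU C hn h32]
  constructor
  · rintro ⟨k, rfl⟩
    rw [D.phi_apply]
    refine ⟨⟨_, rfl⟩, ?_⟩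
    rw [hcent]
    obtain ⟨h, h1, h2⟩ := D.psi_spec k.1 k.2
    have e : (⟨D.psi k.1, D.psi_mem_CU k.1 k.2⟩ : CU n C.σ) = h := Subtype.ext h1.symm
    rw [e]
    unfold GDatum.aut
    rw [conj_graphAutU, h2]
  · rintro ⟨⟨h, rfl⟩, hc⟩
    rw [hcent] at hc
    unfold GDatum.aut at hc
    rw [conj_graphAutU, graphAutU_eq_iff C hn h32] at hc
    obtain ⟨k₀, d₀, y, hk, hy⟩ := GDatum.descent (by omega) D D h hc
    have hmem : k₀ ∈ Cfsg.Geo.similarityGroup (matBil D.M.val) := by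
      rw [mem_similarityGroup_matBil_iff]
      exact ⟨d₀, hk⟩
    refine ⟨⟨k₀, hmem⟩, ?_⟩
    rw [D.phi_apply, cU_eq_iff C hn h32]
    show (D.psi k₀)⁻¹ * h.1 ∈ Cfsg.Geo.scalars (Fin n) F
    rw [D.psi_apply, ← hy]
    have hsc : (GeneralLinearGroup.scalar (Fin n) y)⁻¹ ∈ Cfsg.Geo.scalars (Fin n) F :=
      (Cfsg.Geo.scalars (Fin n) F).inv_mem ⟨y, rfl⟩
    have := (Cfsg.Geo.scalars_normal).conj_mem _ hsc (h.1⁻¹ * D.R)
    have e : (h.1⁻¹ * D.R) * (GeneralLinearGroup.scalar (Fin n) y)⁻¹ * (h.1⁻¹ * D.R)⁻¹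
        = (D.R * (GeneralLinearGroup.scalar (Fin n) y * (D.R⁻¹ * h.1 * D.R)) * D.R⁻¹)⁻¹ * h.1 := by
      group
    rw [e] at this
    exact this

/-- the centralizer of the graph-type automorphism attached to a datum -/
theorem GDatum.nonempty_centralizer_equiv (hn : 3 ≤ n) (h32 : ¬ (n = 3 ∧ q = 2))
    (D : GDatum C S n) :
    Nonempty (↥(Cfsg.inndiagPSU n F q ⊓ Subgroup.centralizer {D.aut}) ≃*
      Cfsg.projQuot (Cfsg.Geo.similarityGroup (matBil D.M.val))) := by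
  obtain ⟨e⟩ := nonempty_projQuot_equiv_range _ D.phi (D.phi_ker hn h32)
  exact ⟨(MulEquiv.subgroupCongr (D.phi_range hn h32)).symm.trans e.symm⟩

end

end Cfsg.Agent.Lib.Helper50
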