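import Cfsg.Agent.Lib.Helper50.PSUj

set_option autoImplicit false

/-! Graph data: existence, from a real form and from an involutory graph-type automorphism. -/

namespace Cfsg.Agent.Lib.Helper50

open Matrix Cfsg.Agent.Lib.Helper07 Cfsg.Agent.Lib.Helper08

section
variable {n : ℕ} {F : Type*} [Field F] [Fintype F] {q : ℕ} {C : UG.UC F q}
variable {F₀ : Type*} [Field F₀] {S : RS C F₀}

/-- every real symmetric or skew-symmetric invertible matrix is the form of a datum -/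
theorem exists_datum_of_mat (M : GL (Fin n) F₀) (ε : F₀) (hε : ε = 1 ∨ ε = -1)
    (hM : M.valᵀ = ε • M.val) : ∃ D : GDatum C S n, D.M = M ∧ D.ε = ε := by
  have hθ := thetaOf_ne_zero (C := C) ε
  obtain ⟨H, hH⟩ : ∃ H : GL (Fin n) F, H = GeneralLinearGroup.scalar (Fin n) (Units.mk0 _ hθ) * S.gl M :=
    ⟨_, rfl⟩
  have hHv : H.val = thetaOf C ε • M.val.map S.ι := by
    rw [hH, scalar_mul_val, Units.val_mk0, S.gl_val]
  have hHerm : H.val.map C.σ = H.valᵀ := by
    rw [hHv, map_sigma_smul, S.map_fixed, thetaOf_conj S ε hε, Matrix.transpose_smul,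
      ← S.map_transpose, hM, S.map_smul, smul_smul, mul_comm]
  obtain ⟨P, hPu, hP⟩ := herm_classify C.σ C.hσ C.hσ1 H.val H.isUnit hHerm
  have hPt : IsUnit Pᵀ := by
    rw [Matrix.isUnit_iff_isUnit_det, Matrix.det_transpose, ← Matrix.isUnit_iff_isUnit_det]
    exact hPu
  refine ⟨⟨hPt.unit, M, ε, hε, hM, ?_⟩, rfl, rfl⟩
  rw [IsUnit.unit_spec, Matrix.transpose_transpose, Matrix.transpose_map, ← hP, hHv]

theorem smul_one_mul_comm (l : F) (X : Matrix (Fin n) (Fin n) F) :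
    (l • (1 : Matrix (Fin n) (Fin n) F)) * X = X * (l • 1) := by
  rw [Matrix.smul_mul, Matrix.mul_smul, Matrix.one_mul, Matrix.mul_one]

/-- every involutory graph-type automorphism comes from a datum -/
theorem exists_datum_of_aut (hn : 3 ≤ n) (h32 : ¬ (n = 3 ∧ q = 2))
    (γ : MulAut (Cfsg.PSU n F q)) (hγ : Cfsg.IsGraphAutClassPSU γ) (hγ2 : orderOf γ = 2) :
    ∃ D : GDatum C S n, D.aut = γ := by
  obtain ⟨x, rfl⟩ := exists_graphAutU_of_isGraphAutClass C hn h32 γ hγ hγ2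
  rw [orderOf_graphAutU_eq_two_iff C hn h32, Cfsg.Geo.mem_scalars_iff] at hγ2
  obtain ⟨l, hl⟩ := hγ2
  have hl' : x.1.val * x.1.val.map C.σ = (l : F) • 1 := hl
  -- `l` is real
  have hcomm : x.1.val.map C.σ * x.1.val = (l : F) • 1 := by
    have h1 : x.1.val.map C.σ = x.1⁻¹.val * ((l : F) • 1) := by
      rw [← hl', ← Matrix.mul_assoc, Units.inv_mul, Matrix.one_mul]
    rw [h1, Matrix.mul_assoc, smul_one_mul_comm, ← Matrix.mul_assoc, Units.inv_mul, Matrix.one_mul]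
  have hlreal : C.σ (l : F) = l := by
    have h1 : (x.1.val * x.1.val.map C.σ).map C.σ = ((l : F) • (1 : Matrix (Fin n) (Fin n) F)).map C.σ := by
      rw [hl']
    rw [map_sigma_mul, map_sigma_sigma, hcomm, map_sigma_smul, map_sigma_one] at h1
    have h2 := congrFun (congrFun h1 ⟨0, by omega⟩) ⟨0, by omega⟩
    rw [Matrix.smul_apply, Matrix.smul_apply, Matrix.one_apply_eq, smul_eq_mul, smul_eq_mul,
      mul_one, mul_one] at h2
    exact h2.symm
  obtain ⟨μ, hμ0, hμ⟩ := C.exists_norm_eq' (l : F) hlreal l.ne_zero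
  have hσμ0 : C.σ μ ≠ 0 := (map_ne_zero_iff _ C.σ.injective).mpr hμ0
  -- Hilbert 90
  obtain ⟨X', hX'⟩ : ∃ X' : Matrix (Fin n) (Fin n) F, X' = μ⁻¹ • x.1.val := ⟨_, rfl⟩
  have hX'1 : X' * X'.map C.σ = 1 := by
    rw [hX', map_sigma_smul, Matrix.smul_mul, Matrix.mul_smul, hl', smul_smul, smul_smul, map_inv₀,
      ← hμ]
    have : μ⁻¹ * (C.σ μ)⁻¹ * (μ * C.σ μ) = 1 := by field_simp
    rw [this, one_smul]
  have htw : twProd C.σ X' 2 = 1 := by
    rw [twProd_succ, twProd_one]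
    exact hX'1
  obtain ⟨Y, hYu, hY⟩ := h90_matrix C.σ (UC_orderOf_sigma C) two_pos X' htw
  obtain ⟨R, hR⟩ : ∃ R : GL (Fin n) F, R = hYu.unit := ⟨_, rfl⟩
  have hRv : R.val = Y := by rw [hR]; exact hYu.unit_spec
  -- `x = μ • tw R`
  have hx : x.1 = GeneralLinearGroup.scalar (Fin n) (Units.mk0 μ hμ0) * twGL C R := by
    have h1 : (GeneralLinearGroup.scalar (Fin n) (Units.mk0 μ hμ0))⁻¹ * x.1 * barGL C R = R := by
      apply Units.ext
      rw [Units.val_mul, ← _root_.map_inv, scalar_mul_val, barGL_val, hRv,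
        Units.val_inv_eq_inv_val, Units.val_mk0]
      conv_rhs => rw [← hY, hX']
    unfold twGL
    calc x.1 = GeneralLinearGroup.scalar (Fin n) (Units.mk0 μ hμ0) *
          ((GeneralLinearGroup.scalar (Fin n) (Units.mk0 μ hμ0))⁻¹ * x.1 * barGL C R) *
            (barGL C R)⁻¹ := by group
      _ = GeneralLinearGroup.scalar (Fin n) (Units.mk0 μ hμ0) * (R * (barGL C R)⁻¹) := by
          rw [h1, mul_assoc]
  have htwmem : twGL C R ∈ CU n C.σ := by
    have h1 : twGL C R = (GeneralLinearGroup.scalar (Fin n) (Units.mk0 μ hμ0))⁻¹ * x.1 := by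
      rw [hx]; group
    rw [h1]
    exact (CU n C.σ).mul_mem ((CU n C.σ).inv_mem (scalar_mem_CU C.σ _)) x.2
  obtain ⟨c', hc'⟩ := htwmem
  -- the matrix `N = Rᵀ R̄`
  obtain ⟨N, hN⟩ : ∃ N : Matrix (Fin n) (Fin n) F, N = R.valᵀ * R.val.map C.σ := ⟨_, rfl⟩
  have hNbar : N.map C.σ = Nᵀ := by
    rw [hN, map_sigma_mul, map_sigma_sigma, Matrix.transpose_mul, Matrix.transpose_transpose,
      ← Matrix.transpose_map]
  have hNsym : N = (c' : F) • Nᵀ := by
    rw [twGL_val, Matrix.transpose_mul, map_sigma_mul, map_sigma_sigma] at hc'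
    have h1 : R⁻¹.val * R.val = 1 := Units.inv_mul R
    have h2 : R⁻¹.val.map C.σ * R.val.map C.σ = 1 := map_inv_mul C.σ R
    have h3 : (R.val.map C.σ)ᵀ * ((R⁻¹.val.map C.σ)ᵀ * R.valᵀ * (R.val.map C.σ * R⁻¹.val)) * R.val
        = N := by
      calc (R.val.map C.σ)ᵀ * ((R⁻¹.val.map C.σ)ᵀ * R.valᵀ * (R.val.map C.σ * R⁻¹.val)) * R.val
          = ((R.val.map C.σ)ᵀ * (R⁻¹.val.map C.σ)ᵀ) * (R.valᵀ * R.val.map C.σ) *
              (R⁻¹.val * R.val) := by simp only [Matrix.mul_assoc]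
        _ = N := by
            rw [← Matrix.transpose_mul, h2, h1, Matrix.transpose_one, Matrix.one_mul,
              Matrix.mul_one, hN]
    rw [hc', Matrix.mul_smul, Matrix.smul_mul, Matrix.mul_one] at h3
    have h4 : Nᵀ = (R.val.map C.σ)ᵀ * R.val := by
      rw [hN, Matrix.transpose_mul, Matrix.transpose_transpose]
    rw [h4]
    exact h3.symm
  have hNt : Nᵀ = (c' : F) • N := by
    conv_lhs => rw [hNsym, Matrix.transpose_smul, Matrix.transpose_transpose]
  obtain ⟨i₀, j₀, hij⟩ : ∃ i j, N i j ≠ 0 := by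
    have hNu : N = ((glInvT R)⁻¹ * barGL C R).val := by
      rw [hN, Units.val_mul, glInvT_inv_val]
      rfl
    rw [hNu]
    exact exists_entry_ne_zero (by omega) _
  have hc'2 : (c' : F) * c' = 1 := by
    have h1 : N = ((c' : F) * c') • N := by
      conv_lhs => rw [hNsym, hNt, smul_smul]
    have h2 := congrFun (congrFun h1 i₀) j₀
    rw [Matrix.smul_apply, smul_eq_mul] at h2
    have h3 : ((c' : F) * c' - 1) * N i₀ j₀ = 0 := by linear_combination -h2
    rcases mul_eq_zero.mp h3 with h4 | h4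
    · linear_combination h4
    · exact absurd h4 hij
  have hc'pm : (c' : F) = 1 ∨ (c' : F) = -1 := by
    have : ((c' : F) - 1) * ((c' : F) + 1) = 0 := by linear_combination hc'2
    rcases mul_eq_zero.mp this with h | h
    · left; linear_combination h
    · right; linear_combination h
  obtain ⟨ε, hε, hιε⟩ : ∃ ε : F₀, (ε = 1 ∨ ε = -1) ∧ S.ι ε = c' := by
    rcases hc'pm with h | h
    · exact ⟨1, Or.inl rfl, by rw [h, _root_.map_one]⟩
    · exact ⟨-1, Or.inr rfl, by rw [h, map_neg, _root_.map_one]⟩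
  have hθ := thetaOf_ne_zero (C := C) ε
  have hθc := thetaOf_conj S ε hε
  -- the real matrix `θ⁻¹ N`
  obtain ⟨g, hg⟩ : ∃ g : GL (Fin n) F,
      g = GeneralLinearGroup.scalar (Fin n) (Units.mk0 _ hθ)⁻¹ * ((glInvT R)⁻¹ * barGL C R) :=
    ⟨_, rfl⟩
  have hgv : g.val = (thetaOf C ε)⁻¹ • N := by
    rw [hg, scalar_mul_val, Units.val_inv_eq_inv_val, Units.val_mk0, Units.val_mul, glInvT_inv_val,
      hN]
    rfl
  have hgreal : g.val.map C.σ = g.val := by
    rw [hgv, map_sigma_smul, hNbar, hNt, map_inv₀, hθc, hιε, smul_smul]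
    congr 1
    have hc0 : (c' : F) ≠ 0 := c'.ne_zero
    field_simp
  obtain ⟨M₀, hM₀⟩ := S.exists_gl_real g hgreal
  have hM₀v : M₀.val.map S.ι = (thetaOf C ε)⁻¹ • N := by rw [← S.gl_val, hM₀, hgv]
  have hMsym : M₀.valᵀ = ε • M₀.val := by
    apply S.map_inj
    rw [S.map_transpose, S.map_smul, hM₀v, Matrix.transpose_smul, hNt, hιε, smul_smul, smul_smul,
      mul_comm]
  have hRR : R.valᵀ * R.val.map C.σ = thetaOf C ε • M₀.val.map S.ι := by
    rw [hM₀v, smul_smul, mul_inv_cancel₀ hθ, one_smul, hN]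
  refine ⟨⟨R, M₀, ε, hε, hMsym, hRR⟩, ?_⟩
  unfold GDatum.aut
  rw [graphAutU_eq_iff C hn h32]
  show (twGL C R)⁻¹ * x.1 ∈ Cfsg.Geo.scalars (Fin n) F
  rw [hx]
  have hsc : GeneralLinearGroup.scalar (Fin n) (Units.mk0 μ hμ0) ∈ Cfsg.Geo.scalars (Fin n) F :=
    ⟨_, rfl⟩
  have := (Cfsg.Geo.scalars_normal).conj_mem _ hsc (twGL C R)⁻¹
  rw [inv_inv, mul_assoc] at this
  exact this

end

end Cfsg.Agent.Lib.Helper50
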