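import Cfsg.Agent.Lib.Helper50.PSUk
import Cfsg.Agent.Lib.Helper50.GraphOdd

set_option autoImplicit false

/-! Transfer between involutory graph-type automorphisms of `PSU_n(q)` and involutory graph
automorphisms of `PSL_n(q)`. -/

namespace Cfsg.Agent.Lib.Helper50

open Matrix Cfsg.Agent.Lib.Helper07 Cfsg.Agent.Lib.Helper08

section
variable {n : ℕ} {F : Type*} [Field F] [Fintype F] {q : ℕ} {C : UG.UC F q}
variable {F₀ : Type*} [Field F₀] {S : RS C F₀}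

theorem GDatum.isConj_iff_psl (hn : 3 ≤ n) (h32 : ¬ (n = 3 ∧ q = 2)) (p₀ : ℕ) [Fact p₀.Prime]
    [CharP F₀ p₀] (D D' : GDatum C S n) :
    Cfsg.IsConjUnder (Cfsg.inndiagPSU n F q) D.aut D'.aut ↔
      Cfsg.IsConjUnder (Cfsg.inndiagPSL n F₀) (graphAut D.M) (graphAut D'.M) := by
  rw [GDatum.isConj_iff hn h32]
  constructor
  · rintro ⟨k₀, d₀, hk⟩
    exact isConjUnder_graphAut_of_congr p₀ (by omega) D.M D'.M k₀ d₀ hk
  · intro h
    rw [isConjUnder_graphAut_iff' p₀ (by omega)] at h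
    obtain ⟨h, c, hc⟩ := h
    refine ⟨glInvT h, c, ?_⟩
    rw [hc, glInvT_val, Matrix.transpose_transpose, Matrix.mul_smul, Matrix.smul_mul]
    congr 1
    have h1 : h⁻¹.val * h.val = 1 := Units.inv_mul h
    have h2 : h.valᵀ * h⁻¹.valᵀ = 1 := by
      rw [← Matrix.transpose_mul, h1, Matrix.transpose_one]
    calc h⁻¹.val * (h.val * D.M.val * h.valᵀ) * h⁻¹.valᵀ
        = (h⁻¹.val * h.val) * D.M.val * (h.valᵀ * h⁻¹.valᵀ) := by simp only [Matrix.mul_assoc]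
      _ = D.M.val := by rw [h1, h2, Matrix.one_mul, Matrix.mul_one]

theorem GDatum.nonempty_centralizer_equiv_psl (hn : 3 ≤ n) (h32 : ¬ (n = 3 ∧ q = 2)) (p₀ : ℕ)
    [Fact p₀.Prime] [CharP F₀ p₀] (D : GDatum C S n) :
    Nonempty (↥(Cfsg.inndiagPSU n F q ⊓ Subgroup.centralizer {D.aut}) ≃*
      ↥(Cfsg.inndiagPSL n F₀ ⊓ Subgroup.centralizer {graphAut D.M})) := by
  obtain ⟨e⟩ := D.nonempty_centralizer_equiv hn h32
  obtain ⟨e'⟩ := nonempty_centralizer_graphAut_equiv p₀ (by omega : 1 ≤ n) D.M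
  exact ⟨e.trans e'.symm⟩

theorem GDatum.isGraphAutClass_psl (hn : 3 ≤ n) (D : GDatum C S n) :
    Cfsg.IsGraphAutClassPSL (graphAut D.M) := by
  rw [isGraphAutClass_iff]
  exact ⟨hn, D.M, rfl⟩

theorem GDatum.eps_ne_zero (D : GDatum C S n) : D.ε ≠ 0 := by
  rcases D.hε with h | h
  · rw [h]; exact one_ne_zero
  · rw [h]; exact neg_ne_zero.mpr one_ne_zero

theorem GDatum.eps_sq (D : GDatum C S n) : D.ε * D.ε = 1 := by
  rcases D.hε with h | h
  · rw [h, one_mul]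
  · rw [h]; ring

theorem GDatum.orderOf_graphAut_psl (hn : 3 ≤ n) (p₀ : ℕ) [Fact p₀.Prime] [CharP F₀ p₀]
    (D : GDatum C S n) : orderOf (graphAut D.M) = 2 := by
  rw [orderOf_graphAut_eq_two_iff' p₀ hn]
  refine ⟨Units.mk0 D.ε D.eps_ne_zero, ?_⟩
  rw [Units.val_mk0, D.hM, smul_smul, D.eps_sq, one_smul]

/-- every involutory graph automorphism of `PSL_n(F₀)` is attached to a datum -/
theorem exists_datum_of_psl [Fintype F₀] (hn : 3 ≤ n) (p₀ : ℕ) [Fact p₀.Prime] [CharP F₀ p₀]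
    (γ₀ : MulAut (Matrix.ProjectiveSpecialLinearGroup (Fin n) F₀))
    (hγ : Cfsg.IsGraphAutClassPSL γ₀) (hγ2 : orderOf γ₀ = 2) :
    ∃ D : GDatum C S n, graphAut D.M = γ₀ := by
  rw [isGraphAutClass_iff] at hγ
  obtain ⟨-, g, rfl⟩ := hγ
  rcases symm_of_order_two p₀ hn g hγ2 with h | h
  · obtain ⟨D, hD, -⟩ := exists_datum_of_mat (C := C) (S := S) g 1 (Or.inl rfl)
      (by rw [h, one_smul])
    exact ⟨D, by rw [hD]⟩
  · obtain ⟨D, hD, -⟩ := exists_datum_of_mat (C := C) (S := S) g (-1) (Or.inr rfl)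
      (by rw [h, neg_smul, one_smul])
    exact ⟨D, by rw [hD]⟩

end

section context
variable {F : Type*} [Field F] [Fintype F] {q : ℕ}

/-- the unitary context and the real structure from the cardinalities -/
theorem exists_context (hF : Fintype.card F = q ^ 2) {F₀ : Type*} [Field F₀] [Fintype F₀]
    (hF₀ : Fintype.card F₀ = q) :
    ∃ (C : UG.UC F q), Nonempty (RS C F₀) := by
  obtain ⟨p, -, k, hp, hk⟩ := FiniteField.card' F₀
  have : Fact p.Prime := ⟨hp⟩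
  have hq : q = p ^ (k : ℕ) := by rw [← hF₀, hk]
  obtain ⟨C, hCp, hCf⟩ := UG.exists_UC (F := F) hq k.pos hF
  refine ⟨C, ?_⟩
  have hcard : Fintype.card F = p ^ (2 * (k : ℕ)) := by
    rw [hF, hq, ← pow_mul, mul_comm]
  have hF₀' : Fintype.card F₀ = p ^ (2 * (k : ℕ) / 2) := by
    rw [Nat.mul_div_cancel_left _ two_pos, hk]
  obtain ⟨ι, h1, h2⟩ := exists_fixed_embedding p hcard C.σ (UC_orderOf_sigma C) two_pos hF₀'
  exact ⟨⟨ι, h1, h2⟩⟩

end context

end Cfsg.Agent.Lib.Helper50
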