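import Cfsg.Agent.Lib.Helper50.PSUl

set_option autoImplicit false

/-! Unitary matrices centralising the graph-type automorphism of a datum: parametrisation by
real similitudes. -/

namespace Cfsg.Agent.Lib.Helper50

open Matrix Cfsg.Agent.Lib.Helper07 Cfsg.Agent.Lib.Helper08

section
variable {n : ℕ} {F : Type*} [Field F] [Fintype F] {q : ℕ} {C : UG.UC F q}
variable {F₀ : Type*} [Field F₀] {S : RS C F₀}

theorem GDatum.psi_val (D : GDatum C S n) (k₀ : GL (Fin n) F₀) :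
    (D.psi k₀).val = D.R.val * k₀.val.map S.ι * D.R⁻¹.val := by
  rw [D.psi_apply, Units.val_mul, Units.val_mul, S.gl_val]

/-- the multiplier of the conjugated real similitude -/
theorem GDatum.psi_mult (D : GDatum C S n) (k₀ : GL (Fin n) F₀) (d₀ : F₀ˣ)
    (hk : k₀.valᵀ * D.M.val * k₀.val = (d₀ : F₀) • D.M.val) :
    (D.psi k₀).valᵀ * (D.psi k₀).val.map C.σ = S.ι d₀ • 1 := by
  rw [D.psi_val, Matrix.transpose_mul, Matrix.transpose_mul, map_sigma_mul, map_sigma_mul,
    S.map_fixed]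
  have h1 : D.R.val * D.R⁻¹.val = 1 := Units.mul_inv D.R
  have h2 : D.R.val.map C.σ * D.R⁻¹.val.map C.σ = 1 := map_mul_inv C.σ D.R
  have h3 : (k₀.val.map S.ι)ᵀ * (D.R.valᵀ * D.R.val.map C.σ) * k₀.val.map S.ι
      = S.ι d₀ • (D.R.valᵀ * D.R.val.map C.σ) := by
    rw [D.hR, Matrix.mul_smul, Matrix.smul_mul, ← S.map_transpose, ← S.map_mul,
      ← S.map_mul, hk, S.map_smul, smul_smul, smul_smul, mul_comm]
  calc D.R⁻¹.valᵀ * ((k₀.val.map S.ι)ᵀ * D.R.valᵀ) *
        (D.R.val.map C.σ * k₀.val.map S.ι * D.R⁻¹.val.map C.σ)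
      = D.R⁻¹.valᵀ * ((k₀.val.map S.ι)ᵀ * (D.R.valᵀ * D.R.val.map C.σ) * k₀.val.map S.ι)
          * D.R⁻¹.val.map C.σ := by
        simp only [Matrix.mul_assoc]
    _ = S.ι d₀ • (D.R⁻¹.valᵀ * D.R.valᵀ * (D.R.val.map C.σ * D.R⁻¹.val.map C.σ)) := by
        rw [h3, Matrix.mul_smul, Matrix.smul_mul]
        simp only [Matrix.mul_assoc]
    _ = S.ι d₀ • 1 := by
        rw [← Matrix.transpose_mul, h1, h2, Matrix.transpose_one, Matrix.mul_one]

theorem GDatum.det_psi (D : GDatum C S n) (k₀ : GL (Fin n) F₀) :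
    (D.psi k₀).val.det = S.ι k₀.val.det := by
  rw [D.psi_val, Matrix.det_mul, Matrix.det_mul, mul_comm, ← mul_assoc, ← Matrix.det_mul,
    Units.inv_mul, Matrix.det_one, one_mul]
  exact (RingHom.map_det S.ι k₀.val).symm

theorem GDatum.cU_mem_centralizer_iff (hn : 3 ≤ n) (h32 : ¬ (n = 3 ∧ q = 2)) (D : GDatum C S n)
    (h : CU n C.σ) :
    cU C h ∈ Subgroup.centralizer {D.aut} ↔
      ((h * D.x * (barU C h)⁻¹)⁻¹ * D.x).1 ∈ Cfsg.Geo.scalars (Fin n) F := by
  have hcent : cU C h ∈ Subgroup.centralizer {D.aut} ↔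
      cU C h * D.aut * (cU C h)⁻¹ = D.aut := by
    rw [Subgroup.mem_centralizer_iff]
    constructor
    · intro hh
      have := hh D.aut rfl
      rw [← this]
      group
    · rintro hh y rfl
      conv_lhs => rw [← hh]
      group
  rw [hcent]
  unfold GDatum.aut
  rw [conj_graphAutU, graphAutU_eq_iff C hn h32]

theorem smul_val_eq_of_scalar_mul (y : Fˣ) (k h : GL (Fin n) F)
    (hy : GeneralLinearGroup.scalar (Fin n) y * k = h) : h.val = (y : F) • k.val := by
  rw [← hy, scalar_mul_val]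

/-- a unitary matrix centralising the automorphism of a datum comes from a real similitude -/
theorem GDatum.exists_of_mem_centralizer (hn : 3 ≤ n) (h32 : ¬ (n = 3 ∧ q = 2))
    (D : GDatum C S n) (g : GL (Fin n) F) (hg : g ∈ Cfsg.GU n F q)
    (hc : cU C ⟨g, GU_le_CU C.σ C.hσq hg⟩ ∈ Subgroup.centralizer {D.aut}) :
    ∃ (k₀ : GL (Fin n) F₀) (d₀ : F₀ˣ) (y : Fˣ),
      k₀.valᵀ * D.M.val * k₀.val = (d₀ : F₀) • D.M.val ∧ (y : F) * C.σ y = S.ι d₀ ∧
      (y : F) ^ n * g.val.det = S.ι k₀.val.det := by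
  rw [D.cU_mem_centralizer_iff hn h32] at hc
  obtain ⟨k₀, d₀, y, hk, hy⟩ := GDatum.descent (by omega) D D _ hc
  change GeneralLinearGroup.scalar (Fin n) y * (D.R⁻¹ * g * D.R) = S.gl k₀ at hy
  refine ⟨k₀, d₀, y, hk, ?_, ?_⟩
  · -- multiplier
    have hpsi : (D.psi k₀).val = (y : F) • g.val := by
      rw [D.psi_apply, ← hy, Units.val_mul, Units.val_mul, scalar_mul_val, Units.val_mul,
        Units.val_mul, Matrix.mul_smul, Matrix.smul_mul]
      congr 1
      calc D.R.val * (D.R⁻¹.val * g.val * D.R.val) * D.R⁻¹.val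
          = (D.R.val * D.R⁻¹.val) * g.val * (D.R.val * D.R⁻¹.val) := by
            simp only [Matrix.mul_assoc]
        _ = g.val := by rw [Units.mul_inv, Matrix.one_mul, Matrix.mul_one]
    have h1 := D.psi_mult k₀ d₀ hk
    rw [hpsi, Matrix.transpose_smul, map_sigma_smul, Matrix.smul_mul, Matrix.mul_smul, smul_smul,
      (mem_GU_iff C.σ C.hσq g).mp hg] at h1
    have h2 := congrFun (congrFun h1 ⟨0, by omega⟩) ⟨0, by omega⟩
    rw [Matrix.smul_apply, Matrix.smul_apply, Matrix.one_apply_eq, smul_eq_mul, smul_eq_mul,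
      mul_one, mul_one] at h2
    rw [← h2, mul_comm]
  · have h1 : (GeneralLinearGroup.scalar (Fin n) y * (D.R⁻¹ * g * D.R)).val.det
        = (S.gl k₀).val.det := by rw [hy]
    rw [scalar_mul_val, Matrix.det_smul, Fintype.card_fin, Units.val_mul, Units.val_mul,
      Matrix.det_mul, Matrix.det_mul, S.gl_val] at h1
    have h3 : (k₀.val.map S.ι).det = S.ι k₀.val.det := (RingHom.map_det S.ι k₀.val).symm
    rw [h3] at h1
    rw [← h1]
    have h2 : D.R⁻¹.val.det * D.R.val.det = 1 := by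
      rw [← Matrix.det_mul, Units.inv_mul, Matrix.det_one]
    linear_combination (-(y : F) ^ n * g.val.det) * h2

end

end Cfsg.Agent.Lib.Helper50
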