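import Cfsg.Agent.Lib.Helper50.PSUm
import Cfsg.Agent.Lib.Helper07.SplitClass
import Cfsg.Agent.Lib.Helper07.PSUCard

set_option autoImplicit false

/-! Splitting of the `Inndiag`-class of a graph-type automorphism of `PSU_n` into
`PSU`-classes: reduction to determinants. -/

namespace Cfsg.Agent.Lib.Helper50

open Matrix Cfsg.Agent.Lib.Helper07 Cfsg.Agent.Lib.Helper08 Cfsg.Agent.Lib.Helper19

section
variable {n : ℕ} {F : Type*} [Field F] [Fintype F] {q : ℕ} (C : UG.UC F q)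

theorem conjU_eq_cU (g : ↥(Cfsg.GU n F q)) :
    UG.conjU C g = cU C ⟨g.1, GU_le_CU C.σ C.hσq g.2⟩ :=
  (conjCU_eq_conjU C g.1 g.2).symm

theorem conjU_range_eq (hn : 3 ≤ n) (h32 : ¬ (n = 3 ∧ q = 2)) :
    (UG.conjU (n := n) C).range = Cfsg.inndiagPSU n F q := by
  rw [inndiagPSU_eq_range_cU C hn h32]
  apply le_antisymm
  · rintro _ ⟨g, rfl⟩
    exact ⟨_, (conjU_eq_cU C g).symm⟩
  · rintro _ ⟨x, rfl⟩
    obtain ⟨u, g, hg, hx⟩ := exists_scalar_mul_mem_GU C.hF (by omega) C.σ C.hσq x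
    refine ⟨⟨g, hg⟩, ?_⟩
    rw [conjU_eq_cU]
    exact (cU_eq_of_scalar_mul C hn h32 x ⟨g, GU_le_CU C.σ C.hσq hg⟩ u hx).symm

/-- the determinants of the unitary matrices inducing automorphisms that centralise `γ` -/
noncomputable def detCent (γ : MulAut (Cfsg.PSU n F q)) : Subgroup ↥(normOne F q) :=
  ((Subgroup.centralizer {γ}).comap (UG.conjU (n := n) C)).map (detGU C.hF n)

theorem mem_detCent_iff (γ : MulAut (Cfsg.PSU n F q)) (w : ↥(normOne F q)) :
    w ∈ detCent C γ ↔ ∃ g : ↥(Cfsg.GU n F q), UG.conjU C g ∈ Subgroup.centralizer {γ} ∧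
      detGU C.hF n g = w := Iff.rfl

theorem detGU_innU (s : UG.SUn n F q) : detGU C.hF n (UG.innU C s) = 1 := by
  apply Subtype.ext
  rw [detGU_val]
  apply Units.ext
  show (s.1 : Matrix (Fin n) (Fin n) F).det = 1
  exact s.1.2

theorem splitClassCount_eq_index_detCent (hn : 3 ≤ n) (h32 : ¬ (n = 3 ∧ q = 2))
    (γ : MulAut (Cfsg.PSU n F q)) :
    Cfsg.splitClassCount (Cfsg.inndiagPSU n F q) (Cfsg.Inn (Cfsg.PSU n F q)) γ
      = (detCent C γ).index := by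
  rw [← conjU_range_eq C hn h32, splitClassCount_eq_relIndex _ _ (UG.inn_le_conjU_range C)]
  set Cc : Subgroup (MulAut (Cfsg.PSU n F q)) :=
    (UG.conjU (n := n) C).range ⊓ Subgroup.centralizer {γ} with hCc
  set M : Subgroup (MulAut (Cfsg.PSU n F q)) := Cfsg.Inn (Cfsg.PSU n F q) ⊔ Cc with hM
  rw [← Subgroup.index_comap]
  set Mt : Subgroup ↥(Cfsg.GU n F q) := M.comap (UG.conjU (n := n) C) with hMt
  have hdet : Function.Surjective (detGU C.hF n) := detGU_surjective C.hF (by omega)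
  have hker : (detGU C.hF n).ker ≤ Mt := by
    intro g hg
    have hdet1 := det_eq_one_of_mem_ker C.hF g hg
    let s : UG.SUn n F q := ⟨⟨g.1.val, hdet1⟩, (Cfsg.Agent.Lib.Helper08.mem_SU_iff _).mpr g.2⟩
    have hgs : g = UG.innU C s := Subtype.ext (Units.ext rfl)
    show UG.conjU C g ∈ M
    rw [hgs, UG.conjU_innU]
    exact Subgroup.mem_sup_left ⟨_, rfl⟩
  rw [← Subgroup.index_map_eq Mt hdet hker]
  congr 1
  apply le_antisymm
  · rintro _ ⟨k, hk, rfl⟩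
    have hk' : UG.conjU C k ∈ M := hk
    rw [hM, ← SetLike.mem_coe, Subgroup.normal_mul, Set.mem_mul] at hk'
    obtain ⟨a, ⟨z, rfl⟩, b, ⟨-, hbc⟩, hab⟩ := hk'
    obtain ⟨s, rfl⟩ := UG.mkP_surjective z
    refine ⟨(UG.innU C s)⁻¹ * k, ?_, ?_⟩
    · show UG.conjU C ((UG.innU C s)⁻¹ * k) ∈ Subgroup.centralizer {γ}
      rw [map_mul, map_inv, UG.conjU_innU, ← hab]
      have : (MulAut.conj (UG.mkP s))⁻¹ * ((MulAut.conj (UG.mkP s)) * b) = b := by group
      rw [this]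
      exact hbc
    · rw [map_mul, map_inv, detGU_innU, inv_one, one_mul]
  · rintro _ ⟨h, hh, rfl⟩
    refine ⟨h, ?_, rfl⟩
    show UG.conjU C h ∈ M
    exact Subgroup.mem_sup_right ⟨⟨h, rfl⟩, hh⟩

end

end Cfsg.Agent.Lib.Helper50
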