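import Cfsg.Agent.Lib.Helper50.PSUn

set_option autoImplicit false

/-! The determinant group of the centraliser of the graph-type automorphism of a datum. -/

namespace Cfsg.Agent.Lib.Helper50

open Matrix Cfsg.Agent.Lib.Helper07 Cfsg.Agent.Lib.Helper08 Cfsg.Agent.Lib.Helper19

section
variable {n : ℕ} {F : Type*} [Field F] [Fintype F] {q : ℕ} {C : UG.UC F q}
variable {F₀ : Type*} [Field F₀] {S : RS C F₀}

/-- a real similitude and a scalar of the right norm give a centralising unitary matrix -/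
theorem GDatum.mem_centralizer_of (hn : 3 ≤ n) (h32 : ¬ (n = 3 ∧ q = 2)) (D : GDatum C S n)
    (k₀ : GL (Fin n) F₀) (d₀ : F₀ˣ) (y : Fˣ)
    (hk : k₀.valᵀ * D.M.val * k₀.val = (d₀ : F₀) • D.M.val) (hy : (y : F) * C.σ y = S.ι d₀) :
    ∃ g : ↥(Cfsg.GU n F q), UG.conjU C g ∈ Subgroup.centralizer {D.aut} ∧
      (y : F) ^ n * g.1.val.det = S.ι k₀.val.det := by
  obtain ⟨g₀, hg₀⟩ : ∃ g₀ : GL (Fin n) F, g₀ = GeneralLinearGroup.scalar (Fin n) y⁻¹ * D.psi k₀ :=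
    ⟨_, rfl⟩
  have hg₀v : g₀.val = (y : F)⁻¹ • (D.psi k₀).val := by
    rw [hg₀, scalar_mul_val, Units.val_inv_eq_inv_val]
  have hy0 : (y : F) ≠ 0 := y.ne_zero
  have hσy0 : C.σ (y : F) ≠ 0 := (map_ne_zero_iff _ C.σ.injective).mpr hy0
  have hmem : g₀ ∈ Cfsg.GU n F q := by
    rw [mem_GU_iff C.σ C.hσq, hg₀v, Matrix.transpose_smul, map_sigma_smul, Matrix.smul_mul,
      Matrix.mul_smul, smul_smul, D.psi_mult k₀ d₀ hk, smul_smul, map_inv₀, ← hy]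
    have : (y : F)⁻¹ * (C.σ (y : F))⁻¹ * ((y : F) * C.σ y) = 1 := by field_simp
    rw [this, one_smul]
  have hsim : k₀ ∈ Cfsg.Geo.similarityGroup (matBil D.M.val) := by
    rw [mem_similarityGroup_matBil_iff]
    exact ⟨d₀, hk⟩
  refine ⟨⟨g₀, hmem⟩, ?_, ?_⟩
  · rw [conjU_eq_cU]
    have h1 : cU C ⟨g₀, GU_le_CU C.σ C.hσq hmem⟩ = cU C ⟨D.psi k₀, D.psi_mem_CU k₀ hsim⟩ :=
      cU_eq_of_scalar_mul C hn h32 _ _ y⁻¹ hg₀
    rw [h1]
    have h2 : cU C ⟨D.psi k₀, D.psi_mem_CU k₀ hsim⟩ ∈ D.phi.range := ⟨⟨k₀, hsim⟩, rfl⟩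
    rw [D.phi_range hn h32] at h2
    exact h2.2
  · show (y : F) ^ n * g₀.val.det = _
    rw [hg₀v, Matrix.det_smul, Fintype.card_fin, D.det_psi, ← mul_assoc, ← mul_pow,
      mul_inv_cancel₀ hy0, one_pow, one_mul]

theorem coe_detGU (g : ↥(Cfsg.GU n F q)) :
    (((detGU C.hF n g : ↥(normOne F q)) : Fˣ) : F) = g.1.val.det := by
  rw [detGU_val]
  rfl

/-- the determinant group of the centraliser, in terms of real similitudes -/
theorem GDatum.mem_detCent_iff (hn : 3 ≤ n) (h32 : ¬ (n = 3 ∧ q = 2)) (D : GDatum C S n)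
    (w : ↥(normOne F q)) :
    w ∈ detCent C D.aut ↔ ∃ (k₀ : GL (Fin n) F₀) (d₀ : F₀ˣ) (y : Fˣ),
      k₀.valᵀ * D.M.val * k₀.val = (d₀ : F₀) • D.M.val ∧ (y : F) * C.σ y = S.ι d₀ ∧
      (y : F) ^ n * ((w : Fˣ) : F) = S.ι k₀.val.det := by
  rw [Cfsg.Agent.Lib.Helper50.mem_detCent_iff]
  constructor
  · rintro ⟨g, hg, rfl⟩
    rw [conjU_eq_cU] at hg
    obtain ⟨k₀, d₀, y, hk, hy, hdet⟩ := D.exists_of_mem_centralizer hn h32 g.1 g.2 hg
    exact ⟨k₀, d₀, y, hk, hy, by rw [coe_detGU (C := C)]; exact hdet⟩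
  · rintro ⟨k₀, d₀, y, hk, hy, hdet⟩
    obtain ⟨g, hg, hgdet⟩ := D.mem_centralizer_of hn h32 k₀ d₀ y hk hy
    refine ⟨g, hg, ?_⟩
    apply Subtype.ext
    apply Units.ext
    rw [coe_detGU (C := C)]
    have hy0 : (y : F) ^ n ≠ 0 := pow_ne_zero _ y.ne_zero
    apply mul_left_cancel₀ hy0
    rw [hgdet, hdet]

end

end Cfsg.Agent.Lib.Helper50
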