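import Cfsg.Agent.Lib.Helper50.PSUo
import Cfsg.Agent.Lib.Helper50.GraphSplit5

set_option autoImplicit false

/-! The determinant group of the centraliser of a graph-type automorphism of `PSU_n`:
the three cases. -/

namespace Cfsg.Agent.Lib.Helper50

open Matrix Cfsg.Agent.Lib.Helper07 Cfsg.Agent.Lib.Helper08 Cfsg.Agent.Lib.Helper19

section symp
variable {K : Type*} [Field K]

/-- the determinant of a similitude of the standard alternating form -/
theorem det_of_sim_Jmat (m : ℕ) (h : GL (Fin (2 * m)) K) (c : Kˣ)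
    (hc : h.valᵀ * Jmat m K * h.val = (c : K) • Jmat m K) : h.val.det = (c : K) ^ m := by
  set h' : Matrix (Fin m ⊕ Fin m) (Fin m ⊕ Fin m) K :=
    h.val.submatrix (idxE m).symm (idxE m).symm with hh'
  have hdet' : h'.det = h.val.det := Matrix.det_submatrix_equiv_self _ _
  have h1 : h'ᵀ * Matrix.J (Fin m) K * h' = (c : K) • Matrix.J (Fin m) K := by
    have := congrArg (fun X => X.submatrix (idxE m).symm (idxE m).symm) hc
    rw [← Matrix.submatrix_mul_equiv _ _ _ (idxE m).symm, ← Matrix.submatrix_mul_equiv _ _ _ (idxE m).symm,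
      Jmat_submatrix] at this
    have h5 : ((c : K) • Jmat m K).submatrix (idxE m).symm (idxE m).symm
        = (c : K) • Matrix.J (Fin m) K := by
      rw [← Jmat_submatrix (F := K) m]
      rfl
    rw [h5] at this
    exact this
  set Y : Matrix (Fin m ⊕ Fin m) (Fin m ⊕ Fin m) K := h' * dMat m ((c : K)⁻¹) with hY
  have hYJ : Yᵀ * Matrix.J (Fin m) K * Y = Matrix.J (Fin m) K := by
    rw [hY, Matrix.transpose_mul, dMat_transpose]
    calc dMat m ((c : K)⁻¹) * h'ᵀ * Matrix.J (Fin m) K * (h' * dMat m ((c : K)⁻¹))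
        = dMat m ((c : K)⁻¹) * (h'ᵀ * Matrix.J (Fin m) K * h') * dMat m ((c : K)⁻¹) := by
          simp only [Matrix.mul_assoc]
      _ = _ := by
          rw [h1, Matrix.mul_smul, Matrix.smul_mul, dMat_J, smul_smul,
            mul_inv_cancel₀ c.ne_zero, one_smul]
  have hmem : Yᵀ ∈ Matrix.symplecticGroup (Fin m) K := by
    rw [SymplecticGroup.mem_iff, Matrix.transpose_transpose]
    exact hYJ
  have hdetY := Cfsg.Agent.Lib.Helper49.det_eq_one_of_mem_symplecticGroup ⟨Yᵀ, hmem⟩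
  simp only at hdetY
  rw [Matrix.det_transpose, hY, Matrix.det_mul, det_dMat, hdet', inv_pow] at hdetY
  have hc0 : (c : K) ^ m ≠ 0 := pow_ne_zero _ c.ne_zero
  field_simp at hdetY
  exact hdetY

/-- a similitude of the standard alternating form with prescribed multiplier -/
theorem exists_sim_Jmat (m : ℕ) (u : Kˣ) :
    ∃ h : GL (Fin (2 * m)) K, h.valᵀ * Jmat m K * h.val = (u : K) • Jmat m K ∧
      h.val.det = (u : K) ^ m := by
  have hdet : ((dMat m (u : K)).submatrix (idxE m) (idxE m)).det ≠ 0 := by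
    rw [Matrix.det_submatrix_equiv_self, det_dMat]
    exact pow_ne_zero _ u.ne_zero
  refine ⟨Matrix.GeneralLinearGroup.mkOfDetNeZero _ hdet, ?_, ?_⟩
  · show ((dMat m (u : K)).submatrix (idxE m) (idxE m))ᵀ * Jmat m K *
      (dMat m (u : K)).submatrix (idxE m) (idxE m) = (u : K) • Jmat m K
    unfold Jmat
    rw [Matrix.transpose_submatrix, dMat_transpose, Matrix.submatrix_mul_equiv,
      Matrix.submatrix_mul_equiv, dMat_J]
    rfl
  · show ((dMat m (u : K)).submatrix (idxE m) (idxE m)).det = (u : K) ^ m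
    rw [Matrix.det_submatrix_equiv_self, det_dMat]

end symp

section
variable {n : ℕ} {F : Type*} [Field F] [Fintype F] {q : ℕ} {C : UG.UC F q}
variable {F₀ : Type*} [Field F₀] {S : RS C F₀}


/-- elements of norm one -/
theorem exists_normOne_of (C : UG.UC F q) (v : F) (hv : v * C.σ v = 1) :
    ∃ a : (normOne F q), ((a : Fˣ) : F) = v := by
  have hv0 : v ≠ 0 := by
    rintro rfl
    rw [zero_mul] at hv
    exact zero_ne_one hv
  refine ⟨⟨Units.mk0 v hv0, ?_⟩, rfl⟩
  rw [mem_normOne]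
  apply Units.ext
  rw [Units.val_pow_eq_pow_val, Units.val_mk0, Units.val_one, pow_succ', ← C.hσq]
  exact hv

theorem normOne_mul_sigma (C : UG.UC F q) (a : (normOne F q)) : ((a : Fˣ) : F) * C.σ ((a : Fˣ) : F) = 1 := by
  have h := a.2
  rw [mem_normOne] at h
  have h1 := congrArg Units.val h
  rw [Units.val_pow_eq_pow_val, Units.val_one, pow_succ'] at h1
  rw [C.hσq]
  exact h1

theorem normOne_ext {a b : (normOne F q)} (h : ((a : Fˣ) : F) = ((b : Fˣ) : F)) : a = b :=
  Subtype.ext (Units.ext h)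

theorem coe_pow_normOne (a : (normOne F q)) (k : ℕ) : (((a ^ k : (normOne F q)) : Fˣ) : F) = ((a : Fˣ) : F) ^ k := by
  rw [Subgroup.coe_pow, Units.val_pow_eq_pow_val]

theorem sigma_iota_ne_zero (x : F₀) (hx : x ≠ 0) : S.ι x ≠ 0 := (map_ne_zero_iff _ S.inj).mpr hx

/-- for odd `n` the determinants are `n`-th powers -/
theorem GDatum.detCent_le_of_odd [Fintype F₀] (hn : 3 ≤ n) (h32 : ¬ (n = 3 ∧ q = 2)) (D : GDatum C S n)
    (hodd : Odd n) : detCent C D.aut ≤ (powMonoidHom n : (normOne F q) →* (normOne F q)).range := by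
  intro w hw
  rw [D.mem_detCent_iff hn h32] at hw
  obtain ⟨k₀, d₀, y, hk, hy, hdet⟩ := hw
  have h1 := det_sq_of_sim D.M.val (det_gl_ne_zero D.M) k₀ d₀ hk
  have h1' : k₀.val.det ^ 2 = (d₀ : F₀) ^ n := by
    have := congrArg Units.val h1
    rw [Units.val_pow_eq_pow_val, Units.val_pow_eq_pow_val] at this
    exact this
  obtain ⟨r, hr⟩ := hodd
  have hd0 : (d₀ : F₀) ≠ 0 := d₀.ne_zero
  have hy0 : (y : F) ≠ 0 := y.ne_zero
  obtain ⟨e, he⟩ : ∃ e : F₀, e = k₀.val.det / (d₀ : F₀) ^ r := ⟨_, rfl⟩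
  have he2 : e * e = d₀ := by
    rw [he, div_mul_div_comm, ← pow_two, h1', hr, ← pow_add]
    have : (d₀ : F₀) ^ (2 * r + 1) = (d₀ : F₀) ^ (r + r) * d₀ := by
      rw [← pow_succ]
      congr 1
      omega
    rw [this, mul_div_assoc, mul_comm, div_mul_cancel₀]
    exact pow_ne_zero _ hd0
  have hen : e ^ n = k₀.val.det := by
    have h3 : e ^ n = e * (e * e) ^ r := by
      rw [hr, ← pow_two, ← pow_mul, ← pow_succ']
    rw [h3, he2, he, div_mul_cancel₀]
    exact pow_ne_zero _ hd0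
  obtain ⟨v, hv⟩ := exists_normOne_of C (S.ι e / (y : F)) (by
    rw [map_div₀, S.fix, div_mul_div_comm, hy, ← _root_.map_mul, he2]
    exact div_self (sigma_iota_ne_zero (S := S) _ hd0))
  refine ⟨v, ?_⟩
  apply normOne_ext
  show (((v ^ n : (normOne F q)) : Fˣ) : F) = _
  rw [coe_pow_normOne, hv, div_pow, ← map_pow, hen, ← hdet]
  field_simp

/-- in characteristic two the determinants are `n`-th powers -/
theorem GDatum.detCent_le_of_char_two [Fintype F₀] (hn : 3 ≤ n) (h32 : ¬ (n = 3 ∧ q = 2)) (D : GDatum C S n)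
    [CharP F₀ 2] (hq2 : Even q) (heven : Even n) :
    detCent C D.aut ≤ (powMonoidHom n : (normOne F q) →* (normOne F q)).range := by
  intro w hw
  rw [D.mem_detCent_iff hn h32] at hw
  obtain ⟨k₀, d₀, y, hk, hy, hdet⟩ := hw
  have h1 := det_sq_of_sim D.M.val (det_gl_ne_zero D.M) k₀ d₀ hk
  have h1' : k₀.val.det ^ 2 = (d₀ : F₀) ^ n := by
    have := congrArg Units.val h1
    rw [Units.val_pow_eq_pow_val, Units.val_pow_eq_pow_val] at this
    exact this
  obtain ⟨m, hm⟩ := heven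
  have hm2 : n = 2 * m := by omega
  have hy0 : (y : F) ≠ 0 := y.ne_zero
  have hσy0 : C.σ (y : F) ≠ 0 := (map_ne_zero_iff _ C.σ.injective).mpr hy0
  have hdetk : k₀.val.det = (d₀ : F₀) ^ m := by
    apply sq_eq_sq_char_two
    rw [← pow_two, h1', hm2, ← pow_two, ← pow_mul, mul_comm]
  obtain ⟨v, hv⟩ := exists_normOne_of C (C.σ (y : F) / (y : F)) (by
    rw [map_div₀, C.hσ]
    field_simp)
  obtain ⟨a, ha⟩ := hq2
  refine ⟨v ^ (a + 1), ?_⟩
  apply normOne_ext
  show ((((v ^ (a + 1)) ^ n : (normOne F q)) : Fˣ) : F) = _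
  have hvq : v ^ (q + 1) = 1 := by
    have := v.2
    rw [mem_normOne] at this
    exact Subtype.ext this
  have h3 : (v ^ (a + 1)) ^ n = v ^ m := by
    rw [← pow_mul, hm2]
    have : (a + 1) * (2 * m) = (q + 1) * m + m := by rw [ha]; ring
    rw [this, pow_add, pow_mul, hvq, one_pow, one_mul]
  rw [h3, coe_pow_normOne, hv]
  have h4 : (y : F) ^ n * ((w : Fˣ) : F) = ((y : F) * C.σ y) ^ m := by
    rw [hdet, hdetk, map_pow, hy]
  have hyn : (y : F) ^ n ≠ 0 := pow_ne_zero _ hy0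
  apply mul_left_cancel₀ hyn
  rw [h4, hm2, div_pow, mul_pow, pow_mul]
  field_simp
  ring

end

end Cfsg.Agent.Lib.Helper50
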