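import Cfsg.Agent.Lib.Helper50.PSUp

set_option autoImplicit false

/-! The determinant group of the centraliser: the alternating and symmetric cases;
index computations in the norm-one group. -/

namespace Cfsg.Agent.Lib.Helper50

open Matrix Cfsg.Agent.Lib.Helper07 Cfsg.Agent.Lib.Helper08 Cfsg.Agent.Lib.Helper19

section
variable {F : Type*} [Field F] [Fintype F] {q : ℕ} {C : UG.UC F q}
variable {F₀ : Type*} [Field F₀] [Fintype F₀] {S : RS C F₀}

/-- every norm-one element is of the form `σ y / y` -/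
theorem exists_sigma_div (C : UG.UC F q) (v : normOne F q) :
    ∃ y : Fˣ, ((v : Fˣ) : F) = C.σ (y : F) / (y : F) := by
  obtain ⟨y, hy0, hy⟩ := h90_scalar C.σ (UC_orderOf_sigma C) two_pos ((v : Fˣ) : F)
    (by rw [nrmF_two]; exact normOne_mul_sigma C v)
  have hσy0 : C.σ y ≠ 0 := (map_ne_zero_iff _ C.σ.injective).mpr hy0
  refine ⟨Units.mk0 (C.σ y) hσy0, ?_⟩
  rw [Units.val_mk0, C.hσ, eq_div_iff hσy0]
  exact hy

/-- the real number `y σ(y)` -/
theorem exists_real_norm (S : RS C F₀) (y : Fˣ) :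
    ∃ d₀ : F₀ˣ, (y : F) * C.σ y = S.ι d₀ := by
  obtain ⟨d, hd⟩ := S.surj ((y : F) * C.σ y) (by rw [_root_.map_mul, C.hσ, mul_comm])
  have hd0 : d ≠ 0 := by
    rintro rfl
    rw [map_zero] at hd
    have hσy0 : C.σ (y : F) ≠ 0 := (map_ne_zero_iff _ C.σ.injective).mpr y.ne_zero
    exact mul_ne_zero y.ne_zero hσy0 hd.symm
  exact ⟨Units.mk0 d hd0, hd.symm⟩

/-- the key identity `y^(2m) (σy/y)^m = (y σy)^m` -/
theorem pow_sigma_div_identity (y : Fˣ) (m : ℕ) :
    (y : F) ^ (2 * m) * (C.σ (y : F) / (y : F)) ^ m = ((y : F) * C.σ y) ^ m := by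
  have hy0 : (y : F) ≠ 0 := y.ne_zero
  rw [div_pow, mul_pow, pow_mul]
  field_simp
  ring

theorem GDatum.detCent_of_Jmat {m : ℕ} (hn : 3 ≤ 2 * m) (h32 : ¬ (2 * m = 3 ∧ q = 2))
    (D : GDatum C S (2 * m)) (hM : D.M.val = Jmat m F₀) :
    detCent C D.aut = (powMonoidHom m : (normOne F q) →* (normOne F q)).range := by
  apply le_antisymm
  · intro w hw
    rw [D.mem_detCent_iff hn h32] at hw
    obtain ⟨k₀, d₀, y, hk, hy, hdet⟩ := hw
    rw [hM] at hk
    have hdetk := det_of_sim_Jmat m k₀ d₀ hk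
    obtain ⟨v, hv⟩ := exists_normOne_of C (C.σ (y : F) / (y : F)) (by
      have hy0 : (y : F) ≠ 0 := y.ne_zero
      have hσy0 : C.σ (y : F) ≠ 0 := (map_ne_zero_iff _ C.σ.injective).mpr hy0
      rw [map_div₀, C.hσ]
      field_simp)
    refine ⟨v, ?_⟩
    apply normOne_ext
    show (((v ^ m : (normOne F q)) : Fˣ) : F) = _
    rw [coe_pow_normOne, hv]
    have hyn : (y : F) ^ (2 * m) ≠ 0 := pow_ne_zero _ y.ne_zero
    apply mul_left_cancel₀ hyn
    rw [pow_sigma_div_identity, hdet, hdetk, map_pow, hy]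
  · rintro _ ⟨v, rfl⟩
    rw [D.mem_detCent_iff hn h32]
    obtain ⟨y, hy⟩ := exists_sigma_div C v
    obtain ⟨d₀, hd₀⟩ := exists_real_norm S y
    obtain ⟨k₀, hk, hdetk⟩ := exists_sim_Jmat (K := F₀) m d₀
    refine ⟨k₀, d₀, y, by rw [hM]; exact hk, hd₀, ?_⟩
    show (y : F) ^ (2 * m) * (((v ^ m : (normOne F q)) : Fˣ) : F) = _
    rw [coe_pow_normOne, hy, pow_sigma_div_identity, hdetk, map_pow, hd₀]

/-- the element `-1` of the norm-one group -/
noncomputable def negOneN (C : UG.UC F q) : normOne F q :=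
  Classical.choose (exists_normOne_of C (-1) (by rw [map_neg, _root_.map_one]; ring))

theorem negOneN_coe (C : UG.UC F q) : (((negOneN C : normOne F q) : Fˣ) : F) = -1 :=
  Classical.choose_spec (exists_normOne_of C (-1) (by rw [map_neg, _root_.map_one]; ring))

theorem negOneN_mul_self (C : UG.UC F q) : negOneN C * negOneN C = 1 := by
  apply normOne_ext
  rw [Subgroup.coe_mul, Units.val_mul, negOneN_coe]
  simp

theorem GDatum.detCent_of_symm {m : ℕ} (hn : 3 ≤ 2 * m) (h32 : ¬ (2 * m = 3 ∧ q = 2))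
    (h2 : (2 : F₀) ≠ 0) (D : GDatum C S (2 * m)) (hM : D.M.valᵀ = D.M.val) :
    detCent C D.aut = Subgroup.zpowers (negOneN C) ⊔
      (powMonoidHom m : (normOne F q) →* (normOne F q)).range := by
  have hneg : negOneN C ∈ detCent C D.aut := by
    rw [D.mem_detCent_iff hn h32]
    obtain ⟨h, hh, hdeth⟩ := exists_sim_det_neg_one h2 (by omega : 1 ≤ 2 * m) D.M hM
    refine ⟨h, 1, 1, by rw [Units.val_one, one_smul]; exact hh, ?_, ?_⟩
    · rw [Units.val_one, Units.val_one, _root_.map_one, _root_.map_one, one_mul]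
    · rw [Units.val_one, one_pow, one_mul, negOneN_coe, hdeth, map_neg, _root_.map_one]
  apply le_antisymm
  · intro w hw
    rw [D.mem_detCent_iff hn h32] at hw
    obtain ⟨k₀, d₀, y, hk, hy, hdet⟩ := hw
    have h1 := det_sq_of_sim D.M.val (det_gl_ne_zero D.M) k₀ d₀ hk
    have h1' : k₀.val.det ^ 2 = ((d₀ : F₀) ^ m) ^ 2 := by
      have := congrArg Units.val h1
      rw [Units.val_pow_eq_pow_val, Units.val_pow_eq_pow_val] at this
      have h1'' : k₀.val.det ^ 2 = (d₀ : F₀) ^ (2 * m) := this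
      rw [h1'', ← pow_mul, mul_comm]
    obtain ⟨v, hv⟩ := exists_normOne_of C (C.σ (y : F) / (y : F)) (by
      have hy0 : (y : F) ≠ 0 := y.ne_zero
      have hσy0 : C.σ (y : F) ≠ 0 := (map_ne_zero_iff _ C.σ.injective).mpr hy0
      rw [map_div₀, C.hσ]
      field_simp)
    have hyn : (y : F) ^ (2 * m) ≠ 0 := pow_ne_zero _ y.ne_zero
    rcases sq_eq_sq_iff_eq_or_eq_neg.mp h1' with hd | hd
    · apply Subgroup.mem_sup_right
      refine ⟨v, ?_⟩
      apply normOne_ext
      show (((v ^ m : (normOne F q)) : Fˣ) : F) = _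
      rw [coe_pow_normOne, hv]
      apply mul_left_cancel₀ hyn
      rw [pow_sigma_div_identity, hdet, hd, map_pow, hy]
    · have hw : w = negOneN C * v ^ m := by
        apply normOne_ext
        rw [Subgroup.coe_mul, Units.val_mul, negOneN_coe, coe_pow_normOne, hv]
        apply mul_left_cancel₀ hyn
        rw [hdet, hd, map_neg, map_pow, ← hy]
        have := pow_sigma_div_identity (C := C) y m
        linear_combination this
      rw [hw]
      exact Subgroup.mul_mem _ (Subgroup.mem_sup_left (Subgroup.mem_zpowers _))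
        (Subgroup.mem_sup_right ⟨v, rfl⟩)
  · rw [sup_le_iff]
    constructor
    · rw [Subgroup.zpowers_le]
      exact hneg
    · rintro _ ⟨v, rfl⟩
      obtain ⟨y, hy⟩ := exists_sigma_div C v
      obtain ⟨d₀, hd₀⟩ := exists_real_norm S y
      obtain ⟨k₀, hk⟩ := exists_sim_mult h2 D.M hM d₀
      have h1 := det_sq_of_sim D.M.val (det_gl_ne_zero D.M) k₀ d₀ hk
      have h1' : k₀.val.det ^ 2 = ((d₀ : F₀) ^ m) ^ 2 := by
        have := congrArg Units.val h1
        rw [Units.val_pow_eq_pow_val, Units.val_pow_eq_pow_val] at this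
        have h1'' : k₀.val.det ^ 2 = (d₀ : F₀) ^ (2 * m) := this
        rw [h1'', ← pow_mul, mul_comm]
      rcases sq_eq_sq_iff_eq_or_eq_neg.mp h1' with hd | hd
      · rw [D.mem_detCent_iff hn h32]
        refine ⟨k₀, d₀, y, hk, hd₀, ?_⟩
        show (y : F) ^ (2 * m) * (((v ^ m : (normOne F q)) : Fˣ) : F) = _
        rw [coe_pow_normOne, hy, pow_sigma_div_identity, hd, map_pow, hd₀]
      · have hmem : negOneN C * v ^ m ∈ detCent C D.aut := by
          rw [D.mem_detCent_iff hn h32]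
          refine ⟨k₀, d₀, y, hk, hd₀, ?_⟩
          rw [Subgroup.coe_mul, Units.val_mul, negOneN_coe, coe_pow_normOne, hy, hd, map_neg,
            map_pow, ← hd₀]
          have := pow_sigma_div_identity (C := C) y m
          linear_combination -this
        have := Subgroup.mul_mem _ hneg hmem
        rw [← mul_assoc, negOneN_mul_self, one_mul] at this
        exact this

end

end Cfsg.Agent.Lib.Helper50
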