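import Cfsg.Agent.Lib.Helper50.PSUq

set_option autoImplicit false

/-! Splitting of the classes of involutory graph-type automorphisms of `PSU_n(q)`. -/

namespace Cfsg.Agent.Lib.Helper50

open Matrix Cfsg.Agent.Lib.Helper07 Cfsg.Agent.Lib.Helper08 Cfsg.Agent.Lib.Helper19

section index
variable {F : Type*} [Field F] [Fintype F] {q : ℕ} (C : UG.UC F q)

theorem index_pow_range_normOne (hF : Fintype.card F = q ^ 2) (k : ℕ) :
    (powMonoidHom k : (normOne F q) →* (normOne F q)).range.index = Nat.gcd k (q + 1) := by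
  rw [IsCyclic.index_powMonoidHom_range, card_normOne hF, Nat.gcd_comm]

theorem index_zpowers_negOneN (hodd : Odd q) :
    (Subgroup.zpowers (negOneN C)).index = (q + 1) / 2 := by
  have h2 : (2 : F) ≠ 0 := two_ne_zero_of_odd_card C.hF hodd.pow
  have hne : negOneN C ≠ 1 := by
    intro h
    have h1 := negOneN_coe C
    rw [h] at h1
    have h3 : ((1 : Fˣ) : F) = -1 := h1
    rw [Units.val_one] at h3
    apply h2
    linear_combination h3
  have hord : orderOf (negOneN C) = 2 := by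
    have : Fact (Nat.Prime 2) := ⟨Nat.prime_two⟩
    apply orderOf_eq_prime
    · rw [pow_two]
      exact negOneN_mul_self C
    · exact hne
  have hcard : Nat.card (Subgroup.zpowers (negOneN C)) = 2 := by
    rw [Nat.card_zpowers, hord]
  have := Subgroup.card_mul_index (Subgroup.zpowers (negOneN C))
  rw [hcard, card_normOne C.hF] at this
  omega

theorem index_sup_symm_normOne (hodd : Odd q) (m : ℕ) :
    (Subgroup.zpowers (negOneN C) ⊔
      (powMonoidHom m : (normOne F q) →* (normOne F q)).range).index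
      = Nat.gcd (2 * m) (q + 1) / 2 := by
  rw [sup_comm, index_range_pow_sup, index_zpowers_negOneN C hodd]
  obtain ⟨a, ha⟩ := hodd
  have h1 : q + 1 = 2 * (a + 1) := by omega
  rw [h1, Nat.mul_div_cancel_left _ (by norm_num : 0 < 2), Nat.gcd_mul_left,
    Nat.mul_div_cancel_left _ (by norm_num : 0 < 2)]

end index

section main
variable {n : ℕ} {F : Type*} [Field F] [Fintype F] {q : ℕ}

theorem pow_range_le_detCent {C : UG.UC F q} {F₀ : Type*} [Field F₀] {S : RS C F₀}
    (hn : 3 ≤ n) (h32 : ¬ (n = 3 ∧ q = 2)) (D : GDatum C S n) :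
    (powMonoidHom n : (normOne F q) →* (normOne F q)).range ≤ detCent C D.aut := by
  rintro _ ⟨u, rfl⟩
  rw [D.mem_detCent_iff hn h32]
  have hu := normOne_mul_sigma C u
  have hu0 : ((u : Fˣ) : F) ≠ 0 := (u : Fˣ).ne_zero
  refine ⟨1, 1, (u : Fˣ)⁻¹, ?_, ?_, ?_⟩
  · rw [Units.val_one, Matrix.transpose_one, Matrix.one_mul, Matrix.mul_one, Units.val_one,
      one_smul]
  · rw [Units.val_inv_eq_inv_val, Units.val_one, _root_.map_one, map_inv₀, ← mul_inv, hu, inv_one]
  · show ((↑(u : Fˣ)⁻¹ : Fˣ) : F) ^ n * (((u ^ n : (normOne F q)) : Fˣ) : F) = _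
    rw [coe_pow_normOne, Units.val_inv_eq_inv_val, Units.val_one, Matrix.det_one, _root_.map_one,
      ← mul_pow, inv_mul_cancel₀ hu0, one_pow]

theorem psu_graph_split_main {p f : ℕ} [Fact p.Prime] (hq : q = p ^ f) (hf : 1 ≤ f)
    (hF : Fintype.card F = q ^ 2) (hn : 3 ≤ n) (hs : ¬ (n = 3 ∧ q = 2))
    (F₀ : Type*) [Field F₀] [Fintype F₀] (hF₀ : Fintype.card F₀ = q)
    (γ : MulAut (Cfsg.PSU n F q)) (hγ : Cfsg.IsGraphAutClassPSU γ) (hγ2 : orderOf γ = 2) :
    ((Even n ∧ Odd q ∧ Nonempty (↥(Cfsg.inndiagPSU n F q ⊓ Subgroup.centralizer {γ}) ≃*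
        Cfsg.PGSp (n / 2) F₀)) →
      Cfsg.splitClassCount (Cfsg.inndiagPSU n F q) (Cfsg.Inn (Cfsg.PSU n F q)) γ
        = Nat.gcd (n / 2) (q + 1)) ∧
    ((Even n ∧ Odd q ∧ ¬ Nonempty (↥(Cfsg.inndiagPSU n F q ⊓ Subgroup.centralizer {γ}) ≃*
        Cfsg.PGSp (n / 2) F₀)) →
      Cfsg.splitClassCount (Cfsg.inndiagPSU n F q) (Cfsg.Inn (Cfsg.PSU n F q)) γ
        = Nat.gcd n (q + 1) / 2) ∧
    (¬ (Even n ∧ Odd q) →
      Cfsg.splitClassCount (Cfsg.inndiagPSU n F q) (Cfsg.Inn (Cfsg.PSU n F q)) γ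
        = Nat.gcd n (q + 1)) := by
  obtain ⟨C, ⟨S⟩⟩ := exists_context hF hF₀
  have hF₀' : Fintype.card F₀ = p ^ f := by rw [hF₀, hq]
  have hchar : CharP F₀ p := charP_of_card_eq_prime_pow hF₀'
  obtain ⟨D, rfl⟩ := exists_datum_of_aut (C := C) (S := S) hn hs γ hγ hγ2
  have hcount := splitClassCount_eq_index_detCent C hn hs D.aut
  have hKH : Cfsg.Inn (Cfsg.PSU n F q) ≤ Cfsg.inndiagPSU n F q := by
    rw [← conjU_range_eq C hn hs]
    exact UG.inn_le_conjU_range C
  have hnormal : (Cfsg.inndiagPSU n F q).Normal := by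
    rw [← conjU_range_eq C hn hs]
    exact UG.conjU_range_normal C hn hs
  -- the even, odd characteristic case
  have key : Even n → Odd q →
      (Nonempty (↥(Cfsg.inndiagPSU n F q ⊓ Subgroup.centralizer {D.aut}) ≃*
          Cfsg.PGSp (n / 2) F₀) ∧
        Cfsg.splitClassCount (Cfsg.inndiagPSU n F q) (Cfsg.Inn (Cfsg.PSU n F q)) D.aut
            = Nat.gcd (n / 2) (q + 1)) ∨
      (¬ Nonempty (↥(Cfsg.inndiagPSU n F q ⊓ Subgroup.centralizer {D.aut}) ≃*
          Cfsg.PGSp (n / 2) F₀) ∧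
        Cfsg.splitClassCount (Cfsg.inndiagPSU n F q) (Cfsg.Inn (Cfsg.PSU n F q)) D.aut
            = Nat.gcd n (q + 1) / 2) := by
    intro hev hodd
    obtain ⟨m, hm⟩ : ∃ m, n = 2 * m := by
      obtain ⟨r, hr⟩ := hev
      exact ⟨r, by omega⟩
    subst hm
    have hm2 : 2 ≤ m := by omega
    have hdiv : 2 * m / 2 = m := Nat.mul_div_cancel_left m (by norm_num)
    rw [hdiv]
    have hqodd : Odd (Fintype.card F₀) := by
      rw [hF₀]
      exact hodd
    have h2 : (2 : F₀) ≠ 0 := two_ne_zero_of_odd_card rfl hqodd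
    rcases D.hε with h1 | h1
    · -- symmetric
      right
      have hg : D.M.valᵀ = D.M.val := by rw [D.hM, h1, one_smul]
      constructor
      · rintro ⟨e⟩
        obtain ⟨e'⟩ := D.nonempty_centralizer_equiv hn hs
        have hQ := quadSimilarityGroup_matQuad h2 D.M.val hg
        have e'' : Nonempty (↥(Cfsg.inndiagPSU (2 * m) F q ⊓ Subgroup.centralizer {D.aut}) ≃*
            Cfsg.PGO F₀ (matQuad D.M.val)) := by
          unfold Cfsg.PGO
          rw [hQ]
          exact ⟨e'⟩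
        obtain ⟨e₃⟩ := e''
        exact not_pgo_equiv_pgsp h2 (by omega) D.M hg ⟨e₃.symm.trans e⟩
      · rw [hcount, D.detCent_of_symm hn hs h2 hg, index_sup_symm_normOne C hodd]
    · -- skew
      left
      have hg : D.M.valᵀ = - D.M.val := by rw [D.hM, h1, neg_smul, one_smul]
      obtain ⟨DJ, hDJ, -⟩ := exists_datum_of_mat (C := C) (S := S) (JGL m F₀) (-1) (Or.inr rfl)
        (by rw [JGL_val, Jmat_transpose, neg_smul, one_smul])
      have hconj_psl := isConj_J_of_skew p h2 hm2 D.M hg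
      rw [← hDJ] at hconj_psl
      have hconj : Cfsg.IsConjUnder (Cfsg.inndiagPSU (2 * m) F q) DJ.aut D.aut :=
        (GDatum.isConj_iff_psl hn hs p DJ D).mpr hconj_psl
      have hDJM : DJ.M.val = Jmat m F₀ := by rw [hDJ, JGL_val]
      constructor
      · obtain ⟨e⟩ := nonempty_centralizer_equiv_of_isConjUnder _ hconj
        obtain ⟨e'⟩ := DJ.nonempty_centralizer_equiv hn hs
        rw [hDJM] at e'
        obtain ⟨e''⟩ := nonempty_projQuot_Jmat (F := F₀) m
        exact ⟨e.symm.trans (e'.trans e'')⟩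
      · obtain ⟨h, hh, heq⟩ := hconj
        rw [heq, splitClassCount_conj _ _ hKH h, splitClassCount_eq_index_detCent C hn hs,
          DJ.detCent_of_Jmat hn hs hDJM, index_pow_range_normOne C.hF]
  refine ⟨?_, ?_, ?_⟩
  · rintro ⟨hev, hodd, hne⟩
    rcases key hev hodd with ⟨-, h⟩ | ⟨h, -⟩
    · exact h
    · exact absurd hne h
  · rintro ⟨hev, hodd, hne⟩
    rcases key hev hodd with ⟨h, -⟩ | ⟨-, h⟩
    · exact absurd h hne
    · exact h
  · intro hcase
    rw [hcount]
    have hle : detCent C D.aut ≤ (powMonoidHom n : (normOne F q) →* (normOne F q)).range := by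
      by_cases hev : Even n
      · have hq2 : Even q := by
          have hnodd : ¬ Odd q := fun h => hcase ⟨hev, h⟩
          rwa [Nat.not_odd_iff_even] at hnodd
        have hp2 : p = 2 := by
          rw [hq] at hq2
          have : Even p := (Nat.even_pow.mp hq2).1
          exact (Nat.Prime.even_iff (Fact.out)).mp this
        subst hp2
        exact D.detCent_le_of_char_two hn hs hq2 hev
      · rw [Nat.not_even_iff_odd] at hev
        exact D.detCent_le_of_odd hn hs hev
    rw [le_antisymm hle (pow_range_le_detCent hn hs D), index_pow_range_normOne C.hF]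

end main

end Cfsg.Agent.Lib.Helper50
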