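import Cfsg.Agent.Lib.Helper50.TensorAct2
import Cfsg.Agent.Lib.Helper50.TensorNonMax
import Cfsg.Agent.Lib.Helper50.SiegelOmega

set_option autoImplicit false

/-! Auxiliary facts for the tensor decomposition `Sp_2(2) ⊗ Sp_{n₂}(2)`: the field with two
elements, the group of elements centralising or inverting an element of order three, and
the invertible `2 × 2` matrices over the field with two elements. -/

namespace Cfsg.Agent.Lib.Helper50

open Matrix

section field2

variable {F : Type*} [Field F] [Fintype F]

theorem zero_or_one_of_card_two (hq : Fintype.card F = 2) (x : F) : x = 0 ∨ x = 1 := by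
  classical
  by_contra h
  push Not at h
  have h3 : ({0, 1, x} : Finset F).card = 3 := by
    rw [Finset.card_insert_of_notMem, Finset.card_insert_of_notMem, Finset.card_singleton]
    · simp only [Finset.mem_singleton]
      exact fun h' => h.2 h'.symm
    · simp only [Finset.mem_insert, Finset.mem_singleton, not_or]
      exact ⟨zero_ne_one, fun h' => h.1 h'.symm⟩
  have := Finset.card_le_univ ({0, 1, x} : Finset F)
  omega

theorem one_add_one_of_card_two (hq : Fintype.card F = 2) : (1 : F) + 1 = 0 := by
  rcases zero_or_one_of_card_two hq ((1 : F) + 1) with h | h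
  · exact h
  · exfalso
    have : (1 : F) = 0 := by linear_combination h
    exact one_ne_zero this

end field2

section grp

variable {G : Type*} [Group G]

/-- the elements centralising or inverting an element of order three -/
def invNorm (w : G) (hw : w * w * w = 1) : Subgroup G where
  carrier := {g | g * w = w * g ∨ g * w = w * w * g}
  one_mem' := Or.inl (by simp)
  mul_mem' := by
    rintro g1 g2 (h1 | h1) (h2 | h2)
    · left
      calc g1 * g2 * w = g1 * (g2 * w) := mul_assoc _ _ _
        _ = g1 * (w * g2) := by rw [h2]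
        _ = (g1 * w) * g2 := (mul_assoc _ _ _).symm
        _ = w * g1 * g2 := by rw [h1]
        _ = w * (g1 * g2) := mul_assoc _ _ _
    · right
      calc g1 * g2 * w = g1 * (g2 * w) := mul_assoc _ _ _
        _ = g1 * (w * w * g2) := by rw [h2]
        _ = (g1 * w) * w * g2 := by simp only [mul_assoc]
        _ = (w * g1) * w * g2 := by rw [h1]
        _ = w * (g1 * w) * g2 := by simp only [mul_assoc]
        _ = w * (w * g1) * g2 := by rw [h1]
        _ = w * w * (g1 * g2) := by simp only [mul_assoc]
    · right
      calc g1 * g2 * w = g1 * (g2 * w) := mul_assoc _ _ _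
        _ = g1 * (w * g2) := by rw [h2]
        _ = (g1 * w) * g2 := (mul_assoc _ _ _).symm
        _ = w * w * g1 * g2 := by rw [h1]
        _ = w * w * (g1 * g2) := mul_assoc _ _ _
    · left
      calc g1 * g2 * w = g1 * (g2 * w) := mul_assoc _ _ _
        _ = g1 * (w * w * g2) := by rw [h2]
        _ = (g1 * w) * w * g2 := by simp only [mul_assoc]
        _ = (w * w * g1) * w * g2 := by rw [h1]
        _ = w * w * (g1 * w) * g2 := by simp only [mul_assoc]
        _ = w * w * (w * w * g1) * g2 := by rw [h1]
        _ = (w * w * w) * w * (g1 * g2) := by simp only [mul_assoc]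
        _ = w * (g1 * g2) := by rw [hw, one_mul]
  inv_mem' := by
    rintro g (h | h)
    · left
      calc g⁻¹ * w = g⁻¹ * (w * g) * g⁻¹ := by group
        _ = g⁻¹ * (g * w) * g⁻¹ := by rw [h]
        _ = w * g⁻¹ := by group
    · right
      have h1 : w * g⁻¹ = g⁻¹ * w * w := by
        calc w * g⁻¹ = g⁻¹ * (g * w) * g⁻¹ := by group
          _ = g⁻¹ * (w * w * g) * g⁻¹ := by rw [h]
          _ = g⁻¹ * w * w := by group
      symm
      calc w * w * g⁻¹ = w * (w * g⁻¹) := mul_assoc _ _ _
        _ = w * (g⁻¹ * w * w) := by rw [h1]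
        _ = (w * g⁻¹) * w * w := by simp only [mul_assoc]
        _ = (g⁻¹ * w * w) * w * w := by rw [h1]
        _ = g⁻¹ * w * (w * w * w) := by simp only [mul_assoc]
        _ = g⁻¹ * w := by rw [hw, mul_one]

theorem mem_invNorm (w : G) (hw : w * w * w = 1) (g : G) :
    g ∈ invNorm w hw ↔ (g * w = w * g ∨ g * w = w * w * g) := Iff.rfl

end grp

section mat2

variable {F : Type*} [Field F]

/-- the companion matrix of `X^2 - X - 1` -/
def fibM : Matrix (Fin 2) (Fin 2) F := !![0, 1; 1, 1]

theorem fibM_cube (h11 : (1 : F) + 1 = 0) : (fibM : Matrix (Fin 2) (Fin 2) F) * fibM * fibM = 1 := by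
  unfold fibM
  rw [Matrix.mul_fin_two, Matrix.mul_fin_two, Matrix.one_fin_two]
  simp [h11]

theorem fibM_mulVec_zero : (fibM : Matrix (Fin 2) (Fin 2) F) *ᵥ Pi.single 0 1 = Pi.single 1 1 := by
  rw [Matrix.mulVec_single_one]
  ext i
  fin_cases i <;> simp [fibM]

theorem fibM_mulVec_one :
    (fibM : Matrix (Fin 2) (Fin 2) F) *ᵥ Pi.single 1 1 = Pi.single 0 1 + Pi.single 1 1 := by
  rw [Matrix.mulVec_single_one]
  ext i
  fin_cases i <;> simp [fibM]

/-- over the field with two elements every invertible `2 × 2` matrix centralises or inverts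
the companion matrix -/
theorem gl2_comm_or (h01 : ∀ x : F, x = 0 ∨ x = 1) (h11 : (1 : F) + 1 = 0)
    (a : Matrix (Fin 2) (Fin 2) F) (hdet : a.det ≠ 0) :
    a * fibM = fibM * a ∨ a * fibM = fibM * fibM * a := by
  obtain ⟨p, q, r, s, rfl⟩ : ∃ p q r s, a = !![p, q; r, s] :=
    ⟨_, _, _, _, Matrix.eta_fin_two a⟩
  rw [Matrix.det_fin_two_of] at hdet
  unfold fibM
  rw [Matrix.mul_fin_two, Matrix.mul_fin_two, Matrix.mul_fin_two, Matrix.mul_fin_two]
  rcases h01 p with rfl | rfl <;> rcases h01 q with rfl | rfl <;>
    rcases h01 r with rfl | rfl <;> rcases h01 s with rfl | rfl <;>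
    simp [h11] at hdet ⊢

end mat2

end Cfsg.Agent.Lib.Helper50
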