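import Cfsg.Agent.Lib.Helper50.Plane5
import Cfsg.Agent.Lib.Helper50.TensorF2a

set_option autoImplicit false

/-! Non-maximality of the stabiliser of a decomposition into plus type planes over the fields
with two and four elements. -/

namespace Cfsg.Agent.Lib.Helper50

open Matrix Module QuadraticMap Cfsg.Agent.Lib.Helper19

variable {F : Type*} [Field F] [Fintype F] {ι : Type} [Fintype ι] [DecidableEq ι]

/-- assembling a subgroup strictly between the stabiliser of a decomposition and `Ω` -/
theorem nonmax_of_set (Q : QuadraticForm F (ι → F)) {t : ℕ} (D : Fin t → Submodule F (ι → F))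
    (S : Set (ι → F))
    (h1 : Cfsg.Geo.decompositionStabilizer D ⊓ Cfsg.Geo.omegaGL (⇑Q) ≤
      Cfsg.stabilizing (Cfsg.glToMat ι F) S ⊓ Cfsg.Geo.omegaGL (⇑Q))
    (g : ↥(Cfsg.isometryGroup F (⇑Q))) (hgΩ : g ∈ Cfsg.Omega F (⇑Q))
    (hgS : (g : GL ι F) ∈ Cfsg.stabilizing (Cfsg.glToMat ι F) S)
    (hgD : (g : GL ι F) ∉ Cfsg.Geo.decompositionStabilizer D)
    (g' : ↥(Cfsg.isometryGroup F (⇑Q))) (hg'Ω : g' ∈ Cfsg.Omega F (⇑Q))
    (hg'S : (g' : GL ι F) ∉ Cfsg.stabilizing (Cfsg.glToMat ι F) S) :
    ∃ K : Subgroup (GL ι F), Cfsg.Geo.decompositionStabilizer D ⊓ Cfsg.Geo.omegaGL (⇑Q) < K ∧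
      K < Cfsg.Geo.omegaGL (⇑Q) := by
  refine ⟨Cfsg.stabilizing (Cfsg.glToMat ι F) S ⊓ Cfsg.Geo.omegaGL (⇑Q), ?_, ?_⟩
  · rw [SetLike.lt_iff_le_and_exists]
    exact ⟨h1, (g : GL ι F), ⟨hgS, coe_mem_omegaGL (⇑Q) g hgΩ⟩, fun h => hgD h.1⟩
  · rw [SetLike.lt_iff_le_and_exists]
    exact ⟨inf_le_right, (g' : GL ι F), coe_mem_omegaGL (⇑Q) g' hg'Ω, fun h => hg'S h.1⟩

/-- an isometry stabilising a set stabilises the set of vectors whose pairings with the set
satisfy a given condition -/
theorem stabilizing_dual (Q : QuadraticForm F (ι → F)) (T : Set (ι → F)) (P : F → Prop)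
    (g : GL ι F) (hiso : ∀ w, Q ((g : Matrix ι ι F) *ᵥ w) = Q w)
    (hg : g ∈ Cfsg.stabilizing (Cfsg.glToMat ι F) T) :
    g ∈ Cfsg.stabilizing (Cfsg.glToMat ι F) {x | ∀ y ∈ T, P (polar (⇑Q) x y)} := by
  have hB : ∀ x y, polar (⇑Q) ((g : Matrix ι ι F) *ᵥ x) ((g : Matrix ι ι F) *ᵥ y) =
      polar (⇑Q) x y := polar_mulVec_isometry Q _ hiso
  intro x
  constructor
  · intro hx y hy
    change P (polar (⇑Q) ((g : Matrix ι ι F) *ᵥ x) y)
    have hy' : ((g⁻¹ : GL ι F) : Matrix ι ι F) *ᵥ y ∈ T := by
      apply (hg _).mpr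
      change (g : Matrix ι ι F) *ᵥ (((g⁻¹ : GL ι F) : Matrix ι ι F) *ᵥ y) ∈ T
      rw [mulVec_inv_mulVec]
      exact hy
    have := hx _ hy'
    rw [← hB, mulVec_inv_mulVec] at this
    exact this
  · intro hx y hy
    have hy' : (g : Matrix ι ι F) *ᵥ y ∈ T := (hg y).mp hy
    have := hx _ hy'
    change P (polar (⇑Q) ((g : Matrix ι ι F) *ᵥ x) ((g : Matrix ι ι F) *ᵥ y)) at this
    rw [hB] at this
    exact this

theorem two_eq_zero_of_card_four (hq : Fintype.card F = 4) : (1 : F) + 1 = 0 := by
  have h := FiniteField.cast_card_eq_zero F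
  rw [hq] at h
  have h4 : ((1 : F) + 1) * ((1 : F) + 1) = 0 := by
    have : ((4 : ℕ) : F) = ((1 : F) + 1) * ((1 : F) + 1) := by push_cast; ring
    rw [← this]
    exact h
  exact mul_self_eq_zero.mp h4

/-- the stabiliser of a decomposition into plus type planes over the fields with two or four
elements is not maximal -/
theorem nonmax_plane24 (hq : Fintype.card F = 2 ∨ Fintype.card F = 4)
    (Q : QuadraticForm F (ι → F))
    (hQ : (polarBilin Q).Nondegenerate) (hn : 13 ≤ Fintype.card ι) {t : ℕ}
    (D : Fin t → Submodule F (ι → F))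
    (hD : Cfsg.Geo.IsOrthogonalMDecomposition (⇑Q) 2 D)
    (hplus : ∀ i, Cfsg.Geo.IsPlusTypeOn (⇑Q) (D i)) :
    ∃ K : Subgroup (GL ι F), Cfsg.Geo.decompositionStabilizer D ⊓ Cfsg.Geo.omegaGL (⇑Q) < K ∧
      K < Cfsg.Geo.omegaGL (⇑Q) := by
  classical
  have h11 : (1 : F) + 1 = 0 := by
    rcases hq with hq | hq
    · exact one_add_one_of_card_two hq
    · exact two_eq_zero_of_card_four hq
  have h2 : (2 : F) = 0 := by rw [← h11]; norm_num
  have hn5 : 5 ≤ Fintype.card ι := by omega
  have ht : 7 ≤ t := by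
    have h := card_le_mul_of_decomp 2 D hD.decomp.decomp
    omega
  have horth : ∀ i j, i ≠ j → ∀ u ∈ D i, ∀ w ∈ D j, polar (⇑Q) u w = 0 :=
    fun i j hij => hD.decomp.orthogonal i j hij
  have hnd := hD.decomp.nondegenerate
  choose e f he hf hQef hspan using fun i => plane_coords Q (D i)
    (hD.decomp.decomp.finrank_eq i) (hD.decomp.nondegenerate i) (hplus i)
  -- the polar form in coordinates
  have hpol : ∀ i (x y x' y' : F), polar (⇑Q) (x • e i + y • f i) (x' • e i + y' • f i) =
      x * y' + x' * y := by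
    intro i x y x' y'
    unfold polar
    have e1 : x • e i + y • f i + (x' • e i + y' • f i) = (x + x') • e i + (y + y') • f i := by
      module
    rw [e1, hQef, hQef, hQef]
    ring
  have hQe : ∀ i, Q (e i) = 0 := by
    intro i
    have := hQef i 1 0
    rwa [one_smul, zero_smul, add_zero, mul_zero] at this
  have hQf : ∀ i, Q (f i) = 0 := by
    intro i
    have := hQef i 0 1
    rwa [one_smul, zero_smul, zero_add, zero_mul] at this
  obtain ⟨d, hd⟩ : ∃ d : Fin t → ι → F, ∀ i, d i = e i + f i := ⟨_, fun i => rfl⟩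
  have hdD : ∀ i, d i ∈ D i := fun i => by rw [hd]; exact (D i).add_mem (he i) (hf i)
  have hQd : ∀ i, Q (d i) = 1 := by
    intro i
    have := hQef i 1 1
    rwa [one_smul, one_smul, one_mul, ← hd] at this
  have hBde : ∀ i, polar (⇑Q) (d i) (e i) = 1 := by
    intro i
    have := hpol i 1 1 1 0
    rwa [one_smul, one_smul, zero_smul, add_zero, mul_zero, mul_one, zero_add, ← hd] at this
  have hBed : ∀ i, polar (⇑Q) (e i) (d i) = 1 := fun i => by rw [polar_comm]; exact hBde i
  have hBdd : ∀ i, polar (⇑Q) (d i) (d i) = 0 := by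
    intro i
    rw [polar_self, hQd]
    simp [h2]
  have hBdd' : ∀ i j, i ≠ j → polar (⇑Q) (d i) (d j) = 0 :=
    fun i j hij => horth i j hij _ (hdD i) _ (hdD j)
  have he0 : ∀ i, e i ≠ 0 := by
    intro i h
    have := hBed i
    rw [h, polar_zero_left] at this
    exact zero_ne_one this
  have hd0 : ∀ i, d i ≠ 0 := by
    intro i h
    have := hQd i
    rw [h, QuadraticMap.map_zero] at this
    exact zero_ne_one this
  -- four distinct indices
  set i1 : Fin t := ⟨0, by omega⟩ with hi1
  set i2 : Fin t := ⟨1, by omega⟩ with hi2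
  set i3 : Fin t := ⟨2, by omega⟩ with hi3
  set i4 : Fin t := ⟨3, by omega⟩ with hi4
  have h12 : i1 ≠ i2 := by simp [hi1, hi2, Fin.ext_iff]
  have h13 : i1 ≠ i3 := by simp [hi1, hi3, Fin.ext_iff]
  have h14 : i1 ≠ i4 := by simp [hi1, hi4, Fin.ext_iff]
  have h23 : i2 ≠ i3 := by simp [hi2, hi3, Fin.ext_iff]
  have h24 : i2 ≠ i4 := by simp [hi2, hi4, Fin.ext_iff]
  have h34 : i3 ≠ i4 := by simp [hi3, hi4, Fin.ext_iff]
  -- the first Siegel element
  have hQu : Q (d i1 + d i2) = 0 := by
    rw [QuadraticMap.map_add Q, hQd, hQd, hBdd' i1 i2 h12, add_zero]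
    exact h11
  have hQv : Q (d i3 + d i4) = 0 := by
    rw [QuadraticMap.map_add Q, hQd, hQd, hBdd' i3 i4 h34, add_zero]
    exact h11
  have huv : polar (⇑Q) (d i1 + d i2) (d i3 + d i4) = 0 := by
    rw [polar_add_left, polar_add_right, polar_add_right, hBdd' i1 i3 h13, hBdd' i1 i4 h14,
      hBdd' i2 i3 h23, hBdd' i2 i4 h24]
    ring
  have hgΩ := siegelO_mem_Omega Q hQ hn5 _ _ hQu hQv huv 1
  have hgact := siegelO_one_mulVec h11 Q _ _ hQu hQv huv
  have hgD : ((siegelO Q _ _ hQu hQv huv 1 : ↥(Cfsg.isometryGroup F (⇑Q))) : GL ι F) ∉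
      Cfsg.Geo.decompositionStabilizer D := by
    apply not_mem_decompStab_of_not_mem _ i1 (e i1) (he i1)
    intro l
    rw [hgact, polar_add_left, hBde, horth i2 i1 h12.symm _ (hdD i2) _ (he i1), add_zero, one_smul,
      polar_add_left, horth i3 i1 h13.symm _ (hdD i3) _ (he i1),
      horth i4 i1 h14.symm _ (hdD i4) _ (he i1), add_zero, zero_smul, add_zero]
    apply add_not_mem_member Q horth hnd i1 _ _ (he i1) (he0 i1)
    · intro h
      have h' : polar (⇑Q) (d i3 + d i4) (e i3) = 0 := by rw [h, polar_zero_left]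
      rw [polar_add_left, hBde, horth i4 i3 h34.symm _ (hdD i4) _ (he i3), add_zero] at h'
      exact one_ne_zero h'
    · intro x hx
      rw [polar_add_right, horth i1 i3 h13 x hx _ (hdD i3), horth i1 i4 h14 x hx _ (hdD i4),
        add_zero]
  -- the second Siegel element
  have hee : polar (⇑Q) (e i1) (e i2) = 0 := horth i1 i2 h12 _ (he i1) _ (he i2)
  have hg'Ω := siegelO_mem_Omega Q hQ hn5 _ _ (hQe i1) (hQe i2) hee 1
  have hg'act := siegelO_one_mulVec h11 Q _ _ (hQe i1) (hQe i2) hee
  have hg'd : (((siegelO Q _ _ (hQe i1) (hQe i2) hee 1 : ↥(Cfsg.isometryGroup F (⇑Q))) : GL ι F) :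
      Matrix ι ι F) *ᵥ d i1 = d i1 + e i2 := by
    rw [hg'act, hBed, one_smul, horth i2 i1 h12.symm _ (he i2) _ (hdD i1), zero_smul, add_zero]
  rcases hq with hq | hq
  · -- two elements: the set of vectors of norm one
    have h01 := zero_or_one_of_card_two hq
    have hnorm : ∀ w ∈ normSet Q D 1, ∃ i, w = d i := by
      rintro w ⟨i, hwD, hw1⟩
      refine ⟨i, ?_⟩
      obtain ⟨x, y, rfl⟩ := hspan i w hwD
      rw [hQef] at hw1
      have hx : x = 1 := by
        rcases h01 x with h | h
        · rw [h, zero_mul] at hw1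
          exact absurd hw1 zero_ne_one
        · exact h
      have hy : y = 1 := by rw [hx, one_mul] at hw1; exact hw1
      rw [hx, hy, one_smul, one_smul, hd]
    refine nonmax_of_set Q D (normSet Q D 1) (decompStab_le_stabilizing_normSet Q D 1)
      _ hgΩ ?_ hgD _ hg'Ω ?_
    · apply siegelO_mem_stabilizing_of_maps h11
      intro w hw
      obtain ⟨i, rfl⟩ := hnorm w hw
      have e1 : polar (⇑Q) (d i1 + d i2) (d i) = 0 := by
        rw [polar_add_left]
        by_cases h1 : i1 = i
        · rw [← h1, hBdd, hBdd' i2 i1 h12.symm, add_zero]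
        · by_cases h2' : i2 = i
          · rw [← h2', hBdd, hBdd' i1 i2 h12, add_zero]
          · rw [hBdd' i1 i h1, hBdd' i2 i h2', add_zero]
      have e2 : polar (⇑Q) (d i3 + d i4) (d i) = 0 := by
        rw [polar_add_left]
        by_cases h1 : i3 = i
        · rw [← h1, hBdd, hBdd' i4 i3 h34.symm, add_zero]
        · by_cases h2' : i4 = i
          · rw [← h2', hBdd, hBdd' i3 i4 h34, add_zero]
          · rw [hBdd' i3 i h1, hBdd' i4 i h2', add_zero]
      rw [hgact, e1, e2, zero_smul, zero_smul, add_zero, add_zero]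
      exact hw
    · intro hS
      have hmem := (hS (d i1)).mp ⟨i1, hdD i1, hQd i1⟩
      change (((siegelO Q _ _ (hQe i1) (hQe i2) hee 1 : ↥(Cfsg.isometryGroup F (⇑Q))) : GL ι F) :
        Matrix ι ι F) *ᵥ d i1 ∈ normSet Q D 1 at hmem
      rw [hg'd] at hmem
      obtain ⟨l, hl, -⟩ := hmem
      refine add_not_mem_member Q horth hnd i1 _ _ (hdD i1) (hd0 i1) (he0 i2) ?_ l hl
      intro x hx
      exact horth i1 i2 h12 x hx _ (he i2)
  · -- four elements: the vectors pairing with the norm one vectors into the prime field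
    have hpow4 : ∀ s : F, s ^ 4 = s := by
      intro s
      have := FiniteField.pow_card s
      rwa [hq] at this
    have hsq_add : ∀ a b : F, a * a = a → b * b = b → (a + b) * (a + b) = a + b := by
      intro a b ha hb
      have : (a + b) * (a + b) = a * a + b * b + (1 + 1) * (a * b) := by ring
      rw [this, ha, hb, h11, zero_mul, add_zero]
    have hsq_mul : ∀ a b : F, a * a = a → b * b = b → (a * b) * (a * b) = a * b := by
      intro a b ha hb
      have : (a * b) * (a * b) = (a * a) * (b * b) := by ring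
      rw [this, ha, hb]
    -- pairings of norm one vectors
    have hkey : ∀ y ∈ normSet Q D 1, ∀ y' ∈ normSet Q D 1,
        polar (⇑Q) y y' * polar (⇑Q) y y' = polar (⇑Q) y y' := by
      rintro y ⟨i, hyD, hy1⟩ y' ⟨j, hy'D, hy'1⟩
      by_cases hij : i = j
      · subst hij
        obtain ⟨x, z, rfl⟩ := hspan i y hyD
        obtain ⟨x', z', rfl⟩ := hspan i y' hy'D
        rw [hQef] at hy1 hy'1
        rw [hpol]
        set p := x * z' with hp
        set r := x' * z with hr
        have hpr : p * r = 1 := by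
          rw [hp, hr]
          linear_combination z' * x' * hy1 + hy'1
        have hp0 : p ≠ 0 := by
          intro h
          rw [h, zero_mul] at hpr
          exact zero_ne_one hpr
        have hp3 : p ^ 3 = 1 := by
          have h4 := hpow4 p
          have : p * (p ^ 3 - 1) = 0 := by linear_combination h4
          rcases mul_eq_zero.mp this with h | h
          · exact absurd h hp0
          · linear_combination h
        have hr0 : r ≠ 0 := by
          intro h
          rw [h, mul_zero] at hpr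
          exact zero_ne_one hpr
        have hr3 : r ^ 3 = 1 := by
          have h4 := hpow4 r
          have : r * (r ^ 3 - 1) = 0 := by linear_combination h4
          rcases mul_eq_zero.mp this with h | h
          · exact absurd h hr0
          · linear_combination h
        have hp2 : p * p = r := by linear_combination (-(p ^ 2)) * hpr + r * hp3
        have hr2 : r * r = p := by linear_combination (-(r ^ 2)) * hpr + p * hr3
        have : (p + r) * (p + r) = p * p + r * r + (1 + 1) * (p * r) := by ring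
        rw [this, hp2, hr2, h11, zero_mul, add_zero, add_comm]
      · rw [horth i j hij y hyD y' hy'D, mul_zero]
    set S : Set (ι → F) := {x | ∀ y ∈ normSet Q D 1,
      (fun s : F => s * s = s) (polar (⇑Q) x y)} with hS
    have hdS : ∀ i, d i ∈ normSet Q D 1 := fun i => ⟨i, hdD i, hQd i⟩
    refine nonmax_of_set Q D S ?_ _ hgΩ ?_ hgD _ hg'Ω ?_
    · intro x hx
      have hx' := decompStab_le_stabilizing_normSet Q D 1 hx
      obtain ⟨hiso, -⟩ := (mem_omegaGL_iff (⇑Q) x).mp hx.2
      exact ⟨stabilizing_dual Q _ (fun s : F => s * s = s) x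
        ((mem_isometryGroup_iff (⇑Q) x).mp hiso) hx'.1, hx.2⟩
    · apply siegelO_mem_stabilizing_of_maps h11
      intro x hx y hy
      change polar (⇑Q) _ y * polar (⇑Q) _ y = polar (⇑Q) _ y
      rw [hgact, polar_add_left, polar_add_left, polar_smul_left, polar_smul_left, smul_eq_mul,
        smul_eq_mul]
      have hx1 : ∀ i, polar (⇑Q) (d i) x * polar (⇑Q) (d i) x = polar (⇑Q) (d i) x := by
        intro i
        rw [polar_comm]
        exact hx _ (hdS i)
      have hy1 : ∀ i, polar (⇑Q) (d i) y * polar (⇑Q) (d i) y = polar (⇑Q) (d i) y :=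
        fun i => hkey _ (hdS i) _ hy
      have hux : polar (⇑Q) (d i1 + d i2) x * polar (⇑Q) (d i1 + d i2) x =
          polar (⇑Q) (d i1 + d i2) x := by
        rw [polar_add_left]
        exact hsq_add _ _ (hx1 i1) (hx1 i2)
      have hvx : polar (⇑Q) (d i3 + d i4) x * polar (⇑Q) (d i3 + d i4) x =
          polar (⇑Q) (d i3 + d i4) x := by
        rw [polar_add_left]
        exact hsq_add _ _ (hx1 i3) (hx1 i4)
      have huy : polar (⇑Q) (d i1 + d i2) y * polar (⇑Q) (d i1 + d i2) y =
          polar (⇑Q) (d i1 + d i2) y := by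
        rw [polar_add_left]
        exact hsq_add _ _ (hy1 i1) (hy1 i2)
      have hvy : polar (⇑Q) (d i3 + d i4) y * polar (⇑Q) (d i3 + d i4) y =
          polar (⇑Q) (d i3 + d i4) y := by
        rw [polar_add_left]
        exact hsq_add _ _ (hy1 i3) (hy1 i4)
      exact hsq_add _ _ (hsq_add _ _ (hx y hy) (hsq_mul _ _ hux hvy)) (hsq_mul _ _ hvx huy)
    · intro hstab
      have hd1 : d i1 ∈ S := fun y hy => hkey _ (hdS i1) y hy
      have hmem := (hstab (d i1)).mp hd1
      change (((siegelO Q _ _ (hQe i1) (hQe i2) hee 1 : ↥(Cfsg.isometryGroup F (⇑Q))) : GL ι F) :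
        Matrix ι ι F) *ᵥ d i1 ∈ S at hmem
      rw [hg'd] at hmem
      -- an element outside the prime field
      obtain ⟨om, hom0, hom1⟩ : ∃ om : F, om ≠ 0 ∧ om ≠ 1 := by
        by_contra hall
        push Not at hall
        have hsub : (Finset.univ : Finset F) ⊆ {0, 1} := by
          intro s _
          by_cases hs : s = 0
          · simp [hs]
          · simp [hall s hs]
        have := Finset.card_le_card hsub
        rw [Finset.card_univ, hq] at this
        have h2' : ({0, 1} : Finset F).card ≤ 2 := Finset.card_le_two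
        omega
      have hom3 : om ^ 3 = 1 := by
        have h4 := hpow4 om
        have : om * (om ^ 3 - 1) = 0 := by linear_combination h4
        rcases mul_eq_zero.mp this with h | h
        · exact absurd h hom0
        · linear_combination h
      have hyS : om • e i2 + (om * om) • f i2 ∈ normSet Q D 1 := by
        refine ⟨i2, (D i2).add_mem ((D i2).smul_mem _ (he i2)) ((D i2).smul_mem _ (hf i2)), ?_⟩
        rw [hQef]
        linear_combination hom3
      have h := hmem _ hyS
      simp only at h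
      have e1 : polar (⇑Q) (d i1 + e i2) (om • e i2 + (om * om) • f i2) = om * om := by
        rw [polar_add_left, horth i1 i2 h12 _ (hdD i1) _
          ((D i2).add_mem ((D i2).smul_mem _ (he i2)) ((D i2).smul_mem _ (hf i2))), zero_add]
        have := hpol i2 1 0 om (om * om)
        rw [one_smul, zero_smul, add_zero] at this
        rw [this]
        ring
      rw [e1] at h
      -- `om * om` is not in the prime field
      have h5 : om * om * (om * om) = om := by linear_combination om * hom3
      rw [h5] at h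
      have : om * (om - 1) = 0 := by linear_combination -h
      rcases mul_eq_zero.mp this with h' | h'
      · exact hom0 h'
      · exact hom1 (by linear_combination h')

end Cfsg.Agent.Lib.Helper50
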