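import Cfsg.Agent.Lib.Helper50.DecompAux

set_option autoImplicit false

/-! Non-maximality of the stabiliser of a decomposition into plus type planes over the field
with five elements. -/

namespace Cfsg.Agent.Lib.Helper50

open Matrix Module QuadraticMap Cfsg.Agent.Lib.Helper19

variable {F : Type*} [Field F] [Fintype F] {ι : Type} [Fintype ι] [DecidableEq ι]

/-- the number of members of a decomposition -/
theorem card_le_mul_of_decomp {t : ℕ} (k : ℕ) (D : Fin t → Submodule F (ι → F))
    (hD : Cfsg.Geo.IsMDecomposition k D) : Fintype.card ι ≤ t * k := by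
  have hfr : ∀ i, finrank F (D i) = k := hD.finrank_eq
  have hsup : ∀ s : Finset (Fin t),
      finrank F (s.sup D : Submodule F (ι → F)) ≤ s.card * k := by
    intro s
    induction s using Finset.induction_on with
    | empty => simp
    | insert a s ha ih =>
      rw [Finset.sup_insert, Finset.card_insert_of_notMem ha]
      calc finrank F (D a ⊔ s.sup D : Submodule F (ι → F))
          ≤ finrank F (D a) + finrank F (s.sup D : Submodule F (ι → F)) :=
            Submodule.finrank_add_le_finrank_add_finrank _ _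
        _ ≤ k + s.card * k := by rw [hfr a]; omega
        _ = (s.card + 1) * k := by ring
  have h := hsup Finset.univ
  rw [Finset.sup_univ_eq_iSup, hD.iSup_eq_top, finrank_top,
    Module.finrank_fintype_fun_eq_card, Finset.card_univ, Fintype.card_fin] at h
  exact h

/-- non-maximality from a canonical vector in one member of an isometric decomposition -/
theorem nonmax_of_canonical_iso (h2 : (2 : F) ≠ 0) (Q : QuadraticForm F (ι → F))
    (hQ : (polarBilin Q).Nondegenerate) (hn : 13 ≤ Fintype.card ι) {t : ℕ} (k : ℕ)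
    (hk : k = 2 ∨ k = 3) (D : Fin t → Submodule F (ι → F))
    (hD : Cfsg.Geo.IsOrthogonalMDecomposition (⇑Q) k D)
    (hex : ∀ i, ∃ v ∈ D i, ∃ c : F, c ≠ 0 ∧ Q v = c ∧
      ∀ w ∈ D i, Q w = c → w = v ∨ w = -v ∨ polar (⇑Q) v w = 0) :
    ∃ K : Subgroup (GL ι F), Cfsg.Geo.decompositionStabilizer D ⊓ Cfsg.Geo.omegaGL (⇑Q) < K ∧
      K < Cfsg.Geo.omegaGL (⇑Q) := by
  have hfr : ∀ i, finrank F (D i) = k := hD.decomp.decomp.finrank_eq
  have ht : 5 ≤ t := by
    have h := card_le_mul_of_decomp k D hD.decomp.decomp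
    rcases hk with rfl | rfl <;> omega
  set i0 : Fin t := ⟨0, by omega⟩ with hi0
  obtain ⟨v0, hv0, c, hc, hv0c, hcan0⟩ := hex i0
  choose e he using fun i => hD.isometric i0 i
  have hpol : ∀ i (a b : D i0),
      polar (⇑Q) ((e i a : D i) : ι → F) ((e i b : D i) : ι → F) =
        polar (⇑Q) (a : ι → F) (b : ι → F) := by
    intro i a b
    unfold polar
    rw [← he i a, ← he i b, ← Submodule.coe_add, ← Submodule.coe_add, ← he i (a + b), map_add]
  refine nonmax_of_canonical h2 hQ (by omega) ht
    (fun i => by rw [hfr i]; rcases hk with rfl | rfl <;> omega)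
    (fun i j hij => hD.decomp.orthogonal i j hij) hD.decomp.nondegenerate hc
    (fun i => ((e i ⟨v0, hv0⟩ : D i) : ι → F)) (fun i => (e i ⟨v0, hv0⟩).2)
    (fun i => by rw [he]; exact hv0c) ?_
  intro i w hw hwc
  set w0 : D i0 := (e i).symm ⟨w, hw⟩ with hw0
  have hew0 : ((e i w0 : D i) : ι → F) = w := by
    rw [hw0, LinearEquiv.apply_symm_apply]
  have hw0c : Q (w0 : ι → F) = c := by rw [← he i w0, hew0, hwc]
  rcases hcan0 (w0 : ι → F) w0.2 hw0c with h | h | h
  · left
    have h' : w0 = ⟨v0, hv0⟩ := Subtype.ext h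
    rw [← hew0, h']
  · right; left
    have h' : w0 = -⟨v0, hv0⟩ := Subtype.ext h
    rw [← hew0, h', map_neg]
    rfl
  · right; right
    have := hpol i ⟨v0, hv0⟩ w0
    rw [hew0] at this
    rw [this]
    exact h

/-- the stabiliser of a decomposition into plus type planes over the field with five elements is
not maximal -/
theorem nonmax_plane5 (hq : Fintype.card F = 5) (Q : QuadraticForm F (ι → F))
    (hQ : (polarBilin Q).Nondegenerate) (hn : 13 ≤ Fintype.card ι) {t : ℕ}
    (D : Fin t → Submodule F (ι → F))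
    (hD : Cfsg.Geo.IsOrthogonalMDecomposition (⇑Q) 2 D)
    (hplus : ∀ i, Cfsg.Geo.IsPlusTypeOn (⇑Q) (D i)) :
    ∃ K : Subgroup (GL ι F), Cfsg.Geo.decompositionStabilizer D ⊓ Cfsg.Geo.omegaGL (⇑Q) < K ∧
      K < Cfsg.Geo.omegaGL (⇑Q) := by
  have h2 : (2 : F) ≠ 0 := two_ne_zero_of_odd_card hq (by decide)
  refine nonmax_of_canonical_iso h2 Q hQ hn 2 (Or.inl rfl) D hD ?_
  intro i
  obtain ⟨e, f, he, hf, hQef, hspan⟩ := plane_coords Q (D i)
    (hD.decomp.decomp.finrank_eq i) (hD.decomp.nondegenerate i) (hplus i)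
  have hv : Q (e + f) = 1 := by
    have := hQef 1 1
    rwa [one_smul, one_smul, one_mul] at this
  refine ⟨e + f, (D i).add_mem he hf, 1, one_ne_zero, hv, ?_⟩
  intro w hw hw1
  obtain ⟨x, y, rfl⟩ := hspan w hw
  rw [hQef] at hw1
  have hpol : polar (⇑Q) (e + f) (x • e + y • f) = x + y := by
    unfold polar
    have e1 : e + f + (x • e + y • f) = (1 + x) • e + (1 + y) • f := by module
    rw [e1, hQef, hv, hQef]
    ring
  have hx0 : x ≠ 0 := by
    rintro rfl
    rw [zero_mul] at hw1
    exact zero_ne_one hw1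
  have hx4 : x ^ 4 = 1 := by
    have := FiniteField.pow_card_sub_one_eq_one x hx0
    rwa [hq] at this
  have hfac : (x ^ 2 - 1) * (x ^ 2 + 1) = 0 := by linear_combination hx4
  rcases mul_eq_zero.mp hfac with h | h
  · have hfac2 : (x - 1) * (x + 1) = 0 := by linear_combination h
    rcases mul_eq_zero.mp hfac2 with h' | h'
    · left
      have hx1 : x = 1 := by linear_combination h'
      have hy1 : y = 1 := by rw [hx1, one_mul] at hw1; exact hw1
      rw [hx1, hy1, one_smul, one_smul]
    · right; left
      have hx1 : x = -1 := by linear_combination h'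
      have hy1 : y = -1 := by
        rw [hx1] at hw1
        linear_combination -hw1
      rw [hx1, hy1]
      module
  · right; right
    rw [hpol]
    have : x * (x + y) = 0 := by linear_combination h + hw1
    exact (mul_eq_zero.mp this).resolve_left hx0

end Cfsg.Agent.Lib.Helper50
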