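import Cfsg.Agent.Lib.Helper50.WittMain
import Cfsg.Agent.Lib.Helper50.TypeCriteria
import Cfsg.Agent.Lib.Helper50.StdForms

set_option autoImplicit false

/-! Quadratic forms over a field `F` and over a subfield `F₀`: a form over `F` is determined by
its values on the `F₀`-points; the types (plus, minus) of a form over `F₀` pass to `F`, and the
minus type survives an extension of odd degree. -/

namespace Cfsg.Agent.Lib.Helper50

open Module QuadraticMap Polynomial

universe u

variable {F : Type u} [Field F] (F₀ : Subfield F)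
  {ι κ : Type} [Fintype ι] [DecidableEq ι] [Fintype κ] [DecidableEq κ]

/-- a quadratic form vanishing on the standard basis vectors and their pairwise sums is zero -/
theorem quadForm_eq_zero_of_basis (D : QuadraticForm F (ι → F))
    (h1 : ∀ i, D (Pi.single i 1) = 0)
    (h2 : ∀ i j, D (Pi.single i 1 + Pi.single j 1) = 0) : D = 0 := by
  have hpol : ∀ i j, polar D (Pi.single i (1 : F)) (Pi.single j (1 : F)) = 0 := by
    intro i j
    unfold polar
    rw [h2, h1, h1]; ring
  have hB : polarBilin D = 0 := by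
    apply LinearMap.ext_basis (Pi.basisFun F ι) (Pi.basisFun F ι)
    intro i j
    rw [Pi.basisFun_apply, Pi.basisFun_apply, polarBilin_apply_apply, hpol]
    rfl
  have hadd : ∀ x y, D (x + y) = D x + D y := by
    intro x y
    have : polar D x y = 0 := by
      rw [← polarBilin_apply_apply, hB]; rfl
    unfold polar at this
    linear_combination this
  ext v
  have hv : v = ∑ i, v i • (Pi.single i (1 : F) : ι → F) := by
    funext j
    simp [Finset.sum_apply, Pi.single_apply]
  have hsum : ∀ (s : Finset ι), D (∑ i ∈ s, v i • (Pi.single i (1 : F) : ι → F)) = 0 := by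
    intro s
    induction s using Finset.induction_on with
    | empty => simp
    | insert a s ha ih =>
      rw [Finset.sum_insert ha, hadd, ih, QuadraticMap.map_smul, h1]
      simp
  rw [hv, hsum]
  rfl

/-- a quadratic form over `F` is determined by its values on the `F₀`-points -/
theorem quadForm_ext_points (R₁ R₂ : QuadraticForm F (ι → F))
    (h : ∀ v : ι → F₀, R₁ (fun i => (v i : F)) = R₂ (fun i => (v i : F))) : R₁ = R₂ := by
  have hD : R₁ - R₂ = 0 := by
    apply quadForm_eq_zero_of_basis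
    · intro i
      have := h (Pi.single i 1)
      have e : (fun j => ((Pi.single i (1 : F₀) : ι → F₀) j : F)) = Pi.single i (1 : F) := by
        funext j
        by_cases hj : j = i
        · subst hj; simp
        · simp [Pi.single_eq_of_ne hj]
      rw [e] at this
      rw [sub_apply, this, sub_self]
    · intro i j
      have := h (Pi.single i 1 + Pi.single j 1)
      have e : (fun k => ((Pi.single i (1 : F₀) + Pi.single j (1 : F₀) : ι → F₀) k : F)) =
          Pi.single i (1 : F) + Pi.single j (1 : F) := by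
        funext k
        simp only [Pi.add_apply, Subfield.coe_add]
        congr 1
        · by_cases hk : k = i
          · subst hk; simp
          · simp [Pi.single_eq_of_ne hk]
        · by_cases hk : k = j
          · subst hk; simp
          · simp [Pi.single_eq_of_ne hk]
      rw [e] at this
      rw [sub_apply, this, sub_self]
  exact sub_eq_zero.mp hD

/-- extension of scalars of a linear equivalence of coordinate spaces -/
noncomputable def extEquiv (φ₀ : (ι → F₀) ≃ₗ[F₀] (κ → F₀)) : (ι → F) ≃ₗ[F] (κ → F) :=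
  LinearEquiv.ofLinearMap
    (Matrix.toLin' ((LinearMap.toMatrix' (φ₀ : (ι → F₀) →ₗ[F₀] (κ → F₀))).map F₀.subtype))
    (Matrix.toLin' ((LinearMap.toMatrix' (φ₀.symm : (κ → F₀) →ₗ[F₀] (ι → F₀))).map F₀.subtype))
    (by
      rw [← Matrix.toLin'_mul, ← Matrix.map_mul, ← LinearMap.toMatrix'_comp]
      have : (φ₀ : (ι → F₀) →ₗ[F₀] (κ → F₀)) ∘ₗ (φ₀.symm : (κ → F₀) →ₗ[F₀] (ι → F₀)) =
          LinearMap.id := by
        ext v; simp
      rw [this, LinearMap.toMatrix'_id, Matrix.map_one _ (map_zero _) (map_one _),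
        Matrix.toLin'_one])
    (by
      rw [← Matrix.toLin'_mul, ← Matrix.map_mul, ← LinearMap.toMatrix'_comp]
      have : (φ₀.symm : (κ → F₀) →ₗ[F₀] (ι → F₀)) ∘ₗ (φ₀ : (ι → F₀) →ₗ[F₀] (κ → F₀)) =
          LinearMap.id := by
        ext v; simp
      rw [this, LinearMap.toMatrix'_id, Matrix.map_one _ (map_zero _) (map_one _),
        Matrix.toLin'_one])

theorem extEquiv_coe (φ₀ : (ι → F₀) ≃ₗ[F₀] (κ → F₀)) (v : ι → F₀) :
    extEquiv F₀ φ₀ (fun i => (v i : F)) = fun j => ((φ₀ v) j : F) := by
  funext j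
  change (Matrix.toLin' ((LinearMap.toMatrix' (φ₀ : (ι → F₀) →ₗ[F₀] (κ → F₀))).map F₀.subtype))
    (fun i => (v i : F)) j = _
  rw [Matrix.toLin'_apply]
  have h := RingHom.map_mulVec F₀.subtype
    (LinearMap.toMatrix' (φ₀ : (ι → F₀) →ₗ[F₀] (κ → F₀))) v j
  rw [LinearMap.toMatrix'_mulVec] at h
  exact h.symm

theorem quadFormPlus_coe (m : ℕ) (x : Fin m ⊕ Fin m → F₀) :
    Cfsg.quadFormPlus m F (fun i => (x i : F)) = ((Cfsg.quadFormPlus m F₀ x : F₀) : F) := by
  unfold Cfsg.quadFormPlus
  push_cast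
  rfl

theorem quadFormMinus_coe (k : ℕ) (a b : F₀) (x : (Fin k ⊕ Fin k) ⊕ Fin 2 → F₀) :
    Cfsg.quadFormMinus k F (a : F) (b : F) (fun i => (x i : F)) =
      ((Cfsg.quadFormMinus k F₀ a b x : F₀) : F) := by
  unfold Cfsg.quadFormMinus
  push_cast
  rfl

/-- plus type passes to an extension field -/
theorem isPlusType_ext (Q₀ : QuadraticForm F₀ (ι → F₀)) (R : QuadraticForm F (ι → F))
    (hR : ∀ v : ι → F₀, R (fun i => (v i : F)) = ((Q₀ v : F₀) : F)) (m : ℕ)
    (h : IsPlusType Q₀ m) : IsPlusType R m := by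
  obtain ⟨φ₀, hφ₀⟩ := h
  refine ⟨extEquiv F₀ φ₀, ?_⟩
  have key : (QPlus m F).comp (extEquiv F₀ φ₀ : (ι → F) →ₗ[F] (Fin m ⊕ Fin m → F)) = R := by
    apply quadForm_ext_points F₀
    intro v
    rw [QuadraticMap.comp_apply, LinearEquiv.coe_coe, extEquiv_coe, hR, ← hφ₀]
    exact quadFormPlus_coe F₀ m _
  intro v
  rw [← key]
  rfl

/-- minus type passes to an extension field (the parameter may become reducible) -/
theorem isMinusType_ext (Q₀ : QuadraticForm F₀ (ι → F₀)) (R : QuadraticForm F (ι → F))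
    (hR : ∀ v : ι → F₀, R (fun i => (v i : F)) = ((Q₀ v : F₀) : F)) (k : ℕ) (ζ : F₀)
    (h : IsMinusType Q₀ k ζ) : IsMinusType R k (ζ : F) := by
  obtain ⟨φ₀, hφ₀⟩ := h
  refine ⟨extEquiv F₀ φ₀, ?_⟩
  have key : (QMinus k F 1 (ζ : F)).comp
      (extEquiv F₀ φ₀ : (ι → F) →ₗ[F] ((Fin k ⊕ Fin k) ⊕ Fin 2 → F)) = R := by
    apply quadForm_ext_points F₀
    intro v
    rw [QuadraticMap.comp_apply, LinearEquiv.coe_coe, extEquiv_coe, hR, ← hφ₀]
    have := quadFormMinus_coe F₀ k 1 ζ (φ₀ v)
    rw [← this, Subfield.coe_one]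
    rfl
  intro v
  rw [← key]
  rfl

/-- an irreducible quadratic stays irreducible over an extension of odd degree -/
theorem irred_ext_odd [FiniteDimensional F₀ F] (hodd : Odd (finrank F₀ F)) (ζ : F₀)
    (hζ : ∀ t : F₀, t ^ 2 + t + ζ ≠ 0) : ∀ t : F, t ^ 2 + t + (ζ : F) ≠ 0 := by
  intro t ht
  obtain ⟨p, hp⟩ : ∃ p : F₀[X], p = X ^ 2 + X + C ζ := ⟨_, rfl⟩
  have hdeg : p.natDegree = 2 := by
    rw [hp]; compute_degree!
  have hmonic : p.Monic := by
    rw [hp]; monicity!
  have hroot : Polynomial.aeval t p = 0 := by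
    rw [hp]
    simp only [map_add, map_pow, aeval_X, aeval_C]
    exact ht
  have hirr : Irreducible p := by
    apply Polynomial.irreducible_of_degree_le_three_of_not_isRoot
    · rw [hdeg]; simp
    · intro x hx
      rw [hp, IsRoot.def] at hx
      simp only [eval_add, eval_pow, eval_X, eval_C] at hx
      exact hζ x hx
  have hint : IsIntegral F₀ t := ⟨p, hmonic, hroot⟩
  have hmin : minpoly F₀ t = p := (minpoly.eq_of_irreducible_of_monic hirr hroot hmonic).symm
  have hdvd := minpoly.degree_dvd (K := F₀) (L := F) hint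
  rw [hmin, hdeg] at hdvd
  obtain ⟨k, hk⟩ := hodd
  omega

end Cfsg.Agent.Lib.Helper50
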