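import Cfsg.Agent.Lib.Helper50.ClsPlus
import Cfsg.Agent.Lib.Helper50.QFExt
import Cfsg.Agent.Lib.Helper50.WittMain
import Cfsg.Agent.Lib.Helper50.TypeCriteria
import Cfsg.Agent.Lib.Helper50.PlusRefl
import Cfsg.Agent.Lib.Helper50.PlusInndiag
import Cfsg.Agent.Lib.Helper26.LangGOe
import Cfsg.Agent.Lib.Helper49.MinusUnique

set_option autoImplicit false

/-!
# Similar forms from Witt types; conjugating elements from descent data (hyperbolic form)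
-/

namespace Cfsg.Agent.Lib.Helper50

open Matrix Cfsg.Agent.Lib.Helper08 Cfsg.Agent.Lib.Helper26.LangGO

universe u

section gen

variable {K : Type u} [Field K] {ι : Type} [Fintype ι] [DecidableEq ι]

theorem exists_equiv_of_isUnit (A : Matrix ι ι K) (hA : IsUnit A) :
    ∃ e : (ι → K) ≃ₗ[K] (ι → K), ∀ v, e v = A *ᵥ v := by
  obtain ⟨u, rfl⟩ := hA
  refine ⟨LinearEquiv.ofLinearMap (Matrix.toLin' u.val) (Matrix.toLin' (u⁻¹).val) ?_ ?_,
    fun v => ?_⟩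
  · rw [← Matrix.toLin'_mul, Units.mul_inv, Matrix.toLin'_one]
  · rw [← Matrix.toLin'_mul, Units.inv_mul, Matrix.toLin'_one]
  · rfl

theorem exists_mat_of_equiv (e : (ι → K) ≃ₗ[K] (ι → K)) :
    ∃ P : Matrix ι ι K, IsUnit P ∧ ∀ v, P *ᵥ v = e v := by
  refine ⟨LinearMap.toMatrix' (e : (ι → K) →ₗ[K] (ι → K)), ?_, fun v => ?_⟩
  · apply IsUnit.of_mul_eq_one (LinearMap.toMatrix' (e.symm : (ι → K) →ₗ[K] (ι → K)))
    rw [← LinearMap.toMatrix'_comp]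
    have : (e : (ι → K) →ₗ[K] (ι → K)) ∘ₗ (e.symm : (ι → K) →ₗ[K] (ι → K)) = LinearMap.id := by
      ext v; simp
    rw [this, LinearMap.toMatrix'_id]
  · rw [LinearMap.toMatrix'_mulVec]
    rfl

theorem exists_P_of_plus (Q₁ Q₂ : QuadraticForm K (ι → K)) (m : ℕ)
    (h₁ : IsPlusType Q₁ m) (h₂ : IsPlusType Q₂ m) :
    ∃ P : Matrix ι ι K, IsUnit P ∧ ∀ v, Q₂ (P *ᵥ v) = (1 : K) * Q₁ v := by
  obtain ⟨φ₁, hφ₁⟩ := h₁
  obtain ⟨φ₂, hφ₂⟩ := h₂
  obtain ⟨P, hP, hPv⟩ := exists_mat_of_equiv (φ₁.trans φ₂.symm)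
  refine ⟨P, hP, fun v => ?_⟩
  rw [hPv, one_mul, ← hφ₂, LinearEquiv.trans_apply, LinearEquiv.apply_symm_apply, hφ₁]

theorem exists_P_of_minus [Fintype K] (Q₁ Q₂ : QuadraticForm K (ι → K)) (k : ℕ) (ζ₁ ζ₂ : K)
    (hζ₁ : ∀ t : K, t ^ 2 + t + ζ₁ ≠ 0) (hζ₂ : ∀ t : K, t ^ 2 + t + ζ₂ ≠ 0)
    (h₁ : IsMinusType Q₁ k ζ₁) (h₂ : IsMinusType Q₂ k ζ₂) :
    ∃ P : Matrix ι ι K, IsUnit P ∧ ∀ v, Q₂ (P *ᵥ v) = (1 : K) * Q₁ v := by
  obtain ⟨φ₁, hφ₁⟩ := h₁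
  obtain ⟨φ₂, hφ₂⟩ := h₂
  obtain ⟨ψ, hψ⟩ := Cfsg.Agent.Lib.Helper49.exists_equiv_minus_all k 1 ζ₂
    (anis_of_irred ζ₂ hζ₂) ζ₁ hζ₁
  obtain ⟨P, hP, hPv⟩ := exists_mat_of_equiv ((φ₁.trans ψ).trans φ₂.symm)
  refine ⟨P, hP, fun v => ?_⟩
  rw [hPv, one_mul, ← hφ₂, LinearEquiv.trans_apply, LinearEquiv.trans_apply,
    LinearEquiv.apply_symm_apply, hψ, hφ₁]

/-- a σ-fixed matrix has twisted powers equal to its powers -/
theorem map_pow_fixed {F : Type u} [Field F] (σ : RingAut F) (A : Matrix ι ι F)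
    (hA : A.map σ = A) (k : ℕ) : (A ^ k).map σ = A ^ k := by
  induction k with
  | zero => rw [pow_zero, map_one_ra]
  | succ k ih => rw [pow_succ, map_mul_ra, ih, hA]

theorem twP_fixed {F : Type u} [Field F] (σ : RingAut F) (A : Matrix ι ι F)
    (hA : A.map σ = A) (k : ℕ) : twP σ A k = A ^ k := by
  induction k with
  | zero => rw [twP_zero, pow_zero]
  | succ k ih => rw [twP_succ, ih, map_pow_fixed σ A hA, pow_succ']

end gen

section main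

variable {F : Type u} [Field F] (m : ℕ)

theorem compat_QPlus (σ : RingAut F) :
    ∀ v : Fin m ⊕ Fin m → F, QPlus m F (fun i => σ (v i)) = σ (QPlus m F v) :=
  compat_plus m σ

/-- the standard non-singular vector `e₁ + f₁` -/
def vStd (hm : 1 ≤ m) : Fin m ⊕ Fin m → F :=
  Sum.elim (fun i => if i = ⟨0, hm⟩ then 1 else 0) (fun i => if i = ⟨0, hm⟩ then 1 else 0)

theorem QPlus_vStd (hm : 1 ≤ m) : QPlus m F (vStd m hm) = 1 := by
  rw [QPlus_apply, Finset.sum_eq_single (⟨0, hm⟩ : Fin m)]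
  · simp [vStd]
  · intro i _ hi
    simp [vStd, hi]
  · intro h
    exact absurd (Finset.mem_univ _) h

theorem vStd_fixed (hm : 1 ≤ m) (σ : RingAut F) (i : Fin m ⊕ Fin m) :
    σ (vStd m hm i) = vStd m hm i := by
  rcases i with i | i <;> simp only [vStd, Sum.elim_inl, Sum.elim_inr] <;> split_ifs <;> simp

theorem descForm_plus (σ : RingAut F) :
    IsPlusType (descForm σ (QPlus m F) (compat_QPlus m σ)) m := by
  refine ⟨LinearEquiv.refl _ _, fun v => ?_⟩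
  apply Subtype.ext
  rw [LinearEquiv.refl_apply, descForm_apply]
  exact (quadFormPlus_coe (fixF σ) m v).symm

theorem plus_or_minus {K : Type u} [Field K] [Finite K]
    (Q₀ : QuadraticForm K (Fin m ⊕ Fin m → K)) (hQ : QND Q₀) :
    IsPlusType Q₀ m ∨ ∃ (k : ℕ) (ζ : K), m = k + 1 ∧ (∀ t : K, t ^ 2 + t + ζ ≠ 0) ∧
      IsMinusType Q₀ k ζ := by
  have hfr : Module.finrank K (Fin m ⊕ Fin m → K) = 2 * m := by
    rw [Module.finrank_fintype_fun_eq_card, card_plus_index]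
  rcases witt_type (2 * m) Q₀ hfr hQ with ⟨m', hm', hp⟩ | ⟨k, ζ, hk, hζ, hmin⟩ | ⟨k, c, hk, -, -⟩
  · left
    obtain rfl : m' = m := by omega
    exact hp
  · right
    exact ⟨k, ζ, by omega, hζ, hmin⟩
  · omega

end main

end Cfsg.Agent.Lib.Helper50
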