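import Cfsg.Agent.Lib.Helper50.PlusLangA
import Cfsg.Agent.Lib.Helper09.AnisoExt

set_option autoImplicit false

/-!
# The Lang-type statement for the class-preserving similarities of the hyperbolic form
(every characteristic)
-/

namespace Cfsg.Agent.Lib.Helper50

open Matrix Cfsg.Agent.Lib.Helper08 Cfsg.Agent.Lib.Helper26.LangGO

universe u

variable {F : Type u} [Field F] [Fintype F] (m : ℕ)

/-- the similarity group of the hyperbolic form -/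
abbrev SimPlus (m : ℕ) (F : Type u) [Field F] :=
  ↥(Cfsg.Geo.quadSimilarityGroup (F := F) (Cfsg.quadFormPlus m F))

/-- the matrix of a similarity -/
def matOf (g : SimPlus m F) : Matrix (Fin m ⊕ Fin m) (Fin m ⊕ Fin m) F := ((g : GL (Fin m ⊕ Fin m) F) : Matrix (Fin m ⊕ Fin m) (Fin m ⊕ Fin m) F)

theorem matOf_mul (g h : SimPlus m F) : matOf m (g * h) = matOf m g * matOf m h := by
  unfold matOf
  rw [Subgroup.coe_mul, Units.val_mul]

theorem matOf_sigmaGO (σ : ↥(compatAut (Cfsg.quadFormPlus m F))) (g : SimPlus m F) :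
    matOf m (sigmaGO (Cfsg.quadFormPlus m F) σ g) = (matOf m g).map σ.1 := rfl

theorem matOf_ext {g h : SimPlus m F} (e : matOf m g = matOf m h) : g = h :=
  simGO_ext _ e

/-- conjugating element from an `F₀`-similarity of the descended forms -/
theorem exists_conj_of_P (hm : 1 ≤ m) (σ : ↥(compatAut (Cfsg.quadFormPlus m F))) (N₁ N₂ : SimPlus m F)
    (Y₁ : Matrix (Fin m ⊕ Fin m) (Fin m ⊕ Fin m) F) (c₁ : F) (Q₁ : QuadraticForm (fixF σ.1) ((Fin m ⊕ Fin m) → fixF σ.1))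
    (h₁ : IsDesc σ.1 (QPlus m F) (matOf m N₁) Y₁ c₁ Q₁)
    (Y₂ : Matrix (Fin m ⊕ Fin m) (Fin m ⊕ Fin m) F) (c₂ : F) (Q₂ : QuadraticForm (fixF σ.1) ((Fin m ⊕ Fin m) → fixF σ.1))
    (h₂ : IsDesc σ.1 (QPlus m F) (matOf m N₂) Y₂ c₂ Q₂)
    (P : Matrix (Fin m ⊕ Fin m) (Fin m ⊕ Fin m) (fixF σ.1)) (hP : IsUnit P) (d : fixF σ.1)
    (hPQ : ∀ v, Q₂ (P *ᵥ v) = d * Q₁ v) :
    ∃ Z : SimPlus m F, N₂ * sigmaGO (Cfsg.quadFormPlus m F) σ Z = Z * N₁ := by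
  obtain ⟨Z, hZu, hZsim, hZ⟩ := lang_conj σ.1 (QPlus m F) _ Y₁ c₁ Q₁ h₁ _ Y₂ c₂ Q₂ h₂ P hP d hPQ
  have hκ : c₂ * (d : F) * c₁⁻¹ ≠ 0 := by
    intro h0
    obtain ⟨u, hu⟩ := hZu
    have h1 := hZsim ((u⁻¹).val *ᵥ vStd m hm)
    rw [Matrix.mulVec_mulVec, ← hu, Units.mul_inv, Matrix.one_mulVec, h0, zero_mul,
      QPlus_vStd] at h1
    exact one_ne_zero h1
  refine ⟨⟨hZu.unit, Units.mk0 _ hκ, fun v => hZsim v⟩, ?_⟩
  apply matOf_ext
  rw [matOf_mul, matOf_mul, matOf_sigmaGO]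
  exact hZ

/-- parity transport along a twisted conjugacy -/
theorem clsPlus_iff_of_conj (σ : ↥(compatAut (Cfsg.quadFormPlus m F))) (N₁ N₂ Z : SimPlus m F)
    (h : N₂ * sigmaGO (Cfsg.quadFormPlus m F) σ Z = Z * N₁) :
    N₂ ∈ clsPlus m ↔ N₁ ∈ clsPlus m := by
  by_cases hZ : Z ∈ clsPlus m
  · have hσZ : sigmaGO (Cfsg.quadFormPlus m F) σ Z ∈ clsPlus m :=
      (sigmaGO_mem_clsPlus_iff m σ Z).mpr hZ
    rw [← (clsPlus m).mul_mem_cancel_right hσZ, h, (clsPlus m).mul_mem_cancel_left hZ]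
  · have hσZ : sigmaGO (Cfsg.quadFormPlus m F) σ Z ∉ clsPlus m := fun hc =>
      hZ ((sigmaGO_mem_clsPlus_iff m σ Z).mp hc)
    constructor
    · intro h2
      by_contra h1
      have h3 : Z * N₁ ∈ clsPlus m := mul_mem_clsPlus_of_not m Z N₁ hZ h1
      rw [← h, (clsPlus m).mul_mem_cancel_left h2] at h3
      exact hσZ h3
    · intro h1
      by_contra h2
      have h3 : N₂ * sigmaGO (Cfsg.quadFormPlus m F) σ Z ∈ clsPlus m :=
        mul_mem_clsPlus_of_not m _ _ h2 hσZ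
      rw [h, (clsPlus m).mul_mem_cancel_right h1] at h3
      exact hZ h3

/-- a descent datum of plus type belongs to a class-preserving similarity -/
theorem mem_clsPlus_of_desc_plus (hm : 1 ≤ m) (σ : ↥(compatAut (Cfsg.quadFormPlus m F)))
    (N : SimPlus m F) (Y : Matrix (Fin m ⊕ Fin m) (Fin m ⊕ Fin m) F) (c : F) (Q₀ : QuadraticForm (fixF σ.1) ((Fin m ⊕ Fin m) → fixF σ.1))
    (hd : IsDesc σ.1 (QPlus m F) (matOf m N) Y c Q₀) (hp : IsPlusType Q₀ m) :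
    N ∈ clsPlus m := by
  obtain ⟨P, hP, hPQ⟩ := exists_P_of_plus _ Q₀ m (descForm_plus m σ.1) hp
  have h1 : IsDesc σ.1 (QPlus m F) (matOf m (1 : SimPlus m F)) 1 1
      (descForm σ.1 (QPlus m F) (compat_QPlus m σ.1)) :=
    desc_one σ.1 (QPlus m F) (compat_QPlus m σ.1)
  obtain ⟨Z, hZ⟩ := exists_conj_of_P m hm σ 1 N 1 1 _ h1 Y c Q₀ hd P hP 1 hPQ
  exact (clsPlus_iff_of_conj m σ 1 N Z hZ).mpr (clsPlus m).one_mem

/-- existence of descent data -/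
theorem exists_desc (hm : 1 ≤ m) (σ : ↥(compatAut (Cfsg.quadFormPlus m F))) {r : ℕ}
    (hr : orderOf σ = r) (hr0 : 0 < r) (N : SimPlus m F) (htw : twP σ.1 (matOf m N) r = 1) :
    ∃ (Y : Matrix (Fin m ⊕ Fin m) (Fin m ⊕ Fin m) F) (c : F) (Q₀ : QuadraticForm (fixF σ.1) ((Fin m ⊕ Fin m) → fixF σ.1)),
      IsDesc σ.1 (QPlus m F) (matOf m N) Y c Q₀ ∧ QND Q₀ := by
  have hσ' : orderOf (σ.1 : RingAut F) = r := by rw [← hr]; exact Subgroup.orderOf_coe σ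
  obtain ⟨μ, -, hμ⟩ := mult_of_mem m N
  obtain ⟨Y, c, Q₀, hd, hnd⟩ := lang_descent σ.1 (QPlus m F) (compat_QPlus m σ.1)
    ⟨vStd m hm, by rw [QPlus_vStd]; exact one_ne_zero⟩ hσ' hr0 (matOf m N) μ hμ htw
  exact ⟨Y, c, Q₀, hd, hnd (QND_of_nondegenerate _ QPlus_nondegenerate)⟩

/-- the standard reflection -/
noncomputable def tStd (hm : 1 ≤ m) : SimPlus m F :=
  reflGO (QPlus m F) (vStd m hm) (by rw [QPlus_vStd]; exact one_ne_zero)

theorem tStd_not_mem (hm : 1 ≤ m) : (tStd m hm : SimPlus m F) ∉ clsPlus m :=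
  reflection_not_mem_clsPlus m hm _ (vStd m hm)
    (by change QPlus m F (vStd m hm) ≠ 0; rw [QPlus_vStd]; exact one_ne_zero) rfl

theorem tStd_mul_self (hm : 1 ≤ m) : (tStd m hm : SimPlus m F) * tStd m hm = 1 :=
  reflGO_mul_self (QPlus m F) (vStd m hm) _

theorem sigmaGO_tStd (hm : 1 ≤ m) (σ : ↥(compatAut (Cfsg.quadFormPlus m F))) :
    sigmaGO (Cfsg.quadFormPlus m F) σ (tStd m hm) = tStd m hm :=
  sigmaGO_reflGO (QPlus m F) σ (vStd m hm) _ (fun i => vStd_fixed m hm σ.1 i)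

/-- twisted powers of a fixed element -/
theorem twP_of_fixed (σ : ↥(compatAut (Cfsg.quadFormPlus m F))) (t : SimPlus m F)
    (ht : sigmaGO (Cfsg.quadFormPlus m F) σ t = t) (k : ℕ) :
    twP σ.1 (matOf m t) k = matOf m (t ^ k) := by
  have h1 : (matOf m t).map σ.1 = matOf m t := by
    rw [← matOf_sigmaGO, ht]
  rw [twP_fixed σ.1 _ h1]
  unfold matOf
  rw [Subgroup.coe_pow, Units.val_pow_eq_pow_val]

/-- a descent datum of minus type belongs to a class-swapping similarity -/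
theorem not_mem_clsPlus_of_desc_minus (hm : 1 ≤ m) (σ : ↥(compatAut (Cfsg.quadFormPlus m F)))
    {r : ℕ} (hr : orderOf σ = r) (hr0 : 0 < r)
    (N : SimPlus m F) (Y : Matrix (Fin m ⊕ Fin m) (Fin m ⊕ Fin m) F) (c : F) (Q₀ : QuadraticForm (fixF σ.1) ((Fin m ⊕ Fin m) → fixF σ.1))
    (hd : IsDesc σ.1 (QPlus m F) (matOf m N) Y c Q₀) (k : ℕ) (ζ : fixF σ.1) (hk : m = k + 1)
    (hζ : ∀ t : fixF σ.1, t ^ 2 + t + ζ ≠ 0) (hmin : IsMinusType Q₀ k ζ) :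
    N ∉ clsPlus m := by
  have hσ' : orderOf (σ.1 : RingAut F) = r := by rw [← hr]; exact Subgroup.orderOf_coe σ
  rcases Nat.even_or_odd r with hev | hodd
  · -- even order: compare with the standard reflection
    have htw : twP σ.1 (matOf m (tStd m hm : SimPlus m F)) r = 1 := by
      rw [twP_of_fixed m σ _ (sigmaGO_tStd m hm σ)]
      obtain ⟨j, hj⟩ := hev
      have : (tStd m hm : SimPlus m F) ^ r = 1 := by
        rw [hj, ← two_mul, pow_mul, pow_two, tStd_mul_self, one_pow]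
      rw [this]
      rfl
    obtain ⟨Y', c', Q', hd', hnd'⟩ := exists_desc m hm σ hr hr0 (tStd m hm) htw
    rcases plus_or_minus m Q' hnd' with hp | ⟨k', ζ', hk', hζ', hmin'⟩
    · exact absurd (mem_clsPlus_of_desc_plus m hm σ _ Y' c' Q' hd' hp) (tStd_not_mem m hm)
    · obtain rfl : k' = k := by omega
      haveI : Fintype (fixF σ.1) := Fintype.ofFinite _
      obtain ⟨P, hP, hPQ⟩ := exists_P_of_minus Q' Q₀ k' ζ' ζ hζ' hζ hmin' hmin
      obtain ⟨Z, hZ⟩ := exists_conj_of_P m hm σ (tStd m hm) N Y' c' Q' hd' Y c Q₀ hd P hP 1 hPQ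
      intro hN
      exact tStd_not_mem m hm ((clsPlus_iff_of_conj m σ _ N Z hZ).mp hN)
  · -- odd order: the extended form would be of both types
    exfalso
    obtain ⟨hYu, hc, -, hQ₀⟩ := hd
    obtain ⟨R, hR⟩ : ∃ R : QuadraticForm F ((Fin m ⊕ Fin m) → F), R =
        c⁻¹ • (QPlus m F).comp (Matrix.toLin' Y) := ⟨_, rfl⟩
    have hRv : ∀ v, R v = c⁻¹ * QPlus m F (Y *ᵥ v) := by
      intro v
      rw [hR, QuadraticMap.smul_apply, QuadraticMap.comp_apply, Matrix.toLin'_apply, smul_eq_mul]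
    have hR0 : ∀ v : (Fin m ⊕ Fin m) → fixF σ.1, R (fun i => (v i : F)) = ((Q₀ v : fixF σ.1) : F) := by
      intro v
      rw [hRv]
      have := hQ₀ v
      unfold upV at this
      rw [this, ← mul_assoc, inv_mul_cancel₀ hc, one_mul]
    have hminus : IsMinusType R k (ζ : F) := isMinusType_ext (fixF σ.1) Q₀ R hR0 k ζ hmin
    have hζF : ∀ t : F, t ^ 2 + t + (ζ : F) ≠ 0 :=
      Cfsg.Agent.Lib.Helper09.AnisoExt.irred_param_of_odd_order' (fixF σ.1).subtype σ.1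
        (by rw [hσ']; exact hodd) (fun x => x.2) (fun y hy => ⟨⟨y, hy⟩, rfl⟩) ζ hζ
    have hplus : IsPlusType R m := by
      have hdu : IsUnit (dilMat m c⁻¹ * Y) := by
        refine IsUnit.mul ?_ hYu
        rw [Matrix.isUnit_iff_isUnit_det, det_dilMat]
        exact (pow_ne_zero _ (inv_ne_zero hc)).isUnit
      obtain ⟨e, he⟩ := exists_equiv_of_isUnit _ hdu
      refine ⟨e, fun v => ?_⟩
      rw [he, ← Matrix.mulVec_mulVec, quadFormPlus_dil, hRv]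
      rfl
    subst hk
    exact not_plus_and_minus R k (ζ : F) hζF hplus hminus

/-- **Lang for pairs**: two similarities with trivial twisted norm and the same class parity are
twisted conjugate. -/
theorem lang_pair (hm : 1 ≤ m) (σ : ↥(compatAut (Cfsg.quadFormPlus m F))) {r : ℕ}
    (hr : orderOf σ = r) (hr0 : 0 < r) (N₁ N₂ : SimPlus m F)
    (h₁ : twP σ.1 (matOf m N₁) r = 1) (h₂ : twP σ.1 (matOf m N₂) r = 1)
    (hiff : N₁ ∈ clsPlus m ↔ N₂ ∈ clsPlus m) :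
    ∃ Z : SimPlus m F, N₂ * sigmaGO (Cfsg.quadFormPlus m F) σ Z = Z * N₁ := by
  obtain ⟨Y₁, c₁, Q₁, hd₁, hnd₁⟩ := exists_desc m hm σ hr hr0 N₁ h₁
  obtain ⟨Y₂, c₂, Q₂, hd₂, hnd₂⟩ := exists_desc m hm σ hr hr0 N₂ h₂
  haveI : Fintype (fixF σ.1) := Fintype.ofFinite _
  rcases plus_or_minus m Q₁ hnd₁ with hp₁ | ⟨k₁, ζ₁, hk₁, hζ₁, hmin₁⟩
  · rcases plus_or_minus m Q₂ hnd₂ with hp₂ | ⟨k₂, ζ₂, hk₂, hζ₂, hmin₂⟩
    · obtain ⟨P, hP, hPQ⟩ := exists_P_of_plus Q₁ Q₂ m hp₁ hp₂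
      exact exists_conj_of_P m hm σ N₁ N₂ Y₁ c₁ Q₁ hd₁ Y₂ c₂ Q₂ hd₂ P hP 1 hPQ
    · exfalso
      have a1 := mem_clsPlus_of_desc_plus m hm σ N₁ Y₁ c₁ Q₁ hd₁ hp₁
      exact not_mem_clsPlus_of_desc_minus m hm σ hr hr0 N₂ Y₂ c₂ Q₂ hd₂ k₂ ζ₂ hk₂ hζ₂ hmin₂
        (hiff.mp a1)
  · rcases plus_or_minus m Q₂ hnd₂ with hp₂ | ⟨k₂, ζ₂, hk₂, hζ₂, hmin₂⟩
    · exfalso
      have a2 := mem_clsPlus_of_desc_plus m hm σ N₂ Y₂ c₂ Q₂ hd₂ hp₂
      exact not_mem_clsPlus_of_desc_minus m hm σ hr hr0 N₁ Y₁ c₁ Q₁ hd₁ k₁ ζ₁ hk₁ hζ₁ hmin₁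
        (hiff.mpr a2)
    · obtain rfl : k₁ = k₂ := by omega
      obtain ⟨P, hP, hPQ⟩ := exists_P_of_minus Q₁ Q₂ k₁ ζ₁ ζ₂ hζ₁ hζ₂ hmin₁ hmin₂
      exact exists_conj_of_P m hm σ N₁ N₂ Y₁ c₁ Q₁ hd₁ Y₂ c₂ Q₂ hd₂ P hP 1 hPQ

/-- **Lang for the class-preserving similarities, with a twisted base point.** -/
theorem lang_clsPlus_tw (hm : 1 ≤ m) (σ : ↥(compatAut (Cfsg.quadFormPlus m F))) {r : ℕ}
    (hr : orderOf σ = r) (hr0 : 0 < r) (t : SimPlus m F) (ht : twP σ.1 (matOf m t) r = 1)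
    (w : SimPlus m F) (hw : w ∉ clsPlus m) (hwσ : sigmaGO (Cfsg.quadFormPlus m F) σ w = w)
    (hwt : w * t = t * w) (g : SimPlus m F) (hg : g ∈ clsPlus m)
    (htw : twP σ.1 (matOf m (g * t)) r = 1) :
    ∃ Y : SimPlus m F, Y ∈ clsPlus m ∧ (g * t) * sigmaGO (Cfsg.quadFormPlus m F) σ Y = Y * t := by
  obtain ⟨Z, hZ⟩ := lang_pair m hm σ hr hr0 t (g * t) ht htw
    ((clsPlus m).mul_mem_cancel_left hg).symm
  by_cases hZc : Z ∈ clsPlus m
  · exact ⟨Z, hZc, hZ⟩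
  · refine ⟨Z * w, mul_mem_clsPlus_of_not m Z w hZc hw, ?_⟩
    have e : sigmaGO (Cfsg.quadFormPlus m F) σ (Z * w) =
        sigmaGO (Cfsg.quadFormPlus m F) σ Z * sigmaGO (Cfsg.quadFormPlus m F) σ w := by
      apply matOf_ext
      rw [matOf_sigmaGO, matOf_mul, matOf_mul, matOf_sigmaGO, matOf_sigmaGO, map_mul_ra]
    rw [e, hwσ, ← mul_assoc, hZ, mul_assoc, mul_assoc, hwt]

end Cfsg.Agent.Lib.Helper50
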