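import Mathlib

set_option autoImplicit false

/-! Quotients of order two and four, identified with the standard models. -/

namespace Cfsg.Agent.Lib.Helper50

theorem exists_hom_of_quotient_equiv {P : Type*} [Group P] (I : Subgroup P) [I.Normal]
    {A : Type*} [Group A] (e : P ⧸ I ≃* A) :
    ∃ φ : P →* A, Function.Surjective φ ∧ φ.ker = I := by
  refine ⟨e.toMonoidHom.comp (QuotientGroup.mk' I), ?_, ?_⟩
  · exact e.surjective.comp (QuotientGroup.mk'_surjective I)
  · ext g
    simp only [MonoidHom.mem_ker, MonoidHom.comp_apply, MulEquiv.coe_toMonoidHom,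
      EmbeddingLike.map_eq_one_iff, QuotientGroup.mk'_apply, QuotientGroup.eq_one_iff]

theorem exists_hom_zmod_two {P : Type*} [Group P] (I : Subgroup P) [I.Normal]
    (hidx : I.index = 2) :
    ∃ φ : P →* Multiplicative (ZMod 2), Function.Surjective φ ∧ φ.ker = I := by
  have hcard : Nat.card (P ⧸ I) = 2 := by rw [← Subgroup.index_eq_card, hidx]
  have : Fact (Nat.Prime 2) := ⟨Nat.prime_two⟩
  have hc : IsCyclic (P ⧸ I) := isCyclic_of_prime_card hcard
  have hc2 : Nat.card (P ⧸ I) = Nat.card (Multiplicative (ZMod 2)) := by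
    rw [hcard, Nat.card_eq_fintype_card]; rfl
  exact exists_hom_of_quotient_equiv I (mulEquivOfCyclicCardEq hc2)

theorem exists_hom_zmod_four {P : Type*} [Group P] (I : Subgroup P) [I.Normal]
    (hidx : I.index = 4) (x : P) (hx : x * x ∉ I) :
    ∃ φ : P →* Multiplicative (ZMod 4), Function.Surjective φ ∧ φ.ker = I := by
  have hcard : Nat.card (P ⧸ I) = 4 := by rw [← Subgroup.index_eq_card, hidx]
  have : Finite (P ⧸ I) := Nat.finite_of_card_ne_zero (by rw [hcard]; norm_num)
  set X : P ⧸ I := QuotientGroup.mk x with hX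
  have hX2 : X ^ 2 ≠ 1 := by
    rw [pow_two, hX, ← QuotientGroup.mk_mul, Ne, QuotientGroup.eq_one_iff]
    exact hx
  have hdvd : orderOf X ∣ 4 := by rw [← hcard]; exact orderOf_dvd_natCard X
  have ho : orderOf X = 4 := by
    have h2 : ¬ orderOf X ∣ 2 := fun h => hX2 (orderOf_dvd_iff_pow_eq_one.mp h)
    have h3 : orderOf X ≤ 4 := Nat.le_of_dvd (by norm_num) hdvd
    interval_cases h : orderOf X <;> simp_all
  have hc : IsCyclic (P ⧸ I) := isCyclic_of_orderOf_eq_card X (by rw [ho, hcard])
  have hc2 : Nat.card (P ⧸ I) = Nat.card (Multiplicative (ZMod 4)) := by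
    rw [hcard, Nat.card_eq_fintype_card]; rfl
  exact exists_hom_of_quotient_equiv I (mulEquivOfCyclicCardEq hc2)

theorem exists_hom_klein {P : Type*} [Group P] (I : Subgroup P) [I.Normal]
    (hidx : I.index = 4) (a b : P) (ha : a ∉ I) (hb : b ∉ I) (hab : a⁻¹ * b ∉ I)
    (ha2 : a * a ∈ I) (hb2 : b * b ∈ I) :
    ∃ φ : P →* Multiplicative (ZMod 2 × ZMod 2), Function.Surjective φ ∧ φ.ker = I := by
  classical
  have hcard : Nat.card (P ⧸ I) = 4 := by rw [← Subgroup.index_eq_card, hidx]
  have : Finite (P ⧸ I) := Nat.finite_of_card_ne_zero (by rw [hcard]; norm_num)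
  have : Fintype (P ⧸ I) := Fintype.ofFinite _
  set A : P ⧸ I := QuotientGroup.mk a with hA
  set B : P ⧸ I := QuotientGroup.mk b with hB
  have hA1 : A ≠ 1 := by rw [hA, Ne, QuotientGroup.eq_one_iff]; exact ha
  have hB1 : B ≠ 1 := by rw [hB, Ne, QuotientGroup.eq_one_iff]; exact hb
  have hAB : A ≠ B := by
    rw [hA, hB, Ne, QuotientGroup.eq]; exact hab
  have hAA : A ^ 2 = 1 := by
    rw [pow_two, hA, ← QuotientGroup.mk_mul, QuotientGroup.eq_one_iff]; exact ha2
  have hBB : B ^ 2 = 1 := by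
    rw [pow_two, hB, ← QuotientGroup.mk_mul, QuotientGroup.eq_one_iff]; exact hb2
  have hnt : Nontrivial (P ⧸ I) := ⟨⟨A, 1, hA1⟩⟩
  have hall : ∀ g : P ⧸ I, g ^ 2 = 1 := by
    intro g
    by_contra hg
    have hdvd : orderOf g ∣ 4 := by rw [← hcard]; exact orderOf_dvd_natCard g
    have ho : orderOf g = 4 := by
      have h2 : ¬ orderOf g ∣ 2 := fun h => hg (orderOf_dvd_iff_pow_eq_one.mp h)
      have h3 : orderOf g ≤ 4 := Nat.le_of_dvd (by norm_num) hdvd
      interval_cases h : orderOf g <;> simp_all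
    have hc : IsCyclic (P ⧸ I) := isCyclic_of_orderOf_eq_card g (by rw [ho, hcard])
    have hle := IsCyclic.card_pow_eq_one_le (α := P ⧸ I) (n := 2) (by norm_num)
    have hsub : ({1, A, B} : Finset (P ⧸ I)) ⊆
        Finset.univ.filter (fun y : P ⧸ I => y ^ 2 = 1) := by
      intro y hy
      simp only [Finset.mem_insert, Finset.mem_singleton] at hy
      rw [Finset.mem_filter]
      refine ⟨Finset.mem_univ _, ?_⟩
      rcases hy with rfl | rfl | rfl
      · exact one_pow 2
      · exact hAA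
      · exact hBB
    have h3 : ({1, A, B} : Finset (P ⧸ I)).card = 3 := by
      rw [Finset.card_insert_of_notMem, Finset.card_insert_of_notMem, Finset.card_singleton]
      · simpa using hAB
      · simp only [Finset.mem_insert, Finset.mem_singleton, not_or]
        exact ⟨hA1.symm, hB1.symm⟩
    have := Finset.card_le_card hsub
    omega
  have hk : IsKleinFour (P ⧸ I) := by
    refine ⟨hcard, ?_⟩
    rw [Monoid.exponent_eq_prime_iff Nat.prime_two]
    intro g hg
    exact orderOf_eq_prime (hall g) hg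
  obtain ⟨e⟩ := IsKleinFour.nonempty_mulEquiv (G₁ := P ⧸ I)
    (G₂ := Multiplicative (ZMod 2 × ZMod 2))
  exact exists_hom_of_quotient_equiv I e

end Cfsg.Agent.Lib.Helper50
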