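import Mathlib
import Cfsg.Agent.Lib.Helper49.RSU3Defs
import Cfsg.Agent.Lib.Helper40.GUConj
import Cfsg.Agent.Lib.Helper21.RSU3L04

/-!
# K-RSU3-L22 (keystone 228322, S2283): the torus lies in `⟨U, U⁻⟩`
-/

set_option autoImplicit false
set_option linter.unusedSectionVars false
set_option linter.unusedVariables false

namespace Cfsg.Agent.Lib.Helper50.RSU3

open Matrix Cfsg.Agent.Lib.Helper49.StSU Cfsg.Agent.Lib.Helper49.RSU3

variable {F : Type*} [Field F] [Fintype F] {q : ℕ}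

theorem l22_det_y (a b : F) : (yM q a b).det = 1 := by
  unfold yM
  rw [Matrix.det_fin_three]
  simp

theorem l22_mulVec_y (a b : F) (u : Fin 3 → F) :
    yM q a b *ᵥ u = ![u 0, a * u 0 + u 1, b * u 0 - a ^ q * u 1 + u 2] := by
  unfold yM
  ext i
  fin_cases i <;> simp [Matrix.mulVec, dotProduct, Fin.sum_univ_three] <;> ring

theorem l22_exists_y (hF : Fintype.card F = q ^ 2) (a b : F) (h : Val q a b) :
    ∃ g : GJ 3 F q, mat g = yM q a b := by
  obtain ⟨φ, hφ, hφφ, -⟩ := Cfsg.Agent.Lib.Helper40.GUConj.exists_frob hF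
  have h' : b + φ b + a * φ a = 0 := by
    rw [hφ b, hφ a]; exact h
  have hM : ∀ u v, hJ 3 F q (yM q a b *ᵥ u) (yM q a b *ᵥ v) = hJ 3 F q u v := by
    intro u v
    rw [Cfsg.Agent.Lib.Helper21.RSU3.l04_hJ φ hφ, Cfsg.Agent.Lib.Helper21.RSU3.l04_hJ φ hφ,
      l22_mulVec_y, l22_mulVec_y, ← hφ a]
    simp only [Matrix.cons_val_zero, Matrix.cons_val_one, Matrix.cons_val_two, Matrix.head_cons,
      Matrix.tail_cons, map_add, map_sub, map_mul, hφφ]
    linear_combination (u 0 * φ (v 0)) * h'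
  exact ⟨⟨⟨yM q a b, l22_det_y a b⟩, hM⟩, rfl⟩

/-- the norm `a ↦ a * a^q` is onto the fixed field of `x ↦ x^q` -/
theorem l22_norm_surj (hq : 3 ≤ q) (hF : Fintype.card F = q ^ 2) (c : F) (hc : c ^ q = c) :
    ∃ a : F, a * a ^ q = c := by
  classical
  by_cases hc0 : c = 0
  · exact ⟨0, by rw [hc0, zero_mul]⟩
  obtain ⟨g, hg⟩ := IsCyclic.exists_monoid_generator (α := Fˣ)
  have hord : orderOf g = q ^ 2 - 1 := by
    rw [orderOf_eq_card_of_forall_mem_zpowers (fun x => Submonoid.powers_le_zpowers g (hg x)),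
      Nat.card_eq_fintype_card, Fintype.card_units, hF]
  obtain ⟨k, hk⟩ := hg (Units.mk0 c hc0)
  have hk' : g ^ k = Units.mk0 c hc0 := hk
  have h1 : (Units.mk0 c hc0) ^ (q - 1) = 1 := by
    apply Units.ext
    rw [Units.val_pow_eq_pow_val, Units.val_mk0, Units.val_one]
    have h2 : c ^ (q - 1) * c = c := by
      rw [← pow_succ, Nat.sub_add_cancel (by omega), hc]
    exact mul_right_cancel₀ hc0 (by rw [h2, one_mul])
  rw [← hk', ← pow_mul] at h1
  have h2 : (q ^ 2 - 1) ∣ k * (q - 1) := by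
    rw [← hord]; exact orderOf_dvd_of_pow_eq_one h1
  have h3 : q ^ 2 - 1 = (q + 1) * (q - 1) := by
    obtain ⟨r, rfl⟩ : ∃ r, q = r + 1 := ⟨q - 1, by omega⟩
    rw [Nat.add_sub_cancel]
    have h4 : (r + 1) ^ 2 = (r + 1 + 1) * r + 1 := by ring
    omega
  rw [h3] at h2
  have h4 : (q + 1) ∣ k := Nat.dvd_of_mul_dvd_mul_right (by omega) h2
  obtain ⟨j, rfl⟩ := h4
  refine ⟨((g ^ j : Fˣ) : F), ?_⟩
  have h5 : ((g ^ j : Fˣ) : F) * ((g ^ j : Fˣ) : F) ^ q = (((g ^ j) ^ (q + 1) : Fˣ) : F) := by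
    rw [Units.val_pow_eq_pow_val (g ^ j) (q + 1), pow_succ']
  rw [h5, ← pow_mul, mul_comm j, hk', Units.val_mk0]

/-- the monomial elements `n(a,b)` -/
theorem l22_nab (hF : Fintype.card F = q ^ 2) (φ : F →+* F) (hφ : ∀ x, φ x = x ^ q)
    (hφφ : ∀ x, φ (φ x) = x) (H : Subgroup (GJ 3 F q))
    (hU : ∀ (X : GJ 3 F q) (a b : F), mat X = xM q a b → X ∈ H)
    (hY : ∀ (Y : GJ 3 F q) (a b : F), mat Y = yM q a b → Y ∈ H)
    (a b : F) (hb : b ≠ 0) (hv : b + φ b + a * φ a = 0) :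
    ∃ n ∈ H, mat n = !![0, 0, 1 / φ b; 0, -(φ b / b), 0; b, 0, 0] := by
  have hφb : φ b ≠ 0 := (map_ne_zero φ).2 hb
  obtain ⟨X1, hX1⟩ := Cfsg.Agent.Lib.Helper21.RSU3.exists_x hF (φ a / φ b) (1 / φ b) (by
    unfold Val
    rw [← hφ, ← hφ, map_div₀, map_div₀, hφφ, hφφ, map_one]
    field_simp
    linear_combination hv)
  obtain ⟨Y, hY1⟩ := l22_exists_y hF a b (by unfold Val; rw [← hφ, ← hφ]; exact hv)
  obtain ⟨X2, hX2⟩ := Cfsg.Agent.Lib.Helper21.RSU3.exists_x hF (φ a / b) (1 / φ b) (by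
    unfold Val
    rw [← hφ, ← hφ]
    simp only [map_div₀, hφφ, map_one]
    field_simp
    linear_combination hv)
  refine ⟨X1 * Y * X2, H.mul_mem (H.mul_mem (hU X1 _ _ hX1) (hY Y _ _ hY1)) (hU X2 _ _ hX2), ?_⟩
  rw [mat_mul, mat_mul, hX1, hY1, hX2]
  unfold xM yM
  rw [← hφ, ← hφ, ← hφ]
  simp only [map_div₀, hφφ]
  have hA : a * φ a = -(b + φ b) := by linear_combination hv
  ext i j
  fin_cases i <;> fin_cases j
  all_goals simp [Matrix.mul_apply, Fin.sum_univ_three]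
  all_goals try field_simp
  all_goals try (linear_combination hv)
  all_goals try (linear_combination (-1 : F) * hv)
  all_goals try (linear_combination (φ a) * hv)
  all_goals try (linear_combination (-φ a) * hv)
  all_goals try (linear_combination (a) * hv)
  all_goals try (linear_combination (-a) * hv)
  all_goals ring

theorem torus_mem (hq : 3 ≤ q) (hF : Fintype.card F = q ^ 2) (H : Subgroup (GJ 3 F q))
    (hU : ∀ (X : GJ 3 F q) (a b : F), mat X = xM q a b → X ∈ H)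
    (hY : ∀ (Y : GJ 3 F q) (a b : F), mat Y = yM q a b → Y ∈ H)
    (t : GJ 3 F q) (m : F) (ht : mat t = hM q m) : t ∈ H := by
  obtain ⟨φ, hφ, hφφ, θ, hθ⟩ := Cfsg.Agent.Lib.Helper40.GUConj.exists_frob hF
  have hq0 : q ≠ 0 := by omega
  have hm : m ≠ 0 := by
    rintro rfl
    have hd := det_mat t
    rw [ht] at hd
    unfold hM at hd
    rw [Matrix.det_fin_three] at hd
    simp [hq0] at hd
  have hb0ne : θ - φ θ ≠ 0 := by
    intro h
    apply hθ
    rw [sub_eq_zero] at h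
    exact h.symm
  have hb0φ : φ (θ - φ θ) = -(θ - φ θ) := by
    rw [map_sub, hφφ]; ring
  obtain ⟨b0, hb0⟩ : ∃ b0 : F, b0 = θ - φ θ := ⟨_, rfl⟩
  rw [← hb0] at hb0ne hb0φ
  have hφm : φ m ≠ 0 := (map_ne_zero φ).2 hm
  obtain ⟨b, hb⟩ : ∃ b : F, b = b0 / φ m := ⟨_, rfl⟩
  have hbne : b ≠ 0 := by rw [hb]; exact div_ne_zero hb0ne hφm
  have hφb : φ b = -b0 / m := by rw [hb, map_div₀, hb0φ, hφφ]
  obtain ⟨a, ha⟩ := l22_norm_surj hq hF (-(b + φ b)) (by
    rw [← hφ, map_neg, map_add, hφφ]; ring)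
  rw [← hφ] at ha
  obtain ⟨nab, hnabH, hnab⟩ := l22_nab hF φ hφ hφφ H hU hY a b hbne (by linear_combination ha)
  obtain ⟨n0, hn0H, hn0⟩ := l22_nab hF φ hφ hφφ H hU hY 0 b0 hb0ne (by
    rw [hb0φ]; ring)
  have hkey : t * n0 = nab := by
    apply mat_injective
    rw [mat_mul, ht, hn0, hnab]
    unfold hM
    rw [← hφ, hb0φ, hφb, hb]
    ext i j
    fin_cases i <;> fin_cases j <;>
      simp [Matrix.mul_apply, Fin.sum_univ_three] <;> field_simp
  have : t = nab * n0⁻¹ := by rw [← hkey, mul_inv_cancel_right]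
  rw [this]
  exact H.mul_mem hnabH (H.inv_mem hn0H)

end Cfsg.Agent.Lib.Helper50.RSU3
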