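import Mathlib
import Cfsg.Agent.Lib.Helper73.RUDefs
import Cfsg.Agent.Lib.Helper65.RU5Defs

set_option autoImplicit false

/-!
# S2279 K-RU5 leaf L1 (keystone 227911): the vectors `c_k = a^k e_last`
-/

namespace Cfsg.Agent.Lib.Helper50.RU5x

open Matrix Cfsg.Agent.Lib.Helper73.RU Cfsg.Agent.Lib.Helper65.RU5

/-- the entries of `aMat *ᵥ x`: `x i + x (i+1)` -/
theorem l1_aMat_mulVec_apply (m : ℕ) (F : Type*) [Field F] (x : Fin (m + 3) → F) (i : Fin (m + 3)) :
    (aMat m F *ᵥ x) i = x i + (if h : i.val + 1 < m + 3 then x ⟨i.val + 1, h⟩ else 0) := by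
  unfold aMat
  simp only [Matrix.mulVec, dotProduct, Matrix.of_apply]
  have key : ∀ j : Fin (m + 3), (if i = j ∨ i.val + 1 = j.val then (1 : F) else 0) * x j =
      (if i = j then x j else 0) + (if i.val + 1 = j.val then x j else 0) := by
    intro j
    by_cases h1 : i = j
    · subst h1; simp
    · by_cases h2 : i.val + 1 = j.val
      · simp [h1, h2]
      · simp [h1, h2]
  simp only [key]
  rw [Finset.sum_add_distrib, Finset.sum_ite_eq]
  simp only [Finset.mem_univ, if_true]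
  congr 1
  split_ifs with h
  · rw [Finset.sum_eq_single (⟨i.val + 1, h⟩ : Fin (m + 3))]
    · simp
    · intro b _ hb
      rw [if_neg]
      intro hb2
      apply hb
      ext
      exact hb2.symm
    · simp
  · apply Finset.sum_eq_zero
    intro j _
    rw [if_neg]
    have := j.isLt
    omega

theorem cvec_zero (m : ℕ) (F : Type*) [Field F] :
    cvec m F 0 = Pi.single (Fin.last (m + 2)) 1 := by
  ext i
  unfold cvec
  by_cases h : i = Fin.last (m + 2)
  · subst h
    simp
  · rw [Pi.single_eq_of_ne h]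
    have h2 : i.val ≠ m + 2 := fun h3 => h (Fin.ext (by simpa using h3))
    have h3 := i.isLt
    obtain ⟨r, hr⟩ : ∃ r, m + 2 - i.val = r + 1 := ⟨m + 1 - i.val, by omega⟩
    rw [hr, Nat.choose_zero_succ, Nat.cast_zero]

theorem aMat_mulVec_cvec (m : ℕ) (F : Type*) [Field F] (k : ℕ) :
    aMat m F *ᵥ cvec m F k = cvec m F (k + 1) := by
  ext i
  rw [l1_aMat_mulVec_apply]
  unfold cvec
  have h3 := i.isLt
  split_ifs with h
  · obtain ⟨r, hr⟩ : ∃ r, m + 2 - i.val = r + 1 := ⟨m + 1 - i.val, by omega⟩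
    have h2 : m + 2 - (i.val + 1) = r := by omega
    simp only []
    rw [hr, h2, Nat.choose_succ_succ, Nat.cast_add, add_comm]
  · have h2 : m + 2 - i.val = 0 := by omega
    rw [h2]
    simp

theorem cvec_apply_zero (m : ℕ) (F : Type*) [Field F] (k : ℕ) (hk : k ≤ m + 1) : cvec m F k 0 = 0 := by
  unfold cvec
  rw [Fin.val_zero, Nat.sub_zero, Nat.choose_eq_zero_of_lt (by omega), Nat.cast_zero]

theorem cvec_apply_one (m : ℕ) (F : Type*) [Field F] (k : ℕ) (hk : k ≤ m) : cvec m F k 1 = 0 := by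
  unfold cvec
  have h1 : ((1 : Fin (m + 3)) : ℕ) = 1 := rfl
  rw [h1, Nat.choose_eq_zero_of_lt (by omega), Nat.cast_zero]

theorem cvec_apply_one_top (m : ℕ) (F : Type*) [Field F] : cvec m F (m + 1) 1 = 1 := by
  unfold cvec
  have h1 : ((1 : Fin (m + 3)) : ℕ) = 1 := rfl
  rw [h1, show m + 2 - 1 = m + 1 by omega, Nat.choose_self, Nat.cast_one]

end Cfsg.Agent.Lib.Helper50.RU5x
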