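import Mathlib
import Cfsg.Agent.Lib.Helper73.RUDefs
import Cfsg.Agent.Lib.Helper65.RU5Defs

set_option autoImplicit false

/-!
# S2279 K-RU5 leaf L3 (keystone 227913): the pairing `ρ_j · c_i = (ρ_(j-i))_last` for `i ≤ j`
-/

namespace Cfsg.Agent.Lib.Helper50.RU5x

open Matrix Cfsg.Agent.Lib.Helper73.RU Cfsg.Agent.Lib.Helper65.RU5

theorem rho_dot_cvec (m : ℕ) (F : Type*) [Field F]
    (hc0 : cvec m F 0 = Pi.single (Fin.last (m + 2)) 1)
    (hc : ∀ k, aMat m F *ᵥ cvec m F k = cvec m F (k + 1))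
    (hr : ∀ r, rho m F (r + 1) ᵥ* aMat m F = rho m F r)
    (i j : ℕ) (hij : i ≤ j) :
    rho m F j ⬝ᵥ cvec m F i = rho m F (j - i) (Fin.last (m + 2)) := by
  induction i generalizing j with
  | zero =>
    rw [hc0, dotProduct_single, mul_one, Nat.sub_zero]
  | succ i ih =>
    obtain ⟨j', rfl⟩ : ∃ j', j = j' + 1 := ⟨j - 1, by omega⟩
    rw [← hc i, dotProduct_mulVec, hr j', ih j' (by omega), Nat.add_sub_add_right]

end Cfsg.Agent.Lib.Helper50.RU5x
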