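import Mathlib
import Cfsg.Agent.Lib.Helper73.RUDefs
import Cfsg.Agent.Lib.Helper65.RU5Defs

set_option autoImplicit false

/-!
# S2279 K-RU5 leaf L4 (keystone 227914): all `g_j = a^j g a^(-j) = 1 + l c_j ρ_jᵀ` are in `G`
-/

namespace Cfsg.Agent.Lib.Helper50.RU5x

open Matrix Cfsg.Agent.Lib.Helper73.RU Cfsg.Agent.Lib.Helper65.RU5

theorem gj_mem {m : ℕ} {F : Type*} [Field F] {G : Subgroup (SpecialLinearGroup (Fin (m + 3)) F)} (l : F)
    (hc0 : cvec m F 0 = Pi.single (Fin.last (m + 2)) 1)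
    (hc : ∀ k, aMat m F *ᵥ cvec m F k = cvec m F (k + 1))
    (hr0 : rho m F 0 = Pi.single 0 1)
    (hr : ∀ r, rho m F (r + 1) ᵥ* aMat m F = rho m F r)
    (ha : InG G (aMat m F))
    (hg : InG G (tvm (l • (Pi.single (Fin.last (m + 2)) 1 : Fin (m + 3) → F)) (Pi.single 0 1))) :
    ∀ j : ℕ, InG G (tvm (l • cvec m F j) (rho m F j)) := by
  intro j
  induction j with
  | zero =>
    rw [hc0, hr0]
    exact hg
  | succ j ih =>
    have h := mul_tvm (aMat m F) (l • cvec m F j) (rho m F (j + 1))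
    rw [hr j, Matrix.mulVec_smul, hc j] at h
    -- h : a * tvm (l • c_j) ρ_j = tvm (l • c_(j+1)) ρ_(j+1) * a
    have h2 : InG G (tvm (l • cvec m F (j + 1)) (rho m F (j + 1)) * aMat m F) := by
      rw [← h]
      exact inG_mul ha ih
    exact inG_of_mul_right ha h2

end Cfsg.Agent.Lib.Helper50.RU5x
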