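import Mathlib
import Cfsg.Agent.Lib.Helper73.RUDefs

set_option autoImplicit false

/-!
# S2279 K-RU5 leaf L5 (keystone 227915): conjugating `1 + v eᵀ` by `A = 1 + w ψᵀ` with `e · w = 0`
-/

namespace Cfsg.Agent.Lib.Helper50.RU5x

open Matrix Cfsg.Agent.Lib.Helper73.RU

theorem conj_step {n : ℕ} {F : Type*} [Field F] {G : Subgroup (SpecialLinearGroup (Fin n) F)}
    (e w ψ v : Fin n → F) (hew : e ⬝ᵥ w = 0) (hA : InG G (tvm w ψ)) (hv : InG G (tvm v e)) :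
    InG G (tvm ((ψ ⬝ᵥ v) • w) e) := by
  have h1 : e ᵥ* tvm w ψ = e := by
    unfold tvm
    rw [Matrix.vecMul_add, Matrix.vecMul_one, Matrix.vecMul_vecMulVec, hew, zero_smul, add_zero]
  have h2 : tvm w ψ *ᵥ v = v + (ψ ⬝ᵥ v) • w := by
    unfold tvm
    rw [Matrix.add_mulVec, Matrix.one_mulVec, Matrix.vecMulVec_mulVec, op_smul_eq_smul]
  have h := mul_tvm (tvm w ψ) v e
  rw [h1, h2] at h
  -- h : A * tvm v e = tvm (v + (ψ·v) • w) e * A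
  have h3 : InG G (tvm (v + (ψ ⬝ᵥ v) • w) e * tvm w ψ) := by
    rw [← h]
    exact inG_mul hA hv
  have h4 : InG G (tvm (v + (ψ ⬝ᵥ v) • w) e) := inG_of_mul_right hA h3
  have h5 : e ⬝ᵥ ((ψ ⬝ᵥ v) • w) = 0 := by
    rw [dotProduct_smul, hew, smul_zero]
  rw [← tvm_mul_tvm v ((ψ ⬝ᵥ v) • w) e h5] at h4
  exact inG_of_mul_left hv h4

end Cfsg.Agent.Lib.Helper50.RU5x
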