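import Cfsg.Agent.Lib.Helper50.ThreeRefl
import Cfsg.Agent.Lib.Helper50.OmegaNondeg
import Cfsg.Agent.Lib.Helper50.IndexTwo

set_option autoImplicit false

/-! The subgroup generated by the reflections of one norm class (odd characteristic). -/

namespace Cfsg.Agent.Lib.Helper50

open Matrix Module QuadraticMap Cfsg.Agent.Lib.Helper19

variable {F : Type*} [Field F] {ι : Type} [Fintype ι] [DecidableEq ι]

/-- the subgroup generated by the reflections whose centres have norm in the class of `c` -/
def classRefl (Q : QuadraticForm F (ι → F)) (c : F) : Subgroup ↥(Cfsg.isometryGroup F (⇑Q)) :=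
  Subgroup.closure {g : ↥(Cfsg.isometryGroup F (⇑Q)) | ∃ (v : ι → F) (t : F), t ≠ 0 ∧
    Q v = c * t ^ 2 ∧ ((g : GL ι F) : Matrix ι ι F) = Cfsg.reflectionMatrix (⇑Q) v}

theorem reflO_mem_classRefl (Q : QuadraticForm F (ι → F)) (c : F) (hc : c ≠ 0) (v : ι → F)
    (t : F) (ht : t ≠ 0) (hv : Q v = c * t ^ 2) : reflO Q v ∈ classRefl Q c := by
  apply Subgroup.subset_closure
  refine ⟨v, t, ht, hv, reflO_val Q v ?_⟩
  rw [hv]
  exact mul_ne_zero hc (pow_ne_zero _ ht)

theorem reflO_mem_classRefl_of_isSquare (Q : QuadraticForm F (ι → F)) (c : F) (hc : c ≠ 0)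
    (v : ι → F) (hv : Q v ≠ 0) (hsq : IsSquare (Q v * c)) : reflO Q v ∈ classRefl Q c := by
  obtain ⟨s, hs⟩ := hsq
  have hs0 : s ≠ 0 := by
    intro h0
    rw [h0, mul_zero] at hs
    exact mul_ne_zero hv hc hs
  apply reflO_mem_classRefl Q c hc v (s / c) (div_ne_zero hs0 hc)
  field_simp
  linear_combination hs

/-- three reflections in coplanar vectors, in the isometry group -/
theorem reflO_three (Q : QuadraticForm F (ι → F)) (hQ : (QuadraticMap.polarBilin Q).Nondegenerate)
    (P : Submodule F (ι → F)) (hP : finrank F P ≤ 2) (x u w : ι → F) (hxP : x ∈ P) (huP : u ∈ P)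
    (hwP : w ∈ P) (hx : Q x ≠ 0) (hu : Q u ≠ 0) (hw : Q w ≠ 0) :
    ∃ y : ι → F, Q y ≠ 0 ∧ reflO Q x * reflO Q u * reflO Q w = reflO Q y := by
  obtain ⟨y, hy, hxy⟩ := three_refl_plane Q hQ P hP x u w hxP huP hwP hx hu hw
  refine ⟨y, hy, ?_⟩
  apply O_ext
  simp only [Subgroup.coe_mul, Units.val_mul, reflO_val Q _ hx, reflO_val Q _ hu,
    reflO_val Q _ hw, reflO_val Q _ hy]
  apply Matrix.toLin'.injective
  rw [Matrix.toLin'_mul, Matrix.toLin'_mul, toLin'_reflectionMatrix, toLin'_reflectionMatrix,
    toLin'_reflectionMatrix, toLin'_reflectionMatrix, ← hxy, LinearMap.comp_assoc]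

/-- a pair of vectors with non-zero discriminant spans a non-degenerate plane -/
theorem pair_span_nondeg (Q : QuadraticForm F (ι → F)) (u z : ι → F)
    (hdisc : 4 * Q u * Q z - polar (⇑Q) u z ^ 2 ≠ 0) :
    Submodule.span F {u, z} ⊓
      LinearMap.BilinForm.orthogonal (polarBilin Q) (Submodule.span F {u, z}) = ⊥ ∧
      finrank F (Submodule.span F {u, z}) = 2 := by
  have hsolve : ∀ a b : F, polar (⇑Q) u (a • u + b • z) = 0 → polar (⇑Q) z (a • u + b • z) = 0 →
      a = 0 ∧ b = 0 := by
    intro a b h1 h2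
    rw [polar_add_right, polar_smul_right, polar_smul_right, polar_self] at h1 h2
    rw [polar_comm (⇑Q) z u] at h2
    simp only [smul_eq_mul, nsmul_eq_mul, Nat.cast_ofNat] at h1 h2
    set p := polar (⇑Q) u z with hp
    have ha : a * (4 * Q u * Q z - p ^ 2) = 0 := by
      linear_combination 2 * Q z * h1 - p * h2
    have hb : b * (4 * Q u * Q z - p ^ 2) = 0 := by
      linear_combination 2 * Q u * h2 - p * h1
    exact ⟨(mul_eq_zero.mp ha).resolve_right hdisc, (mul_eq_zero.mp hb).resolve_right hdisc⟩
  constructor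
  · rw [Submodule.eq_bot_iff]
    rintro v ⟨hv1, hv2⟩
    rw [SetLike.mem_coe, Submodule.mem_span_pair] at hv1
    obtain ⟨a, b, rfl⟩ := hv1
    rw [SetLike.mem_coe, LinearMap.BilinForm.mem_orthogonal_iff] at hv2
    have h1 := hv2 u (Submodule.subset_span (by simp))
    have h2 := hv2 z (Submodule.subset_span (by simp))
    obtain ⟨ha, hb⟩ := hsolve a b h1 h2
    rw [ha, hb]; simp
  · have hli : LinearIndependent F ![u, z] := by
      rw [LinearIndependent.pair_iff]
      intro a b hab
      apply hsolve a b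
      · rw [hab, polar_zero_right]
      · rw [hab, polar_zero_right]
    have := finrank_span_eq_card hli
    rw [Matrix.range_cons_cons_empty] at this
    rw [this]
    simp

section finite

variable [Fintype F]

/-- a product of two reflections of the other class in a non-degenerate plane -/
theorem pair_mem_classRefl (h2 : (2 : F) ≠ 0) (Q : QuadraticForm F (ι → F))
    (hQ : (QuadraticMap.polarBilin Q).Nondegenerate) (c : F) (hc : c ≠ 0) (u z : ι → F)
    (hu : Q u ≠ 0) (hz : Q z ≠ 0) (hsq : IsSquare (Q u * Q z))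
    (hdisc : 4 * Q u * Q z - polar (⇑Q) u z ^ 2 ≠ 0) :
    reflO Q u * reflO Q z ∈ classRefl Q c := by
  obtain ⟨hPnd, hPd⟩ := pair_span_nondeg Q u z hdisc
  set P := Submodule.span F {u, z} with hP
  have huP : u ∈ P := Submodule.subset_span (by simp)
  have hzP : z ∈ P := Submodule.subset_span (by simp)
  obtain ⟨x, hxP, hx⟩ := exists_repr_in Q P hPnd (by omega) c hc
  have hx0 : Q x ≠ 0 := by rw [hx]; exact hc
  obtain ⟨y, hy, hxy⟩ := reflO_three Q hQ P (by omega) x u z hxP huP hzP hx0 hu hz
  have heq : reflO Q u * reflO Q z = reflO Q x * reflO Q y := by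
    rw [← hxy, ← mul_assoc, ← mul_assoc, reflO_mul_self, one_mul]
  rw [heq]
  apply Subgroup.mul_mem
  · exact reflO_mem_classRefl Q c hc x 1 one_ne_zero (by rw [hx]; ring)
  · apply reflO_mem_classRefl_of_isSquare Q c hc y hy
    obtain ⟨ζ, hζ⟩ := exists_nonsquare_of_two_ne_zero h2
    have h3 := theta_prod_reflO h2 Q ζ hζ [x, u, z] (by
      intro v hv
      simp only [List.mem_cons, List.not_mem_nil, or_false] at hv
      rcases hv with rfl | rfl | rfl <;> assumption)
    have h4 := theta_prod_reflO h2 Q ζ hζ [y] (by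
      intro v hv
      simp only [List.mem_cons, List.not_mem_nil, or_false] at hv
      rw [hv]; exact hy)
    simp only [List.map_cons, List.map_nil, List.prod_cons, List.prod_nil, mul_one] at h3 h4
    rw [← mul_assoc, hxy, h4] at h3
    -- IsSquare (Q y) ↔ IsSquare (Q x * (Q u * Q z))
    obtain ⟨r, hr⟩ := hsq
    have hr0 : r ≠ 0 := by
      intro h0
      rw [h0, mul_zero] at hr
      exact mul_ne_zero hu hz hr
    have h5 : IsSquare (Q x * (Q u * Q z)) ↔ IsSquare (Q x) := by
      rw [hr, mul_comm, ← _root_.sq, isSquare_sq_mul_iff hr0]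
    rw [h5, hx] at h3
    rw [isSquare_mul_iff_of_ne_zero h2 hy hc]
    exact h3

/-- the field has more than three elements -/
theorem three_lt_card (h2 : (2 : F) ≠ 0) (h3 : Fintype.card F ≠ 3) : 3 < Fintype.card F := by
  have hchar : ringChar F ≠ 2 := by
    intro h
    apply h2
    have : CharP F 2 := ringChar.of_eq h
    exact_mod_cast CharP.cast_eq_zero F 2
  have hodd := FiniteField.odd_card_of_char_ne_two hchar
  have h1 : 1 < Fintype.card F := Fintype.one_lt_card
  omega

/-- a hyperbolic partner of a singular vector, inside the orthogonal complement of a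
non-singular vector -/
theorem exists_partner_perp (h2 : (2 : F) ≠ 0) (Q : QuadraticForm F (ι → F))
    (hQ : (QuadraticMap.polarBilin Q).Nondegenerate) (u e : ι → F) (hu : Q u ≠ 0) (he : Q e = 0)
    (he0 : e ≠ 0) (hue : polar (⇑Q) u e = 0) :
    ∃ f : ι → F, Q f = 0 ∧ polar (⇑Q) e f = 1 ∧ polar (⇑Q) u f = 0 := by
  obtain ⟨f₀, hf₀⟩ : ∃ f₀ : ι → F, polar (⇑Q) e f₀ = 1 := by
    have hex : ∃ f' : ι → F, polar (⇑Q) e f' ≠ 0 := by
      by_contra hcon
      push Not at hcon
      exact he0 (hQ.1 e (fun w => by rw [polarBilin_apply_apply]; exact hcon w))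
    obtain ⟨f', hf'⟩ := hex
    exact ⟨(polar (⇑Q) e f')⁻¹ • f', by
      rw [polar_smul_right, smul_eq_mul, inv_mul_cancel₀ hf']⟩
  have hee : polar (⇑Q) e e = 0 := by rw [polar_self, he]; simp
  have heu : polar (⇑Q) e u = 0 := by rw [polar_comm]; exact hue
  have huu : polar (⇑Q) u u = 2 * Q u := by rw [polar_self]; simp
  have h2u : 2 * Q u ≠ 0 := mul_ne_zero h2 hu
  set f₁ := f₀ - (polar (⇑Q) u f₀ / (2 * Q u)) • u with hf₁
  have h1 : polar (⇑Q) u f₁ = 0 := by
    rw [hf₁, polar_sub_right, polar_smul_right, huu, smul_eq_mul]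
    field_simp
    ring
  have h3 : polar (⇑Q) e f₁ = 1 := by
    rw [hf₁, polar_sub_right, polar_smul_right, heu, hf₀]
    simp
  refine ⟨f₁ - Q f₁ • e, ?_, ?_, ?_⟩
  · have h := QuadraticMap.map_add (⇑Q) f₁ (-(Q f₁ • e))
    rw [← sub_eq_add_neg] at h
    rw [h, QuadraticMap.map_neg, QuadraticMap.map_smul, he, polar_neg_right, polar_smul_right,
      polar_comm (⇑Q) f₁ e, h3]
    simp
  · rw [polar_sub_right, polar_smul_right, hee, h3]
    simp
  · rw [polar_sub_right, polar_smul_right, hue, h1]
    simp

/-- the key lemma: a product of two reflections of the same class lies in `classRefl Q c` -/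
theorem class_pair_mem (h2 : (2 : F) ≠ 0) (Q : QuadraticForm F (ι → F))
    (hQ : (QuadraticMap.polarBilin Q).Nondegenerate) (c : F) (hc : c ≠ 0)
    (hcase : Fintype.card F = 3 → Fintype.card ι ≠ 3 ∧ Fintype.card ι ≠ 4)
    (u w : ι → F) (hu : Q u ≠ 0) (hw : Q w ≠ 0) (hsq : IsSquare (Q u * Q w)) :
    reflO Q u * reflO Q w ∈ classRefl Q c := by
  classical
  by_cases hdisc : 4 * Q u * Q w - polar (⇑Q) u w ^ 2 ≠ 0
  · exact pair_mem_classRefl h2 Q hQ c hc u w hu hw hsq hdisc
  rw [not_not] at hdisc
  have h2u : 2 * Q u ≠ 0 := mul_ne_zero h2 hu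
  have huu : polar (⇑Q) u u = 2 * Q u := by rw [polar_self]; simp
  set τ := polar (⇑Q) u w / (2 * Q u) with hτ
  set e := w - τ • u with he
  have hwe : w = τ • u + e := by rw [he]; abel
  have hue : polar (⇑Q) u e = 0 := by
    rw [he, polar_sub_right, polar_smul_right, huu, smul_eq_mul, hτ]
    field_simp
    ring
  have hQe : Q e = 0 := by
    have h := QuadraticMap.map_add (⇑Q) w (-(τ • u))
    rw [← sub_eq_add_neg, ← he] at h
    rw [h, QuadraticMap.map_neg, QuadraticMap.map_smul, polar_neg_right, polar_smul_right,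
      polar_comm (⇑Q) w u, hτ]
    simp only [smul_eq_mul]
    field_simp
    linear_combination hdisc
  by_cases he0 : e = 0
  · -- proportional vectors
    rw [he0, add_zero] at hwe
    have hτ0 : τ ≠ 0 := by
      intro h0
      rw [hwe, h0, zero_smul, QuadraticMap.map_zero] at hw
      exact hw rfl
    rw [hwe, reflO_smul Q u hu τ hτ0, reflO_mul_self]
    exact Subgroup.one_mem _
  obtain ⟨f, hQf, hef, huf⟩ := exists_partner_perp h2 Q hQ u e hu hQe he0 hue
  have hee : polar (⇑Q) e e = 0 := by rw [polar_self, hQe]; simp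
  have hff : polar (⇑Q) f f = 0 := by rw [polar_self, hQf]; simp
  have hfe : polar (⇑Q) f e = 1 := by rw [polar_comm]; exact hef
  have hfu : polar (⇑Q) f u = 0 := by rw [polar_comm]; exact huf
  have heu : polar (⇑Q) e u = 0 := by rw [polar_comm]; exact hue
  -- it suffices to find an intermediate vector
  suffices hz : ∃ z : ι → F, Q z = Q w ∧ 4 * Q u * Q z - polar (⇑Q) u z ^ 2 ≠ 0 ∧
      4 * Q z * Q w - polar (⇑Q) z w ^ 2 ≠ 0 by
    obtain ⟨z, hQz, hd1, hd2⟩ := hz
    have hz0 : Q z ≠ 0 := by rw [hQz]; exact hw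
    have e1 := pair_mem_classRefl h2 Q hQ c hc u z hu hz0 (by rw [hQz]; exact hsq) hd1
    have e2 := pair_mem_classRefl h2 Q hQ c hc z w hz0 hw (by rw [hQz]; exact ⟨Q w, rfl⟩) hd2
    have : reflO Q u * reflO Q w = (reflO Q u * reflO Q z) * (reflO Q z * reflO Q w) := by
      rw [mul_assoc, ← mul_assoc (reflO Q z), reflO_mul_self, one_mul]
    rw [this]
    exact Subgroup.mul_mem _ e1 e2
  by_cases hq3 : Fintype.card F = 3
  · -- a vector orthogonal to `u, e, f`
    obtain ⟨hn3, hn4⟩ := hcase hq3
    set N := Submodule.span F (Set.range ![u, e, f]) with hN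
    have huN : u ∈ N := Submodule.subset_span ⟨0, rfl⟩
    have heN : e ∈ N := Submodule.subset_span ⟨1, rfl⟩
    have hfN : f ∈ N := Submodule.subset_span ⟨2, rfl⟩
    have hsolve : ∀ a b d : F, polar (⇑Q) u (a • u + b • e + d • f) = 0 →
        polar (⇑Q) e (a • u + b • e + d • f) = 0 → polar (⇑Q) f (a • u + b • e + d • f) = 0 →
        a = 0 ∧ b = 0 ∧ d = 0 := by
      intro a b d h1 h3 h4
      simp only [polar_add_right, polar_smul_right, huu, hue, huf, heu, hee, hef, hfu, hfe, hff,
        smul_eq_mul, mul_zero, mul_one, add_zero, zero_add] at h1 h3 h4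
      refine ⟨?_, h4, h3⟩
      rcases mul_eq_zero.mp h1 with h | h
      · exact h
      · exact absurd h h2u
    have hli : LinearIndependent F ![u, e, f] := by
      rw [Fintype.linearIndependent_iff]
      intro g hg
      have hg' : g 0 • u + g 1 • e + g 2 • f = 0 := by
        rw [← hg, Fin.sum_univ_three]
        rfl
      obtain ⟨h0, h1, h2'⟩ := hsolve (g 0) (g 1) (g 2) (by rw [hg', polar_zero_right])
        (by rw [hg', polar_zero_right]) (by rw [hg', polar_zero_right])
      intro i
      fin_cases i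
      · exact h0
      · exact h1
      · exact h2'
    have hNd : finrank F N = 3 := by
      rw [hN, finrank_span_eq_card hli]
      simp
    have hNnd : N ⊓ LinearMap.BilinForm.orthogonal (polarBilin Q) N = ⊥ := by
      rw [Submodule.eq_bot_iff]
      rintro v ⟨hv1, hv2⟩
      rw [SetLike.mem_coe, hN, Submodule.mem_span_range_iff_exists_fun] at hv1
      obtain ⟨g, rfl⟩ := hv1
      rw [SetLike.mem_coe, LinearMap.BilinForm.mem_orthogonal_iff] at hv2
      have hg' : ∑ i, g i • ![u, e, f] i = g 0 • u + g 1 • e + g 2 • f := by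
        rw [Fin.sum_univ_three]
        rfl
      rw [hg'] at hv2 ⊢
      obtain ⟨h0, h1, h2'⟩ := hsolve (g 0) (g 1) (g 2) (hv2 u huN) (hv2 e heN) (hv2 f hfN)
      rw [h0, h1, h2']
      simp
    set M := LinearMap.BilinForm.orthogonal (polarBilin Q) N with hM
    have hrefl : (polarBilin Q).IsRefl := (TF.polarBilin_isSymm Q).isRefl
    have hMnd : M ⊓ LinearMap.BilinForm.orthogonal (polarBilin Q) M = ⊥ := by
      rw [hM, LinearMap.BilinForm.orthogonal_orthogonal hQ hrefl N, inf_comm]
      exact hNnd
    have hMd := LinearMap.BilinForm.finrank_orthogonal hQ N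
    rw [Module.finrank_fintype_fun_eq_card, ← hM, hNd] at hMd
    have hNle : finrank F N ≤ Fintype.card ι := by
      have := Submodule.finrank_le N
      rwa [Module.finrank_fintype_fun_eq_card] at this
    obtain ⟨z, hzM, hQz⟩ := exists_repr_in Q M hMnd (by omega) (Q w) hw
    rw [hM, LinearMap.BilinForm.mem_orthogonal_iff] at hzM
    have hzu : polar (⇑Q) u z = 0 := hzM u huN
    have hze : polar (⇑Q) e z = 0 := hzM e heN
    refine ⟨z, hQz, ?_, ?_⟩
    · rw [hzu, hQz]
      simp only [ne_eq, OfNat.ofNat_ne_zero, not_false_eq_true, zero_pow, sub_zero]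
      exact mul_ne_zero (mul_ne_zero (by
        intro h4
        apply h2
        have : (4 : F) = 2 * 2 := by norm_num
        rw [this] at h4
        exact (mul_self_eq_zero.mp h4)) hu) hw
    · have hzw : polar (⇑Q) z w = 0 := by
        rw [hwe, polar_add_right, polar_smul_right, polar_comm (⇑Q) z u, hzu,
          polar_comm (⇑Q) z e, hze]
        simp
      rw [hzw, hQz]
      simp only [ne_eq, OfNat.ofNat_ne_zero, not_false_eq_true, zero_pow, sub_zero]
      exact mul_ne_zero (mul_ne_zero (by
        intro h4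
        apply h2
        have : (4 : F) = 2 * 2 := by norm_num
        rw [this] at h4
        exact (mul_self_eq_zero.mp h4)) hw) hw
  · -- more than three elements: a vector in the hyperbolic plane
    have hcard := three_lt_card h2 hq3
    obtain ⟨b, hb⟩ : ∃ b : F, b ∉ ({0, 2 * Q w, -(2 * Q w)} : Finset F) := by
      by_contra hcon
      push Not at hcon
      have : (Finset.univ : Finset F) ⊆ {0, 2 * Q w, -(2 * Q w)} := fun x _ => hcon x
      have h5 := Finset.card_le_card this
      rw [Finset.card_univ] at h5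
      have h6 := Finset.card_le_three (a := (0 : F)) (b := 2 * Q w) (c := -(2 * Q w))
      omega
    simp only [Finset.mem_insert, Finset.mem_singleton, not_or] at hb
    obtain ⟨hb0, hb1, hb2⟩ := hb
    refine ⟨(Q w / b) • e + b • f, ?_, ?_, ?_⟩
    · have h := QuadraticMap.map_add (⇑Q) ((Q w / b) • e) (b • f)
      rw [h, QuadraticMap.map_smul, QuadraticMap.map_smul, hQe, hQf, polar_smul_left,
        polar_smul_right, hef]
      simp only [smul_eq_mul]
      field_simp
      ring
    · have hQz : Q ((Q w / b) • e + b • f) = Q w := by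
        have h := QuadraticMap.map_add (⇑Q) ((Q w / b) • e) (b • f)
        rw [h, QuadraticMap.map_smul, QuadraticMap.map_smul, hQe, hQf, polar_smul_left,
          polar_smul_right, hef]
        simp only [smul_eq_mul]
        field_simp
        ring
      have hzu : polar (⇑Q) u ((Q w / b) • e + b • f) = 0 := by
        rw [polar_add_right, polar_smul_right, polar_smul_right, hue, huf]
        simp
      rw [hzu, hQz]
      simp only [ne_eq, OfNat.ofNat_ne_zero, not_false_eq_true, zero_pow, sub_zero]
      exact mul_ne_zero (mul_ne_zero (by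
        intro h4
        apply h2
        have : (4 : F) = 2 * 2 := by norm_num
        rw [this] at h4
        exact (mul_self_eq_zero.mp h4)) hu) hw
    · have hQz : Q ((Q w / b) • e + b • f) = Q w := by
        have h := QuadraticMap.map_add (⇑Q) ((Q w / b) • e) (b • f)
        rw [h, QuadraticMap.map_smul, QuadraticMap.map_smul, hQe, hQf, polar_smul_left,
          polar_smul_right, hef]
        simp only [smul_eq_mul]
        field_simp
        ring
      have hzw : polar (⇑Q) ((Q w / b) • e + b • f) w = b := by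
        rw [hwe, polar_add_left, polar_smul_left, polar_smul_left, polar_add_right,
          polar_add_right, polar_smul_right, polar_smul_right, heu, hfu, hee, hfe]
        simp
      rw [hzw, hQz]
      intro h
      have h7 : (b - 2 * Q w) * (b + 2 * Q w) = 0 := by linear_combination -h
      rcases mul_eq_zero.mp h7 with h8 | h8
      · exact hb1 (sub_eq_zero.mp h8)
      · exact hb2 (eq_neg_of_add_eq_zero_left h8)

theorem conj_reflO_self (Q : QuadraticForm F (ι → F)) (a v : ι → F) (hv : Q v ≠ 0) :
    reflO Q a * reflO Q v * reflO Q a =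
      reflO Q ((((reflO Q a : ↥(Cfsg.isometryGroup F (⇑Q))) : GL ι F) : Matrix ι ι F) *ᵥ v) := by
  rw [conj_reflO Q (reflO Q a) v hv, mul_assoc, reflO_mul_self, mul_one]

open scoped Classical in
/-- the reflections of one class generate a subgroup of index two -/
theorem classRefl_index (h2 : (2 : F) ≠ 0) (Q : QuadraticForm F (ι → F))
    (hQ : (QuadraticMap.polarBilin Q).Nondegenerate) (c : F) (hc : c ≠ 0)
    (hdim : 2 ≤ Fintype.card ι)
    (hcase : Fintype.card F = 3 → Fintype.card ι ≠ 3 ∧ Fintype.card ι ≠ 4) :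
    (classRefl Q c).index = 2 := by
  obtain ⟨ζ, hζ⟩ := exists_nonsquare_of_two_ne_zero h2
  have hζ0 : ζ ≠ 0 := fun h => hζ (h ▸ ⟨0, by ring⟩)
  -- a vector of the other class
  obtain ⟨a, ha⟩ := exists_repr Q hQ (by rw [Module.finrank_fintype_fun_eq_card]; exact hdim)
    (c * ζ) (mul_ne_zero hc hζ0)
  have ha0 : Q a ≠ 0 := by rw [ha]; exact mul_ne_zero hc hζ0
  have hanc : ¬ IsSquare (Q a * c) := by
    rw [ha, mul_comm c ζ, mul_assoc, ← _root_.sq, mul_comm, isSquare_sq_mul_iff hc]
    exact hζ
  -- the character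
  set χ : ↥(Cfsg.isometryGroup F (⇑Q)) →* ℤˣ :=
    if IsSquare c then theta (⇑Q) ζ else theta (⇑Q) 1 with hχ
  have hχr : ∀ v : ι → F, Q v ≠ 0 → χ (reflO Q v) = if IsSquare (Q v * c) then 1 else -1 := by
    intro v hv
    by_cases hcs : IsSquare c
    · rw [hχ, if_pos hcs, theta_nonsq_reflO h2 Q ζ hζ v hv]
      have : IsSquare (Q v * c) ↔ IsSquare (Q v) := by
        rw [isSquare_mul_iff_of_ne_zero h2 hv hc]
        constructor
        · intro h; exact h.mpr hcs
        · intro h; exact ⟨fun _ => hcs, fun _ => h⟩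
      simp only [this]
    · rw [hχ, if_neg hcs, theta_one_reflO h2 Q v hv]
      have : IsSquare (Q v * c) ↔ ¬ IsSquare (Q v) := isSquare_mul_nonsquare_iff hv hcs
      by_cases hv' : IsSquare (Q v)
      · simp [this, hv']
      · simp [this, hv']
  have hχa : χ (reflO Q a) = -1 := by rw [hχr a ha0, if_neg hanc]
  -- the subgroup lies in the kernel
  have hle : classRefl Q c ≤ χ.ker := by
    unfold classRefl
    rw [Subgroup.closure_le]
    rintro g ⟨v, t, ht, hv, hg⟩
    have hv0 : Q v ≠ 0 := by
      rw [hv]; exact mul_ne_zero hc (pow_ne_zero _ ht)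
    have hgv : g = reflO Q v := by
      apply O_ext
      rw [hg, reflO_val Q v hv0]
    rw [SetLike.mem_coe, MonoidHom.mem_ker, hgv, hχr v hv0, if_pos]
    exact ⟨c * t, by rw [hv]; ring⟩
  -- every product of reflections lies in the subgroup, possibly after multiplication by `r_a`
  have hlist : ∀ l : List (ι → F), (∀ v ∈ l, Q v ≠ 0) →
      ((l.map (reflO Q)).prod ∈ classRefl Q c ∨
        reflO Q a * (l.map (reflO Q)).prod ∈ classRefl Q c) := by
    intro l
    induction l with
    | nil =>
      intro _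
      left
      simp only [List.map_nil, List.prod_nil]
      exact Subgroup.one_mem _
    | cons v t ih =>
      intro hl
      have hv : Q v ≠ 0 := hl v List.mem_cons_self
      have ht : ∀ b ∈ t, Q b ≠ 0 := fun b hb => hl b (List.mem_cons_of_mem _ hb)
      rw [List.map_cons, List.prod_cons]
      set g := (t.map (reflO Q)).prod with hg
      by_cases hvc : IsSquare (Q v * c)
      · have hvH := reflO_mem_classRefl_of_isSquare Q c hc v hv hvc
        rcases ih ht with h | h
        · left
          exact Subgroup.mul_mem _ hvH h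
        · right
          have e1 : reflO Q a * (reflO Q v * g) =
              (reflO Q a * reflO Q v * reflO Q a) * (reflO Q a * g) := by
            rw [mul_assoc (reflO Q a * reflO Q v), ← mul_assoc (reflO Q a) (reflO Q a),
              reflO_mul_self, one_mul, mul_assoc]
          rw [e1, conj_reflO_self Q a v hv]
          refine Subgroup.mul_mem _ ?_ h
          apply reflO_mem_classRefl_of_isSquare Q c hc
          · rw [O_isometry (⇑Q) (reflO Q a) v]; exact hv
          · rw [O_isometry (⇑Q) (reflO Q a) v]; exact hvc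
      · have hav : IsSquare (Q a * Q v) := by
          have h1 : IsSquare ((Q a * c) * (Q v * c)) :=
            (isSquare_mul_nonsquare_iff (mul_ne_zero ha0 hc) hvc).mpr hanc
          have h3 : (Q a * c) * (Q v * c) = c ^ 2 * (Q a * Q v) := by ring
          rw [h3, isSquare_sq_mul_iff hc] at h1
          exact h1
        have hva : IsSquare (Q v * Q a) := by rw [mul_comm]; exact hav
        rcases ih ht with h | h
        · right
          rw [← mul_assoc]
          exact Subgroup.mul_mem _ (class_pair_mem h2 Q hQ c hc hcase a v ha0 hv hav) h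
        · left
          have e1 : reflO Q v * g = (reflO Q v * reflO Q a) * (reflO Q a * g) := by
            rw [mul_assoc, ← mul_assoc (reflO Q a), reflO_mul_self, one_mul]
          rw [e1]
          exact Subgroup.mul_mem _ (class_pair_mem h2 Q hQ c hc hcase v a hv ha0 hva) h
  -- the kernel lies in the subgroup
  have hge : χ.ker ≤ classRefl Q c := by
    intro g hg
    rw [MonoidHom.mem_ker] at hg
    obtain ⟨l, hl, hA⟩ := isometry_eq_prod_reflectionMatrix h2 Q hQ _ (O_isometry (⇑Q) g)
    have hgp : g = (l.map (reflO Q)).prod := by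
      apply O_ext
      rw [hA, reflO_prod_val Q l hl]
    rcases hlist l hl with h | h
    · rw [hgp]; exact h
    · exfalso
      have h1 := hle h
      rw [MonoidHom.mem_ker, map_mul, ← hgp, hg, hχa] at h1
      revert h1
      decide
  rw [le_antisymm hle hge]
  exact index_ker_of_neg_one χ (reflO Q a) hχa

end finite

end Cfsg.Agent.Lib.Helper50
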