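import Cfsg.Agent.Lib.Helper50.MinusTwoB

/-!
# Reflections of the minus form are not in `Ω` (finite field, every characteristic)

Generalisation of `wIso_not_mem_Omega'` to every reflection matrix (for leaves E1/E2 of the K-StOm
pack, S2549).
-/

set_option autoImplicit false

namespace Cfsg.Agent.Lib.Helper50

open Matrix Module

universe u

variable {F : Type u} [Field F] [Fintype F] (m : ℕ) (a b : F)

/-- an isometry of the minus form whose matrix is a reflection matrix is not in `Ω` -/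
theorem refl_not_mem_Omega_minus
    (hab : ∀ z₁ z₂ : F, z₁ ^ 2 + a * z₁ * z₂ + b * z₂ ^ 2 = 0 → z₁ = 0 ∧ z₂ = 0)
    (g : ↥(Cfsg.isometryGroup F (Cfsg.quadFormMinus m F a b)))
    (v : (Fin m ⊕ Fin m) ⊕ Fin 2 → F) (hv : Cfsg.quadFormMinus m F a b v ≠ 0)
    (hg : ((g : GL ((Fin m ⊕ Fin m) ⊕ Fin 2) F) :
      Matrix ((Fin m ⊕ Fin m) ⊕ Fin 2) ((Fin m ⊕ Fin m) ⊕ Fin 2) F) =
        Cfsg.reflectionMatrix (Cfsg.quadFormMinus m F a b) v) :
    g ∉ Cfsg.Omega F (Cfsg.quadFormMinus m F a b) := by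
  obtain ⟨K, hKf, hKa, hK⟩ := exists_quadratic_extension a b hab
  obtain ⟨θ, hθ⟩ := exists_root_quadratic a b hK
  have hd := disc_ne_zero_of_anis a b hab
  intro h
  have h1 : inclM m a b g ∈ pscSub (algebraMap F K) m a b hd θ hθ :=
    Omega_le_pscSub (algebraMap F K) m a b hd θ hθ ⟨_, h, rfl⟩
  rw [mem_pscSub] at h1
  exact pscK_reflection_not (algebraMap F K) m a b hd θ hθ (inclM m a b g) v hv hg h1

end Cfsg.Agent.Lib.Helper50
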