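import Cfsg.Agent.Lib.Helper43.OmegaSimple4
import Cfsg.Agent.Lib.Helper38.SQ.Defs

set_option autoImplicit false
set_option linter.unusedSectionVars false
set_option linter.unusedVariables false

/-!
K-SQ-Ominus (462506), part A: isometries that are unipotent with respect to a weight filtration of the
coordinate space form a 2-group in characteristic 2.
-/

namespace Cfsg.Agent.Lib.Helper50.SQ

open Cfsg.Agent.Lib.Helper43

variable {F : Type*} [Field F] {ι : Type} [Fintype ι] [DecidableEq ι]
variable (Q : QuadraticForm F (ι → F)) (wt : ι → ℕ)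

/-- `v` is supported on the coordinates of weight `< k` -/
def Low (k : ℕ) (v : ι → F) : Prop := ∀ j, k ≤ wt j → v j = 0

variable {wt}

theorem Low.mono {k k' : ℕ} (h : k ≤ k') {v : ι → F} (hv : Low wt k v) : Low wt k' v :=
  fun j hj => hv j (le_trans h hj)

theorem Low.add {k : ℕ} {v w : ι → F} (hv : Low wt k v) (hw : Low wt k w) : Low wt k (v + w) := by
  intro j hj
  rw [Pi.add_apply, hv j hj, hw j hj, add_zero]

theorem Low.sub {k : ℕ} {v w : ι → F} (hv : Low wt k v) (hw : Low wt k w) : Low wt k (v - w) := by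
  intro j hj
  rw [Pi.sub_apply, hv j hj, hw j hj, sub_zero]

theorem Low.smul {k : ℕ} (c : F) {v : ι → F} (hv : Low wt k v) : Low wt k (c • v) := by
  intro j hj
  rw [Pi.smul_apply, hv j hj, smul_zero]

theorem Low.zero (k : ℕ) : Low wt k (0 : ι → F) := fun _ _ => rfl

theorem Low.eq_zero {v : ι → F} (hv : Low wt 0 v) : v = 0 := by
  funext j
  exact hv j (Nat.zero_le _)

theorem low_single (k : ℕ) (j : ι) (hj : wt j < k) (c : F) : Low wt k (Pi.single j c : ι → F) := by
  intro l hl
  have : l ≠ j := by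
    rintro rfl
    omega
  rw [Pi.single_apply, if_neg this]

theorem low_top (v : ι → F) : Low wt (Finset.univ.sup wt + 1) v := by
  intro j hj
  have := Finset.le_sup (f := wt) (Finset.mem_univ j)
  omega

variable (wt)

/-- the isometry `g` moves every vector of filtration level `k + d` by a vector of level `k` -/
def LowersBy (d : ℕ) (g : ↥(Cfsg.isometryGroup F ⇑Q)) : Prop :=
  ∀ k v, Low wt (k + d) v → Low wt k (linOf Q g v - v)

variable {wt}

theorem LowersBy.pres {d : ℕ} (hd : 1 ≤ d) {g : ↥(Cfsg.isometryGroup F ⇑Q)} (hg : LowersBy Q wt d g)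
    {k : ℕ} {v : ι → F} (hv : Low wt k v) : Low wt k (linOf Q g v) := by
  have h1 : Low wt k (linOf Q g v - v) := by
    by_cases hk : k < d
    · have h0 : Low wt 0 (linOf Q g v - v) := hg 0 v (hv.mono (by omega))
      exact h0.mono (Nat.zero_le _)
    · have h0 : Low wt (k - d) (linOf Q g v - v) := hg (k - d) v (hv.mono (by omega))
      exact h0.mono (by omega)
  have := h1.add hv
  rwa [sub_add_cancel] at this

theorem LowersBy.one (d : ℕ) : LowersBy Q wt d 1 := by
  intro k v hv
  rw [linOf_one, LinearMap.id_apply, sub_self]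
  exact Low.zero k

theorem LowersBy.mul {g h : ↥(Cfsg.isometryGroup F ⇑Q)} (hg : LowersBy Q wt 1 g)
    (hh : LowersBy Q wt 1 h) : LowersBy Q wt 1 (g * h) := by
  intro k v hv
  have e : linOf Q (g * h) v - v = linOf Q g (linOf Q h v - v) + (linOf Q g v - v) := by
    rw [linOf_mul, LinearMap.comp_apply, map_sub]
    abel
  rw [e]
  have h1 : Low wt k (linOf Q h v - v) := hh k v hv
  exact (hg.pres Q le_rfl h1).add (hg k v hv)

theorem LowersBy.pow {g : ↥(Cfsg.isometryGroup F ⇑Q)} (hg : LowersBy Q wt 1 g) (n : ℕ) :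
    LowersBy Q wt 1 (g ^ n) := by
  induction n with
  | zero => rw [pow_zero]; exact LowersBy.one Q 1
  | succ n ih => rw [pow_succ]; exact ih.mul Q hg

theorem LowersBy.sq [CharP F 2] {d : ℕ} {g : ↥(Cfsg.isometryGroup F ⇑Q)} (hg : LowersBy Q wt d g) :
    LowersBy Q wt (2 * d) (g ^ 2) := by
  intro k v hv
  have e : linOf Q (g ^ 2) v - v =
      linOf Q g (linOf Q g v - v) - (linOf Q g v - v) := by
    rw [pow_two, linOf_mul, LinearMap.comp_apply, map_sub]
    have h2 : linOf Q g v + linOf Q g v = 0 := by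
      funext j
      exact CharTwo.add_self_eq_zero _
    have : linOf Q g (linOf Q g v) - linOf Q g v - (linOf Q g v - v) =
        linOf Q g (linOf Q g v) + v - (linOf Q g v + linOf Q g v) := by abel
    rw [this, h2, sub_zero]
    have h3 : v + v = 0 := by
      funext j
      exact CharTwo.add_self_eq_zero _
    have : linOf Q g (linOf Q g v) - v = linOf Q g (linOf Q g v) + v - (v + v) := by abel
    rw [this, h3, sub_zero]
  rw [e]
  have h1 : Low wt (k + d) (linOf Q g v - v) := hg (k + d) v (hv.mono (by omega))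
  exact hg k _ h1

theorem LowersBy.two_pow [CharP F 2] {g : ↥(Cfsg.isometryGroup F ⇑Q)} (hg : LowersBy Q wt 1 g)
    (s : ℕ) : LowersBy Q wt (2 ^ s) (g ^ 2 ^ s) := by
  induction s with
  | zero => simpa using hg
  | succ s ih =>
    have := LowersBy.sq Q ih
    rw [← pow_mul, ← pow_succ, ← pow_succ'] at this
    exact this

theorem LowersBy.exists_pow_eq_one [CharP F 2] {g : ↥(Cfsg.isometryGroup F ⇑Q)}
    (hg : LowersBy Q wt 1 g) : g ^ 2 ^ (Finset.univ.sup wt + 1) = 1 := by
  set s := Finset.univ.sup wt + 1 with hs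
  have h := LowersBy.two_pow Q hg s
  apply linOf_injective Q
  rw [linOf_one]
  apply LinearMap.ext
  intro v
  have hv : Low wt (0 + 2 ^ s) v :=
    (low_top (wt := wt) v).mono (by rw [zero_add]; exact (Nat.lt_two_pow_self).le)
  have := (h 0 v hv).eq_zero
  rw [LinearMap.id_apply]
  exact sub_eq_zero.mp this

variable (wt)

/-- the subgroup of filtration-unipotent isometries -/
def uniSub [CharP F 2] : Subgroup ↥(Cfsg.isometryGroup F ⇑Q) where
  carrier := {g | LowersBy Q wt 1 g}
  mul_mem' := fun ha hb => LowersBy.mul Q ha hb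
  one_mem' := LowersBy.one Q 1
  inv_mem' := by
    intro g hg
    have h1 := LowersBy.exists_pow_eq_one Q hg
    set n := 2 ^ (Finset.univ.sup wt + 1) with hn
    have hn1 : 1 ≤ n := Nat.one_le_two_pow
    have : g⁻¹ = g ^ (n - 1) := by
      rw [inv_eq_iff_mul_eq_one, ← pow_succ']
      rw [show n - 1 + 1 = n by omega]
      exact h1
    show LowersBy Q wt 1 g⁻¹
    rw [this]
    exact LowersBy.pow Q hg _

theorem isPGroup_uniSub [CharP F 2] : IsPGroup 2 (uniSub Q wt) := by
  intro g
  refine ⟨Finset.univ.sup wt + 1, ?_⟩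
  apply Subtype.ext
  rw [Subgroup.coe_pow, Subgroup.coe_one]
  exact LowersBy.exists_pow_eq_one Q g.2

theorem isPGroup_closure_of_lowers [CharP F 2] (S : Set ↥(Cfsg.isometryGroup F ⇑Q))
    (hS : ∀ s ∈ S, LowersBy Q wt 1 s) : IsPGroup 2 (Subgroup.closure S) :=
  (isPGroup_uniSub Q wt).to_le ((Subgroup.closure_le _).mpr hS)

/-! ### transporting `Unip2` to a subgroup containing `U` -/

theorem unip2_of_le {X : Type*} [Group X] (U K : Subgroup X) (hUK : U ≤ K) (c : ℕ)
    (hp : IsPGroup 2 U) (hc : c ≤ Nat.card U) (hsq : ∀ x ∈ U, x ^ 2 ∈ ⁅U, U⁆) :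
    Cfsg.Agent.Lib.Helper38.SQ.Unip2 ↥K c := by
  refine ⟨U.subgroupOf K, hp.comap_subtype, ?_, ?_⟩
  · rw [Nat.card_congr (Subgroup.subgroupOfEquivOfLe hUK).toEquiv]
    exact hc
  · intro x hx
    have hx' : (x : X) ∈ U := hx
    have h1 := hsq _ hx'
    have hmap : (U.subgroupOf K).map K.subtype = U := Subgroup.map_subgroupOf_eq_of_le hUK
    have h2 : ⁅U, U⁆ = (⁅U.subgroupOf K, U.subgroupOf K⁆).map K.subtype := by
      rw [Subgroup.map_commutator, hmap]
    rw [h2] at h1
    obtain ⟨y, hy, hyx⟩ := h1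
    have : y = x ^ 2 := Subtype.ext (by simpa using hyx)
    rw [← this]
    exact hy

end Cfsg.Agent.Lib.Helper50.SQ
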