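import Cfsg.Agent.Lib.Helper50.SQOminusA
import Cfsg.Agent.Lib.Helper50.MinusLang

set_option autoImplicit false
set_option linter.unusedSectionVars false
set_option linter.unusedVariables false

/-!
K-SQ-Ominus (462506), part B: the Siegel generators of a Sylow 2-subgroup of `Ω⁻_{2r+2}(2^f)`, their
filtration-unipotency, and the lower bound `q^(r(r+1))` for the order of the subgroup they generate.
-/

namespace Cfsg.Agent.Lib.Helper50.SQ

open Cfsg.Agent.Lib.Helper43

/-- the index type of the elliptic model -/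
abbrev Idx (r : ℕ) := (Fin r ⊕ Fin r) ⊕ Fin 2

/-- weights: `x_i ↦ i`, `w_k ↦ r + k`, `y_i ↦ 2r + 1 - i` -/
def wtM (r : ℕ) : Idx r → ℕ
  | Sum.inl (Sum.inl i) => i
  | Sum.inl (Sum.inr i) => 2 * r + 1 - i
  | Sum.inr k => r + k

theorem wtM_x (r : ℕ) (i : Fin r) : wtM r (Sum.inl (Sum.inl i)) = i := rfl
theorem wtM_y (r : ℕ) (i : Fin r) : wtM r (Sum.inl (Sum.inr i)) = 2 * r + 1 - i := rfl
theorem wtM_w (r : ℕ) (k : Fin 2) : wtM r (Sum.inr k) = r + k := rfl

variable {F : Type*} [Field F] (r : ℕ) (a b : F)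

/-- the elliptic form as a quadratic form -/
abbrev QM : QuadraticForm F (Idx r → F) := QMinus r F a b

theorem QM_coe : ⇑(QM r a b) = Cfsg.quadFormMinus r F a b := rfl

/-- the singular basis vectors -/
def ex (i : Fin r) : Idx r → F := Pi.single (Sum.inl (Sum.inl i)) 1
def ey (i : Fin r) : Idx r → F := Pi.single (Sum.inl (Sum.inr i)) 1

theorem polar_minus_two [CharP F 2] (u v : Idx r → F) :
    QuadraticMap.polarBilin (QM r a b) u v =
      (∑ i : Fin r, (u (.inl (.inl i)) * v (.inl (.inr i)) + v (.inl (.inl i)) * u (.inl (.inr i))))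
      + a * (u (.inr 0) * v (.inr 1) + v (.inr 0) * u (.inr 1)) := by
  rw [QuadraticMap.polarBilin_apply_apply]
  show QuadraticMap.polar (Cfsg.quadFormMinus r F a b) u v = _
  have h : ∀ x y : Idx r → F,
      (∑ i : Fin r, (x + y) (.inl (.inl i)) * (x + y) (.inl (.inr i))) =
      (∑ i : Fin r, x (.inl (.inl i)) * x (.inl (.inr i))) +
      (∑ i : Fin r, y (.inl (.inl i)) * y (.inl (.inr i))) +
      ∑ i : Fin r, (x (.inl (.inl i)) * y (.inl (.inr i)) + y (.inl (.inl i)) * x (.inl (.inr i))) := by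
    intro x y
    rw [← Finset.sum_add_distrib, ← Finset.sum_add_distrib]
    refine Finset.sum_congr rfl fun i _ => ?_
    simp only [Pi.add_apply]
    ring
  simp only [QuadraticMap.polar, Cfsg.quadFormMinus, h]
  simp only [Pi.add_apply]
  have h2 : (2 : F) = 0 := CharTwo.two_eq_zero
  linear_combination (u (.inr 0) * v (.inr 0) + b * u (.inr 1) * v (.inr 1)) * h2

/-- the polar form vanishes on two vectors whose supports contain no pair of dual coordinates -/
theorem polar_eq_zero_of_dual [CharP F 2] (u v : Idx r → F)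
    (h : ∀ j l, wtM r j + wtM r l = 2 * r + 1 → u j = 0 ∨ v l = 0) :
    QuadraticMap.polarBilin (QM r a b) u v = 0 := by
  rw [polar_minus_two]
  have h1 : ∀ i : Fin r, u (.inl (.inl i)) * v (.inl (.inr i)) = 0 := by
    intro i
    have := h (.inl (.inl i)) (.inl (.inr i)) (by rw [wtM_x, wtM_y]; have := i.2; omega)
    rcases this with h | h <;> rw [h] <;> ring
  have h2 : ∀ i : Fin r, v (.inl (.inl i)) * u (.inl (.inr i)) = 0 := by
    intro i
    have := h (.inl (.inr i)) (.inl (.inl i)) (by rw [wtM_x, wtM_y]; have := i.2; omega)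
    rcases this with h | h <;> rw [h] <;> ring
  have h3 : u (.inr 0) * v (.inr 1) = 0 := by
    have := h (.inr 0) (.inr 1) (by rw [wtM_w, wtM_w]; simp; omega)
    rcases this with h | h <;> rw [h] <;> ring
  have h4 : v (.inr 0) * u (.inr 1) = 0 := by
    have := h (.inr 1) (.inr 0) (by rw [wtM_w, wtM_w]; simp; omega)
    rcases this with h | h <;> rw [h] <;> ring
  rw [h3, h4]
  simp only [h1, h2, add_zero, Finset.sum_const_zero, mul_zero]

theorem QM_ex (i : Fin r) : QM r a b (ex r i) = 0 := by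
  show Cfsg.quadFormMinus r F a b (ex r i) = 0
  simp [Cfsg.quadFormMinus, ex, Pi.single_apply]

theorem polar_ey_ex [CharP F 2] (n : Fin r) :
    QuadraticMap.polarBilin (QM r a b) (ey r n) (ex r n) = 1 := by
  rw [polar_minus_two]
  simp [ex, ey, Pi.single_apply]

/-- `z` is supported on the coordinates of weight strictly between `n` and `2r + 1 - n` -/
def SuppJ (n : ℕ) (z : Idx r → F) : Prop :=
  ∀ l, z l ≠ 0 → n < wtM r l ∧ wtM r l + n < 2 * r + 1

theorem ex_ne (i : Fin r) (l : Idx r) (hl : l ≠ Sum.inl (Sum.inl i)) : (ex r i : Idx r → F) l = 0 := by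
  rw [ex, Pi.single_apply, if_neg hl]

theorem ey_ne (i : Fin r) (l : Idx r) (hl : l ≠ Sum.inl (Sum.inr i)) : (ey r i : Idx r → F) l = 0 := by
  rw [ey, Pi.single_apply, if_neg hl]

theorem polar_ex_of_suppJ [CharP F 2] (i : Fin r) (z : Idx r → F) (hz : SuppJ r i z) :
    QuadraticMap.polarBilin (QM r a b) (ex r i) z = 0 := by
  apply polar_eq_zero_of_dual
  intro j l hjl
  by_cases hj : j = Sum.inl (Sum.inl i)
  · subst hj
    right
    by_contra hzl
    obtain ⟨h1, h2⟩ := hz l hzl
    rw [wtM_x] at hjl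
    omega
  · left
    exact ex_ne r i j hj

variable (hQ : (QuadraticMap.polarBilin (QM r a b)).Nondegenerate)

/-- the Siegel generators lower the weight filtration -/
theorem lowers_siegel [CharP F 2] (i : Fin r) (z : Idx r → F) (hz : SuppJ r i z) :
    LowersBy (QM r a b) (wtM r) 1 (Helper43.siegelO (QM r a b) hQ (ex r i) z) := by
  intro k v hv
  rw [linOf_siegelO (QM r a b) hQ _ _ (QM_ex r a b i) (polar_ex_of_suppJ r a b i z hz),
    siegelLin_apply]
  set c := QuadraticMap.polarBilin (QM r a b) v z -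
    (QM r a b) z * QuadraticMap.polarBilin (QM r a b) v (ex r i) with hc
  set d := QuadraticMap.polarBilin (QM r a b) v (ex r i) with hd
  have e : v + c • ex r i + -d • z - v = c • ex r i + -d • z := by abel
  rw [e]
  have hir := i.2
  -- the polar form of `v` with `ex i` vanishes unless `v` has a `y_i`-coordinate
  have key2 : k < 2 * r + 1 - i → d = 0 := by
    intro hk
    apply polar_eq_zero_of_dual
    intro j l hjl
    by_cases hl : l = Sum.inl (Sum.inl i)
    · subst hl
      left
      apply hv j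
      rw [wtM_x] at hjl
      omega
    · right
      exact ex_ne r i l hl
  apply Low.add
  · by_cases hc0 : c = 0
    · rw [hc0, zero_smul]
      exact Low.zero k
    · have hik : (i : ℕ) < k := by
        by_contra hik
        push Not at hik
        apply hc0
        have h1 : QuadraticMap.polarBilin (QM r a b) v z = 0 := by
          apply polar_eq_zero_of_dual
          intro j l hjl
          by_cases hzl : z l = 0
          · right
            exact hzl
          · left
            obtain ⟨h1, h2⟩ := hz l hzl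
            apply hv j
            omega
        have h2 : d = 0 := key2 (by omega)
        rw [hc, h1, h2]
        ring
      exact (low_single (wt := wtM r) k _ (by rw [wtM_x]; exact hik) (1 : F)).smul c
  · by_cases hd0 : d = 0
    · rw [hd0, neg_zero, zero_smul]
      exact Low.zero k
    · have hk : 2 * r + 1 - i ≤ k := by
        by_contra hk
        push Not at hk
        exact hd0 (key2 hk)
      apply Low.smul
      intro l hl
      by_contra hzl
      obtain ⟨h1, h2⟩ := hz l hzl
      omega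

/-- the generating set at level `t`: Siegel elements for `x_i`, `t ≤ i` -/
def genSet (t : ℕ) : Set ↥(Cfsg.isometryGroup F ⇑(QM r a b)) :=
  {g | ∃ i : Fin r, t ≤ i ∧ ∃ z : Idx r → F, SuppJ r i z ∧ g = Helper43.siegelO (QM r a b) hQ (ex r i) z}

/-- the subgroup generated by the Siegel elements of level at least `t` -/
def UU (t : ℕ) : Subgroup ↥(Cfsg.isometryGroup F ⇑(QM r a b)) :=
  Subgroup.closure (genSet r a b hQ t)

theorem UU_anti {t t' : ℕ} (h : t ≤ t') : UU r a b hQ t' ≤ UU r a b hQ t := by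
  apply Subgroup.closure_mono
  rintro g ⟨i, hi, z, hz, rfl⟩
  exact ⟨i, le_trans h hi, z, hz, rfl⟩

theorem isPGroup_UU [CharP F 2] (t : ℕ) : IsPGroup 2 (UU r a b hQ t) := by
  apply isPGroup_closure_of_lowers
  rintro g ⟨i, hi, z, hz, rfl⟩
  exact lowers_siegel r a b hQ i z hz

theorem card_idx : Fintype.card (Idx r) = 2 * r + 2 := by
  rw [Fintype.card_sum, Fintype.card_sum, Fintype.card_fin, Fintype.card_fin]
  ring

theorem UU_le_Omega [Fintype F] [CharP F 2] (hr : 3 ≤ r) (t : ℕ) :
    UU r a b hQ t ≤ Cfsg.Omega F ⇑(QM r a b) := by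
  rw [UU, Subgroup.closure_le]
  rintro g ⟨i, hi, z, hz, rfl⟩
  exact Helper43.siegelO_mem_Omega (QM r a b) hQ (by rw [card_idx]; omega) _ _ (QM_ex r a b i)
    (polar_ex_of_suppJ r a b i z hz)

/-- the generators are involutions -/
theorem gen_sq [CharP F 2] (t : ℕ) (g : ↥(Cfsg.isometryGroup F ⇑(QM r a b)))
    (hg : g ∈ genSet r a b hQ t) : g ^ 2 = 1 := by
  obtain ⟨i, hi, z, hz, rfl⟩ := hg
  have hp := polar_ex_of_suppJ r a b i z hz
  rw [pow_two, ← siegelO_add (QM r a b) hQ _ z z (QM_ex r a b i) hp hp]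
  have : z + z = 0 := by
    funext j
    exact CharTwo.add_self_eq_zero _
  rw [this, siegelO_zero (QM r a b) hQ _ (QM_ex r a b i)]

theorem polar_ey_of_suppJ [CharP F 2] (n : Fin r) (t : ℕ) (ht : (n : ℕ) ≤ t) (z : Idx r → F)
    (hz : SuppJ r t z) : QuadraticMap.polarBilin (QM r a b) (ey r n) z = 0 := by
  apply polar_eq_zero_of_dual
  intro j l hjl
  by_cases hj : j = Sum.inl (Sum.inr n)
  · subst hj
    right
    by_contra hzl
    obtain ⟨h1, h2⟩ := hz l hzl
    rw [wtM_y] at hjl
    have := n.2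
    omega
  · left
    exact ey_ne r n j hj

theorem polar_ey_ex_ne [CharP F 2] (n i : Fin r) (hni : n ≠ i) :
    QuadraticMap.polarBilin (QM r a b) (ey r n) (ex r i) = 0 := by
  apply polar_eq_zero_of_dual
  intro j l hjl
  by_cases hj : j = Sum.inl (Sum.inr n)
  · subst hj
    right
    apply ex_ne
    rintro rfl
    rw [wtM_x, wtM_y] at hjl
    apply hni
    apply Fin.ext
    have := n.2
    omega
  · left
    exact ey_ne r n j hj

/-- the elements of `UU (n + 1)` fix `y_n` -/
theorem fix_ey [CharP F 2] (n : Fin r) (h : ↥(Cfsg.isometryGroup F ⇑(QM r a b)))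
    (hh : h ∈ UU r a b hQ (n + 1)) : linOf (QM r a b) h (ey r n) = ey r n := by
  unfold UU at hh
  induction hh using Subgroup.closure_induction with
  | mem g hg =>
    obtain ⟨i, hi, z, hz, rfl⟩ := hg
    rw [linOf_siegelO (QM r a b) hQ _ _ (QM_ex r a b i) (polar_ex_of_suppJ r a b i z hz),
      siegelLin_apply, polar_ey_of_suppJ r a b n i (by omega) z hz,
      polar_ey_ex_ne r a b n i (by intro h; rw [h] at hi; omega)]
    simp
  | one => rw [linOf_one]; rfl
  | mul x y hx hy ihx ihy => rw [linOf_mul, LinearMap.comp_apply, ihy, ihx]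
  | inv x hx ih =>
    have := linOf_inv_apply (QM r a b) x (ey r n)
    rw [ih] at this
    exact this

/-- the image of `y_n` under the Siegel generator -/
theorem siegel_ey [CharP F 2] (n : Fin r) (z : Idx r → F) (hz : SuppJ r n z) :
    linOf (QM r a b) (Helper43.siegelO (QM r a b) hQ (ex r n) z) (ey r n) =
      ey r n + (-(QM r a b) z) • ex r n + (-1 : F) • z := by
  rw [linOf_siegelO (QM r a b) hQ _ _ (QM_ex r a b n) (polar_ex_of_suppJ r a b n z hz),
    siegelLin_apply, polar_ey_of_suppJ r a b n n le_rfl z hz, polar_ey_ex]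
  simp

/-- extension by zero of a coordinate function on the middle coordinates -/
def ext0 (n : ℕ) (c : {l : Idx r // n < wtM r l ∧ wtM r l + n < 2 * r + 1} → F) : Idx r → F :=
  fun l => if h : n < wtM r l ∧ wtM r l + n < 2 * r + 1 then c ⟨l, h⟩ else 0

theorem suppJ_ext0 (n : ℕ) (c : {l : Idx r // n < wtM r l ∧ wtM r l + n < 2 * r + 1} → F) :
    SuppJ r n (ext0 r n c) := by
  intro l hl
  by_contra h
  apply hl
  rw [ext0, dif_neg h]

theorem ext0_injective (n : ℕ) : Function.Injective (ext0 (F := F) r n) := by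
  intro c c' h
  funext ⟨l, hl⟩
  have := congrFun h l
  rwa [ext0, ext0, dif_pos hl, dif_pos hl] at this

theorem card_J (n : Fin r) :
    Fintype.card {l : Idx r // (n : ℕ) < wtM r l ∧ wtM r l + n < 2 * r + 1} = 2 * (r - n) := by
  classical
  rw [Fintype.card_subtype, Finset.card_filter, Fintype.sum_sum_type, Fintype.sum_sum_type]
  have hn := n.2
  have h1 : ∀ i : Fin r, ((n : ℕ) < wtM r (Sum.inl (Sum.inl i)) ∧
      wtM r (Sum.inl (Sum.inl i)) + n < 2 * r + 1) ↔ n < i := by
    intro i
    rw [wtM_x, Fin.lt_def]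
    have := i.2
    omega
  have h2 : ∀ i : Fin r, ((n : ℕ) < wtM r (Sum.inl (Sum.inr i)) ∧
      wtM r (Sum.inl (Sum.inr i)) + n < 2 * r + 1) ↔ n < i := by
    intro i
    rw [wtM_y, Fin.lt_def]
    have := i.2
    omega
  have h3 : ∀ k : Fin 2, ((n : ℕ) < wtM r (Sum.inr k) ∧
      wtM r (Sum.inr k) + n < 2 * r + 1) ↔ True := by
    intro k
    rw [wtM_w]
    have := k.2
    simp only [iff_true]
    omega
  simp only [h1, h2, h3, if_true, Finset.sum_const, Finset.card_univ, Fintype.card_fin, smul_eq_mul,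
    mul_one]
  rw [← Finset.card_filter, Finset.filter_lt_eq_Ioi, Fin.card_Ioi]
  omega

/-- the key injectivity: `(z, h) ↦ E(x_n, z) h` -/
theorem siegel_mul_injective [CharP F 2] (n : Fin r) (z z' : Idx r → F) (hz : SuppJ r n z)
    (hz' : SuppJ r n z') (h h' : ↥(Cfsg.isometryGroup F ⇑(QM r a b)))
    (hh : h ∈ UU r a b hQ (n + 1)) (hh' : h' ∈ UU r a b hQ (n + 1))
    (heq : Helper43.siegelO (QM r a b) hQ (ex r n) z * h =
      Helper43.siegelO (QM r a b) hQ (ex r n) z' * h') : z = z' ∧ h = h' := by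
  have hzz : z = z' := by
    have h1 := congrArg (fun g => linOf (QM r a b) g (ey r n)) heq
    simp only [linOf_mul, LinearMap.comp_apply] at h1
    rw [fix_ey r a b hQ n h hh, fix_ey r a b hQ n h' hh', siegel_ey r a b hQ n z hz,
      siegel_ey r a b hQ n z' hz'] at h1
    funext l
    by_cases hl : (n : ℕ) < wtM r l ∧ wtM r l + n < 2 * r + 1
    · have hlx : l ≠ Sum.inl (Sum.inl n) := by
        rintro rfl
        rw [wtM_x] at hl
        omega
      have hly : l ≠ Sum.inl (Sum.inr n) := by
        rintro rfl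
        rw [wtM_y] at hl
        have := n.2
        omega
      have h2 := congrFun h1 l
      simp only [Pi.add_apply, Pi.smul_apply, ex_ne r n l hlx, ey_ne r n l hly, smul_eq_mul,
        mul_zero, add_zero, zero_add, neg_mul, one_mul, neg_inj] at h2
      exact h2
    · have e1 : z l = 0 := by
        by_contra hzl
        exact hl (hz l hzl)
      have e2 : z' l = 0 := by
        by_contra hzl
        exact hl (hz' l hzl)
      rw [e1, e2]
  refine ⟨hzz, ?_⟩
  rw [hzz] at heq
  exact mul_left_cancel heq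

theorem card_step [Fintype F] [CharP F 2] (n : Fin r) :
    Fintype.card F ^ (2 * (r - n)) * Nat.card (UU r a b hQ (n + 1)) ≤ Nat.card (UU r a b hQ n) := by
  classical
  let D := ({l : Idx r // (n : ℕ) < wtM r l ∧ wtM r l + n < 2 * r + 1} → F) × ↥(UU r a b hQ (n + 1))
  let Φ : D → ↥(UU r a b hQ n) := fun p =>
    ⟨Helper43.siegelO (QM r a b) hQ (ex r n) (ext0 r n p.1) * (p.2 : ↥(Cfsg.isometryGroup F ⇑(QM r a b))),
      (UU r a b hQ n).mul_mem
        (Subgroup.subset_closure ⟨n, le_rfl, ext0 r n p.1, suppJ_ext0 r n p.1, rfl⟩)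
        (UU_anti r a b hQ (Nat.le_succ _) p.2.2)⟩
  have hΦ : Function.Injective Φ := by
    rintro ⟨c, h⟩ ⟨c', h'⟩ heq
    have h1 := congrArg Subtype.val heq
    obtain ⟨e1, e2⟩ := siegel_mul_injective r a b hQ n _ _ (suppJ_ext0 r n c) (suppJ_ext0 r n c')
      h h' h.2 h'.2 h1
    have e3 := ext0_injective r n e1
    have e4 : h = h' := Subtype.ext e2
    rw [e3, e4]
  have hcard := Nat.card_le_card_of_injective Φ hΦ
  have hD : Nat.card D = Fintype.card F ^ (2 * (r - n)) * Nat.card (UU r a b hQ (n + 1)) := by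
    rw [Nat.card_prod, Nat.card_fun, Nat.card_eq_fintype_card, Nat.card_eq_fintype_card, card_J]
  rw [← hD]
  exact hcard

theorem card_UU_ge [Fintype F] [CharP F 2] (k : ℕ) (hk : k ≤ r) :
    Fintype.card F ^ (k * (k + 1)) ≤ Nat.card (UU r a b hQ (r - k)) := by
  induction k with
  | zero =>
    simp only [Nat.zero_mul, pow_zero]
    exact Nat.card_pos
  | succ k ih =>
    have ih' := ih (by omega)
    have hlt : r - (k + 1) < r := by omega
    have hs := card_step r a b hQ ⟨r - (k + 1), hlt⟩
    simp only at hs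
    have e1 : r - (k + 1) + 1 = r - k := by omega
    have e2 : 2 * (r - (r - (k + 1))) = 2 * (k + 1) := by omega
    rw [e1, e2] at hs
    calc Fintype.card F ^ ((k + 1) * (k + 1 + 1))
        = Fintype.card F ^ (2 * (k + 1)) * Fintype.card F ^ (k * (k + 1)) := by
          rw [← pow_add]; congr 1; ring
      _ ≤ Fintype.card F ^ (2 * (k + 1)) * Nat.card (UU r a b hQ (r - k)) :=
          Nat.mul_le_mul_left _ ih'
      _ ≤ _ := hs

include hQ in
/-- the unipotent subgroup of `Ω⁻` -/
theorem unip2_Omega_minus [Fintype F] [CharP F 2] (hr : 3 ≤ r) :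
    Cfsg.Agent.Lib.Helper38.SQ.Unip2 ↥(Cfsg.Omega F ⇑(QM r a b)) (Fintype.card F ^ (r * (r + 1))) := by
  apply unip2_of_le (UU r a b hQ 0) _ (UU_le_Omega r a b hQ hr 0) _ (isPGroup_UU r a b hQ 0)
  · have := card_UU_ge r a b hQ r le_rfl
    rwa [Nat.sub_self] at this
  · apply Cfsg.Agent.Lib.Helper38.SQ.sq_mem_commutator_of_closure (UU r a b hQ 0)
      (genSet r a b hQ 0) rfl
    intro s hs
    rw [gen_sq r a b hQ 0 s hs]
    exact Subgroup.one_mem _

end Cfsg.Agent.Lib.Helper50.SQ
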