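import Cfsg.Agent.Lib.Helper50.ReflClass

set_option autoImplicit false

/-! Long-root Siegel transformations as elements of the isometry group. -/

namespace Cfsg.Agent.Lib.Helper50

open Matrix Module QuadraticMap Cfsg.Agent.Lib.Helper19

variable {F : Type*} [Field F] {ι : Type} [Fintype ι] [DecidableEq ι]

theorem siegel_isometry (Q : QuadraticForm F (ι → F)) (u v : ι → F) (hu : Q u = 0) (hv : Q v = 0)
    (huv : polar (⇑Q) u v = 0) (c : F) (x : ι → F) :
    Q (Cfsg.siegelMatrix (⇑Q) u v c *ᵥ x) = Q x := by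
  rw [siegelMatrix_mulVec]
  set a := c * polar (⇑Q) u x with ha
  set b := -(c * polar (⇑Q) v x) with hb
  have e : c • (polar (⇑Q) u x • v - polar (⇑Q) v x • u) = a • v + b • u := by
    rw [ha, hb, smul_sub, smul_smul, smul_smul, neg_smul, sub_eq_add_neg]
  rw [e]
  have h1 := QuadraticMap.map_add (⇑Q) x (a • v + b • u)
  have h3 := QuadraticMap.map_add (⇑Q) (a • v) (b • u)
  rw [h1, h3, QuadraticMap.map_smul, QuadraticMap.map_smul, hu, hv, polar_smul_left,
    polar_smul_right, polar_comm (⇑Q) v u, huv, polar_add_right, polar_smul_right,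
    polar_smul_right, polar_comm (⇑Q) x v, polar_comm (⇑Q) x u, ha, hb]
  simp only [smul_eq_mul]
  ring

theorem siegel_mul (Q : QuadraticForm F (ι → F)) (u v : ι → F) (hu : Q u = 0) (hv : Q v = 0)
    (huv : polar (⇑Q) u v = 0) (c d : F) :
    Cfsg.siegelMatrix (⇑Q) u v c * Cfsg.siegelMatrix (⇑Q) u v d =
      Cfsg.siegelMatrix (⇑Q) u v (c + d) := by
  have hvu : polar (⇑Q) v u = 0 := by rw [polar_comm]; exact huv
  have huu : polar (⇑Q) u u = 0 := by rw [polar_self, hu]; simp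
  have hvv : polar (⇑Q) v v = 0 := by rw [polar_self, hv]; simp
  apply Matrix.toLin'.injective
  apply LinearMap.ext
  intro x
  rw [Matrix.toLin'_apply, Matrix.toLin'_apply, ← Matrix.mulVec_mulVec, siegelMatrix_mulVec,
    siegelMatrix_mulVec, siegelMatrix_mulVec]
  simp only [polar_add_right, polar_smul_right, polar_sub_right, huv, hvu, huu, hvv, smul_eq_mul,
    mul_zero, sub_zero, add_zero]
  module

theorem siegel_zero (Q : (ι → F) → F) (u v : ι → F) : Cfsg.siegelMatrix Q u v 0 = 1 := by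
  unfold Cfsg.siegelMatrix
  simp

/-- the Siegel transformation as an element of the isometry group -/
def siegelO (Q : QuadraticForm F (ι → F)) (u v : ι → F) (hu : Q u = 0) (hv : Q v = 0)
    (huv : polar (⇑Q) u v = 0) (c : F) : ↥(Cfsg.isometryGroup F (⇑Q)) :=
  ⟨⟨Cfsg.siegelMatrix (⇑Q) u v c, Cfsg.siegelMatrix (⇑Q) u v (-c),
    by rw [siegel_mul Q u v hu hv huv, add_neg_cancel, siegel_zero],
    by rw [siegel_mul Q u v hu hv huv, neg_add_cancel, siegel_zero]⟩,
    (mem_isometryGroup_iff (⇑Q) _).mpr (fun x => siegel_isometry Q u v hu hv huv c x)⟩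

theorem siegelO_val (Q : QuadraticForm F (ι → F)) (u v : ι → F) (hu : Q u = 0) (hv : Q v = 0)
    (huv : polar (⇑Q) u v = 0) (c : F) :
    (((siegelO Q u v hu hv huv c : ↥(Cfsg.isometryGroup F (⇑Q))) : GL ι F) : Matrix ι ι F) =
      Cfsg.siegelMatrix (⇑Q) u v c := rfl

/-- the set of long-root Siegel elements -/
def siegelSet (Q : QuadraticForm F (ι → F)) : Set ↥(Cfsg.isometryGroup F (⇑Q)) :=
  {g | ∃ (u v : ι → F) (c : F), Q u = 0 ∧ Q v = 0 ∧ polar (⇑Q) u v = 0 ∧
    ((g : GL ι F) : Matrix ι ι F) = Cfsg.siegelMatrix (⇑Q) u v c}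

/-- the subgroup generated by the long-root Siegel elements -/
def siegelGroup (Q : QuadraticForm F (ι → F)) : Subgroup ↥(Cfsg.isometryGroup F (⇑Q)) :=
  Subgroup.closure (siegelSet Q)

theorem siegelO_mem (Q : QuadraticForm F (ι → F)) (u v : ι → F) (hu : Q u = 0) (hv : Q v = 0)
    (huv : polar (⇑Q) u v = 0) (c : F) : siegelO Q u v hu hv huv c ∈ siegelGroup Q :=
  Subgroup.subset_closure ⟨u, v, c, hu, hv, huv, rfl⟩

theorem polar_O (Q : QuadraticForm F (ι → F)) (g : ↥(Cfsg.isometryGroup F (⇑Q))) (x y : ι → F) :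
    polar (⇑Q) (((g : GL ι F) : Matrix ι ι F) *ᵥ x) (((g : GL ι F) : Matrix ι ι F) *ᵥ y) =
      polar (⇑Q) x y := by
  unfold polar
  rw [← Matrix.mulVec_add, O_isometry (⇑Q) g, O_isometry (⇑Q) g, O_isometry (⇑Q) g]

/-- conjugating a Siegel matrix by an isometry -/
theorem conj_siegelMatrix (Q : QuadraticForm F (ι → F)) (g : ↥(Cfsg.isometryGroup F (⇑Q)))
    (u v : ι → F) (c : F) :
    ((g : GL ι F) : Matrix ι ι F) * Cfsg.siegelMatrix (⇑Q) u v c =
      Cfsg.siegelMatrix (⇑Q) (((g : GL ι F) : Matrix ι ι F) *ᵥ u)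
        (((g : GL ι F) : Matrix ι ι F) *ᵥ v) c * ((g : GL ι F) : Matrix ι ι F) := by
  apply Matrix.toLin'.injective
  apply LinearMap.ext
  intro x
  rw [Matrix.toLin'_apply, Matrix.toLin'_apply, ← Matrix.mulVec_mulVec, ← Matrix.mulVec_mulVec,
    siegelMatrix_mulVec, siegelMatrix_mulVec, polar_O, polar_O, Matrix.mulVec_add,
    Matrix.mulVec_smul, Matrix.mulVec_sub, Matrix.mulVec_smul, Matrix.mulVec_smul]

/-- the Siegel set is stable under conjugation -/
theorem siegelSet_conj (Q : QuadraticForm F (ι → F)) (g s : ↥(Cfsg.isometryGroup F (⇑Q)))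
    (hs : s ∈ siegelSet Q) : g * s * g⁻¹ ∈ siegelSet Q := by
  obtain ⟨u, v, c, hu, hv, huv, hsm⟩ := hs
  refine ⟨((g : GL ι F) : Matrix ι ι F) *ᵥ u, ((g : GL ι F) : Matrix ι ι F) *ᵥ v, c, ?_, ?_, ?_, ?_⟩
  · rw [O_isometry (⇑Q) g u]; exact hu
  · rw [O_isometry (⇑Q) g v]; exact hv
  · rw [polar_O]; exact huv
  · have h1 : ((g * s : ↥(Cfsg.isometryGroup F (⇑Q))) : GL ι F).val =
        Cfsg.siegelMatrix (⇑Q) (((g : GL ι F) : Matrix ι ι F) *ᵥ u)
        (((g : GL ι F) : Matrix ι ι F) *ᵥ v) c * ((g : GL ι F) : Matrix ι ι F) := by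
      rw [Subgroup.coe_mul, Units.val_mul, hsm, conj_siegelMatrix]
    rw [Subgroup.coe_mul, Units.val_mul, h1, mul_assoc, ← Units.val_mul, ← Subgroup.coe_mul,
      mul_inv_cancel]
    simp

theorem siegelGroup_conj (Q : QuadraticForm F (ι → F)) (g s : ↥(Cfsg.isometryGroup F (⇑Q)))
    (hs : s ∈ siegelGroup Q) : g * s * g⁻¹ ∈ siegelGroup Q := by
  unfold siegelGroup at hs ⊢
  induction hs using Subgroup.closure_induction with
  | mem x hx => exact Subgroup.subset_closure (siegelSet_conj Q g x hx)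
  | one => simp
  | mul a b _ _ ha hb =>
    have : g * (a * b) * g⁻¹ = (g * a * g⁻¹) * (g * b * g⁻¹) := by group
    rw [this]
    exact Subgroup.mul_mem _ ha hb
  | inv a _ ha =>
    have : g * a⁻¹ * g⁻¹ = (g * a * g⁻¹)⁻¹ := by group
    rw [this]
    exact Subgroup.inv_mem _ ha

instance siegelGroup_normal (Q : QuadraticForm F (ι → F)) : (siegelGroup Q).Normal :=
  ⟨fun n hn g => siegelGroup_conj Q g n hn⟩

end Cfsg.Agent.Lib.Helper50
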