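import Mathlib
import Cfsg.Prelude.Def_ClassicalGeometry
import Cfsg.Agent.Lib.Helper48.Sp2GDefs

/-!
# K-Sp2G leaf Ea (S2411): long root elements
`wC * x(E_00) = x(E_11) * wC` and `hT k * x(a E_00) = x(k² a E_00) * hT k`.
-/

set_option autoImplicit false

namespace Cfsg.Agent.Lib.Helper50.Sp2G

open Matrix Cfsg.Agent.Lib.Helper48.RSp Cfsg.Agent.Lib.Helper48.Sp2G Cfsg.Agent.Lib.Helper18

theorem nupT_mul_E00 (m : ℕ) (F : Type*) [Field F] :
    (Nup m F)ᵀ * E00 m F = Matrix.single (1 : Fin (m + 2)) 0 (1 : F) := by
  ext i j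
  rw [Matrix.mul_apply]
  simp only [E00, Matrix.single_apply, Matrix.transpose_apply, Nup]
  rw [Finset.sum_eq_single (0 : Fin (m + 2))]
  · by_cases hi : i = 1
    · subst hi
      by_cases hj : j = 0
      · subst hj; simp
      · have : ¬ (0 : Fin (m + 2)) = j := fun h => hj h.symm
        simp [this]
    · have h1 : ¬ (1 = i.val) := by
        intro h
        apply hi
        apply Fin.ext
        simp [← h]
      have h2 : ¬ (1 : Fin (m + 2)) = i := fun h => hi h.symm
      simp [h1, h2]
  · intro b _ hb
    have : ¬ (0 : Fin (m + 2)) = b := fun h => hb h.symm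
    simp [this]
  · intro h; exact absurd (Finset.mem_univ _) h

theorem single11_mul_nupT (m : ℕ) (F : Type*) [Field F] :
    Matrix.single (1 : Fin (m + 2)) 1 (1 : F) * (Nup m F)ᵀ = Matrix.single (1 : Fin (m + 2)) 0 (1 : F) := by
  ext i j
  rw [Matrix.mul_apply]
  simp only [Matrix.single_apply, Matrix.transpose_apply, Nup]
  rw [Finset.sum_eq_single (1 : Fin (m + 2))]
  · by_cases hi : (1 : Fin (m + 2)) = i
    · subst hi
      by_cases hj : j = 0
      · subst hj; simp
      · have h0 : ¬ (0 : Fin (m + 2)) = j := fun h => hj h.symm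
        have h1 : ¬ (j.val + 1 = (1 : Fin (m + 2)).val) := by
          intro h
          apply hj
          apply Fin.ext
          have : (1 : Fin (m + 2)).val = 1 := by simp
          rw [this] at h
          simp at h
          simpa using h
        simp [h0, h1, hj]
    · simp [hi]
  · intro b _ hb
    have : ¬ (1 : Fin (m + 2)) = b := fun h => hb h.symm
    simp [this]
  · intro h; exact absurd (Finset.mem_univ _) h

theorem wC_mul_z0 (m : ℕ) (F : Type*) [Field F] : wC m F * z0 m F = zL m F * wC m F := by
  have h10 : (1 : Fin (m + 2)) ≠ 0 := by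
    intro h
    have := congrArg Fin.val h
    simp at this
  have hl0 : Fin.last (m + 1) ≠ (0 : Fin (m + 2)) := by
    intro h
    have := congrArg Fin.val h
    simp at this
  unfold wC z0 zL xMat
  rw [Matrix.fromBlocks_multiply, Matrix.fromBlocks_multiply]
  congr 1
  · rw [Matrix.mul_one, Matrix.mul_zero, add_zero, Matrix.one_mul,
      Matrix.single_mul_single_of_ne _ _ _ _ h10, add_zero]
  · rw [nupT_mul_E00, Matrix.mul_one, Matrix.one_mul, single11_mul_nupT]
    abel
  · rw [Matrix.mul_one, Matrix.mul_zero, add_zero, Matrix.zero_mul, Matrix.one_mul, zero_add]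
  · rw [Matrix.mul_one, Matrix.zero_mul, Matrix.one_mul, zero_add, E00,
      Matrix.single_mul_single_of_ne _ _ _ _ hl0, zero_add]

theorem hT_mul_xMat_E00 (m : ℕ) {F : Type*} [Field F] (k a : F) (hk : k ≠ 0) :
    hT m k * xMat m (a • E00 m F) = xMat m ((k ^ 2 * a) • E00 m F) * hT m k := by
  unfold hT xMat
  rw [Matrix.fromBlocks_multiply, Matrix.fromBlocks_multiply]
  congr 1
  · simp
  · simp only [Matrix.mul_zero, Matrix.zero_mul, add_zero, zero_add, Matrix.one_mul, Matrix.mul_one]
    ext i j
    simp only [E00, Matrix.mul_apply, Matrix.diagonal_apply, Matrix.smul_apply, Matrix.single_apply,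
      kvec, smul_eq_mul]
    rw [Finset.sum_eq_single (0 : Fin (m + 2)), Finset.sum_eq_single (0 : Fin (m + 2))]
    · by_cases hi : i = 0
      · subst hi
        by_cases hj : j = 0
        · subst hj
          simp
          field_simp
        · have h0 : ¬ (0 : Fin (m + 2)) = j := fun h => hj h.symm
          simp [h0]
      · have h0 : ¬ (0 : Fin (m + 2)) = i := fun h => hi h.symm
        simp [hi, h0]
    · intro b _ hb
      have : ¬ (0 : Fin (m + 2)) = b := fun h => hb h.symm
      simp [this]
    · intro h; exact absurd (Finset.mem_univ _) h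
    · intro b _ hb
      have : ¬ (0 : Fin (m + 2)) = b := fun h => hb h.symm
      simp [this]
    · intro h; exact absurd (Finset.mem_univ _) h
  · simp
  · simp

end Cfsg.Agent.Lib.Helper50.Sp2G
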