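import Mathlib
import Cfsg.Prelude.Def_ClassicalGeometry
import Cfsg.Agent.Lib.Helper48.Sp2GDefs

/-!
# K-Sp2G leaf M2b (S2411): the mixed element in characteristic 2
`(z0 * sO)^3 = z0` and `(z0 * sO)^4 = sO`.
-/

set_option autoImplicit false

namespace Cfsg.Agent.Lib.Helper50.Sp2G

open Matrix Cfsg.Agent.Lib.Helper48.RSp Cfsg.Agent.Lib.Helper48.Sp2G Cfsg.Agent.Lib.Helper18

section

variable {n : Type*} [Fintype n] [DecidableEq n] {F : Type*} [Field F]

/-- `[[0,1],[1,1]]^3 = 1` and `[[1,1],[1,0]]^3 = 1` on two distinct indices, characteristic 2 -/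
theorem m3_cube (h2 : (2 : F) = 0) (i j : n) (hij : i ≠ j) :
    (1 - Matrix.single i i (1 : F) + Matrix.single i j 1 + Matrix.single j i 1) ^ 3 = 1 ∧
    (1 - Matrix.single j j (1 : F) + Matrix.single i j 1 + Matrix.single j i 1) ^ 3 = 1 := by
  have hji : j ≠ i := fun h => hij h.symm
  set a : Matrix n n F := Matrix.single i i 1 with ha
  set b : Matrix n n F := Matrix.single i j 1 with hb
  set c : Matrix n n F := Matrix.single j i 1 with hc
  set d : Matrix n n F := Matrix.single j j 1 with hd
  have aa : a * a = a := by rw [ha, Matrix.single_mul_single_same, mul_one]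
  have ab : a * b = b := by rw [ha, hb, Matrix.single_mul_single_same, mul_one]
  have ac : a * c = 0 := by rw [ha, hc, Matrix.single_mul_single_of_ne _ _ _ _ hij]
  have ad : a * d = 0 := by rw [ha, hd, Matrix.single_mul_single_of_ne _ _ _ _ hij]
  have ba : b * a = 0 := by rw [ha, hb, Matrix.single_mul_single_of_ne _ _ _ _ hji]
  have bb : b * b = 0 := by rw [hb, Matrix.single_mul_single_of_ne _ _ _ _ hji]
  have bc : b * c = a := by rw [ha, hb, hc, Matrix.single_mul_single_same, mul_one]
  have bd : b * d = b := by rw [hb, hd, Matrix.single_mul_single_same, mul_one]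
  have ca : c * a = c := by rw [ha, hc, Matrix.single_mul_single_same, mul_one]
  have cb : c * b = d := by rw [hb, hc, hd, Matrix.single_mul_single_same, mul_one]
  have cc : c * c = 0 := by rw [hc, Matrix.single_mul_single_of_ne _ _ _ _ hij]
  have cd : c * d = 0 := by rw [hc, hd, Matrix.single_mul_single_of_ne _ _ _ _ hij]
  have da : d * a = 0 := by rw [ha, hd, Matrix.single_mul_single_of_ne _ _ _ _ hji]
  have db : d * b = 0 := by rw [hb, hd, Matrix.single_mul_single_of_ne _ _ _ _ hji]
  have dc : d * c = c := by rw [hc, hd, Matrix.single_mul_single_same, mul_one]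
  have dd : d * d = d := by rw [hd, Matrix.single_mul_single_same, mul_one]
  have two (X : Matrix n n F) : X + X = 0 := by
    rw [← two_smul F X, h2, zero_smul]
  constructor
  · have e1 : (1 - a + b + c) ^ 3 = 1 + (b + b) + (c + c) + (d + d) := by
      simp only [pow_succ, pow_zero, one_mul, mul_add, add_mul, mul_sub, sub_mul, mul_one,
        aa, ab, ac, ad, ba, bb, bc, bd, ca, cb, cc, cd, da, db, dc, dd, mul_zero, zero_mul,
        sub_zero, add_zero, zero_add]
      abel
    rw [e1, two, two, two, add_zero, add_zero, add_zero]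
  · have e1 : (1 - d + b + c) ^ 3 = 1 + (a + a) + (b + b) + (c + c) := by
      simp only [pow_succ, pow_zero, one_mul, mul_add, add_mul, mul_sub, sub_mul, mul_one,
        aa, ab, ac, ad, ba, bb, bc, bd, ca, cb, cc, cd, da, db, dc, dd, mul_zero, zero_mul,
        sub_zero, add_zero, zero_add]
      abel
    rw [e1, two, two, two, add_zero, add_zero, add_zero]

end

theorem z0_mul_sO_pow (m : ℕ) (hm : 1 ≤ m) (F : Type*) [Field F] (h2 : (2 : F) = 0) :
    (z0 m F * sO m F) ^ 3 = z0 m F ∧ (z0 m F * sO m F) ^ 4 = sO m F := by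
  obtain ⟨k, rfl⟩ : ∃ k, m = k + 1 := ⟨m - 1, by omega⟩
  have h01 : (0 : Fin (k + 1 + 2)) ≠ 1 := by
    intro h; have := congrArg Fin.val h; simp at this
  have h02 : (0 : Fin (k + 1 + 2)) ≠ 2 := by
    intro h; have := congrArg Fin.val h; simp at this
    rw [Nat.mod_eq_of_lt (by omega)] at this; omega
  have h12 : (1 : Fin (k + 1 + 2)) ≠ 2 := by
    intro h; have := congrArg Fin.val h; simp at this
    rw [Nat.mod_eq_of_lt (by omega)] at this; omega
  obtain ⟨hM3, hM3'⟩ := m3_cube (F := F) h2 (1 : Fin (k + 1 + 2)) 2 h12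
  -- z0 and sO commute
  have hE1 : E00 (k + 1) F * M3' (k + 1) F = E00 (k + 1) F := by
    unfold E00 M3'
    rw [mul_add, mul_add, mul_sub, Matrix.mul_one,
      Matrix.single_mul_single_of_ne _ _ _ _ h02, Matrix.single_mul_single_of_ne _ _ _ _ h01,
      Matrix.single_mul_single_of_ne _ _ _ _ h02]
    simp
  have hE2 : M3 (k + 1) F * E00 (k + 1) F = E00 (k + 1) F := by
    unfold E00 M3
    rw [add_mul, add_mul, sub_mul, Matrix.one_mul,
      Matrix.single_mul_single_of_ne _ _ _ _ h01.symm, Matrix.single_mul_single_of_ne _ _ _ _ h02.symm,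
      Matrix.single_mul_single_of_ne _ _ _ _ h01.symm]
    simp
  have hcomm : Commute (z0 (k + 1) F) (sO (k + 1) F) := by
    unfold Commute SemiconjBy z0 sO xMat
    rw [Matrix.fromBlocks_multiply, Matrix.fromBlocks_multiply]
    congr 1
    · simp
    · rw [Matrix.one_mul, zero_add, Matrix.zero_mul, add_zero, hE1, hE2]
    · simp
    · simp
  -- powers of z0
  have hz2 : z0 (k + 1) F * z0 (k + 1) F = 1 := by
    unfold z0
    rw [xMat_mul]
    have : E00 (k + 1) F + E00 (k + 1) F = 0 := by
      rw [← two_smul F (E00 (k + 1) F), h2, zero_smul]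
    rw [this, xMat_zero]
  -- powers of sO
  have hs3 : sO (k + 1) F ^ 3 = 1 := by
    unfold sO
    rw [pow_succ, pow_succ, pow_one, Matrix.fromBlocks_multiply, Matrix.fromBlocks_multiply]
    simp only [Matrix.mul_zero, Matrix.zero_mul, add_zero, zero_add]
    have e1 : M3 (k + 1) F * M3 (k + 1) F * M3 (k + 1) F = 1 := by
      have := hM3
      rw [pow_succ, pow_succ, pow_one] at this
      exact this
    have e2 : M3' (k + 1) F * M3' (k + 1) F * M3' (k + 1) F = 1 := by
      have := hM3'
      rw [pow_succ, pow_succ, pow_one] at this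
      exact this
    rw [e1, e2, Matrix.fromBlocks_one]
  constructor
  · rw [hcomm.mul_pow, hs3, mul_one, pow_succ, pow_two, hz2, one_mul]
  · rw [hcomm.mul_pow, pow_succ (sO (k + 1) F) 3, hs3, one_mul]
    have : z0 (k + 1) F ^ 4 = 1 := by
      rw [show (4 : ℕ) = 2 + 2 by norm_num, pow_add, pow_two, hz2, one_mul]
    rw [this, one_mul]

end Cfsg.Agent.Lib.Helper50.Sp2G
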