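import Cfsg.Agent.Lib.Helper50.SpinorCrit

set_option autoImplicit false

/-! Membership in the commutator subgroup of an orthogonal group (q odd) through the two
characters `detHom` and `theta`; products of reflections in orthogonal families. -/

namespace Cfsg.Agent.Lib.Helper50

open Matrix Cfsg.Agent.Lib.Helper19

variable {ι : Type} [Fintype ι] [DecidableEq ι] {F : Type*} [Field F]

section general

variable {V : Type*} [AddCommGroup V] [Module F V]

/-- Product of reflections in pairwise orthogonal vectors. -/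
theorem prod_reflLin_ortho (Q : QuadraticForm F V) (l : List V)
    (ho : l.Pairwise (fun u v => QuadraticMap.polar (⇑Q) u v = 0)) (x : V) :
    (l.map (reflLin Q)).prod x =
      x - (l.map (fun v => ((Q v)⁻¹ * QuadraticMap.polar (⇑Q) v x) • v)).sum := by
  induction l with
  | nil => simp
  | cons a t ih =>
    rw [List.pairwise_cons] at ho
    rw [List.map_cons, List.prod_cons, Module.End.mul_apply, ih ho.2, reflLin_apply,
      List.map_cons, List.sum_cons]
    have h0 : QuadraticMap.polar (⇑Q) a
        (t.map (fun v => ((Q v)⁻¹ * QuadraticMap.polar (⇑Q) v x) • v)).sum = 0 := by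
      have := map_list_sum (QuadraticMap.polarBilin Q a)
        (t.map (fun v => ((Q v)⁻¹ * QuadraticMap.polar (⇑Q) v x) • v))
      rw [QuadraticMap.polarBilin_apply_apply] at this
      rw [this, List.map_map]
      apply List.sum_eq_zero
      intro y hy
      rw [List.mem_map] at hy
      obtain ⟨v, hv, rfl⟩ := hy
      simp only [Function.comp, map_smul, QuadraticMap.polarBilin_apply_apply, smul_eq_mul]
      rw [ho.1 v hv, mul_zero]
    rw [QuadraticMap.polar_sub_right, h0, sub_zero]
    abel

/-- The product of the reflections in an orthogonal basis is `-1`. -/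
theorem prod_reflLin_basis (Q : QuadraticForm F V) {k : ℕ}
    (b : Module.Basis (Fin k) F V)
    (ho : ∀ i j, i ≠ j → QuadraticMap.polar (⇑Q) (b i) (b j) = 0) (hb : ∀ i, Q (b i) ≠ 0) :
    ((List.ofFn b).map (reflLin Q)).prod = -1 := by
  apply b.ext
  intro j
  rw [prod_reflLin_ortho Q _ (by
    rw [List.pairwise_ofFn]
    intro i i' hlt
    exact ho i i' (ne_of_lt hlt)), List.map_ofFn, List.sum_ofFn,
    Finset.sum_eq_single j]
  · simp only [Function.comp, QuadraticMap.polar_self]
    have : (Q (b j))⁻¹ * 2 • Q (b j) = 2 := by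
      simp only [nsmul_eq_mul, Nat.cast_ofNat]
      field_simp [hb j]
    rw [this, two_smul]
    simp
  · intro i _ hij
    simp only [Function.comp]
    rw [ho i j hij, mul_zero, zero_smul]
  · intro h; exact absurd (Finset.mem_univ j) h

end general

/-- matrix version -/
theorem prod_reflectionMatrix_basis (Q : QuadraticForm F (ι → F)) {k : ℕ}
    (b : Module.Basis (Fin k) F (ι → F))
    (ho : ∀ i j, i ≠ j → QuadraticMap.polar (⇑Q) (b i) (b j) = 0) (hb : ∀ i, Q (b i) ≠ 0) :
    ((List.ofFn b).map (fun v => Cfsg.reflectionMatrix (⇑Q) v)).prod = -1 := by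
  apply (Matrix.toLinAlgEquiv' (R := F) (n := ι)).injective
  rw [map_list_prod, List.map_map, map_neg, map_one, ← prod_reflLin_basis Q b ho hb]
  congr 1
  apply List.map_congr_left
  intro u _
  exact toLin'_reflectionMatrix Q u

/-- The isometry `-1`. -/
def negO (Q : QuadraticForm F (ι → F)) : ↥(Cfsg.isometryGroup F (⇑Q)) :=
  ⟨-1, by
    rw [mem_isometryGroup_iff]
    intro u
    simp [Matrix.neg_mulVec]⟩

theorem negO_val (Q : QuadraticForm F (ι → F)) :
    (((negO Q : ↥(Cfsg.isometryGroup F (⇑Q))) : GL ι F) : Matrix ι ι F) = -1 := by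
  simp [negO]

/-- Gram matrix of the polar form in the standard basis, as `toBilin'`. -/
theorem polar_eq_toBilin' (Q : QuadraticForm F (ι → F)) (u v : ι → F) :
    QuadraticMap.polar (⇑Q) u v =
      Matrix.toBilin' (Matrix.of (fun i j : ι =>
        QuadraticMap.polar (⇑Q) (Pi.single i 1) (Pi.single j 1))) u v := by
  have : (Matrix.of (fun i j : ι =>
        QuadraticMap.polar (⇑Q) (Pi.single i 1) (Pi.single j 1))) =
      LinearMap.BilinForm.toMatrix' (QuadraticMap.polarBilin Q) := by
    ext i j
    simp [LinearMap.BilinForm.toMatrix'_apply]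
  rw [this, Matrix.toBilin'_toMatrix']
  rfl

section finite

variable [Fintype F]

/-- `-1` lies in the commutator subgroup iff the discriminant is a square (even dimension). -/
theorem neg_one_mem_commutator_iff (h2 : (2 : F) ≠ 0) (Q : QuadraticForm F (ι → F))
    (hQ : (QuadraticMap.polarBilin Q).Nondegenerate) (he : Even (Fintype.card ι))
    (g : ↥(Cfsg.isometryGroup F (⇑Q))) (hg : ((g : GL ι F) : Matrix ι ι F) = -1) :
    g ∈ commutator ↥(Cfsg.isometryGroup F (⇑Q)) ↔
      IsSquare (Matrix.of (fun i j : ι =>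
        QuadraticMap.polar (⇑Q) (Pi.single i 1) (Pi.single j 1))).det := by
  have : Invertible (2 : F) := invertibleOfNonzero h2
  have hsymm : (QuadraticMap.polarBilin Q).IsSymm := by
    refine ⟨fun x y => ?_⟩
    simp only [QuadraticMap.polarBilin_apply_apply, RingHom.id_apply]
    exact QuadraticMap.polar_comm _ _ _
  obtain ⟨b, hb⟩ := LinearMap.BilinForm.exists_orthogonal_basis hsymm
  have hk : Module.finrank F (ι → F) = Fintype.card ι := Module.finrank_fintype_fun_eq_card F
  have ho : ∀ i j, i ≠ j → QuadraticMap.polar (⇑Q) (b i) (b j) = 0 := by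
    intro i j hij
    have := hb hij
    simpa only [Function.onFun, QuadraticMap.polarBilin_apply_apply] using this
  have hbn : ∀ i, Q (b i) ≠ 0 := by
    intro i h0
    have := hb.not_isOrtho_basis_self_of_separatingLeft hQ.1 i
    apply this
    rw [QuadraticMap.polarBilin_apply_apply, QuadraticMap.polar_self, h0, smul_zero]
  have hcrit := spinor_criterion h2 Q g (List.ofFn b) (by
    intro v hv
    rw [List.mem_ofFn] at hv
    obtain ⟨i, rfl⟩ := hv
    exact hbn i) (by rw [hg, prod_reflectionMatrix_basis Q b ho hbn])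
  rw [hcrit, List.length_ofFn, List.map_ofFn, List.prod_ofFn]
  obtain ⟨d, hd, hdet⟩ := gram_det_basis (Matrix.of (fun i j : ι =>
        QuadraticMap.polar (⇑Q) (Pi.single i 1) (Pi.single j 1))) b
  have hdiag : (Matrix.of fun i j => Matrix.toBilin' (Matrix.of (fun i j : ι =>
        QuadraticMap.polar (⇑Q) (Pi.single i 1) (Pi.single j 1))) (b i) (b j)) =
      Matrix.diagonal (fun i => 2 * Q (b i)) := by
    ext i j
    rw [Matrix.of_apply, ← polar_eq_toBilin']
    by_cases hij : i = j
    · subst hij
      rw [Matrix.diagonal_apply_eq, QuadraticMap.polar_self]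
      simp
    · rw [Matrix.diagonal_apply_ne _ hij, ho i j hij]
  rw [hdiag, Matrix.det_diagonal, Finset.prod_mul_distrib, Finset.prod_const, Finset.card_univ,
    Fintype.card_fin] at hdet
  rw [← hk] at he
  obtain ⟨r, hr⟩ := he
  have h2r : (2 : F) ^ Module.finrank F (ι → F) = ((2 : F) ^ r) ^ 2 := by
    rw [hr, ← two_mul, pow_mul, pow_right_comm]
  have h2r0 : (2 : F) ^ r ≠ 0 := pow_ne_zero _ h2
  constructor
  · rintro ⟨_, hsq⟩
    rw [← isSquare_sq_mul_iff hd, ← hdet, h2r, isSquare_sq_mul_iff h2r0]
    exact hsq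
  · intro hsq
    refine ⟨⟨r, hr⟩, ?_⟩
    rw [← isSquare_sq_mul_iff hd, ← hdet, h2r, isSquare_sq_mul_iff h2r0] at hsq
    exact hsq

end finite

end Cfsg.Agent.Lib.Helper50
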