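import Mathlib
import Cfsg.Agent.Lib.Helper69.StNDefs

/-!
# K-StN pack (S2401, architect helper69), leaf H2d (keystone 240122): `coxeter_rel`

The lifts `sS Y a = w Y a (a+1) 1` of the simple reflections satisfy the Coxeter relations of type `A_k`
modulo the torus `Htor Y`.
-/

set_option autoImplicit false

namespace Cfsg.Agent.Lib.Helper50.StN

open Cfsg.Agent.Lib.Helper69.StN Matrix

variable {K : Type*} [Field K] {S : Type*} [Group S]

section Weyl
variable {k : ℕ} {Y : Fin (k + 1) → Fin (k + 1) → K → S}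

/-- the square of a simple reflection lies in the torus -/
theorem h2d_sq_mem (hX : IsSt Y) {i j : Fin (k + 1)} (hij : i ≠ j) :
    w Y i j (1 : K) * w Y i j 1 ∈ Htor Y := by
  rw [hX.w_one_sq hij]
  exact (Htor Y).inv_mem (hh_mem_Htor Y hij (neg_ne_zero.mpr one_ne_zero))

/-- disjoint simple reflections commute -/
theorem h2d_far (hX : IsSt Y) (hA : HasActsW Y) {i j p q : Fin (k + 1)} (hij : i ≠ j) (hpq : p ≠ q)
    (hpi : p ≠ i) (hpj : p ≠ j) (hqi : q ≠ i) (hqj : q ≠ j) :
    w Y i j (1 : K) * w Y p q 1 = w Y p q 1 * w Y i j 1 := by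
  have h := hX.conj_w_of_acts (hA i j hij 1 one_ne_zero) hpq (one_ne_zero (α := K))
  rw [Equiv.swap_apply_of_ne_of_ne hpi hpj, Equiv.swap_apply_of_ne_of_ne hqi hqj] at h
  have e : dW i j (1 : K) p * 1 * (dW i j (1 : K) q)⁻¹ = 1 := by
    simp [dW, hpi, hpj, hqi, hqj]
  rw [e] at h
  calc w Y i j (1 : K) * w Y p q 1 = (w Y i j 1 * w Y p q 1 * (w Y i j 1)⁻¹) * w Y i j 1 := by group
    _ = w Y p q 1 * w Y i j 1 := by rw [h]

/-- adjacent simple reflections: the braid relation modulo the torus -/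
theorem h2d_adj (hX : IsSt Y) (hA : HasActsW Y)
    (hconj : ∀ {m h : S}, m ∈ Nmon Y → h ∈ Htor Y → m * h * m⁻¹ ∈ Htor Y)
    {i j l : Fin (k + 1)} (hij : i ≠ j) (hjl : j ≠ l) (hil : i ≠ l) :
    (w Y i j (1 : K) * w Y j l 1) ^ 3 ∈ Htor Y := by
  set sa := w Y i j (1 : K) with hsa
  set sb := w Y j l (1 : K) with hsb
  set r := w Y i l (1 : K) with hr
  -- `sa * sb * sa⁻¹ = r`
  have h1 : sa * sb * sa⁻¹ = r := by
    have h := hX.conj_w_of_acts (hA i j hij 1 one_ne_zero) hjl (one_ne_zero (α := K))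
    rw [Equiv.swap_apply_right, Equiv.swap_apply_of_ne_of_ne hil.symm hjl.symm] at h
    have e : dW i j (1 : K) j * 1 * (dW i j (1 : K) l)⁻¹ = 1 := by
      simp [dW, hij.symm, hil.symm, hjl.symm]
    rw [e] at h
    exact h
  -- `sb⁻¹ * sa * sb = r`
  have h2 : sb⁻¹ * sa * sb = r := by
    have hsbinv : sb⁻¹ = w Y j l (-1) := hX.w_inv hjl 1
    have hsbinv' : (w Y j l (-1 : K))⁻¹ = sb := by rw [← hsbinv, inv_inv]
    have h := hX.conj_w_of_acts (hA j l hjl (-1) (neg_ne_zero.mpr one_ne_zero)) hij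
      (one_ne_zero (α := K))
    rw [Equiv.swap_apply_of_ne_of_ne hij hil, Equiv.swap_apply_left] at h
    have e : dW j l (-1 : K) i * 1 * (dW j l (-1 : K) j)⁻¹ = 1 := by
      simp [dW, hij, hil]
    rw [e, hsbinv'] at h
    rw [hsbinv]
    exact h
  have e1 : sa * sb = r * sa := by rw [← h1]; group
  have e2 : sa * sb = sb * r := by rw [← h2]; group
  have hrN : r ∈ Nmon Y := w_mem_Nmon Y hil one_ne_zero
  have hT : sa * sa * (sb * sb) ∈ Htor Y :=
    (Htor Y).mul_mem (h2d_sq_mem hX hij) (h2d_sq_mem hX hjl)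
  have hrr : r * r ∈ Htor Y := h2d_sq_mem hX hil
  have e3 : (sa * sb) ^ 3 = (r * (sa * sa * (sb * sb)) * r⁻¹) * (r * r) := by
    calc (sa * sb) ^ 3 = (sa * sb) * (sa * sb) * (sa * sb) := by
          rw [pow_succ, pow_two]
      _ = (r * sa) * (sa * sb) * (sb * r) := by rw [← e1, ← e2]
      _ = _ := by group
  rw [e3]
  exact (Htor Y).mul_mem (hconj hrN hT) hrr

/-- **K-StN-H2d** (240122): the Coxeter relations of the `sS Y a` modulo `Htor Y`. -/
theorem coxeter_rel (hX : IsSt Y) (hA : HasActsW Y)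
    (hconj : ∀ {m h : S}, m ∈ Nmon Y → h ∈ Htor Y → m * h * m⁻¹ ∈ Htor Y) (a b : Fin k) :
    (sS Y a * sS Y b) ^ ((CoxeterMatrix.A k).M a b) ∈ Htor Y := by
  have hM : (CoxeterMatrix.A k).M a b =
      if a = b then 1 else (if (b : ℕ) + 1 = a ∨ (a : ℕ) + 1 = b then 3 else 2) := rfl
  have hab1 : (a.castSucc : Fin (k + 1)) ≠ a.succ := (Fin.castSucc_lt_succ (i := a)).ne
  have hab2 : (b.castSucc : Fin (k + 1)) ≠ b.succ := (Fin.castSucc_lt_succ (i := b)).ne
  rw [hM]
  by_cases hab : a = b
  · subst hab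
    rw [if_pos rfl, pow_one]
    exact h2d_sq_mem hX hab1
  · rw [if_neg hab]
    have hval : (a : ℕ) ≠ b := fun h => hab (Fin.ext h)
    by_cases hadj : (b : ℕ) + 1 = a ∨ (a : ℕ) + 1 = b
    · rw [if_pos hadj]
      rcases hadj with h | h
      · -- `b + 1 = a`: conjugate the relation for `(b, a)`
        have hjl : (b.succ : Fin (k + 1)) = a.castSucc := by
          apply Fin.ext; simp [← h]
        have h3 : (sS Y b * sS Y a) ^ 3 ∈ Htor Y := by
          unfold sS
          rw [← hjl]
          refine h2d_adj hX hA hconj hab2 ?_ ?_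
          · rw [hjl]; exact hab1
          · intro e
            have := congrArg Fin.val e
            simp at this
            omega
        have e : (sS Y a * sS Y b) ^ 3 = sS Y a * (sS Y b * sS Y a) ^ 3 * (sS Y a)⁻¹ := by
          simp only [pow_succ, pow_zero, one_mul]
          group
        rw [e]
        exact hconj (sS_mem_Nmon Y a) h3
      · have hjl : (a.succ : Fin (k + 1)) = b.castSucc := by
          apply Fin.ext; simp [← h]
        unfold sS
        rw [← hjl]
        refine h2d_adj hX hA hconj hab1 ?_ ?_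
        · rw [hjl]; exact hab2
        · intro e
          have := congrArg Fin.val e
          simp at this
          omega
    · rw [if_neg hadj]
      push Not at hadj
      have hne : ∀ (x y : Fin (k + 1)), (x : ℕ) ≠ y → x ≠ y := fun x y h e => h (congrArg Fin.val e)
      have hc : sS Y a * sS Y b = sS Y b * sS Y a := by
        unfold sS
        refine h2d_far hX hA hab1 hab2 ?_ ?_ ?_ ?_
        · apply hne; simp; omega
        · apply hne; simp; omega
        · apply hne; simp; omega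
        · apply hne; simp; omega
      have e : (sS Y a * sS Y b) ^ 2 = (sS Y a * sS Y a) * (sS Y b * sS Y b) := by
        rw [pow_two]
        calc sS Y a * sS Y b * (sS Y a * sS Y b) = sS Y a * (sS Y b * sS Y a) * sS Y b := by group
          _ = sS Y a * (sS Y a * sS Y b) * sS Y b := by rw [hc]
          _ = _ := by group
      rw [e]
      exact (Htor Y).mul_mem (h2d_sq_mem hX hab1) (h2d_sq_mem hX hab2)

end Weyl

end Cfsg.Agent.Lib.Helper50.StN
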