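import Mathlib
import Cfsg.Agent.Lib.Helper49.QuadF2

set_option autoImplicit false

/-! The elementary symmetric functions `e₁`, `e₂` on `F₂^N` and the Gauss sum of `e₂` on the
even-weight vectors, computed by recursion on `N`. -/

namespace Cfsg.Agent.Lib.Helper50

open Cfsg.Agent.Lib.Helper49

/-- first elementary symmetric function -/
def esum1 {N : ℕ} (x : Fin N → ZMod 2) : ZMod 2 := ∑ i, x i

/-- second elementary symmetric function -/
def esum2 {N : ℕ} (x : Fin N → ZMod 2) : ZMod 2 := ∑ i, ∑ j, if i < j then x i * x j else 0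

theorem esum1_cons {N : ℕ} (t : ZMod 2) (x : Fin N → ZMod 2) :
    esum1 (Fin.cons t x : Fin (N + 1) → ZMod 2) = t + esum1 x := by
  unfold esum1
  rw [Fin.sum_univ_succ]
  simp

theorem esum2_cons {N : ℕ} (t : ZMod 2) (x : Fin N → ZMod 2) :
    esum2 (Fin.cons t x : Fin (N + 1) → ZMod 2) = t * esum1 x + esum2 x := by
  unfold esum2 esum1
  simp only [Fin.sum_univ_succ, Fin.cons_zero, Fin.cons_succ, if_false,
    Fin.succ_pos, if_true, Fin.not_lt_zero, Fin.succ_lt_succ_iff, zero_add, Finset.mul_sum]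

/-- Gauss sum of `e₂` on the vectors with `e₁ = 0` -/
def gaussEven (N : ℕ) : ℤ := ∑ y : Fin N → ZMod 2, if esum1 y = 0 then chi2 (esum2 y) else 0

/-- Gauss sum of `e₂` on the vectors with `e₁ = 1` -/
def gaussOdd (N : ℕ) : ℤ := ∑ y : Fin N → ZMod 2, if esum1 y = 1 then chi2 (esum2 y) else 0

theorem sum_cons_split {N : ℕ} (f : (Fin (N + 1) → ZMod 2) → ℤ) :
    ∑ y : Fin (N + 1) → ZMod 2, f y =
      ∑ x : Fin N → ZMod 2, f (Fin.cons 0 x) + ∑ x : Fin N → ZMod 2, f (Fin.cons 1 x) := by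
  rw [← Fintype.sum_equiv (Fin.consEquiv (fun _ : Fin (N + 1) => ZMod 2))
    (fun p => f (Fin.cons p.1 p.2)) f (fun p => rfl)]
  rw [Fintype.sum_prod_type]
  exact Fin.sum_univ_two (fun t : ZMod 2 => ∑ x : Fin N → ZMod 2, f (Fin.cons t x))

theorem gaussEven_succ (N : ℕ) : gaussEven (N + 1) = gaussEven N - gaussOdd N := by
  unfold gaussEven gaussOdd
  rw [sum_cons_split, sub_eq_add_neg, ← Finset.sum_neg_distrib]
  congr 1
  · refine Finset.sum_congr rfl fun x _ => ?_
    rw [esum1_cons, esum2_cons, zero_add, zero_mul, zero_add]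
  · refine Finset.sum_congr rfl fun x _ => ?_
    rw [esum1_cons, esum2_cons, one_mul]
    have : ∀ a b : ZMod 2,
        (if 1 + a = 0 then chi2 (a + b) else 0) = -(if a = 1 then chi2 b else 0) := by decide
    exact this _ _

theorem gaussOdd_succ (N : ℕ) : gaussOdd (N + 1) = gaussOdd N + gaussEven N := by
  unfold gaussEven gaussOdd
  rw [sum_cons_split]
  congr 1
  · refine Finset.sum_congr rfl fun x _ => ?_
    rw [esum1_cons, esum2_cons, zero_add, zero_mul, zero_add]
  · refine Finset.sum_congr rfl fun x _ => ?_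
    rw [esum1_cons, esum2_cons, one_mul]
    have : ∀ a b : ZMod 2,
        (if 1 + a = 1 then chi2 (a + b) else 0) = (if a = 0 then chi2 b else 0) := by decide
    exact this _ _

theorem gaussEven_zero : gaussEven 0 = 1 := by
  simp [gaussEven, esum1, esum2, chi2]

theorem gaussOdd_zero : gaussOdd 0 = 0 := by
  simp [gaussOdd, esum1]

theorem gauss_step (N : ℕ) (p r : ℤ) (hp : gaussEven N = p) (hr : gaussOdd N = r) :
    gaussEven (N + 1) = p - r ∧ gaussOdd (N + 1) = r + p := by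
  rw [gaussEven_succ, gaussOdd_succ, hp, hr]
  exact ⟨rfl, rfl⟩

theorem gauss_closed (k : ℕ) :
    gaussEven (4 * k + 3) = -2 * (-4) ^ k ∧ gaussOdd (4 * k + 3) = 2 * (-4) ^ k := by
  induction k with
  | zero =>
    obtain ⟨a1, b1⟩ := gauss_step 0 _ _ gaussEven_zero gaussOdd_zero
    obtain ⟨a2, b2⟩ := gauss_step _ _ _ a1 b1
    obtain ⟨a3, b3⟩ := gauss_step _ _ _ a2 b2
    refine ⟨a3.trans (by norm_num), b3.trans (by norm_num)⟩
  | succ k ih =>
    obtain ⟨hp, hr⟩ := ih
    obtain ⟨a1, b1⟩ := gauss_step _ _ _ hp hr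
    obtain ⟨a2, b2⟩ := gauss_step _ _ _ a1 b1
    obtain ⟨a3, b3⟩ := gauss_step _ _ _ a2 b2
    obtain ⟨a4, b4⟩ := gauss_step _ _ _ a3 b3
    have e : 4 * (k + 1) + 3 = (4 * k + 3) + 1 + 1 + 1 + 1 := by ring
    rw [e]
    refine ⟨a4.trans (by ring), b4.trans (by ring)⟩

/-- the all-ones vector -/
def allOne (N : ℕ) : Fin N → ZMod 2 := fun _ => 1

theorem allOne_succ (N : ℕ) : allOne (N + 1) = Fin.cons 1 (allOne N) := by
  funext i
  refine Fin.cases ?_ (fun j => ?_) i <;> simp [allOne]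

theorem esum1_allOne (N : ℕ) : esum1 (allOne N) = N := by
  simp [esum1, allOne]

theorem esum2_allOne_succ (N : ℕ) : esum2 (allOne (N + 1)) = N + esum2 (allOne N) := by
  rw [allOne_succ, esum2_cons, esum1_allOne, one_mul]

theorem esum2_allOne_four (k : ℕ) : esum2 (allOne (4 * k)) = 0 := by
  induction k with
  | zero => simp [esum2]
  | succ k ih =>
    have e : 4 * (k + 1) = 4 * k + 1 + 1 + 1 + 1 := by ring
    rw [e, esum2_allOne_succ, esum2_allOne_succ, esum2_allOne_succ, esum2_allOne_succ, ih]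
    push_cast
    have h2 : (2 : ZMod 2) = 0 := by decide
    linear_combination (8 * (k : ZMod 2) + 3) * h2

theorem esum1_allOne_four (k : ℕ) : esum1 (allOne (4 * k)) = 0 := by
  rw [esum1_allOne]
  push_cast
  have h2 : (2 : ZMod 2) = 0 := by decide
  linear_combination (2 * (k : ZMod 2)) * h2

end Cfsg.Agent.Lib.Helper50
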