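import Mathlib
import Cfsg.Agent.Lib.Helper50.SymOrthCount
import Cfsg.Agent.Lib.Helper50.WittSplit

set_option autoImplicit false

/-! The quadratic form `e₂` on the even-weight vectors of `F₂^(N+1)` with zero first coordinate, and
the (twisted) action of the symmetric group of degree `N+1` on this space. -/

namespace Cfsg.Agent.Lib.Helper50

open Cfsg.Agent.Lib.Helper49 QuadraticMap

/-- bilinear form with strictly upper triangular Gram matrix -/
noncomputable def upperBil (N : ℕ) : LinearMap.BilinForm (ZMod 2) (Fin N → ZMod 2) :=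
  Matrix.toBilin' (Matrix.of fun i j : Fin N => if i < j then (1 : ZMod 2) else 0)

/-- the quadratic form `e₂` -/
noncomputable def quadE2 (N : ℕ) : QuadraticForm (ZMod 2) (Fin N → ZMod 2) :=
  (upperBil N).toQuadraticMap

theorem upperBil_apply {N : ℕ} (x y : Fin N → ZMod 2) :
    upperBil N x y = ∑ i, ∑ j, if i < j then x i * y j else 0 := by
  unfold upperBil
  rw [Matrix.toBilin'_apply]
  refine Finset.sum_congr rfl fun i _ => Finset.sum_congr rfl fun j _ => ?_
  rw [Matrix.of_apply]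
  split_ifs <;> simp

theorem quadE2_apply {N : ℕ} (x : Fin N → ZMod 2) : quadE2 N x = esum2 x := by
  unfold quadE2
  rw [LinearMap.BilinMap.toQuadraticMap_apply, upperBil_apply]
  rfl

theorem polar_quadE2 {N : ℕ} (x y : Fin N → ZMod 2) :
    polar (quadE2 N) x y = esum1 x * esum1 y + ∑ i, x i * y i := by
  unfold quadE2
  rw [LinearMap.BilinMap.polar_toQuadraticMap, upperBil_apply, upperBil_apply]
  rw [Finset.sum_comm (f := fun i j => if i < j then y i * x j else 0)]
  unfold esum1
  rw [Finset.sum_mul_sum, ← Finset.sum_add_distrib, ← Finset.sum_add_distrib]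
  refine Finset.sum_congr rfl fun i _ => ?_
  have h1 : x i * y i = ∑ j, if i = j then x i * y j else 0 := by simp
  rw [h1, ← Finset.sum_add_distrib, ← Finset.sum_add_distrib]
  refine Finset.sum_congr rfl fun j _ => ?_
  rcases lt_trichotomy i j with h | h | h
  · rw [if_pos h, if_neg (not_lt_of_gt h), if_neg (ne_of_lt h)]
  · subst h
    rw [if_neg (lt_irrefl _), if_pos rfl]
    simp [CharTwo.add_self_eq_zero]
  · rw [if_neg (not_lt_of_gt h), if_pos h, if_neg (ne_of_gt h), mul_comm]
    simp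

theorem sum_lt_reindex {N : ℕ} (τ : Fin N → Fin N) (hτ : Function.Injective τ)
    (f : Fin N → Fin N → ZMod 2) (hf : ∀ i j, f i j = f j i) :
    (∑ i, ∑ j, if τ i < τ j then f i j else 0) = ∑ i, ∑ j, if i < j then f i j else 0 := by
  have h1 : ∀ i j, (if τ i < τ j then f i j else 0) =
      (if i < j then (if τ i < τ j then f i j else 0) else 0) +
      (if j < i then (if τ i < τ j then f j i else 0) else 0) := by
    intro i j
    rcases lt_trichotomy i j with h | h | h
    · rw [if_pos h, if_neg (not_lt_of_gt h), add_zero]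
    · subst h
      simp
    · rw [if_neg (not_lt_of_gt h), if_pos h, zero_add, hf]
  rw [Finset.sum_congr rfl (fun i _ => Finset.sum_congr rfl (fun j _ => h1 i j))]
  simp only [Finset.sum_add_distrib]
  rw [Finset.sum_comm (f := fun i j => if j < i then (if τ i < τ j then f j i else 0) else 0)]
  rw [← Finset.sum_add_distrib]
  refine Finset.sum_congr rfl fun i _ => ?_
  rw [← Finset.sum_add_distrib]
  refine Finset.sum_congr rfl fun j _ => ?_
  by_cases h : i < j
  · rw [if_pos h, if_pos h, if_pos h]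
    have hne : τ i ≠ τ j := fun e => (ne_of_lt h) (hτ e)
    rcases lt_or_gt_of_ne hne with h' | h'
    · rw [if_pos h', if_neg (not_lt_of_gt h'), add_zero]
    · rw [if_neg (not_lt_of_gt h'), if_pos h', zero_add]
  · rw [if_neg h, if_neg h, if_neg h, add_zero]

theorem esum2_perm {N : ℕ} (σ : Equiv.Perm (Fin N)) (x : Fin N → ZMod 2) :
    esum2 (fun i => x (σ i)) = esum2 x := by
  unfold esum2
  have := sum_lt_reindex (σ.symm : Fin N → Fin N) σ.symm.injective (fun i j => x i * x j)
    (fun i j => mul_comm _ _)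
  rw [← this]
  conv_rhs => rw [← Equiv.sum_comp σ]
  refine Finset.sum_congr rfl fun i _ => ?_
  conv_rhs => rw [← Equiv.sum_comp σ]
  refine Finset.sum_congr rfl fun j _ => ?_
  simp

theorem esum1_perm {N : ℕ} (σ : Equiv.Perm (Fin N)) (x : Fin N → ZMod 2) :
    esum1 (fun i => x (σ i)) = esum1 x := by
  unfold esum1
  exact Equiv.sum_comp σ x


theorem esum1_add {N : ℕ} (x y : Fin N → ZMod 2) : esum1 (x + y) = esum1 x + esum1 y := by
  unfold esum1
  simp [Finset.sum_add_distrib]

theorem esum1_smul {N : ℕ} (c : ZMod 2) (x : Fin N → ZMod 2) : esum1 (c • x) = c * esum1 x := by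
  unfold esum1
  simp [Finset.mul_sum]

/-- even-weight vectors with zero first coordinate -/
def evenSub (N : ℕ) : Submodule (ZMod 2) (Fin (N + 1) → ZMod 2) where
  carrier := {x | esum1 x = 0 ∧ x 0 = 0}
  add_mem' := by
    rintro x y ⟨hx1, hx2⟩ ⟨hy1, hy2⟩
    exact ⟨by rw [esum1_add, hx1, hy1, add_zero], by rw [Pi.add_apply, hx2, hy2, add_zero]⟩
  zero_mem' := ⟨by simp [esum1], rfl⟩
  smul_mem' := by
    rintro c x ⟨hx1, hx2⟩
    exact ⟨by rw [esum1_smul, hx1, mul_zero], by rw [Pi.smul_apply, hx2, smul_zero]⟩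

theorem mem_evenSub {N : ℕ} (x : Fin (N + 1) → ZMod 2) :
    x ∈ evenSub N ↔ esum1 x = 0 ∧ x 0 = 0 := Iff.rfl

/-- the twisted permutation action -/
def twist {N : ℕ} (σ : Equiv.Perm (Fin (N + 1))) :
    (Fin (N + 1) → ZMod 2) →ₗ[ZMod 2] (Fin (N + 1) → ZMod 2) where
  toFun x := fun i => x (σ⁻¹ i) + x (σ⁻¹ 0)
  map_add' := by
    intro x y
    funext i
    simp only [Pi.add_apply]
    ring
  map_smul' := by
    intro c x
    funext i
    simp only [Pi.smul_apply, smul_eq_mul, RingHom.id_apply]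
    ring

theorem twist_apply {N : ℕ} (σ : Equiv.Perm (Fin (N + 1))) (x : Fin (N + 1) → ZMod 2)
    (i : Fin (N + 1)) : twist σ x i = x (σ⁻¹ i) + x (σ⁻¹ 0) := rfl

theorem twist_eq {N : ℕ} (σ : Equiv.Perm (Fin (N + 1))) (x : Fin (N + 1) → ZMod 2) :
    twist σ x = (fun i => x (σ⁻¹ i)) + x (σ⁻¹ 0) • allOne (N + 1) := by
  funext i
  simp [twist_apply, allOne]

theorem twist_mem {N : ℕ} (hN : ((N + 1 : ℕ) : ZMod 2) = 0) (σ : Equiv.Perm (Fin (N + 1)))
    {x : Fin (N + 1) → ZMod 2} (hx : x ∈ evenSub N) : twist σ x ∈ evenSub N := by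
  refine ⟨?_, ?_⟩
  · rw [twist_eq, esum1_add, esum1_smul, esum1_perm, hx.1, esum1_allOne, hN, mul_zero, add_zero]
  · rw [twist_apply]
    exact CharTwo.add_self_eq_zero _

theorem quadE2_twist {N : ℕ} (k : ℕ) (hN : N + 1 = 4 * k) (σ : Equiv.Perm (Fin (N + 1)))
    {x : Fin (N + 1) → ZMod 2} (hx : x ∈ evenSub N) : quadE2 (N + 1) (twist σ x) = quadE2 (N + 1) x := by
  have h1 : esum1 (allOne (N + 1)) = 0 := by rw [hN]; exact esum1_allOne_four k
  have h2 : esum2 (allOne (N + 1)) = 0 := by rw [hN]; exact esum2_allOne_four k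
  have hp : polar (quadE2 (N + 1)) (fun i => x (σ⁻¹ i)) (x (σ⁻¹ 0) • allOne (N + 1)) = 0 := by
    rw [polar_smul_right, polar_quadE2, h1, mul_zero, zero_add]
    have : (∑ i, x (σ⁻¹ i) * allOne (N + 1) i) = esum1 (fun i => x (σ⁻¹ i)) := by
      simp [esum1, allOne]
    rw [this, esum1_perm, hx.1, smul_zero]
  have := hp
  rw [polar] at this
  rw [twist_eq]
  have h3 : quadE2 (N + 1) (x (σ⁻¹ 0) • allOne (N + 1)) = 0 := by
    rw [QuadraticMap.map_smul, quadE2_apply, h2, smul_zero]
  rw [h3, sub_zero, sub_eq_zero] at this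
  rw [this, quadE2_apply, quadE2_apply, esum2_perm]

end Cfsg.Agent.Lib.Helper50
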