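import Mathlib
import Cfsg.Agent.Lib.Helper50.SymOrthAct
import Cfsg.Agent.Lib.Helper19.QuadMat

/-! Faithfulness of the twisted action, nondegeneracy, Gauss sum and dimension of the even-weight
space; transport of an isometric action to the matrix isometry group. -/
set_option autoImplicit false
namespace Cfsg.Agent.Lib.Helper50
open Cfsg.Agent.Lib.Helper49 QuadraticMap
/-- the twisted action on the even-weight space -/
def twistEnd {N : ℕ} (hN : ((N + 1 : ℕ) : ZMod 2) = 0) (σ : Equiv.Perm (Fin (N + 1))) :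
    Module.End (ZMod 2) (evenSub N) :=
  ((twist σ).comp (evenSub N).subtype).codRestrict (evenSub N) (fun v => twist_mem hN σ v.2)

theorem twistEnd_apply {N : ℕ} (hN : ((N + 1 : ℕ) : ZMod 2) = 0) (σ : Equiv.Perm (Fin (N + 1)))
    (v : evenSub N) (i : Fin (N + 1)) :
    ((twistEnd hN σ v : evenSub N) : Fin (N + 1) → ZMod 2) i =
      (v : Fin (N + 1) → ZMod 2) (σ⁻¹ i) + (v : Fin (N + 1) → ZMod 2) (σ⁻¹ 0) := rfl

/-- the twisted action as a monoid homomorphism -/
def twistHom {N : ℕ} (hN : ((N + 1 : ℕ) : ZMod 2) = 0) :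
    Equiv.Perm (Fin (N + 1)) →* Module.End (ZMod 2) (evenSub N) where
  toFun := twistEnd hN
  map_one' := by
    refine LinearMap.ext fun v => Subtype.ext (funext fun i => ?_)
    rw [twistEnd_apply]
    simp only [inv_one, Equiv.Perm.coe_one, id_eq, Module.End.one_apply]
    rw [v.2.2, add_zero]
  map_mul' := by
    intro σ τ
    refine LinearMap.ext fun v => Subtype.ext (funext fun i => ?_)
    rw [Module.End.mul_apply, twistEnd_apply, twistEnd_apply, twistEnd_apply, twistEnd_apply]
    simp only [mul_inv_rev, Equiv.Perm.coe_mul, Function.comp_apply]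
    have : ∀ a b c : ZMod 2, a + b = a + c + (b + c) := by decide
    exact this _ _ _

theorem twistHom_apply {N : ℕ} (hN : ((N + 1 : ℕ) : ZMod 2) = 0) (σ : Equiv.Perm (Fin (N + 1)))
    (v : evenSub N) (i : Fin (N + 1)) :
    ((twistHom hN σ v : evenSub N) : Fin (N + 1) → ZMod 2) i =
      (v : Fin (N + 1) → ZMod 2) (σ⁻¹ i) + (v : Fin (N + 1) → ZMod 2) (σ⁻¹ 0) := rfl

/-- the vector `e_p + e_q` -/
def pairVec {N : ℕ} (p q : Fin (N + 1)) : Fin (N + 1) → ZMod 2 := Pi.single p 1 + Pi.single q 1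

theorem pairVec_apply {N : ℕ} (p q i : Fin (N + 1)) :
    pairVec p q i = (if i = p then 1 else 0) + (if i = q then 1 else 0) := by
  simp [pairVec, Pi.single_apply]

theorem pairVec_mem {N : ℕ} {p q : Fin (N + 1)} (hp : p ≠ 0) (hq : q ≠ 0) :
    pairVec p q ∈ evenSub N := by
  refine ⟨?_, ?_⟩
  · unfold pairVec
    rw [esum1_add]
    simp only [esum1, Finset.sum_pi_single', Finset.mem_univ, if_true]
    decide
  · rw [pairVec_apply, if_neg (Ne.symm hp), if_neg (Ne.symm hq), add_zero]

theorem exists_not_mem_of_card {N : ℕ} (s : Finset (Fin (N + 1))) (h : s.card < N + 1) :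
    ∃ q, q ∉ s := by
  by_contra hc
  push_neg at hc
  have : s = Finset.univ := Finset.eq_univ_iff_forall.mpr hc
  rw [this, Finset.card_univ, Fintype.card_fin] at h
  exact lt_irrefl _ h


theorem twistHom_injective {N : ℕ} (hN : ((N + 1 : ℕ) : ZMod 2) = 0) (h5 : 5 ≤ N + 1) :
    Function.Injective (twistHom hN) := by
  rw [injective_iff_map_eq_one]
  intro σ hσ
  have key : ∀ x ∈ evenSub N, ∀ i, x (σ⁻¹ i) + x (σ⁻¹ 0) = x i := by
    intro x hx i
    have := congrArg (fun f : Module.End (ZMod 2) (evenSub N) =>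
      ((f ⟨x, hx⟩ : evenSub N) : Fin (N + 1) → ZMod 2) i) hσ
    simpa [twistHom_apply] using this
  obtain ⟨τ, hτ⟩ : ∃ τ, τ = σ⁻¹ := ⟨_, rfl⟩
  rw [← hτ] at key
  have s1 : ∀ p, p ≠ 0 → p ≠ τ 0 → τ p = p := by
    intro p hp0 hpc
    by_contra hne
    obtain ⟨q, hq⟩ := exists_not_mem_of_card ({0, τ 0, p, τ p} : Finset (Fin (N + 1))) (by
      calc _ ≤ 4 := Finset.card_le_four
        _ < N + 1 := by omega)
    simp only [Finset.mem_insert, Finset.mem_singleton, not_or] at hq
    obtain ⟨hq0, hqc, hqp, hqtp⟩ := hq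
    have := key (pairVec p q) (pairVec_mem hp0 hq0) p
    rw [pairVec_apply, pairVec_apply, pairVec_apply, if_neg hne, if_neg (Ne.symm hqtp),
      if_neg (Ne.symm hpc), if_neg (Ne.symm hqc), if_pos rfl, if_neg (Ne.symm hqp)] at this
    revert this; decide
  have s2 : τ 0 = 0 := by
    by_contra hc
    obtain ⟨q, hq⟩ := exists_not_mem_of_card ({0, τ 0} : Finset (Fin (N + 1))) (by
      calc _ ≤ 2 := Finset.card_le_two
        _ < N + 1 := by omega)
    simp only [Finset.mem_insert, Finset.mem_singleton, not_or] at hq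
    obtain ⟨hq0, hqc⟩ := hq
    have := key (pairVec (τ 0) q) (pairVec_mem hc hq0) q
    rw [s1 q hq0 hqc, pairVec_apply, pairVec_apply, if_neg hqc, if_pos rfl, if_pos rfl,
      if_neg (Ne.symm hqc)] at this
    revert this; decide
  have s3 : τ = 1 := by
    ext p
    by_cases hp : p = 0
    · rw [hp, s2]; rfl
    · rw [s1 p hp (by rw [s2]; exact hp)]; rfl
  rw [← inv_inj, ← hτ, s3, inv_one]


/-- the quadratic form on the even-weight space -/
noncomputable def quadEven (N : ℕ) : QuadraticForm (ZMod 2) (evenSub N) :=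
  (quadE2 (N + 1)).comp (evenSub N).subtype

theorem quadEven_apply {N : ℕ} (v : evenSub N) :
    quadEven N v = esum2 (v : Fin (N + 1) → ZMod 2) := by
  rw [quadEven, QuadraticMap.comp_apply, quadE2_apply]
  rfl

theorem polar_quadEven {N : ℕ} (v w : evenSub N) :
    polar (quadEven N) v w =
      ∑ i, (v : Fin (N + 1) → ZMod 2) i * (w : Fin (N + 1) → ZMod 2) i := by
  have : polar (quadEven N) v w = polar (quadE2 (N + 1)) (v : Fin (N + 1) → ZMod 2)
      (w : Fin (N + 1) → ZMod 2) := by
    simp only [polar, quadEven, QuadraticMap.comp_apply, Submodule.subtype_apply,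
      Submodule.coe_add]
  rw [this, polar_quadE2, v.2.1, zero_mul, zero_add]

theorem quadEven_twist {N : ℕ} (k : ℕ) (hN4 : N + 1 = 4 * k) (hN : ((N + 1 : ℕ) : ZMod 2) = 0)
    (σ : Equiv.Perm (Fin (N + 1))) (v : evenSub N) :
    quadEven N (twistHom hN σ v) = quadEven N v := by
  rw [quadEven_apply, quadEven_apply, ← quadE2_apply, ← quadE2_apply]
  exact quadE2_twist k hN4 σ v.2

theorem quadEven_QND {N : ℕ} (hN : ((N + 1 : ℕ) : ZMod 2) = 0) : QND (quadEven N) := by
  intro v hv
  by_contra hne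
  have : ∃ a, (v : Fin (N + 1) → ZMod 2) a ≠ 0 := by
    by_contra hc
    push_neg at hc
    exact hne (Subtype.ext (funext hc))
  obtain ⟨a, ha⟩ := this
  have ha0 : a ≠ 0 := fun e => ha (e ▸ v.2.2)
  have ha1 : (v : Fin (N + 1) → ZMod 2) a = 1 := by
    have : ∀ z : ZMod 2, z ≠ 0 → z = 1 := by decide
    exact this _ ha
  have hall : ∀ b, b ≠ 0 → (v : Fin (N + 1) → ZMod 2) b = 1 := by
    intro b hb
    by_cases hab : b = a
    · rw [hab]; exact ha1
    have h1 := hv ⟨pairVec a b, pairVec_mem ha0 hb⟩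
    rw [polar_quadEven] at h1
    have h2 : (∑ i, (v : Fin (N + 1) → ZMod 2) i * pairVec a b i) =
        (v : Fin (N + 1) → ZMod 2) a + (v : Fin (N + 1) → ZMod 2) b := by
      simp [pairVec, mul_add, Finset.sum_add_distrib, Pi.single_apply]
    rw [h2, ha1] at h1
    have : ∀ z : ZMod 2, 1 + z = 0 → z = 1 := by decide
    exact this _ h1
  have hs : esum1 (v : Fin (N + 1) → ZMod 2) = (N : ZMod 2) := by
    unfold esum1
    rw [Fin.sum_univ_succ, v.2.2, zero_add]
    rw [Finset.sum_congr rfl (fun j _ => hall (Fin.succ j) (Fin.succ_ne_zero j))]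
    simp
  have hN1 : (N : ZMod 2) = 1 := by
    push_cast at hN
    have : ∀ z : ZMod 2, z + 1 = 0 → z = 1 := by decide
    exact this _ hN
  rw [v.2.1, hN1] at hs
  exact zero_ne_one hs

theorem sum_evenSub {N : ℕ} [Fintype (evenSub N)] (g : (Fin (N + 1) → ZMod 2) → ℤ) :
    ∑ v : evenSub N, g (v : Fin (N + 1) → ZMod 2) =
      ∑ y : Fin N → ZMod 2, if esum1 y = 0 then g (Fin.cons 0 y) else 0 := by
  classical
  rw [← Finset.sum_subtype (Finset.univ.filter (· ∈ evenSub N)) (by simp) g]
  rw [Finset.sum_filter, sum_cons_split]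
  have h2 : (∑ x : Fin N → ZMod 2, if (Fin.cons 1 x : Fin (N + 1) → ZMod 2) ∈ evenSub N then
      g (Fin.cons 1 x) else 0) = 0 := by
    refine Finset.sum_eq_zero fun x _ => ?_
    rw [if_neg]
    rintro ⟨-, h⟩
    rw [Fin.cons_zero] at h
    exact one_ne_zero h
  rw [h2, add_zero]
  refine Finset.sum_congr rfl fun y _ => ?_
  have : (Fin.cons 0 y : Fin (N + 1) → ZMod 2) ∈ evenSub N ↔ esum1 y = 0 := by
    rw [mem_evenSub, esum1_cons, zero_add, Fin.cons_zero]
    exact ⟨fun h => h.1, fun h => ⟨h, rfl⟩⟩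
  simp only [this]

theorem gauss_quadEven {N : ℕ} [Fintype (evenSub N)] :
    ∑ v : evenSub N, chi2 (quadEven N v) = gaussEven N := by
  have := sum_evenSub (N := N) (fun x => chi2 (esum2 x))
  simp only [esum2_cons, zero_mul, zero_add] at this
  unfold gaussEven
  rw [← this]
  exact Finset.sum_congr rfl fun v _ => by rw [quadEven_apply]

theorem card_evenSub (M : ℕ) [Fintype (evenSub (M + 1))] :
    Fintype.card (evenSub (M + 1)) = 2 ^ M := by
  have h1 : (Fintype.card (evenSub (M + 1)) : ℤ) = ∑ v : evenSub (M + 1), (1 : ℤ) := by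
    simp
  have h2 := sum_evenSub (N := M + 1) (fun _ => (1 : ℤ))
  rw [sum_cons_split] at h2
  simp only [esum1_cons, zero_add] at h2
  rw [← Finset.sum_add_distrib] at h2
  have h3 : ∀ a : ZMod 2, ((if a = 0 then (1 : ℤ) else 0) + if 1 + a = 0 then 1 else 0) = 1 := by
    decide
  rw [Finset.sum_congr rfl (fun x _ => h3 (esum1 x))] at h2
  rw [h2] at h1
  simp only [Finset.sum_const, Finset.card_univ, Fintype.card_pi, ZMod.card, Finset.prod_const,
    Fintype.card_fin, nsmul_eq_mul, mul_one] at h1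
  exact_mod_cast h1

theorem finrank_evenSub (M : ℕ) : Module.finrank (ZMod 2) (evenSub (M + 1)) = M := by
  have : Fintype (evenSub (M + 1)) := Fintype.ofFinite _
  have h1 := Module.card_eq_pow_finrank (K := ZMod 2) (V := evenSub (M + 1))
  rw [card_evenSub, ZMod.card] at h1
  exact (Nat.pow_right_injective (le_refl 2) h1).symm


open Matrix in
/-- an injective isometric action on a space isometric to a coordinate model gives an embedding
into the matrix isometry group of the model -/
theorem exists_hom_isometryGroup {F : Type*} [Field F] {G : Type*} [Group G] {V : Type*}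
    [AddCommGroup V] [Module F V] (Q : V → F) (T : G →* Module.End F V)
    (hT : Function.Injective T) (hQ : ∀ g v, Q (T g v) = Q v)
    {κ : Type} [Fintype κ] [DecidableEq κ] (R : (κ → F) → F) (φ : V ≃ₗ[F] (κ → F))
    (hφ : ∀ v, R (φ v) = Q v) :
    ∃ Φ : G →* ↥(Cfsg.isometryGroup F R), Function.Injective Φ := by
  let M : G →* Matrix κ κ F :=
    { toFun := fun g => LinearMap.toMatrix'
        ((φ : V →ₗ[F] (κ → F)) ∘ₗ T g ∘ₗ (φ.symm : (κ → F) →ₗ[F] V))
      map_one' := by
        rw [map_one]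
        rw [← LinearMap.toMatrix'_id]
        congr 1
        ext u i
        simp
      map_mul' := fun g h => by
        rw [← LinearMap.toMatrix'_comp]
        congr 1
        ext u i
        simp [map_mul] }
  have hM : ∀ g u, (M g) *ᵥ u = φ (T g (φ.symm u)) := by
    intro g u
    show (LinearMap.toMatrix' _) *ᵥ u = _
    rw [LinearMap.toMatrix'_mulVec]
    rfl
  have hmem : ∀ g, M.toHomUnits g ∈ Cfsg.isometryGroup F R := by
    intro g
    rw [Cfsg.Agent.Lib.Helper19.mem_isometryGroup_iff]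
    intro u
    rw [MonoidHom.coe_toHomUnits, hM, hφ, hQ, ← hφ, LinearEquiv.apply_symm_apply]
  refine ⟨M.toHomUnits.codRestrict _ hmem, ?_⟩
  intro g h hgh
  apply hT
  have h1 : M g = M h := by
    have := congrArg (fun x : ↥(Cfsg.isometryGroup F R) => ((x : GL κ F) : Matrix κ κ F)) hgh
    simpa using this
  refine LinearMap.ext fun v => ?_
  have h2 := congrArg (fun A : Matrix κ κ F => A *ᵥ (φ v)) h1
  simp only [hM, LinearEquiv.symm_apply_apply] at h2
  exact φ.injective h2

end Cfsg.Agent.Lib.Helper50
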