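import Cfsg.Agent.Lib.Helper50.TensorF2a

set_option autoImplicit false

/-! Non-maximality in `Ω` of the stabiliser of a tensor decomposition `Sp_2(2) ⊗ Sp_{n₂}(2)`
over the field with two elements: it lies in the normaliser of an element of order three. -/

namespace Cfsg.Agent.Lib.Helper50

open Matrix Module QuadraticMap Cfsg.Agent.Lib.Helper19
open scoped Kronecker

section vec2

variable {F : Type*} [Field F] {ι : Type} [Fintype ι] [DecidableEq ι] {n₂ : ℕ}

/-- the vector `a ⊗ r + b ⊗ s` for the standard basis `a, b` of the first factor -/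
def vec2 (e : ι ≃ Fin 2 × Fin n₂) (P : GL ι F) (r s : Fin n₂ → F) : ι → F :=
  pureT e P (Pi.single 0 1) r + pureT e P (Pi.single 1 1) s

theorem vec2_add (e : ι ≃ Fin 2 × Fin n₂) (P : GL ι F) (r s r' s' : Fin n₂ → F) :
    vec2 e P (r + r') (s + s') = vec2 e P r s + vec2 e P r' s' := by
  unfold vec2
  rw [pureT_add_right, pureT_add_right]
  abel

theorem vec2_smul (e : ι ≃ Fin 2 × Fin n₂) (P : GL ι F) (c : F) (r s : Fin n₂ → F) :
    vec2 e P (c • r) (c • s) = c • vec2 e P r s := by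
  unfold vec2
  rw [pureT_smul_right, pureT_smul_right, smul_add]

theorem pureT_eq_vec2 (e : ι ≃ Fin 2 × Fin n₂) (P : GL ι F) (u : Fin 2 → F) (y : Fin n₂ → F) :
    pureT e P u y = vec2 e P (u 0 • y) (u 1 • y) := by
  have hu : u = u 0 • (Pi.single 0 1 : Fin 2 → F) + u 1 • (Pi.single 1 1 : Fin 2 → F) := by
    ext i
    fin_cases i <;> simp
  conv_lhs => rw [hu]
  unfold vec2
  rw [pureT_add_left, pureT_smul_left, pureT_smul_left, pureT_smul_right, pureT_smul_right]

theorem pureT_zero_eq_vec2 (e : ι ≃ Fin 2 × Fin n₂) (P : GL ι F) (y : Fin n₂ → F) :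
    pureT e P (Pi.single 0 1) y = vec2 e P y 0 := by
  unfold vec2
  rw [pureT_zero_right, add_zero]

theorem pureT_one_eq_vec2 (e : ι ≃ Fin 2 × Fin n₂) (P : GL ι F) (y : Fin n₂ → F) :
    pureT e P (Pi.single 1 1) y = vec2 e P 0 y := by
  unfold vec2
  rw [pureT_zero_right, zero_add]

theorem exists_vec2 (e : ι ≃ Fin 2 × Fin n₂) (P : GL ι F) (v : ι → F) :
    ∃ r s, v = vec2 e P r s := by
  have h := exists_pure_decomp e P v
  rw [Fin.sum_univ_two] at h
  exact ⟨_, _, h⟩

theorem vec2_inj (e : ι ≃ Fin 2 × Fin n₂) (P : GL ι F) (r s r' s' : Fin n₂ → F)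
    (h : vec2 e P r s = vec2 e P r' s') : r = r' ∧ s = s' := by
  unfold vec2 pureT at h
  rw [← Matrix.mulVec_add, ← Matrix.mulVec_add] at h
  have h1 := congrArg (fun z => ((P⁻¹ : GL ι F) : Matrix ι ι F) *ᵥ z) h
  simp only [Matrix.mulVec_mulVec, ← Units.val_mul, inv_mul_cancel, Units.val_one,
    Matrix.one_mulVec] at h1
  constructor
  · ext j
    have h2 := congrFun h1 (e.symm (0, j))
    simpa [tprod] using h2
  · ext j
    have h2 := congrFun h1 (e.symm (1, j))
    simpa [tprod] using h2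

end vec2

section omega

variable {F : Type*} [Field F] {ι : Type} [Fintype ι] [DecidableEq ι] {n₂ : ℕ}

/-- the invertible companion matrix in characteristic two -/
def fibG (h11 : (1 : F) + 1 = 0) : GL (Fin 2) F :=
  ⟨fibM, fibM * fibM, by rw [← Matrix.mul_assoc]; exact fibM_cube h11, fibM_cube h11⟩

theorem fibG_val (h11 : (1 : F) + 1 = 0) :
    ((fibG h11 : GL (Fin 2) F) : Matrix (Fin 2) (Fin 2) F) = fibM := rfl

/-- the element of order three acting on the first tensor factor -/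
def omegaT (h11 : (1 : F) + 1 = 0) (e : ι ≃ Fin 2 × Fin n₂) (P : GL ι F) : GL ι F :=
  tensorHom e P (kronGL (fibG h11) 1)

theorem omegaT_mulVec_pureT (h11 : (1 : F) + 1 = 0) (e : ι ≃ Fin 2 × Fin n₂) (P : GL ι F)
    (u : Fin 2 → F) (y : Fin n₂ → F) :
    ((omegaT h11 e P : GL ι F) : Matrix ι ι F) *ᵥ pureT e P u y = pureT e P (fibM *ᵥ u) y := by
  have h := tensorHom_mulVec_pureT e P (kronGL (fibG h11) 1) fibM 1
    (by rw [kronGL_val, fibG_val, Units.val_one]) u y
  rwa [Matrix.one_mulVec] at h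

theorem omegaT_mulVec_vec2 (h11 : (1 : F) + 1 = 0) (e : ι ≃ Fin 2 × Fin n₂) (P : GL ι F)
    (r s : Fin n₂ → F) :
    ((omegaT h11 e P : GL ι F) : Matrix ι ι F) *ᵥ vec2 e P r s = vec2 e P s (r + s) := by
  unfold vec2
  rw [Matrix.mulVec_add, omegaT_mulVec_pureT, omegaT_mulVec_pureT, fibM_mulVec_zero,
    fibM_mulVec_one, pureT_add_left, pureT_add_right]
  abel

theorem omegaT_cube (h11 : (1 : F) + 1 = 0) (e : ι ≃ Fin 2 × Fin n₂) (P : GL ι F) :
    (omegaT h11 e P : GL ι F) * omegaT h11 e P * omegaT h11 e P = 1 := by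
  unfold omegaT
  rw [← map_mul, ← map_mul]
  have h : kronGL (fibG h11) (1 : GL (Fin n₂) F) * kronGL (fibG h11) 1 * kronGL (fibG h11) 1 = 1 := by
    apply Units.ext
    rw [Units.val_mul, Units.val_mul, kronGL_val, Units.val_one, ← Matrix.mul_kronecker_mul,
      ← Matrix.mul_kronecker_mul, fibG_val, fibM_cube h11, Units.val_one, Matrix.mul_one,
      Matrix.mul_one, Matrix.one_kronecker_one]
  rw [h, map_one]

/-- elements of the tensor product subgroup centralise or invert the element of order three -/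
theorem tensor_mem_invNorm (h01 : ∀ x : F, x = 0 ∨ x = 1) (h11 : (1 : F) + 1 = 0)
    (e : ι ≃ Fin 2 × Fin n₂) (P : GL ι F) (g : GL ι F)
    (hg : g ∈ Cfsg.Geo.tensorProductSubgroup 2 n₂ e P) :
    g ∈ invNorm (omegaT h11 e P) (omegaT_cube h11 e P) := by
  rw [tensorProductSubgroup_eq_map] at hg
  obtain ⟨k, ⟨a, b, hk⟩, rfl⟩ := hg
  have hdet : (a : Matrix (Fin 2) (Fin 2) F).det ≠ 0 :=
    ((Matrix.isUnit_iff_isUnit_det _).mp ⟨a, rfl⟩).ne_zero
  rw [mem_invNorm]
  unfold omegaT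
  rcases gl2_comm_or h01 h11 _ hdet with h | h
  · left
    rw [← map_mul, ← map_mul]
    congr 1
    apply Units.ext
    rw [Units.val_mul, Units.val_mul, hk, kronGL_val, ← Matrix.mul_kronecker_mul,
      ← Matrix.mul_kronecker_mul, fibG_val, h, Units.val_one, Matrix.mul_one, Matrix.one_mul]
  · right
    rw [← map_mul, ← map_mul, ← map_mul]
    congr 1
    apply Units.ext
    rw [Units.val_mul, Units.val_mul, Units.val_mul, hk, kronGL_val, ← Matrix.mul_kronecker_mul,
      ← Matrix.mul_kronecker_mul, ← Matrix.mul_kronecker_mul, fibG_val, h, Units.val_one,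
      Matrix.mul_one, Matrix.one_mul, Matrix.one_mul]

end omega

section triple

variable {F : Type*} [Field F] {n₂ : ℕ}

/-- three vectors of a symplectic space of dimension at least three -/
theorem exists_symplectic_triple (hn : 3 ≤ n₂) (f₂ : (Fin n₂ → F) → (Fin n₂ → F) → F)
    (hf₂ : Cfsg.Geo.IsSymplecticForm f₂) :
    ∃ y1 y2 y : Fin n₂ → F, f₂ y1 y2 = 0 ∧ y2 ≠ 0 ∧ f₂ y1 y = 1 ∧ f₂ y2 y = 0 := by
  classical
  set p : Fin n₂ → F := Pi.single ⟨0, by omega⟩ 1 with hp
  have hp0 : p ≠ 0 := by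
    intro h
    have := congrFun h ⟨0, by omega⟩
    simp [hp] at this
  obtain ⟨-, ⟨y', hy'⟩⟩ := hf₂.nondegenerate p hp0
  obtain ⟨y, h1y⟩ : ∃ y, f₂ p y = 1 :=
    ⟨(f₂ p y')⁻¹ • y', by rw [hf₂.bilinear.smul_right, inv_mul_cancel₀ hy']⟩
  obtain ⟨z, hz⟩ : ∃ z, z ∉ Submodule.span F ({p, y} : Set (Fin n₂ → F)) := by
    by_contra hall
    push Not at hall
    have htop : Submodule.span F ({p, y} : Set (Fin n₂ → F)) = ⊤ := Submodule.eq_top_iff'.mpr hall
    have h1 : finrank F (Submodule.span F (({p, y} : Finset (Fin n₂ → F)) : Set (Fin n₂ → F))) ≤ 2 :=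
      (finrank_span_finset_le_card _).trans Finset.card_le_two
    rw [Finset.coe_pair, htop, finrank_top, Module.finrank_fin_fun] at h1
    omega
  refine ⟨p, z + (-(f₂ z y)) • p + f₂ z p • y, y, ?_, ?_, h1y, ?_⟩
  · rw [hf₂.bilinear.add_right, hf₂.bilinear.add_right, hf₂.bilinear.smul_right,
      hf₂.bilinear.smul_right, hf₂.alternating, h1y, hf₂.skew z p]
    ring
  · intro h
    apply hz
    rw [Submodule.mem_span_pair]
    refine ⟨f₂ z y, -(f₂ z p), ?_⟩
    calc f₂ z y • p + (-(f₂ z p)) • y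
        = (z + (-(f₂ z y)) • p + f₂ z p • y) + (f₂ z y • p + (-(f₂ z p)) • y) := by
          rw [h, zero_add]
      _ = z := by module
  · rw [hf₂.bilinear.add_left, hf₂.bilinear.add_left, hf₂.bilinear.smul_left,
      hf₂.bilinear.smul_left, hf₂.alternating, h1y]
    ring

end triple

section main

variable {F : Type*} [Field F] [Fintype F] {ι : Type} [Fintype ι] [DecidableEq ι] {n₂ : ℕ}

/-- the stabiliser in `Ω` of a tensor decomposition `Sp_2(2) ⊗ Sp_{n₂}(2)` is not maximal -/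
theorem nonmax_tensor_symp2 (hq : Fintype.card F = 2) (Q : QuadraticForm F (ι → F))
    (hQ : (QuadraticMap.polarBilin Q).Nondegenerate) (hn : 5 ≤ Fintype.card ι) (hn2 : 3 ≤ n₂)
    (e : ι ≃ Fin 2 × Fin n₂) (P : GL ι F)
    (f₁ : (Fin 2 → F) → (Fin 2 → F) → F) (f₂ : (Fin n₂ → F) → (Fin n₂ → F) → F)
    (hf₁ : Cfsg.Geo.IsSymplecticForm f₁) (hf₂ : Cfsg.Geo.IsSymplecticForm f₂)
    (hT : Cfsg.Geo.IsTensorFormStructure id (polar (⇑Q)) f₁ f₂ e P)
    (hpure : ∀ (u : Fin 2 → F) (y : Fin n₂ → F), Q (pureT e P u y) = 0) :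
    ∃ K : Subgroup (GL ι F),
      Cfsg.Geo.tensorProductSubgroup 2 n₂ e P ⊓ Cfsg.Geo.omegaGL (⇑Q) < K ∧
      K < Cfsg.Geo.omegaGL (⇑Q) := by
  classical
  have h01 := zero_or_one_of_card_two hq
  have h11 := one_add_one_of_card_two hq
  have hneg : ∀ x : F, -x = x := fun x => by linear_combination (-x) * h11
  -- the form on pure tensors
  obtain ⟨c0, hc0, hform0⟩ := form_pureT (polar (⇑Q)) f₁ f₂ e P hT
  have hform : ∀ u u' y y', polar (⇑Q) (pureT e P u y) (pureT e P u' y') =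
      c0 * f₁ u u' * f₂ y y' := by
    intro u u' y y'
    rw [hform0, ← bilin_eq_gram f₁ hf₁.bilinear, ← bilin_eq_gram f₂ hf₂.bilinear]
  have hf1ab : f₁ (Pi.single 0 1) (Pi.single 1 1) ≠ 0 := by
    intro h0
    have ha0 : (Pi.single 0 1 : Fin 2 → F) ≠ 0 := by
      intro h
      have := congrFun h 0
      simp at this
    obtain ⟨-, ⟨x, hx⟩⟩ := hf₁.nondegenerate _ ha0
    apply hx
    have hxd : x = x 0 • (Pi.single 0 1 : Fin 2 → F) + x 1 • (Pi.single 1 1 : Fin 2 → F) := by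
      ext i
      fin_cases i <;> simp
    rw [hxd, hf₁.bilinear.add_right, hf₁.bilinear.smul_right, hf₁.bilinear.smul_right,
      hf₁.alternating, h0, mul_zero, mul_zero, add_zero]
  have hκ : c0 * f₁ (Pi.single 0 1) (Pi.single 1 1) = 1 :=
    (h01 _).resolve_left (mul_ne_zero hc0 hf1ab)
  have hκ' : c0 * f₁ (Pi.single 1 1) (Pi.single 0 1) = 1 := by
    rw [hf₁.skew, hneg]
    exact hκ
  have hB : ∀ r s r' s', polar (⇑Q) (vec2 e P r s) (vec2 e P r' s') = f₂ r s' + f₂ s r' := by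
    intro r s r' s'
    unfold vec2
    rw [polar_add_left, polar_add_right, polar_add_right, hform, hform, hform, hform,
      hf₁.alternating, hf₁.alternating, hκ, hκ']
    ring
  have hQv : ∀ r s, Q (vec2 e P r s) = f₂ r s := by
    intro r s
    unfold vec2
    rw [QuadraticMap.map_add Q, hpure, hpure, hform, hκ]
    ring
  have hf0l : ∀ v, f₂ 0 v = 0 := bilin_zero_left f₂ hf₂.bilinear
  have hf0r : ∀ v, f₂ v 0 = 0 := bilin_zero_right f₂ hf₂.bilinear
  -- the element of order three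
  have hωv : ∀ r s, ((omegaT h11 e P : GL ι F) : Matrix ι ι F) *ᵥ vec2 e P r s =
      vec2 e P s (r + s) := omegaT_mulVec_vec2 h11 e P
  have hωQ : ∀ v, Q (((omegaT h11 e P : GL ι F) : Matrix ι ι F) *ᵥ v) = Q v := by
    intro v
    obtain ⟨r, s, rfl⟩ := exists_vec2 e P v
    rw [hωv, hQv, hQv, hf₂.bilinear.add_right, hf₂.alternating, add_zero, hf₂.skew, hneg]
  have hωB : ∀ u w, polar (⇑Q) (((omegaT h11 e P : GL ι F) : Matrix ι ι F) *ᵥ u)
      (((omegaT h11 e P : GL ι F) : Matrix ι ι F) *ᵥ w) = polar (⇑Q) u w :=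
    fun u w => polar_mulVec_isometry Q _ hωQ u w
  have hω2 : ∀ v, ((omegaT h11 e P : GL ι F) : Matrix ι ι F) *ᵥ
      (((omegaT h11 e P : GL ι F) : Matrix ι ι F) *ᵥ v) =
      ((omegaT h11 e P : GL ι F) : Matrix ι ι F) *ᵥ v + v := by
    intro v
    obtain ⟨r, s, rfl⟩ := exists_vec2 e P v
    rw [hωv, hωv, ← vec2_add, add_comm s r, add_comm (r + s) s]
  -- three vectors of the second factor
  obtain ⟨y1, y2, y, h12, hy20, h1y, h2y⟩ := exists_symplectic_triple hn2 f₂ hf₂
  have h21 : f₂ y2 y1 = 0 := by rw [hf₂.skew, h12, neg_zero]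
  refine ⟨invNorm (omegaT h11 e P) (omegaT_cube h11 e P) ⊓ Cfsg.Geo.omegaGL (⇑Q), ?_, ?_⟩
  · rw [SetLike.lt_iff_le_and_exists]
    constructor
    · rintro g ⟨hgt, hgΩ⟩
      exact ⟨tensor_mem_invNorm h01 h11 e P g hgt, hgΩ⟩
    · have hQx : Q (vec2 e P y1 y2) = 0 := by rw [hQv, h12]
      have hQωx : Q (((omegaT h11 e P : GL ι F) : Matrix ι ι F) *ᵥ vec2 e P y1 y2) = 0 := by
        rw [hωQ, hQx]
      have hxωx : polar (⇑Q) (vec2 e P y1 y2)
          (((omegaT h11 e P : GL ι F) : Matrix ι ι F) *ᵥ vec2 e P y1 y2) = 0 := by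
        rw [hωv, hB, hf₂.bilinear.add_right, hf₂.alternating, hf₂.alternating, h12]
        ring
      have hgΩ := siegelO_mem_Omega Q hQ hn _ _ hQx hQωx hxωx 1
      have hgv : ∀ v, (((siegelO Q _ _ hQx hQωx hxωx 1 : ↥(Cfsg.isometryGroup F (⇑Q))) :
          GL ι F) : Matrix ι ι F) *ᵥ v =
          v + polar (⇑Q) (vec2 e P y1 y2) v •
            (((omegaT h11 e P : GL ι F) : Matrix ι ι F) *ᵥ vec2 e P y1 y2) +
          polar (⇑Q) (((omegaT h11 e P : GL ι F) : Matrix ι ι F) *ᵥ vec2 e P y1 y2) v •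
            vec2 e P y1 y2 := by
        intro v
        rw [siegelO_mulVec, one_smul, sub_eq_add_neg, ← neg_smul, hneg, add_assoc]
      refine ⟨((siegelO Q _ _ hQx hQωx hxωx 1 : ↥(Cfsg.isometryGroup F (⇑Q))) : GL ι F),
        ⟨?_, coe_mem_omegaGL (⇑Q) _ hgΩ⟩, ?_⟩
      · refine (mem_invNorm _ _ _).mpr ?_
        left
        apply Units.ext
        rw [Units.val_mul, Units.val_mul]
        apply Matrix.toLin'.injective
        apply LinearMap.ext
        intro v
        rw [Matrix.toLin'_apply, Matrix.toLin'_apply, ← Matrix.mulVec_mulVec,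
          ← Matrix.mulVec_mulVec, hgv, hgv, Matrix.mulVec_add, Matrix.mulVec_add,
          Matrix.mulVec_smul, Matrix.mulVec_smul, hω2 (vec2 e P y1 y2)]
        have e1 := hωB (vec2 e P y1 y2) v
        have e2 : polar (⇑Q) (vec2 e P y1 y2) (((omegaT h11 e P : GL ι F) : Matrix ι ι F) *ᵥ v) =
            polar (⇑Q) (vec2 e P y1 y2) v +
              polar (⇑Q) (((omegaT h11 e P : GL ι F) : Matrix ι ι F) *ᵥ vec2 e P y1 y2) v := by
          have h := hωB (vec2 e P y1 y2) (((omegaT h11 e P : GL ι F) : Matrix ι ι F) *ᵥ v)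
          rw [hω2 v, polar_add_right, hωB] at h
          rw [← h, add_comm]
        rw [e1, e2]
        module
      · rintro ⟨hgt, -⟩
        obtain ⟨am, bm, hab⟩ := tensor_mulVec_pureT e P _ hgt
        have h1 := hab (Pi.single 1 1) y
        rw [pureT_one_eq_vec2, hgv, hωv, hB, hB, hf0r, hf0r, h1y, h2y, add_zero, add_zero,
          one_smul, zero_smul, add_zero, ← vec2_add, pureT_eq_vec2] at h1
        obtain ⟨e1, e2⟩ := vec2_inj e P _ _ _ _ h1
        set u' := (am : Matrix (Fin 2) (Fin 2) F) *ᵥ (Pi.single 1 1 : Fin 2 → F) with hu'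
        set y'' := (bm : Matrix (Fin n₂) (Fin n₂) F) *ᵥ y with hy''
        have hu0 : u' 0 ≠ 0 := by
          intro h0
          rw [h0, zero_smul, zero_add] at e1
          exact hy20 e1
        have e3 := congrArg (f₂ y1) e1
        rw [zero_add, h12, hf₂.bilinear.smul_right] at e3
        have hy1'' : f₂ y1 y'' = 0 := by
          rcases mul_eq_zero.mp e3.symm with h | h
          · exact absurd h hu0
          · exact h
        have e4 := congrArg (f₂ y1) e2
        rw [hf₂.bilinear.add_right, hf₂.bilinear.add_right, h1y, hf₂.alternating, h12,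
          hf₂.bilinear.smul_right, hy1'', mul_zero, add_zero, add_zero] at e4
        exact one_ne_zero e4
  · rw [SetLike.lt_iff_le_and_exists]
    refine ⟨inf_le_right, ?_⟩
    have hQ1 : Q (vec2 e P y1 0) = 0 := by rw [hQv, hf0r]
    have hQ2 : Q (vec2 e P y2 0) = 0 := by rw [hQv, hf0r]
    have h12' : polar (⇑Q) (vec2 e P y1 0) (vec2 e P y2 0) = 0 := by
      rw [hB, hf0r, hf0l, add_zero]
    have hgΩ := siegelO_mem_Omega Q hQ hn _ _ hQ1 hQ2 h12' 1
    refine ⟨((siegelO Q _ _ hQ1 hQ2 h12' 1 : ↥(Cfsg.isometryGroup F (⇑Q))) : GL ι F),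
      coe_mem_omegaGL (⇑Q) _ hgΩ, ?_⟩
    rintro ⟨hgN', -⟩
    have hgN := (mem_invNorm _ _ _).mp hgN'
    have hgv : ∀ r, (((siegelO Q _ _ hQ1 hQ2 h12' 1 : ↥(Cfsg.isometryGroup F (⇑Q))) :
        GL ι F) : Matrix ι ι F) *ᵥ vec2 e P r y = vec2 e P (r + y2) y := by
      intro r
      rw [siegelO_mulVec, one_smul, hB, hB, hf0l, h1y, h2y, add_zero, add_zero, one_smul,
        zero_smul, sub_zero, ← vec2_add, add_zero]
    have hne : y2 + y ≠ 0 := by
      intro h
      have h' := congrArg (f₂ y1) h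
      rw [hf₂.bilinear.add_right, h12, h1y, hf0r, zero_add] at h'
      exact one_ne_zero h'
    rcases hgN with h | h
    · have h1 := congrArg (fun m : GL ι F => (m : Matrix ι ι F) *ᵥ vec2 e P 0 y) h
      simp only [Units.val_mul, ← Matrix.mulVec_mulVec] at h1
      rw [hωv, zero_add, hgv, hgv, hωv] at h1
      obtain ⟨e1, -⟩ := vec2_inj e P _ _ _ _ h1
      apply hy20
      have : y + y2 = y + 0 := by rw [e1, add_zero]
      exact add_left_cancel this
    · have h1 := congrArg (fun m : GL ι F => (m : Matrix ι ι F) *ᵥ vec2 e P 0 y) h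
      simp only [Units.val_mul, ← Matrix.mulVec_mulVec] at h1
      rw [hωv, zero_add, hgv, hgv, hωv, hωv] at h1
      obtain ⟨-, e2⟩ := vec2_inj e P _ _ _ _ h1
      apply hne
      have : y + (0 + y2 + y) = y + 0 := by rw [← e2, add_zero]
      have h3 := add_left_cancel this
      rwa [zero_add] at h3

end main

end Cfsg.Agent.Lib.Helper50
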