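import Mathlib
import Cfsg.Prelude.Def_Classical
import Cfsg.Agent.Lib.Helper50.TypeCriteria

set_option autoImplicit false

namespace Cfsg.Agent.Lib.Helper50

open Module QuadraticMap
open scoped TensorProduct Kronecker

universe u v w

variable {F : Type u} [Field F]

section symQ

variable {V : Type v} [AddCommGroup V] [Module F V]

/-- the quadratic form `x ↦ B x x` -/
noncomputable def symQ (B : LinearMap.BilinForm F V) : QuadraticForm F V :=
  LinearMap.BilinMap.toQuadraticMap B

theorem symQ_apply (B : LinearMap.BilinForm F V) (x : V) : symQ B x = B x x := rfl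

theorem polar_symQ (B : LinearMap.BilinForm F V) (hS : B.IsSymm) (x y : V) :
    polar (symQ B) x y = 2 * B x y := by
  rw [symQ, LinearMap.BilinMap.polar_toQuadraticMap, hS.eq y x]
  ring

theorem QND_symQ (h2 : (2 : F) ≠ 0) (B : LinearMap.BilinForm F V) (hS : B.IsSymm)
    (hB : B.Nondegenerate) : QND (symQ B) := by
  intro v hv
  apply hB.1 v
  intro w
  have := hv w
  rw [polar_symQ B hS] at this
  exact (mul_eq_zero.mp this).resolve_left h2

theorem gram_symQ {ι : Type w} [Fintype ι] [DecidableEq ι] (B : LinearMap.BilinForm F V)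
    (hS : B.IsSymm) (b : Basis ι F V) :
    (Matrix.of fun i j => polar (symQ B) (b i) (b j)).det =
      2 ^ Fintype.card ι * (LinearMap.BilinForm.toMatrix b B).det := by
  have : (Matrix.of fun i j => polar (symQ B) (b i) (b j)) =
      (2 : F) • LinearMap.BilinForm.toMatrix b B := by
    ext i j
    simp [polar_symQ B hS, LinearMap.BilinForm.toMatrix_apply]
  rw [this, Matrix.det_smul]

theorem symQ_isotropic (h2 : (2 : F) ≠ 0) (B : LinearMap.BilinForm F V) (hS : B.IsSymm)
    (X : Submodule F V) (hX : ∀ x ∈ X, symQ B x = 0) : ∀ x ∈ X, ∀ y ∈ X, B x y = 0 := by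
  intro x hx y hy
  have h := polar_symQ B hS x y
  simp only [polar] at h
  rw [hX _ (X.add_mem hx hy), hX x hx, hX y hy] at h
  have h' : 2 * B x y = 0 := by rw [← h]; ring
  exact (mul_eq_zero.mp h').resolve_left h2

end symQ

section tensor

variable {U : Type v} {W : Type w} [AddCommGroup U] [Module F U] [AddCommGroup W] [Module F W]

theorem toMatrix_tmul {ι κ : Type} [Fintype ι] [DecidableEq ι] [Fintype κ] [DecidableEq κ]
    (B₁ : LinearMap.BilinForm F U) (B₂ : LinearMap.BilinForm F W) (b₁ : Basis ι F U)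
    (b₂ : Basis κ F W) :
    LinearMap.BilinForm.toMatrix (b₁.tensorProduct b₂) (B₁.tmul B₂) =
      (LinearMap.BilinForm.toMatrix b₁ B₁) ⊗ₖ (LinearMap.BilinForm.toMatrix b₂ B₂) := by
  ext ⟨i, j⟩ ⟨i', j'⟩
  simp [LinearMap.BilinForm.toMatrix_apply, Basis.tensorProduct_apply, mul_comm]

theorem det_toMatrix_tmul {ι κ : Type} [Fintype ι] [DecidableEq ι] [Fintype κ] [DecidableEq κ]
    (B₁ : LinearMap.BilinForm F U) (B₂ : LinearMap.BilinForm F W) (b₁ : Basis ι F U)
    (b₂ : Basis κ F W) :
    (LinearMap.BilinForm.toMatrix (b₁.tensorProduct b₂) (B₁.tmul B₂)).det =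
      (LinearMap.BilinForm.toMatrix b₁ B₁).det ^ Fintype.card κ *
        (LinearMap.BilinForm.toMatrix b₂ B₂).det ^ Fintype.card ι := by
  rw [toMatrix_tmul, Matrix.det_kronecker]

theorem nondegenerate_tmul [FiniteDimensional F U] [FiniteDimensional F W]
    (B₁ : LinearMap.BilinForm F U) (B₂ : LinearMap.BilinForm F W)
    (h₁ : B₁.Nondegenerate) (h₂ : B₂.Nondegenerate) : (B₁.tmul B₂).Nondegenerate := by
  classical
  let b₁ := Module.finBasis F U
  let b₂ := Module.finBasis F W
  refine (LinearMap.BilinForm.nondegenerate_iff_det_ne_zero (b₁.tensorProduct b₂)).mpr ?_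
  rw [det_toMatrix_tmul]
  exact mul_ne_zero (pow_ne_zero _ ((LinearMap.BilinForm.nondegenerate_iff_det_ne_zero b₁).mp h₁))
    (pow_ne_zero _ ((LinearMap.BilinForm.nondegenerate_iff_det_ne_zero b₂).mp h₂))

end tensor

end Cfsg.Agent.Lib.Helper50
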