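import Cfsg.Agent.Lib.Helper43.ReflParity

set_option autoImplicit false

/-! An isometry fixing a hyperplane pointwise is a reflection; three reflections in coplanar
vectors compose to a reflection. -/

namespace Cfsg.Agent.Lib.Helper50

open Module QuadraticMap Cfsg.Agent.Lib.Helper19 Cfsg.Agent.Lib.Helper43

variable {F V : Type*} [Field F] [AddCommGroup V] [Module F V] [FiniteDimensional F V]
variable (Q : QuadraticForm F V)

/-- an isometry whose fixed space is a hyperplane is a reflection -/
theorem isometry_eq_refl_of_fix_hyperplane (hQ : (QuadraticMap.polarBilin Q).Nondegenerate)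
    (g : V →ₗ[F] V) (hg : ∀ v, Q (g v) = Q v)
    (hfix : finrank F (fixSpace g) + 1 = finrank F V) :
    ∃ y : V, Q y ≠ 0 ∧ g = reflLin Q y := by
  -- a vector that is moved
  obtain ⟨v₀, hv₀⟩ : ∃ v₀, g v₀ ≠ v₀ := by
    by_contra hcon
    push Not at hcon
    have : fixSpace g = ⊤ := by
      rw [eq_top_iff]
      intro v _
      exact (mem_fixSpace g v).mpr (hcon v)
    rw [this, finrank_top] at hfix
    omega
  set y := g v₀ - v₀ with hy
  have hy0 : y ≠ 0 := by
    intro h
    apply hv₀
    rw [hy, sub_eq_zero] at h
    exact h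
  have hQy : Q y ≠ 0 := by
    intro hQ0
    have h1 := Q_residual g hg v₀
    rw [← hy, hQ0] at h1
    have h2 : QuadraticMap.polarBilin Q y v₀ = 0 := by
      have := neg_eq_zero.mp h1.symm
      exact this
    -- the functional `polarBilin Q y` vanishes on the fixed space and on `v₀`
    set φ : Module.Dual F V := QuadraticMap.polarBilin Q y with hφ
    have hφ0 : φ ≠ 0 := by
      intro h0
      apply hy0
      apply hQ.1 y
      intro w
      have := LinearMap.congr_fun h0 w
      simpa [hφ] using this
    have hker := Module.Dual.finrank_ker_add_one_of_ne_zero hφ0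
    have hle : fixSpace g ≤ LinearMap.ker φ := by
      intro v hv
      rw [LinearMap.mem_ker, hφ]
      exact polar_range_ker g hg v₀ v ((mem_fixSpace g v).mp hv)
    have heq : fixSpace g = LinearMap.ker φ :=
      Submodule.eq_of_le_of_finrank_eq hle (by omega)
    have : v₀ ∈ fixSpace g := by
      rw [heq, LinearMap.mem_ker]
      exact h2
    exact hv₀ ((mem_fixSpace g v₀).mp this)
  refine ⟨y, hQy, ?_⟩
  have h3 := finrank_fixSpace_refl_of_mem hQ g hg y hQy ⟨v₀, rfl⟩
  have h4 : fixSpace (reflLin Q y ∘ₗ g) = ⊤ := by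
    apply Submodule.eq_top_of_finrank_eq
    omega
  apply LinearMap.ext
  intro v
  have h5 : (reflLin Q y ∘ₗ g) v = v := (mem_fixSpace _ v).mp (by rw [h4]; trivial)
  rw [LinearMap.comp_apply] at h5
  have h6 := reflLin_mul_self' (Q := Q) y hQy (g v)
  rw [h5] at h6
  exact h6.symm

/-- three reflections in vectors of a common plane compose to a reflection -/
theorem three_refl_plane (hQ : (QuadraticMap.polarBilin Q).Nondegenerate)
    (P : Submodule F V) (hP : finrank F P ≤ 2) (x u w : V) (hxP : x ∈ P) (huP : u ∈ P)
    (hwP : w ∈ P) (hx : Q x ≠ 0) (hu : Q u ≠ 0) (hw : Q w ≠ 0) :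
    ∃ y : V, Q y ≠ 0 ∧ reflLin Q x ∘ₗ reflLin Q u ∘ₗ reflLin Q w = reflLin Q y := by
  set g : V →ₗ[F] V := reflLin Q x ∘ₗ reflLin Q u ∘ₗ reflLin Q w with hg
  have hgiso : ∀ v, Q (g v) = Q v := by
    intro v
    rw [hg, LinearMap.comp_apply, LinearMap.comp_apply, reflLin_isometry Q x hx,
      reflLin_isometry Q u hu, reflLin_isometry Q w hw]
  have hgl : g = ([x, u, w].map (reflLin Q)).prod := by
    simp only [List.map_cons, List.map_nil, List.prod_cons, List.prod_nil, mul_one]
    rfl
  have hpar := parity_fix_prod Q hQ [x, u, w] (by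
    intro v hv
    simp only [List.mem_cons, List.not_mem_nil, or_false] at hv
    rcases hv with rfl | rfl | rfl <;> assumption)
  rw [← hgl] at hpar
  simp only [List.length_cons, List.length_nil] at hpar
  -- the fixed space contains the orthogonal complement of the plane
  have hle : LinearMap.BilinForm.orthogonal (QuadraticMap.polarBilin Q) P ≤ fixSpace g := by
    intro v hv
    rw [LinearMap.BilinForm.mem_orthogonal_iff] at hv
    have hfixp : ∀ p ∈ P, reflLin Q p v = v := by
      intro p hp
      rw [reflLin_apply, ← QuadraticMap.polarBilin_apply_apply, hv p hp, mul_zero, zero_smul,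
        sub_zero]
    rw [mem_fixSpace, hg, LinearMap.comp_apply, LinearMap.comp_apply, hfixp w hwP, hfixp u huP,
      hfixp x hxP]
  have h1 := Submodule.finrank_mono hle
  have h2 := LinearMap.BilinForm.finrank_orthogonal hQ P
  have h3 := Submodule.finrank_le (fixSpace g)
  have h4 : finrank F P ≤ finrank F V := Submodule.finrank_le P
  apply isometry_eq_refl_of_fix_hyperplane Q hQ g hgiso
  omega

end Cfsg.Agent.Lib.Helper50
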